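import Mathlib
import Cfsg.Prelude.Def_Sporadic_a
import Cfsg.Prelude.Def_SporadicCombinatorics
import Cfsg.Prelude.Def_Blocks

/-!
# Project S5006 (the group of the length-24 code has a single 2-block): shared definitions

Only definitions; every piece of the project imports this file.
-/

set_option autoImplicit false

namespace Cfsg.Agent.Lib.helper33.M24B

open Cfsg

/-- Number of points fixed by an element of the group of the length-24 code. -/
def fixN (x : ↥M24) : ℕ :=
  (Finset.univ.filter fun p : GolayPt => (x : Equiv.Perm GolayPt) p = p).card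

/-- The property used for involution centralizers: some 2-subgroup `Q` is normalized by the
centralizer of `t`, and no nontrivial element of odd order centralizes `Q`. -/
def Star {G : Type*} [Group G] (t : G) : Prop :=
  ∃ Q : Subgroup G, IsPGroup 2 Q ∧
    (∀ c : G, c * t = t * c → c ∈ Subgroup.normalizer (Q : Set G)) ∧
    (∀ x : G, ¬ 2 ∣ orderOf x → (∀ q ∈ Q, x * q = q * x) → x = 1)

/-- `χ` vanishes at every element of even order. -/
def Van {G : Type*} [Group G] (χ : G → ℂ) : Prop :=
  ∀ u : G, 2 ∣ orderOf u → χ u = 0

/-- The sum of `χ` over the powers `y ^ k`, `1 ≤ k < n`. -/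
noncomputable def psum {G : Type*} [Group G] (χ : G → ℂ) (n : ℕ) (y : G) : ℂ :=
  ∑ k ∈ Finset.Ico 1 n, χ (y ^ k)

end Cfsg.Agent.Lib.helper33.M24B
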