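/-
Multiple transitivity of the group of the length-24 code in terms of finite sets of points, and
counting of subsets by intersection size.
-/
import Mathlib
import Cfsg.Agent.Lib.helper9.M24Trans

set_option autoImplicit false

namespace Cfsg.Agent.Lib.helper33

open Cfsg Cfsg.Agent.Lib.helper9
open scoped Pointwise

/-- 5-transitivity: an injective map on a set of at most five points is induced by an element of
the group. -/
theorem exists_mem_M24_of_injOn (A : Finset GolayPt) (hA : A.card ≤ 5) (f : GolayPt → GolayPt)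
    (hf : Set.InjOn f A) : ∃ g ∈ M24, ∀ p ∈ A, g p = f p := by
  classical
  let e := A.equivFin
  let x : ℕ → GolayPt := fun j => if h : j < A.card then (e.symm ⟨j, h⟩ : GolayPt) else none
  have hxA : ∀ j < A.card, x j ∈ A := by
    intro j hj
    simp only [x, hj, dif_pos]
    exact (e.symm ⟨j, hj⟩).2
  have hx : ∀ i < A.card, ∀ j < A.card, x i = x j → i = j := by
    intro i hi j hj hij
    simp only [x, hi, hj, dif_pos] at hij
    have := e.symm.injective (Subtype.ext hij)
    exact congrArg Fin.val this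
  obtain ⟨g₁, hg₁, h₁⟩ := move_to_base A.card hA x hx
  obtain ⟨g₂, hg₂, h₂⟩ := move_to_base A.card hA (fun j => f (x j)) (by
    intro i hi j hj hij
    exact hx i hi j hj (hf (hxA i hi) (hxA j hj) hij))
  refine ⟨g₂⁻¹ * g₁, genGroup_le_M24 (mul_mem (inv_mem hg₂) hg₁), fun p hp => ?_⟩
  have hj : (e ⟨p, hp⟩ : ℕ) < A.card := (e ⟨p, hp⟩).2
  have hp' : x (e ⟨p, hp⟩) = p := by
    simp only [x, hj, dif_pos]
    simp
  show g₂⁻¹ (g₁ p) = f p
  rw [Equiv.Perm.inv_eq_iff_eq]
  conv_lhs => rw [← hp']
  rw [h₁ _ hj, ← h₂ _ hj, hp']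

/-- Image of a finite set under a permutation agreeing with `f` on it. -/
theorem smul_eq_image_of_agree (g : Equiv.Perm GolayPt) (f : GolayPt → GolayPt)
    (A : Finset GolayPt) (h : ∀ p ∈ A, g p = f p) : g • A = A.image f := by
  classical
  rw [Finset.smul_finset_def]
  exact Finset.image_congr (fun p hp => by rw [Equiv.Perm.smul_def]; exact h p hp)

/-- Transitivity on configurations of two sets with union of at most five points. -/
theorem exists_stab_of_inter_card (s y z : Finset GolayPt) (hu : (s ∪ y).card ≤ 5)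
    (hyz : y.card = z.card) (h : (s ∩ y).card = (s ∩ z).card) :
    ∃ g ∈ M24, g • s = s ∧ g • y = z := by
  classical
  have h1 : (s \ y).card = (s \ z).card := by
    have a := Finset.card_sdiff_add_card_inter s y
    have b := Finset.card_sdiff_add_card_inter s z
    omega
  have h2 : (y \ s).card = (z \ s).card := by
    have a := Finset.card_sdiff_add_card_inter y s
    have b := Finset.card_sdiff_add_card_inter z s
    rw [Finset.inter_comm] at a b
    omega
  let e0 : ↥(s ∩ y) ≃ ↥(s ∩ z) := Finset.equivOfCardEq h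
  let e1 : ↥(s \ y) ≃ ↥(s \ z) := Finset.equivOfCardEq h1
  let e2 : ↥(y \ s) ≃ ↥(z \ s) := Finset.equivOfCardEq h2
  let f : GolayPt → GolayPt := fun p =>
    if hp : p ∈ s ∩ y then (e0 ⟨p, hp⟩ : GolayPt)
    else if hp1 : p ∈ s \ y then (e1 ⟨p, hp1⟩ : GolayPt)
    else if hp2 : p ∈ y \ s then (e2 ⟨p, hp2⟩ : GolayPt) else p
  have f0 : ∀ p (hp : p ∈ s ∩ y), f p = e0 ⟨p, hp⟩ := fun p hp => by simp only [f, hp, dif_pos]
  have f1 : ∀ p (hp : p ∈ s \ y), f p = e1 ⟨p, hp⟩ := fun p hp => by
    have : p ∉ s ∩ y := by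
      rw [Finset.mem_sdiff] at hp; rw [Finset.mem_inter]; tauto
    simp only [f, this, hp, dif_pos, dif_neg, not_false_iff]
  have f2 : ∀ p (hp : p ∈ y \ s), f p = e2 ⟨p, hp⟩ := fun p hp => by
    have h' : p ∉ s ∩ y := by
      rw [Finset.mem_sdiff] at hp; rw [Finset.mem_inter]; tauto
    have h'' : p ∉ s \ y := by
      rw [Finset.mem_sdiff] at hp ⊢; tauto
    simp only [f, h', h'', hp, dif_pos, dif_neg, not_false_iff]
  have i0 : (s ∩ y).image f = s ∩ z := by
    ext q
    rw [Finset.mem_image]
    constructor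
    · rintro ⟨p, hp, rfl⟩; rw [f0 p hp]; exact (e0 ⟨p, hp⟩).2
    · intro hq
      refine ⟨(e0.symm ⟨q, hq⟩ : GolayPt), (e0.symm ⟨q, hq⟩).2, ?_⟩
      rw [f0 _ (e0.symm ⟨q, hq⟩).2]; simp
  have i1 : (s \ y).image f = s \ z := by
    ext q
    rw [Finset.mem_image]
    constructor
    · rintro ⟨p, hp, rfl⟩; rw [f1 p hp]; exact (e1 ⟨p, hp⟩).2
    · intro hq
      refine ⟨(e1.symm ⟨q, hq⟩ : GolayPt), (e1.symm ⟨q, hq⟩).2, ?_⟩
      rw [f1 _ (e1.symm ⟨q, hq⟩).2]; simp
  have i2 : (y \ s).image f = z \ s := by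
    ext q
    rw [Finset.mem_image]
    constructor
    · rintro ⟨p, hp, rfl⟩; rw [f2 p hp]; exact (e2 ⟨p, hp⟩).2
    · intro hq
      refine ⟨(e2.symm ⟨q, hq⟩ : GolayPt), (e2.symm ⟨q, hq⟩).2, ?_⟩
      rw [f2 _ (e2.symm ⟨q, hq⟩).2]; simp
  have hinj : Set.InjOn f (↑(s ∪ y) : Set GolayPt) := by
    intro p hp q hq hpq
    rw [Finset.mem_coe, Finset.mem_union] at hp hq
    -- classify p and q
    have cp : p ∈ s ∩ y ∨ p ∈ s \ y ∨ p ∈ y \ s := by
      simp only [Finset.mem_inter, Finset.mem_sdiff]; tauto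
    have cq : q ∈ s ∩ y ∨ q ∈ s \ y ∨ q ∈ y \ s := by
      simp only [Finset.mem_inter, Finset.mem_sdiff]; tauto
    rcases cp with hp0 | hp1 | hp2 <;> rcases cq with hq0 | hq1 | hq2
    · rw [f0 p hp0, f0 q hq0] at hpq
      have := e0.injective (Subtype.ext hpq)
      exact congrArg Subtype.val this
    · exfalso
      have a := (e0 ⟨p, hp0⟩).2
      have b := (e1 ⟨q, hq1⟩).2
      rw [f0 p hp0, f1 q hq1] at hpq
      rw [hpq] at a
      simp only [Finset.mem_inter, Finset.mem_sdiff] at a b; tauto
    · exfalso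
      have a := (e0 ⟨p, hp0⟩).2
      have b := (e2 ⟨q, hq2⟩).2
      rw [f0 p hp0, f2 q hq2] at hpq
      rw [hpq] at a
      simp only [Finset.mem_inter, Finset.mem_sdiff] at a b; tauto
    · exfalso
      have a := (e1 ⟨p, hp1⟩).2
      have b := (e0 ⟨q, hq0⟩).2
      rw [f1 p hp1, f0 q hq0] at hpq
      rw [hpq] at a
      simp only [Finset.mem_inter, Finset.mem_sdiff] at a b; tauto
    · rw [f1 p hp1, f1 q hq1] at hpq
      have := e1.injective (Subtype.ext hpq)
      exact congrArg Subtype.val this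
    · exfalso
      have a := (e1 ⟨p, hp1⟩).2
      have b := (e2 ⟨q, hq2⟩).2
      rw [f1 p hp1, f2 q hq2] at hpq
      rw [hpq] at a
      simp only [Finset.mem_sdiff] at a b; tauto
    · exfalso
      have a := (e2 ⟨p, hp2⟩).2
      have b := (e0 ⟨q, hq0⟩).2
      rw [f2 p hp2, f0 q hq0] at hpq
      rw [hpq] at a
      simp only [Finset.mem_inter, Finset.mem_sdiff] at a b; tauto
    · exfalso
      have a := (e2 ⟨p, hp2⟩).2
      have b := (e1 ⟨q, hq1⟩).2
      rw [f2 p hp2, f1 q hq1] at hpq
      rw [hpq] at a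
      simp only [Finset.mem_sdiff] at a b; tauto
    · rw [f2 p hp2, f2 q hq2] at hpq
      have := e2.injective (Subtype.ext hpq)
      exact congrArg Subtype.val this
  obtain ⟨g, hg, hgf⟩ := exists_mem_M24_of_injOn (s ∪ y) hu f hinj
  refine ⟨g, hg, ?_, ?_⟩
  · rw [smul_eq_image_of_agree g f s (fun p hp => hgf p (Finset.mem_union_left _ hp))]
    have : s = (s ∩ y) ∪ (s \ y) := by
      ext p; simp only [Finset.mem_union, Finset.mem_inter, Finset.mem_sdiff]; tauto
    conv_lhs => rw [this]
    rw [Finset.image_union, i0, i1]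
    ext p; simp only [Finset.mem_union, Finset.mem_inter, Finset.mem_sdiff]; tauto
  · rw [smul_eq_image_of_agree g f y (fun p hp => hgf p (Finset.mem_union_right _ hp))]
    have : y = (s ∩ y) ∪ (y \ s) := by
      ext p; simp only [Finset.mem_union, Finset.mem_inter, Finset.mem_sdiff]; tauto
    conv_lhs => rw [this]
    rw [Finset.image_union, i0, i2]
    ext p; simp only [Finset.mem_union, Finset.mem_inter, Finset.mem_sdiff]; tauto

/-- Number of `m`-subsets meeting a fixed set in exactly `j` points. -/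
theorem card_powersetCard_inter {α : Type*} [Fintype α] [DecidableEq α] (s : Finset α) (m j : ℕ)
    (hj : j ≤ m) :
    ((Finset.univ.powersetCard m).filter (fun y => (s ∩ y).card = j)).card =
      s.card.choose j * (sᶜ.card).choose (m - j) := by
  rw [← Finset.card_powersetCard, ← Finset.card_powersetCard, ← Finset.card_product]
  refine Finset.card_nbij' (fun y => (s ∩ y, sᶜ ∩ y)) (fun p => p.1 ∪ p.2) ?_ ?_ ?_ ?_
  · intro y hy
    rw [Finset.mem_coe, Finset.mem_filter, Finset.mem_powersetCard] at hy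
    obtain ⟨⟨-, hym⟩, hyj⟩ := hy
    rw [Finset.mem_coe, Finset.mem_product, Finset.mem_powersetCard, Finset.mem_powersetCard]
    refine ⟨⟨Finset.inter_subset_left, hyj⟩, Finset.inter_subset_left, ?_⟩
    show (sᶜ ∩ y).card = m - j
    have h1 : (s ∩ y).card + (sᶜ ∩ y).card = y.card := by
      rw [← Finset.card_union_of_disjoint]
      · congr 1
        ext p; simp only [Finset.mem_union, Finset.mem_inter, Finset.mem_compl]; tauto
      · rw [Finset.disjoint_left]
        intro p hp hp'
        simp only [Finset.mem_inter, Finset.mem_compl] at hp hp'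
        exact hp'.1 hp.1
    omega
  · rintro ⟨t, u⟩ hp
    rw [Finset.mem_coe, Finset.mem_product, Finset.mem_powersetCard, Finset.mem_powersetCard] at hp
    obtain ⟨⟨ht, htj⟩, hu, hum⟩ := hp
    have hdisj : Disjoint t u := by
      rw [Finset.disjoint_left]
      intro p hpt hpu
      exact (Finset.mem_compl.1 (hu hpu)) (ht hpt)
    have hst : s ∩ (t ∪ u) = t := by
      ext p
      simp only [Finset.mem_inter, Finset.mem_union]
      constructor
      · rintro ⟨hps, hpt | hpu⟩
        · exact hpt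
        · exact absurd hps (Finset.mem_compl.1 (hu hpu))
      · intro hpt; exact ⟨ht hpt, Or.inl hpt⟩
    rw [Finset.mem_coe, Finset.mem_filter, Finset.mem_powersetCard]
    refine ⟨⟨Finset.subset_univ _, ?_⟩, ?_⟩
    · show (t ∪ u).card = m
      rw [Finset.card_union_of_disjoint hdisj, htj, hum]; omega
    · show (s ∩ (t ∪ u)).card = j
      rw [hst, htj]
  · intro y _
    show s ∩ y ∪ sᶜ ∩ y = y
    ext p; simp only [Finset.mem_union, Finset.mem_inter, Finset.mem_compl]; tauto
  · rintro ⟨t, u⟩ hp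
    rw [Finset.mem_coe, Finset.mem_product, Finset.mem_powersetCard, Finset.mem_powersetCard] at hp
    obtain ⟨⟨ht, -⟩, hu, -⟩ := hp
    show (s ∩ (t ∪ u), sᶜ ∩ (t ∪ u)) = (t, u)
    refine Prod.ext ?_ ?_
    · ext p
      simp only [Finset.mem_inter, Finset.mem_union]
      constructor
      · rintro ⟨hps, hpt | hpu⟩
        · exact hpt
        · exact absurd hps (Finset.mem_compl.1 (hu hpu))
      · intro hpt; exact ⟨ht hpt, Or.inl hpt⟩
    · ext p
      simp only [Finset.mem_inter, Finset.mem_union, Finset.mem_compl]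
      constructor
      · rintro ⟨hps, hpt | hpu⟩
        · exact absurd (ht hpt) hps
        · exact hpu
      · intro hpu; exact ⟨Finset.mem_compl.1 (hu hpu), Or.inr hpu⟩

/-- The orbit of a set of at most five points consists of all sets of the same size. -/
theorem orbit_eq_card (s : Finset GolayPt) (hs : s.card ≤ 5) :
    MulAction.orbit M24 s = {y | y.card = s.card} := by
  classical
  ext y
  constructor
  · rintro ⟨g, rfl⟩
    show (g • s).card = s.card
    exact Finset.card_smul_finset _ _
  · intro hy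
    obtain ⟨g, hg, -, hgs⟩ := exists_stab_of_inter_card ∅ s y (by simpa using hs)
      (Eq.symm hy) (by simp)
    exact ⟨⟨g, hg⟩, hgs⟩

/-- Number of sets in the orbit of a small set meeting it in a given number of points. -/
theorem fiber_ncard_kset (s : Finset GolayPt) (hs : s.card ≤ 5) (j : ℕ) (hj : j ≤ s.card) :
    {y | y ∈ MulAction.orbit M24 s ∧ (s ∩ y).card = j}.ncard =
      s.card.choose j * (24 - s.card).choose (s.card - j) := by
  classical
  rw [orbit_eq_card s hs]
  have e : {y : Finset GolayPt | y ∈ {y : Finset GolayPt | y.card = s.card} ∧ (s ∩ y).card = j} =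
      ↑((Finset.univ.powersetCard s.card).filter (fun y => (s ∩ y).card = j)) := by
    ext y; simp [Finset.mem_powersetCard]
  rw [e, Set.ncard_coe_finset, card_powersetCard_inter s s.card j hj, Finset.card_compl]
  rfl

theorem ncard_orbit_kset (s : Finset GolayPt) (hs : s.card ≤ 5) :
    (MulAction.orbit M24 s).ncard = (24 : ℕ).choose s.card := by
  classical
  rw [orbit_eq_card s hs]
  have e : {y : Finset GolayPt | y.card = s.card} =
      ↑((Finset.univ : Finset GolayPt).powersetCard s.card) := by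
    ext y; simp [Finset.mem_powersetCard]
  rw [e, Set.ncard_coe_finset, Finset.card_powersetCard]
  rfl

end Cfsg.Agent.Lib.helper33
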