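/-
Numbers of octads meeting a fixed octad in a given number of points, and the orbit of an octad.
-/
import Mathlib
import Cfsg.Agent.S1555
import Cfsg.Agent.Lib.helper33.M24Octads

set_option autoImplicit false

namespace Cfsg.Agent.Lib.helper33

open Cfsg Cfsg.Agent.Lib.helper9
open scoped Pointwise

/-- The orbit of an octad under the group of the code is the set of all octads. -/
theorem orbit_eq_octads {o : Finset GolayPt} (ho : o ∈ octads) :
    MulAction.orbit M24 o = octads := by
  ext y
  constructor
  · rintro ⟨g, rfl⟩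
    exact smul_mem_octads g.1 g.2 o ho
  · intro hy
    obtain ⟨σ, hσ, rfl⟩ := octads_transitive ho hy
    exact ⟨⟨σ, hσ⟩, rfl⟩

theorem card_octF_inter_fiber {o : Finset GolayPt} (k c : ℕ)
    (h : ∀ t ⊆ o, t.card = k → (octF.filter (fun o' => o ∩ o' = t)).card = c) :
    (octF.filter (fun o' => (o ∩ o').card = k)).card = (o.card.choose k) * c := by
  classical
  have hmaps : ∀ x ∈ octF.filter (fun o' => (o ∩ o').card = k),
      (fun o' => o ∩ o') x ∈ o.powersetCard k := by
    intro x hx
    rw [Finset.mem_filter] at hx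
    exact Finset.mem_powersetCard.2 ⟨Finset.inter_subset_left, hx.2⟩
  rw [Finset.card_eq_sum_card_fiberwise hmaps]
  have : ∀ t ∈ o.powersetCard k,
      ((octF.filter (fun o' => (o ∩ o').card = k)).filter (fun o' => o ∩ o' = t)).card = c := by
    intro t ht
    rw [Finset.mem_powersetCard] at ht
    rw [← h t ht.1 ht.2]
    congr 1
    ext x
    simp only [Finset.mem_filter]
    constructor
    · rintro ⟨⟨h1, _⟩, h3⟩; exact ⟨h1, h3⟩
    · rintro ⟨h1, h3⟩; exact ⟨⟨h1, by rw [h3]; exact ht.2⟩, h3⟩
  rw [Finset.sum_congr rfl this, Finset.sum_const, Finset.card_powersetCard, smul_eq_mul]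

theorem card_octF_inter_card4 {o : Finset GolayPt} (ho : o ∈ octads) :
    (octF.filter (fun o' => (o ∩ o').card = 4)).card = 280 := by
  rw [card_octF_inter_fiber 4 4 (fun t ht ht4 => Cfsg.Agent.S1555.card_inter_eq4 ho ht ht4), ho.2]
  decide

theorem card_octF_inter_card2 {o : Finset GolayPt} (ho : o ∈ octads) :
    (octF.filter (fun o' => (o ∩ o').card = 2)).card = 448 := by
  rw [card_octF_inter_fiber 2 16 (fun t ht ht2 => Cfsg.Agent.S1555.card_inter_eq2 ho ht ht2), ho.2]
  decide

theorem card_octF_inter_card0 {o : Finset GolayPt} (ho : o ∈ octads) :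
    (octF.filter (fun o' => (o ∩ o').card = 0)).card = 30 := by
  rw [← card_disjoint_octF ho]
  congr 1
  ext x
  simp only [Finset.mem_filter, Finset.card_eq_zero, Finset.disjoint_iff_inter_eq_empty]

theorem card_octF_inter_card8 {o : Finset GolayPt} (ho : o ∈ octads) :
    (octF.filter (fun o' => (o ∩ o').card = 8)).card = 1 := by
  classical
  rw [Finset.card_eq_one]
  refine ⟨o, ?_⟩
  ext x
  simp only [Finset.mem_filter, Finset.mem_singleton, mem_octF]
  constructor
  · rintro ⟨hx, h8⟩
    have h1 : o ∩ x = o := Finset.eq_of_subset_of_card_le Finset.inter_subset_left (by rw [h8, ho.2])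
    have h2 : o ∩ x = x := Finset.eq_of_subset_of_card_le Finset.inter_subset_right (by rw [h8, hx.2])
    rw [← h2, h1]
  · rintro rfl
    exact ⟨ho, by rw [Finset.inter_self, ho.2]⟩

end Cfsg.Agent.Lib.helper33
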