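/-
The stabiliser of three points in the group of the length-24 code: its orbits on the triples of
points disjoint from the given one.
-/
import Mathlib
import Cfsg.Agent.Lib.helper33.KSets
import Cfsg.Agent.Lib.helper33.M24Octads
import Cfsg.Agent.S1555

set_option autoImplicit false

namespace Cfsg.Agent.Lib.helper33

open Cfsg Cfsg.Agent.Lib.helper9
open scoped Pointwise

theorem disjoint_smul_of_disjoint (g : Equiv.Perm GolayPt) {s t : Finset GolayPt}
    (h : Disjoint s t) : Disjoint (g • s) (g • t) := by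
  classical
  rw [Finset.disjoint_iff_inter_eq_empty] at h ⊢
  rw [← Finset.smul_finset_inter, h, Finset.smul_finset_empty]

/-- The first three base points. -/
def base3 : Finset GolayPt := {bp 0, bp 1, bp 2}

/-- The fourth and fifth base points. -/
def baseE : Finset GolayPt := {bp 3, bp 4}

theorem bp_mem_oct0 : ∀ j < 5, bp j ∈ oct0 := by
  intro j hj
  rw [oct0, mem_decSet, idx_bp j (by omega)]
  revert j
  decide +kernel

theorem bp_ne : ∀ i < 5, ∀ j < 5, i ≠ j → bp i ≠ bp j := by
  intro i hi j hj hij h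
  have h1 := congrArg idx h
  rw [idx_bp i (by omega), idx_bp j (by omega)] at h1
  revert i j
  decide +kernel

theorem mem_base3 {p : GolayPt} : p ∈ base3 ↔ p = bp 0 ∨ p = bp 1 ∨ p = bp 2 := by
  simp [base3]

theorem mem_baseE {p : GolayPt} : p ∈ baseE ↔ p = bp 3 ∨ p = bp 4 := by
  simp [baseE]

theorem card_base3 : base3.card = 3 := by
  rw [base3, Finset.card_insert_of_notMem, Finset.card_insert_of_notMem, Finset.card_singleton]
  · rw [Finset.mem_singleton]; exact bp_ne 1 (by norm_num) 2 (by norm_num) (by norm_num)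
  · rw [Finset.mem_insert, Finset.mem_singleton]
    rintro (h | h)
    · exact bp_ne 0 (by norm_num) 1 (by norm_num) (by norm_num) h
    · exact bp_ne 0 (by norm_num) 2 (by norm_num) (by norm_num) h

theorem card_baseE : baseE.card = 2 := by
  rw [baseE, Finset.card_insert_of_notMem, Finset.card_singleton]
  rw [Finset.mem_singleton]; exact bp_ne 3 (by norm_num) 4 (by norm_num) (by norm_num)

theorem disjoint_base3_baseE : Disjoint base3 baseE := by
  rw [Finset.disjoint_left]
  intro p hp hp'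
  rw [mem_base3] at hp
  rw [mem_baseE] at hp'
  rcases hp with rfl | rfl | rfl <;> rcases hp' with h | h
  · exact bp_ne 0 (by norm_num) 3 (by norm_num) (by norm_num) h
  · exact bp_ne 0 (by norm_num) 4 (by norm_num) (by norm_num) h
  · exact bp_ne 1 (by norm_num) 3 (by norm_num) (by norm_num) h
  · exact bp_ne 1 (by norm_num) 4 (by norm_num) (by norm_num) h
  · exact bp_ne 2 (by norm_num) 3 (by norm_num) (by norm_num) h
  · exact bp_ne 2 (by norm_num) 4 (by norm_num) (by norm_num) h

theorem base_sub_oct0 : base3 ∪ baseE ⊆ oct0 := by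
  intro p hp
  rw [Finset.mem_union, mem_base3, mem_baseE] at hp
  rcases hp with (rfl | rfl | rfl) | (rfl | rfl)
  · exact bp_mem_oct0 0 (by norm_num)
  · exact bp_mem_oct0 1 (by norm_num)
  · exact bp_mem_oct0 2 (by norm_num)
  · exact bp_mem_oct0 3 (by norm_num)
  · exact bp_mem_oct0 4 (by norm_num)

/-- The pointwise stabiliser of the five base points is transitive on the other three points of
their octad and on the sixteen points outside it. -/
theorem stab5_trans (p q : GolayPt) (hp : ∀ j < 5, p ≠ bp j) (hq : ∀ j < 5, q ≠ bp j)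
    (h : p ∈ oct0 ↔ q ∈ oct0) : ∃ t ∈ M24, (∀ j < 5, t (bp j) = bp j) ∧ t p = q := by
  have key : ∀ r : GolayPt, (∀ j < 5, r ≠ bp j) →
      ∃ t ∈ genGroup, (∀ j < 5, t (bp j) = bp j) ∧ ((r ∈ oct0 ∧ t (bp 5) = r) ∨
        (r ∉ oct0 ∧ t (bp 6) = r)) := by
    intro r hr
    have hne : ∀ j < 5, idx r ≠ base.getD j 0 := by
      intro j hj h
      rw [← idx_bp j (by omega)] at h
      exact hr j hj (idx_injective h)
    by_cases hmem : r ∈ oct0
    · have hbit : (5279 : ℕ).testBit (idx r) = true := mem_decSet.1 hmem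
      obtain ⟨t, ht, hfix, hmap⟩ := trans_exists 5 (idx r) (by norm_num)
        (orb_five (idx r) (idx_lt r) hbit hne)
      rw [pt_idx] at hmap
      exact ⟨t, ht, hfix, Or.inl ⟨hmem, hmap⟩⟩
    · have hbit : (5279 : ℕ).testBit (idx r) = false := by
        rw [oct0, mem_decSet] at hmem
        simpa using hmem
      obtain ⟨t, ht, hfix, hmap⟩ := trans_exists 6 (idx r) (by norm_num)
        (orb_six (idx r) (idx_lt r) hbit)
      rw [pt_idx] at hmap
      exact ⟨t, ht, fun j hj => hfix j (by omega), Or.inr ⟨hmem, hmap⟩⟩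
  obtain ⟨t₁, ht₁, hfix₁, hc₁⟩ := key p hp
  obtain ⟨t₂, ht₂, hfix₂, hc₂⟩ := key q hq
  refine ⟨t₂ * t₁⁻¹, genGroup_le_M24 (mul_mem ht₂ (inv_mem ht₁)), ?_, ?_⟩
  · intro j hj
    show t₂ (t₁⁻¹ (bp j)) = bp j
    have : t₁⁻¹ (bp j) = bp j := by rw [Equiv.Perm.inv_eq_iff_eq, hfix₁ j hj]
    rw [this, hfix₂ j hj]
  · show t₂ (t₁⁻¹ p) = q
    rcases hc₁ with ⟨hm₁, hmap₁⟩ | ⟨hm₁, hmap₁⟩ <;> rcases hc₂ with ⟨hm₂, hmap₂⟩ | ⟨hm₂, hmap₂⟩
    · have : t₁⁻¹ p = bp 5 := by rw [Equiv.Perm.inv_eq_iff_eq, hmap₁]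
      rw [this, hmap₂]
    · exact absurd (h.1 hm₁) hm₂
    · exact absurd (h.2 hm₂) hm₁
    · have : t₁⁻¹ p = bp 6 := by rw [Equiv.Perm.inv_eq_iff_eq, hmap₁]
      rw [this, hmap₂]

/-- Normal form of a pair of disjoint triples of points. -/
theorem triad_normal_form (T U : Finset GolayPt) (hT : T.card = 3) (hU : U.card = 3)
    (hd : Disjoint T U) :
    ∃ h ∈ M24, ∃ p, (∀ j < 5, p ≠ bp j) ∧ h • T = base3 ∧ h • U = insert p baseE ∧
      (p ∈ oct0 ↔ ∃ o ∈ octads, T ∪ U ⊆ o) := by
  classical
  obtain ⟨g₁, hg₁, -, hg₁T⟩ := exists_stab_of_inter_card ∅ T base3 (by simp [hT])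
    (by rw [hT, card_base3]) (by simp)
  have hU₁ : (g₁ • U).card = 3 := by rw [Finset.card_smul_finset, hU]
  have hd₁ : Disjoint base3 (g₁ • U) := by
    rw [← hg₁T]
    exact disjoint_smul_of_disjoint g₁ hd
  obtain ⟨D, hD, hD2⟩ := Finset.exists_subset_card_eq (show 2 ≤ (g₁ • U).card by omega)
  have hdD : Disjoint base3 D := Finset.disjoint_of_subset_right hD hd₁
  obtain ⟨g₂, hg₂, hg₂b, hg₂D⟩ := exists_stab_of_inter_card base3 D baseE
    (by
      have := Finset.card_union_le base3 D
      rw [card_base3, hD2] at this; omega)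
    (by rw [hD2, card_baseE])
    (by rw [Finset.disjoint_iff_inter_eq_empty.1 hdD,
      Finset.disjoint_iff_inter_eq_empty.1 disjoint_base3_baseE])
  have hhT : (g₂ * g₁) • T = base3 := by rw [mul_smul, hg₁T, hg₂b]
  have hhU : baseE ⊆ (g₂ * g₁) • U := by
    rw [mul_smul, ← hg₂D]
    exact Finset.smul_finset_subset_smul_finset hD
  have hUc : ((g₂ * g₁) • U).card = 3 := by rw [Finset.card_smul_finset, hU]
  have hsd : (((g₂ * g₁) • U) \ baseE).card = 1 := by
    rw [Finset.card_sdiff_of_subset hhU, hUc, card_baseE]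
  obtain ⟨p, hp⟩ := Finset.card_eq_one.1 hsd
  have hpU : p ∈ (g₂ * g₁) • U := by
    have : p ∈ ((g₂ * g₁) • U) \ baseE := by rw [hp]; exact Finset.mem_singleton_self p
    exact (Finset.mem_sdiff.1 this).1
  have hpE : p ∉ baseE := by
    have : p ∈ ((g₂ * g₁) • U) \ baseE := by rw [hp]; exact Finset.mem_singleton_self p
    exact (Finset.mem_sdiff.1 this).2
  have hUeq : (g₂ * g₁) • U = insert p baseE := by
    rw [← Finset.sdiff_union_of_subset hhU, hp]
    rfl
  have hdis : Disjoint base3 ((g₂ * g₁) • U) := by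
    rw [← hhT]
    exact disjoint_smul_of_disjoint (g₂ * g₁) hd
  have hp3 : p ∉ base3 := fun h => (Finset.disjoint_left.1 hdis) h hpU
  have hM : g₂ * g₁ ∈ M24 := mul_mem hg₂ hg₁
  refine ⟨g₂ * g₁, hM, p, ?_, hhT, hUeq, ?_⟩
  · intro j hj hpj
    have hj' : j = 0 ∨ j = 1 ∨ j = 2 ∨ j = 3 ∨ j = 4 := by omega
    rcases hj' with rfl | rfl | rfl | rfl | rfl
    · exact hp3 (mem_base3.2 (Or.inl hpj))
    · exact hp3 (mem_base3.2 (Or.inr (Or.inl hpj)))
    · exact hp3 (mem_base3.2 (Or.inr (Or.inr hpj)))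
    · exact hpE (mem_baseE.2 (Or.inl hpj))
    · exact hpE (mem_baseE.2 (Or.inr hpj))
  · constructor
    · intro hp0
      refine ⟨(g₂ * g₁)⁻¹ • oct0, smul_mem_octads _ (inv_mem hM) _ oct0_mem, ?_⟩
      rw [Finset.subset_smul_finset_iff, inv_inv, Finset.smul_finset_union, hhT, hUeq]
      intro x hx
      rw [Finset.mem_union, Finset.mem_insert] at hx
      rcases hx with hx | rfl | hx
      · exact base_sub_oct0 (Finset.mem_union_left _ hx)
      · exact hp0
      · exact base_sub_oct0 (Finset.mem_union_right _ hx)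
    · rintro ⟨o, ho, hTU⟩
      have ho' : (g₂ * g₁) • o ∈ octads := smul_mem_octads _ hM _ ho
      have hsub : base3 ∪ baseE ⊆ (g₂ * g₁) • o := by
        have h1 : (g₂ * g₁) • (T ∪ U) ⊆ (g₂ * g₁) • o := Finset.smul_finset_subset_smul_finset hTU
        rw [Finset.smul_finset_union, hhT, hUeq] at h1
        intro x hx
        apply h1
        rw [Finset.mem_union] at hx ⊢
        rcases hx with hx | hx
        · exact Or.inl hx
        · exact Or.inr (Finset.mem_insert_of_mem hx)
      have h5 : (base3 ∪ baseE).card = 5 := by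
        rw [Finset.card_union_of_disjoint disjoint_base3_baseE, card_base3, card_baseE]
      have heq : (g₂ * g₁) • o = oct0 := octad_unique ho' oct0_mem h5 hsub base_sub_oct0
      rw [← heq]
      have h1 : (g₂ * g₁) • U ⊆ (g₂ * g₁) • o :=
        Finset.smul_finset_subset_smul_finset (Finset.union_subset_right hTU)
      exact h1 hpU

/-- The stabiliser of a triple of points is transitive on the disjoint triples lying with it in
an octad, and on those that do not. -/
theorem triad_pair_trans (T U U' : Finset GolayPt) (hT : T.card = 3) (hU : U.card = 3)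
    (hU' : U'.card = 3) (hd : Disjoint T U) (hd' : Disjoint T U')
    (hiff : (∃ o ∈ octads, T ∪ U ⊆ o) ↔ (∃ o ∈ octads, T ∪ U' ⊆ o)) :
    ∃ g ∈ M24, g • T = T ∧ g • U = U' := by
  classical
  obtain ⟨h, hh, p, hp, hT1, hU1, hiff1⟩ := triad_normal_form T U hT hU hd
  obtain ⟨h', hh', p', hp', hT2, hU2, hiff2⟩ := triad_normal_form T U' hT hU' hd'
  obtain ⟨t, ht, hfix, htp⟩ := stab5_trans p p' hp hp' (by rw [hiff1, hiff2, hiff])
  have ht3 : t • base3 = base3 := by
    rw [smul_eq_image_of_agree t id base3, Finset.image_id]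
    intro x hx
    rw [mem_base3] at hx
    rcases hx with rfl | rfl | rfl
    · exact hfix 0 (by norm_num)
    · exact hfix 1 (by norm_num)
    · exact hfix 2 (by norm_num)
  have htE : t • baseE = baseE := by
    rw [smul_eq_image_of_agree t id baseE, Finset.image_id]
    intro x hx
    rw [mem_baseE] at hx
    rcases hx with rfl | rfl
    · exact hfix 3 (by norm_num)
    · exact hfix 4 (by norm_num)
  refine ⟨h'⁻¹ * t * h, mul_mem (mul_mem (inv_mem hh') ht) hh, ?_, ?_⟩
  · rw [mul_smul, mul_smul, hT1, ht3, ← hT2, inv_smul_smul]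
  · rw [mul_smul, mul_smul, hU1, Finset.smul_finset_insert, htE, Equiv.Perm.smul_def, htp, ← hU2,
      inv_smul_smul]

theorem subset_compl_iff_disjoint' {T U : Finset GolayPt} : U ⊆ Tᶜ ↔ Disjoint T U := by
  rw [Finset.disjoint_left]
  constructor
  · intro h x hxT hxU; exact Finset.mem_compl.1 (h hxU) hxT
  · intro h x hxU; exact Finset.mem_compl.2 (fun hxT => h hxT hxU)

/-- The triples disjoint from `T` lying with it in an octad. -/
noncomputable def triadIn (T : Finset GolayPt) : Finset (Finset GolayPt) := by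
  classical
  exact (Tᶜ.powersetCard 3).filter (fun U => ∃ o ∈ octads, T ∪ U ⊆ o)

/-- The triples disjoint from `T` not lying with it in an octad. -/
noncomputable def triadOut (T : Finset GolayPt) : Finset (Finset GolayPt) := by
  classical
  exact (Tᶜ.powersetCard 3).filter (fun U => ¬ ∃ o ∈ octads, T ∪ U ⊆ o)

theorem mem_triadIn {T U : Finset GolayPt} :
    U ∈ triadIn T ↔ U.card = 3 ∧ Disjoint T U ∧ ∃ o ∈ octads, T ∪ U ⊆ o := by
  classical
  rw [triadIn, Finset.mem_filter, Finset.mem_powersetCard, subset_compl_iff_disjoint']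
  tauto

theorem card_octF_supset3 (T : Finset GolayPt) (hT : T.card = 3) :
    (octF.filter (fun b => T ⊆ b)).card = 21 := by
  have h := Cfsg.Agent.S1555.card_octF_supset T (by omega)
  rw [hT] at h
  have h1 : Nat.choose 5 2 = 10 := by decide
  have h2 : Nat.choose 21 2 = 210 := by decide
  norm_num [h1, h2] at h
  omega

theorem card_triadIn (T : Finset GolayPt) (hT : T.card = 3) : (triadIn T).card = 210 := by
  classical
  have e : triadIn T = (octF.filter (fun b => T ⊆ b)).biUnion (fun o => (o \ T).powersetCard 3) := by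
    ext U
    rw [mem_triadIn, Finset.mem_biUnion]
    constructor
    · rintro ⟨hU, hd, o, ho, hsub⟩
      refine ⟨o, Finset.mem_filter.2 ⟨mem_octF.2 ho, Finset.union_subset_left hsub⟩, ?_⟩
      rw [Finset.mem_powersetCard]
      refine ⟨?_, hU⟩
      intro x hx
      rw [Finset.mem_sdiff]
      exact ⟨Finset.union_subset_right hsub hx, fun hxT => Finset.disjoint_left.1 hd hxT hx⟩
    · rintro ⟨o, ho, hU⟩
      rw [Finset.mem_filter] at ho
      rw [Finset.mem_powersetCard] at hU
      refine ⟨hU.2, ?_, o, mem_octF.1 ho.1, ?_⟩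
      · rw [Finset.disjoint_left]
        intro x hxT hxU
        exact (Finset.mem_sdiff.1 (hU.1 hxU)).2 hxT
      · exact Finset.union_subset ho.2 (fun x hx => (Finset.mem_sdiff.1 (hU.1 hx)).1)
  rw [e, Finset.card_biUnion]
  · have : ∀ o ∈ octF.filter (fun b => T ⊆ b), ((o \ T).powersetCard 3).card = 10 := by
      intro o ho
      rw [Finset.mem_filter] at ho
      rw [Finset.card_powersetCard, Finset.card_sdiff_of_subset ho.2, (mem_octF.1 ho.1).2, hT]
      decide
    rw [Finset.sum_congr rfl this, Finset.sum_const, card_octF_supset3 T hT]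
    rfl
  · intro o ho o' ho' hne
    rw [Finset.mem_coe, Finset.mem_filter] at ho ho'
    rw [Function.onFun, Finset.disjoint_left]
    intro U hU hU'
    rw [Finset.mem_powersetCard] at hU hU'
    apply hne
    have hsub : T ∪ U ⊆ o := Finset.union_subset ho.2 (fun x hx => (Finset.mem_sdiff.1 (hU.1 hx)).1)
    have hsub' : T ∪ U ⊆ o' :=
      Finset.union_subset ho'.2 (fun x hx => (Finset.mem_sdiff.1 (hU'.1 hx)).1)
    have hdis : Disjoint T U := by
      rw [Finset.disjoint_left]
      intro x hxT hxU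
      exact (Finset.mem_sdiff.1 (hU.1 hxU)).2 hxT
    have hc : 5 ≤ (T ∪ U).card := by
      rw [Finset.card_union_of_disjoint hdis, hT, hU.2]; norm_num
    obtain ⟨s, hs, hs5⟩ := Finset.exists_subset_card_eq hc
    exact octad_unique (mem_octF.1 ho.1) (mem_octF.1 ho'.1) hs5 (hs.trans hsub) (hs.trans hsub')

theorem card_triadOut (T : Finset GolayPt) (hT : T.card = 3) : (triadOut T).card = 1120 := by
  classical
  have h := Finset.card_filter_add_card_filter_not (s := Tᶜ.powersetCard 3)
    (fun U => ∃ o ∈ octads, T ∪ U ⊆ o)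
  have h1 : (Tᶜ.powersetCard 3).card = 1330 := by
    rw [Finset.card_powersetCard, Finset.card_compl, hT]
    rfl
  have h2 := card_triadIn T hT
  rw [triadIn] at h2
  rw [triadOut]
  rw [h1] at h
  omega

theorem mem_triadOut {T U : Finset GolayPt} :
    U ∈ triadOut T ↔ U.card = 3 ∧ Disjoint T U ∧ ¬ ∃ o ∈ octads, T ∪ U ⊆ o := by
  classical
  rw [triadOut, Finset.mem_filter, Finset.mem_powersetCard, subset_compl_iff_disjoint']
  tauto

/-- Any set of at most five points lies in an octad. -/
theorem exists_octad_supset (A : Finset GolayPt) (hA : A.card ≤ 5) : ∃ o ∈ octads, A ⊆ o := by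
  classical
  obtain ⟨A', hA', hA5⟩ := Finset.exists_superset_card_eq hA
    (show 5 ≤ Fintype.card GolayPt by rw [golayPt_card]; norm_num)
  obtain ⟨b, ⟨hb, hsub⟩, -⟩ := golay_steiner.2 A' hA5
  exact ⟨b, hb, hA'.trans hsub⟩

end Cfsg.Agent.Lib.helper33
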