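/-
The stabiliser of an octad in the group of the length-24 code: the pointwise stabiliser has
order 16 and is regular on the sixteen points outside the octad; the setwise stabiliser has order
322560 and induces the alternating group on the octad.
-/
import Mathlib
import Cfsg.Agent.Lib.helper9.M24Trans
import Cfsg.Agent.Lib.helper33.OctadCounts
import Cfsg.Agent.Lib.helper33.Triads

set_option autoImplicit false

namespace Cfsg.Agent.Lib.helper33

open Cfsg Cfsg.Agent.Lib.helper9
open scoped Pointwise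

/-- The pointwise stabiliser of a set of points in the group of the code. -/
def fixOct (o : Finset GolayPt) : Subgroup (Equiv.Perm GolayPt) :=
  M24 ⊓ fixingSubgroup (Equiv.Perm GolayPt) (o : Set GolayPt)

/-- The setwise stabiliser of a set of points in the group of the code. -/
def stabOct (o : Finset GolayPt) : Subgroup (Equiv.Perm GolayPt) :=
  M24 ⊓ MulAction.stabilizer (Equiv.Perm GolayPt) o

theorem mem_fixOct {o : Finset GolayPt} {g : Equiv.Perm GolayPt} :
    g ∈ fixOct o ↔ g ∈ M24 ∧ ∀ x ∈ o, g x = x := by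
  rw [fixOct, Subgroup.mem_inf, mem_fixingSubgroup_iff]
  rfl

theorem mem_stabOct {o : Finset GolayPt} {g : Equiv.Perm GolayPt} :
    g ∈ stabOct o ↔ g ∈ M24 ∧ g • o = o := by
  rw [stabOct, Subgroup.mem_inf]
  exact and_congr Iff.rfl MulAction.mem_stabilizer_iff

theorem smul_eq_of_fix {o : Finset GolayPt} {g : Equiv.Perm GolayPt} (h : ∀ x ∈ o, g x = x) :
    g • o = o := by
  rw [smul_eq_image_of_agree g id o h, Finset.image_id]

theorem fixOct_le_stabOct (o : Finset GolayPt) : fixOct o ≤ stabOct o := by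
  intro g hg
  rw [mem_fixOct] at hg
  exact mem_stabOct.2 ⟨hg.1, smul_eq_of_fix hg.2⟩

/-- Membership of the image under a permutation preserving the set. -/
theorem mem_iff_of_smul_eq {o : Finset GolayPt} {g : Equiv.Perm GolayPt} (h : g • o = o)
    (x : GolayPt) : g x ∈ o ↔ x ∈ o := by
  conv_lhs => rw [← h]
  exact Finset.smul_mem_smul_finset_iff g

/-! ### The pointwise stabiliser of the base octad -/

def kO1 : List ℕ := [0, 1, 2, 3, 4, 9, 14, 7, 20, 5, 10, 17, 12, 16, 6, 21, 13, 11, 19, 18, 8, 15, 23, 22]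
def kO2 : List ℕ := [0, 1, 2, 3, 4, 11, 23, 7, 13, 17, 10, 5, 12, 8, 22, 18, 20, 9, 15, 21, 16, 19, 14, 6]
def kO3 : List ℕ := [0, 1, 2, 3, 4, 21, 16, 7, 22, 15, 10, 19, 12, 14, 13, 9, 6, 18, 17, 11, 23, 5, 8, 20]
def kO4 : List ℕ := [0, 1, 2, 3, 4, 23, 11, 7, 15, 22, 10, 6, 12, 18, 17, 8, 19, 14, 13, 16, 21, 20, 9, 5]

def gensK : List (List ℕ) := [kO1, kO2, kO3, kO4]

/-- The table fixes every index of the mask. -/
def fixesMask (tbl : List ℕ) (m : ℕ) : Bool :=
  (List.range 24).all fun i => !(m.testBit i) || Nat.beq (tbl.getD i 0) i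

theorem fix_of_fixesMask {σ : Equiv.Perm GolayPt} {tbl : List ℕ} {m : ℕ} (hσ : IsTable σ tbl)
    (hm : fixesMask tbl m = true) : ∀ x ∈ decSet m, σ x = x := by
  intro x hx
  rw [mem_decSet] at hx
  simp only [fixesMask, List.all_eq_true, List.mem_range, Bool.or_eq_true, Bool.not_eq_true'] at hm
  rcases hm (idx x) (idx_lt x) with h | h
  · rw [hx] at h; cases h
  · apply idx_injective
    rw [hσ.2]
    exact Nat.eq_of_beq_eq_true h

theorem exists_mem_fix_of_tbl (tbl inv : List ℕ) (m : ℕ) (hv : validTbl tbl inv = true)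
    (hc : chkTbl tbl = true) (hm : fixesMask tbl m = true) :
    ∃ σ ∈ fixOct (decSet m), IsTable σ tbl := by
  obtain ⟨σ, hσ, hσt⟩ := exists_mem_of_tbl tbl inv hv hc
  exact ⟨σ, mem_fixOct.2 ⟨hσ, fix_of_fixesMask hσt hm⟩, hσt⟩

theorem gensIn_gensK : GensIn (fixOct oct0) gensK := by
  intro t ht
  simp only [gensK, List.mem_cons, List.not_mem_nil, or_false] at ht
  rcases ht with rfl | rfl | rfl | rfl
  · exact exists_mem_fix_of_tbl kO1 kO1 5279 (by decide +kernel) (by decide +kernel)
      (by decide +kernel)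
  · exact exists_mem_fix_of_tbl kO2 kO2 5279 (by decide +kernel) (by decide +kernel)
      (by decide +kernel)
  · exact exists_mem_fix_of_tbl kO3 kO3 5279 (by decide +kernel) (by decide +kernel)
      (by decide +kernel)
  · exact exists_mem_fix_of_tbl kO4 kO4 5279 (by decide +kernel) (by decide +kernel)
      (by decide +kernel)

/-- Masks of the sixteen points outside the base octad. -/
def outL : List ℕ := [32, 64, 256, 512, 2048, 8192, 16384, 32768, 65536, 131072, 262144, 524288,
  1048576, 2097152, 4194304, 8388608]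

/-- Words in `gensK` moving the point `5` to each point outside the base octad. -/
def certsK : List (List ℕ) := [[], [3, 1], [3, 2, 0], [0], [1], [3, 2, 1, 0], [3, 1, 0], [2, 0],
  [3, 2, 1], [1, 0], [2, 1, 0], [2, 1], [3, 2], [2], [3, 0], [3]]

theorem certsK_ok : checkOrbit gensK (fun _ => 32) outL certsK = true := by decide +kernel

theorem decSet_two_pow {q : ℕ} (hq : q < 24) : decSet (2 ^ q) = {pt q} := by
  ext p
  rw [mem_decSet, Nat.testBit_two_pow, decide_eq_true_eq, Finset.mem_singleton]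
  constructor
  · intro h; rw [h, pt_idx]
  · intro h; rw [h, idx_pt hq]

theorem out_mem_outL : ∀ x < 24, (5279 : ℕ).testBit x = false → 2 ^ x ∈ outL := by
  decide +kernel

/-- The pointwise stabiliser of the base octad is transitive on the points outside it. -/
theorem fixOct0_trans_out (q : GolayPt) (hq : q ∉ oct0) : ∃ σ ∈ fixOct oct0, σ (pt 5) = q := by
  have hbit : (5279 : ℕ).testBit (idx q) = false := by
    rw [oct0, mem_decSet] at hq
    simpa using hq
  obtain ⟨σ, hσ, h⟩ := checkOrbit_spec gensIn_gensK (fun _ => 32) outL certsK certsK_ok _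
    (out_mem_outL (idx q) (idx_lt q) hbit)
  refine ⟨σ, hσ, ?_⟩
  have h1 : decSet 32 = {pt 5} := decSet_two_pow (q := 5) (by norm_num)
  rw [decSet_two_pow (idx_lt q), pt_idx] at h
  change σ • decSet 32 = {q} at h
  rw [h1, Finset.smul_finset_singleton, Finset.singleton_inj] at h
  exact h

theorem pt5_notMem_oct0 : pt 5 ∉ oct0 := by
  rw [oct0, mem_decSet, idx_pt (by norm_num)]
  decide +kernel

theorem bp5_mem_oct0 : bp 5 ∈ oct0 := by
  rw [oct0, mem_decSet, idx_bp 5 (by norm_num)]
  decide +kernel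

/-- An element of the group fixing the base octad pointwise and the point `5` is trivial. -/
theorem fixOct0_stab_trivial (g : Equiv.Perm GolayPt) (hg : g ∈ fixOct oct0)
    (h5 : g (pt 5) = pt 5) : g = 1 := by
  rw [mem_fixOct] at hg
  apply stab7_trivial g
  rw [mem_stabL]
  refine ⟨hg.1, fun j hj => ?_⟩
  have hj' : j < 5 ∨ j = 5 ∨ j = 6 := by omega
  rcases hj' with h | rfl | rfl
  · exact hg.2 _ (bp_mem_oct0 j h)
  · exact hg.2 _ bp5_mem_oct0
  · exact h5

theorem card_fixOct0 : Nat.card (fixOct oct0) = 16 := by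
  classical
  have h := card_eq_orbit_mul_stab (fixOct oct0) (pt 5)
  have h1 : Nat.card ↥(fixOct oct0 ⊓ MulAction.stabilizer (Equiv.Perm GolayPt) (pt 5)) = 1 := by
    have : Subsingleton ↥(fixOct oct0 ⊓ MulAction.stabilizer (Equiv.Perm GolayPt) (pt 5)) := by
      refine ⟨fun a b => Subtype.ext ?_⟩
      have ha := Subgroup.mem_inf.1 a.2
      have hb := Subgroup.mem_inf.1 b.2
      rw [fixOct0_stab_trivial a.1 ha.1 (MulAction.mem_stabilizer_iff.1 ha.2),
        fixOct0_stab_trivial b.1 hb.1 (MulAction.mem_stabilizer_iff.1 hb.2)]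
    exact Nat.card_unique
  have h2 : MulAction.orbit (fixOct oct0) (pt 5) = ((oct0ᶜ : Finset GolayPt) : Set GolayPt) := by
    ext q
    rw [mem_orbit_subgroup_iff, Finset.mem_coe, Finset.mem_compl]
    constructor
    · rintro ⟨g, hg, rfl⟩ hmem
      have := (mem_fixOct.1 hg).2 _ hmem
      exact pt5_notMem_oct0 (g.injective this ▸ hmem)
    · exact fixOct0_trans_out q
  rw [h1, h2, mul_one] at h
  rw [h, Nat.card_coe_set_eq, Set.ncard_coe_finset, Finset.card_compl, golayPt_card, oct0_mem.2]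

/-! ### General octads -/

theorem fixOct_smul (a : Equiv.Perm GolayPt) (ha : a ∈ M24) (o : Finset GolayPt) :
    fixOct (a • o) = (fixOct o).map (MulAut.conj a).toMonoidHom := by
  ext g
  rw [Subgroup.mem_map, mem_fixOct]
  constructor
  · rintro ⟨hg, hfix⟩
    refine ⟨a⁻¹ * g * a, mem_fixOct.2 ⟨mul_mem (mul_mem (inv_mem ha) hg) ha, fun x hx => ?_⟩, ?_⟩
    · show a⁻¹ (g (a x)) = x
      rw [Equiv.Perm.inv_eq_iff_eq]
      exact hfix (a x) (Finset.smul_mem_smul_finset hx)
    · show a * (a⁻¹ * g * a) * a⁻¹ = g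
      group
  · rintro ⟨k, hk, rfl⟩
    rw [mem_fixOct] at hk
    refine ⟨mul_mem (mul_mem ha hk.1) (inv_mem ha), fun y hy => ?_⟩
    show a (k (a⁻¹ y)) = y
    have h1 : a⁻¹ y ∈ o := by
      have := Finset.inv_smul_mem_iff.2 hy
      exact this
    rw [hk.2 _ h1]
    exact a.apply_symm_apply y

/-- The pointwise stabiliser of an octad has order 16. -/
theorem card_fixOct {o : Finset GolayPt} (ho : o ∈ octads) : Nat.card (fixOct o) = 16 := by
  obtain ⟨a, ha, rfl⟩ := exists_smul_oct0 ho
  rw [fixOct_smul a ha, Subgroup.card_map_of_injective (MulAut.conj a).injective, card_fixOct0]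

/-- The pointwise stabiliser of an octad is transitive on the points outside it. -/
theorem fixOct_trans {o : Finset GolayPt} (ho : o ∈ octads) {p q : GolayPt} (hp : p ∉ o)
    (hq : q ∉ o) : ∃ k ∈ fixOct o, k p = q := by
  obtain ⟨a, ha, rfl⟩ := exists_smul_oct0 ho
  have hp' : a⁻¹ p ∉ oct0 := fun h => hp (Finset.inv_smul_mem_iff.1 h)
  have hq' : a⁻¹ q ∉ oct0 := fun h => hq (Finset.inv_smul_mem_iff.1 h)
  obtain ⟨σ₁, hσ₁, h₁⟩ := fixOct0_trans_out _ hp'
  obtain ⟨σ₂, hσ₂, h₂⟩ := fixOct0_trans_out _ hq'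
  refine ⟨a * (σ₂ * σ₁⁻¹) * a⁻¹, ?_, ?_⟩
  · rw [fixOct_smul a ha]
    exact Subgroup.mem_map.2 ⟨σ₂ * σ₁⁻¹, mul_mem hσ₂ (inv_mem hσ₁), rfl⟩
  · show a (σ₂ (σ₁⁻¹ (a⁻¹ p))) = q
    have : σ₁⁻¹ (a⁻¹ p) = pt 5 := by rw [Equiv.Perm.inv_eq_iff_eq, h₁]
    rw [this, h₂]
    exact a.apply_symm_apply q

/-- An element of the group fixing an octad pointwise and a further point is trivial. -/
theorem fixOct_stab_trivial {o : Finset GolayPt} (ho : o ∈ octads) {p : GolayPt} (hp : p ∉ o)
    (g : Equiv.Perm GolayPt) (hg : g ∈ fixOct o) (hgp : g p = p) : g = 1 := by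
  obtain ⟨a, ha, rfl⟩ := exists_smul_oct0 ho
  have hp' : a⁻¹ p ∉ oct0 := fun h => hp (Finset.inv_smul_mem_iff.1 h)
  obtain ⟨σ, hσ, h₁⟩ := fixOct0_trans_out _ hp'
  rw [fixOct_smul a ha, Subgroup.mem_map] at hg
  obtain ⟨k, hk, rfl⟩ := hg
  have hkp : k (a⁻¹ p) = a⁻¹ p := by
    have : a (k (a⁻¹ p)) = p := hgp
    rw [Equiv.Perm.eq_inv_iff_eq, this]
  have h2 : σ⁻¹ * k * σ = 1 := by
    apply fixOct0_stab_trivial _ (mul_mem (mul_mem (inv_mem hσ) hk) hσ)
    show σ⁻¹ (k (σ (pt 5))) = pt 5
    rw [h₁, hkp, Equiv.Perm.inv_eq_iff_eq, h₁]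
  have hk1 : k = 1 := by
    have : k = σ * (σ⁻¹ * k * σ) * σ⁻¹ := by group
    rw [this, h2]; group
  rw [hk1]
  simp

/-- Cardinality of the intersection with a stabiliser, via the stabiliser in the subgroup. -/
theorem card_inf_stabilizer {α β : Type*} [MulAction (Equiv.Perm α) β]
    (H : Subgroup (Equiv.Perm α)) (x : β) :
    Nat.card ↥(H ⊓ MulAction.stabilizer (Equiv.Perm α) x) =
      Nat.card (MulAction.stabilizer H x) := by
  have e1 : MulAction.stabilizer H x =
      (H ⊓ MulAction.stabilizer (Equiv.Perm α) x).subgroupOf H := by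
    ext g
    rw [Subgroup.mem_subgroupOf, Subgroup.mem_inf, MulAction.mem_stabilizer_iff,
      MulAction.mem_stabilizer_iff]
    constructor
    · intro h; exact ⟨g.2, h⟩
    · intro h; exact h.2
  rw [e1]
  exact (Nat.card_congr (Subgroup.subgroupOfEquivOfLe inf_le_left).toEquiv).symm

/-- The stabiliser of an octad has order 322560. -/
theorem card_stabOct {o : Finset GolayPt} (ho : o ∈ octads) : Nat.card (stabOct o) = 322560 := by
  have h := natCard_orbit_mul_stab (G := M24) o
  rw [orbit_eq_octads ho, card_M24, ← card_inf_stabilizer M24 o] at h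
  have h2 : Nat.card octads = 759 := by
    rw [Nat.card_coe_set_eq, ncard_octads]
  rw [h2] at h
  rw [stabOct]
  omega

/-! ### The action of the stabiliser on the octad -/

/-- Restriction of the stabiliser of a set of points to that set. -/
def restrOct (o : Finset GolayPt) : ↥(stabOct o) →* Equiv.Perm ↥o where
  toFun g := (g : Equiv.Perm GolayPt).subtypePerm (mem_iff_of_smul_eq (mem_stabOct.1 g.2).2)
  map_one' := by ext x; rfl
  map_mul' g h := by ext x; rfl

theorem restrOct_apply (o : Finset GolayPt) (g : ↥(stabOct o)) (x : ↥o) :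
    ((restrOct o g) x : GolayPt) = (g : Equiv.Perm GolayPt) x := rfl

theorem mem_ker_restrOct {o : Finset GolayPt} (g : ↥(stabOct o)) :
    g ∈ (restrOct o).ker ↔ (g : Equiv.Perm GolayPt) ∈ fixOct o := by
  rw [MonoidHom.mem_ker, mem_fixOct]
  constructor
  · intro h
    refine ⟨(mem_stabOct.1 g.2).1, fun x hx => ?_⟩
    have := congrArg (fun e : Equiv.Perm ↥o => (e ⟨x, hx⟩ : GolayPt)) h
    exact this
  · rintro ⟨-, h⟩
    apply Equiv.ext
    intro x
    apply Subtype.ext
    exact h x x.2

theorem ker_restrOct (o : Finset GolayPt) :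
    (restrOct o).ker = (fixOct o).subgroupOf (stabOct o) := by
  ext g
  rw [mem_ker_restrOct, Subgroup.mem_subgroupOf]

theorem card_ker_restrOct {o : Finset GolayPt} (ho : o ∈ octads) :
    Nat.card (restrOct o).ker = 16 := by
  rw [ker_restrOct, ← card_fixOct ho]
  exact Nat.card_congr (Subgroup.subgroupOfEquivOfLe (fixOct_le_stabOct o)).toEquiv

theorem card_range_restrOct {o : Finset GolayPt} (ho : o ∈ octads) :
    Nat.card (restrOct o).range = 20160 := by
  have h1 := Subgroup.card_mul_index (restrOct o).ker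
  rw [Subgroup.index_ker, card_ker_restrOct ho, card_stabOct ho] at h1
  omega

/-- The stabiliser of an octad induces the alternating group on it. -/
theorem range_restrOct {o : Finset GolayPt} (ho : o ∈ octads) :
    (restrOct o).range = alternatingGroup ↥o := by
  apply Equiv.Perm.eq_alternatingGroup_of_index_eq_two
  have h1 := Subgroup.index_mul_card (restrOct o).range
  have h2 : Nat.card (Equiv.Perm ↥o) = 40320 := by
    rw [Nat.card_perm, Nat.card_eq_fintype_card, Fintype.card_coe, ho.2]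
    rfl
  rw [card_range_restrOct ho, h2] at h1
  omega

end Cfsg.Agent.Lib.helper33
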