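import Mathlib
import Cfsg.Agent.Lib.helper16.U34CDefs

/-! S1903 piece D4b (helper33): the commutator subgroup of the centralizer of `tauE` in `SU 3 F 4`
is the explicit Sylow 2-subgroup `UU`. -/

set_option autoImplicit false
set_option linter.unusedSectionVars false
set_option linter.unusedVariables false

namespace Cfsg.Agent.Lib.helper16.U34C

open Cfsg
open scoped commutatorElement
open Cfsg.Agent.Lib.helper58 Cfsg.Agent.Lib.helper7

section Concrete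

variable {F : Type*} [Field F] [Fintype F]

theorem helper33_comm_split {G : Type*} [Group G] (δ v w : G) (k m : ℕ) :
    ⁅δ ^ k * v, δ ^ m * w⁆ = (δ ^ k * v * (δ ^ k)⁻¹) *
      (δ ^ (k + m) * (w * v⁻¹) * (δ ^ (k + m))⁻¹) * (δ ^ m * w⁻¹ * (δ ^ m)⁻¹) := by
  rw [commutatorElement_def, pow_add]; group

theorem helper33_conj_succ {G : Type*} [Group G] (δ v : G) (n : ℕ) :
    δ ^ (n + 1) * v * (δ ^ (n + 1))⁻¹ = δ * (δ ^ n * v * (δ ^ n)⁻¹) * δ⁻¹ := by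
  rw [pow_succ']; group

/-- PIECE D4b -/
theorem cent_comm (hF : Fintype.card F = 16) (l : F) (hl : l ^ 5 = 1) (hl1 : l ≠ 1)
    (cd : CentData hF l hl) :
    commutator ↥(Subgroup.centralizer ({tauE hF} : Set ↥(SU 3 F 4))) =
      (UU hF).subgroupOf (Subgroup.centralizer ({tauE hF} : Set ↥(SU 3 F 4))) := by
  have hF4 := card16 hF
  have h2 := two0 hF
  have hC : ∀ g : ↥(SU 3 F 4),
      g ∈ Subgroup.centralizer ({tauE hF} : Set ↥(SU 3 F 4)) ↔ g * tauE hF = tauE hF * g := by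
    intro g
    rw [Subgroup.mem_centralizer_iff]
    constructor
    · intro h; exact (h _ rfl).symm
    · intro h x hx
      rw [Set.mem_singleton_iff] at hx
      rw [hx]; exact h.symm
  have hUC : ∀ v ∈ UU hF, v ∈ Subgroup.centralizer ({tauE hF} : Set ↥(SU 3 F 4)) :=
    fun v hv => (hC v).2 (cd.tc v hv)
  have hδC : dE l hl ∈ Subgroup.centralizer ({tauE hF} : Set ↥(SU 3 F 4)) := (hC _).2 cd.dc
  -- every element of `UU` is an `su3E`
  have hE : ∀ v ∈ UU hF, ∃ (a b : F) (hab : b + b ^ 4 = a * a ^ 4), v = su3E hF4 h2 a b hab := by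
    intro v hv
    obtain ⟨a, b, hab, hm⟩ := (mem_su3U_iff hF4 h2 v).1 hv
    exact ⟨a, b, hab, su3_ext hm⟩
  have hEmem : ∀ (a b : F) (hab : b + b ^ 4 = a * a ^ 4), su3E hF4 h2 a b hab ∈ UU hF :=
    fun a b hab => ⟨a, b, hab, rfl⟩
  have hconj1 : ∀ v ∈ UU hF, dE l hl * v * (dE l hl)⁻¹ ∈ UU hF := by
    intro v hv
    obtain ⟨a, b, hab, rfl⟩ := hE v hv
    obtain ⟨hab', hc⟩ := cd.conj a b hab
    rw [hc]; exact hEmem _ _ _
  have hconjn : ∀ n : ℕ, ∀ v ∈ UU hF, dE l hl ^ n * v * (dE l hl ^ n)⁻¹ ∈ UU hF := by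
    intro n
    induction n with
    | zero => intro v hv; simpa using hv
    | succ n ih =>
      intro v hv
      rw [helper33_conj_succ]
      exact hconj1 _ (ih v hv)
  apply le_antisymm
  · rw [commutator_def, Subgroup.commutator_le]
    rintro ⟨g, hg⟩ - ⟨h, hh⟩ -
    rw [Subgroup.mem_subgroupOf]
    have e : ((⁅(⟨g, hg⟩ : ↥(Subgroup.centralizer ({tauE hF} : Set ↥(SU 3 F 4)))), ⟨h, hh⟩⁆ :
        ↥(Subgroup.centralizer ({tauE hF} : Set ↥(SU 3 F 4)))) : ↥(SU 3 F 4)) = ⁅g, h⁆ := rfl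
    rw [e]
    obtain ⟨k, v, hv, rfl⟩ := cd.up g ((hC g).1 hg)
    obtain ⟨m, w, hw, rfl⟩ := cd.up h ((hC h).1 hh)
    rw [helper33_comm_split]
    exact (UU hF).mul_mem ((UU hF).mul_mem (hconjn k v hv)
      (hconjn (k + m) _ ((UU hF).mul_mem hw ((UU hF).inv_mem hv)))) (hconjn m _ ((UU hF).inv_mem hw))
  · rintro ⟨x, hx⟩ hxU
    rw [Subgroup.mem_subgroupOf] at hxU
    have hxU' : x ∈ UU hF := hxU
    have hcomm : ∀ g h : ↥(Subgroup.centralizer ({tauE hF} : Set ↥(SU 3 F 4))),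
        ⁅g, h⁆ ∈ commutator ↥(Subgroup.centralizer ({tauE hF} : Set ↥(SU 3 F 4))) := by
      intro g h
      rw [commutator_def]
      exact Subgroup.commutator_mem_commutator (Subgroup.mem_top g) (Subgroup.mem_top h)
    obtain ⟨c, hcdef⟩ : ∃ c : UCoord ↥(UU hF) F 4, c = su3UCoord hF4 h2 := ⟨_, rfl⟩
    have hcfst : ∀ (a b : F) (hab : b + b ^ 4 = a * a ^ 4) (hm : su3E hF4 h2 a b hab ∈ UU hF),
        c.fst ⟨su3E hF4 h2 a b hab, hm⟩ = a := by
      intro a b hab hm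
      rw [hcdef]
      exact su3M_apply_20 a b
    have hl2 : l ^ 2 + 1 ≠ 0 := by
      intro h0
      have h3 : (l + 1) ^ 2 = 0 := by linear_combination h0 + l * h2
      have h4 : l + 1 = 0 := by simpa using h3
      apply hl1
      linear_combination h4 - h2
    have hfinv : ∀ g : ↥(UU hF), c.fst g⁻¹ = c.fst g := by
      intro g
      have h := c.fst_mul g g⁻¹
      rw [mul_inv_cancel, c.fst_one] at h
      linear_combination -h - c.fst g * h2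
    obtain ⟨w, hw⟩ := c.exists_fst_eq hF4 h2 (c.fst ⟨x, hxU'⟩ / (l ^ 2 + 1))
    obtain ⟨a, b, hab, hwE⟩ := hE w.1 w.2
    have hwa : c.fst w = a := by
      have e1 : w = ⟨su3E hF4 h2 a b hab, hEmem a b hab⟩ := Subtype.ext hwE
      rw [e1]; exact hcfst a b hab _
    obtain ⟨hab', hcj⟩ := cd.conj a b hab
    have hdw : dE l hl * w.1 * (dE l hl)⁻¹ ∈ UU hF := hconj1 _ w.2
    have hw'a : c.fst ⟨dE l hl * w.1 * (dE l hl)⁻¹, hdw⟩ = l ^ 2 * a := by
      have e1 : (⟨dE l hl * w.1 * (dE l hl)⁻¹, hdw⟩ : ↥(UU hF)) =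
          ⟨su3E hF4 h2 (l ^ 2 * a) b hab', hEmem _ _ _⟩ := by
        apply Subtype.ext
        show dE l hl * w.1 * (dE l hl)⁻¹ = su3E hF4 h2 (l ^ 2 * a) b hab'
        rw [hwE, hcj]
      rw [e1]; exact hcfst _ _ _ _
    obtain ⟨d, hd⟩ : ∃ d : ↥(UU hF), d = ⟨dE l hl * w.1 * (dE l hl)⁻¹, hdw⟩ * w⁻¹ := ⟨_, rfl⟩
    have hda : c.fst d = c.fst ⟨x, hxU'⟩ := by
      rw [hd, c.fst_mul, hfinv, hw'a, hwa]
      have ha : a = c.fst ⟨x, hxU'⟩ / (l ^ 2 + 1) := hwa.symm.trans hw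
      rw [ha]; field_simp
    have hz0 : c.fst (⟨x, hxU'⟩ * d⁻¹) = 0 := by
      rw [c.fst_mul, hfinv, hda, ← two_mul, h2, zero_mul]
    have hzc : (⟨x, hxU'⟩ * d⁻¹ : ↥(UU hF)) ∈ Subgroup.center ↥(UU hF) :=
      (c.mem_center_iff hF4 h2 _).mpr hz0
    obtain ⟨g, h, hgh⟩ := c.exists_commutator_eq hF4 h2 _ hzc
    have hv : (⟨x, hxU'⟩ : ↥(UU hF)) = ⁅g, h⁆ * d := by rw [hgh]; group
    have hx' : x = ⁅g.1, h.1⁆ * ⁅dE l hl, w.1⁆ := by
      have h1 := congrArg Subtype.val hv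
      rw [hd] at h1
      rw [commutatorElement_def (dE l hl) w.1]
      exact h1
    have e : (⟨x, hx⟩ : ↥(Subgroup.centralizer ({tauE hF} : Set ↥(SU 3 F 4)))) =
        ⁅(⟨g.1, hUC _ g.2⟩ : ↥(Subgroup.centralizer ({tauE hF} : Set ↥(SU 3 F 4)))),
          ⟨h.1, hUC _ h.2⟩⁆ *
        ⁅(⟨dE l hl, hδC⟩ : ↥(Subgroup.centralizer ({tauE hF} : Set ↥(SU 3 F 4)))),
          ⟨w.1, hUC _ w.2⟩⁆ := Subtype.ext hx'
    rw [e]
    exact Subgroup.mul_mem _ (hcomm _ _) (hcomm _ _)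

end Concrete

end Cfsg.Agent.Lib.helper16.U34C
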