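import Mathlib
import Cfsg.Agent.Lib.helper24.SfoDefs
import Cfsg.Agent.Lib.helper6.SfoQBIL
import Cfsg.Agent.Lib.helper98.SfoOB

/-! S5981 pieces CNTE / CNTO (racer copies by helper33), core: in coordinates with respect to an
orthogonal basis the count `sfoCount Q c` is a diagonal count; then the even / odd counts follow
from the diagonal counts CNTDE / CNTDO (taken as hypotheses here). -/

set_option autoImplicit false

namespace Cfsg.Agent.Lib.helper24

open Module Matrix Cfsg.Geo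

/-- value of `Q` on a combination of pairwise orthogonal vectors -/
theorem h33_sfo_Q_sum {F : Type*} [Field F] {d : ℕ} (h2 : (2 : F) ≠ 0)
    (Q : (Fin d → F) → F) (hQ : IsNondegenerateQuadraticForm Q)
    (e : Fin d → (Fin d → F))
    (horth : ∀ i j, i ≠ j → QuadraticMap.polar Q (e i) (e j) = 0) (x : Fin d → F)
    (s : Finset (Fin d)) :
    Q (∑ j ∈ s, x j • e j) = ∑ j ∈ s, Q (e j) * x j ^ 2 := by
  classical
  obtain ⟨-, hadd, -, h0, -⟩ := sfo_basic h2 Q hQ
  have hb := hQ.polar_bilinear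
  induction s using Finset.induction_on with
  | empty => simp [h0]
  | insert a s ha ih =>
    rw [Finset.sum_insert ha, Finset.sum_insert ha, hadd, ih, hQ.smul]
    have hpol : ∀ t : Finset (Fin d), a ∉ t →
        QuadraticMap.polar Q (x a • e a) (∑ j ∈ t, x j • e j) = 0 := by
      intro t
      induction t using Finset.induction_on with
      | empty =>
        intro _
        rw [Finset.sum_empty]
        have := hb.smul_right 0 (x a • e a) 0
        rw [zero_smul, zero_mul] at this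
        exact this
      | insert b t hbt iht =>
        intro hat
        rw [Finset.sum_insert hbt, hb.add_right, iht (fun h => hat (Finset.mem_insert_of_mem h)),
          hb.smul_left, hb.smul_right,
          horth a b (fun h => hat (h ▸ Finset.mem_insert_self _ _))]
        ring
    rw [hpol s ha]
    ring

/-- the count of `Q = c` in coordinates of an orthogonal basis -/
theorem h33_sfo_count_basis {F : Type*} [Field F] [Fintype F] [DecidableEq F] {d : ℕ}
    (h2 : (2 : F) ≠ 0) (Q : (Fin d → F) → F) (hQ : IsNondegenerateQuadraticForm Q)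
    (e : Fin d → (Fin d → F)) (hli : LinearIndependent F e)
    (horth : ∀ i j, i ≠ j → QuadraticMap.polar Q (e i) (e j) = 0) (c : F) :
    sfoCount Q c =
      (Finset.univ.filter (fun x : Fin d → F => ∑ j, Q (e j) * x j ^ 2 = c)).card := by
  have hcard : Fintype.card (Fin d) = Module.finrank F (Fin d → F) := by simp
  have hspan : Submodule.span F (Set.range e) = ⊤ :=
    hli.span_eq_top_of_card_eq_finrank' hcard
  let b : Basis (Fin d) F (Fin d → F) := Basis.mk hli (by rw [hspan])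
  have hb : ∀ i, b i = e i := fun i => Basis.mk_apply hli _ i
  have hΦ : ∀ x : Fin d → F, b.equivFun.symm x = ∑ j, x j • e j := by
    intro x
    rw [Basis.equivFun_symm_apply]
    exact Finset.sum_congr rfl (fun j _ => by rw [hb])
  have hval : ∀ x : Fin d → F, Q (b.equivFun.symm x) = ∑ j, Q (e j) * x j ^ 2 := by
    intro x
    rw [hΦ]
    exact h33_sfo_Q_sum h2 Q hQ e horth x Finset.univ
  unfold sfoCount
  rw [← Fintype.card_subtype, ← Nat.card_eq_fintype_card]
  apply Nat.card_congr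
  exact (Equiv.subtypeEquiv b.equivFun.symm.toEquiv (fun x => by
    show ∑ j, Q (e j) * x j ^ 2 = c ↔ Q (b.equivFun.symm x) = c
    rw [hval])).symm

/-- CNTE with CNTDE as a hypothesis -/
theorem h33_sfo_count_even_core {F : Type*} [Field F] [Fintype F] [DecidableEq F]
    (h2 : (2 : F) ≠ 0) (k : ℕ)
    (hD : ∀ dd : Fin (2 * k) → F, (∀ j, dd j ≠ 0) →
      ∃ ε : ℤ, (ε = 1 ∨ ε = -1) ∧ ∀ c : F, c ≠ 0 →
        ((Finset.univ.filter (fun x : Fin (2 * k) → F => ∑ j, dd j * x j ^ 2 = c)).card : ℤ) =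
          (Fintype.card F : ℤ) ^ (k - 1) * ((Fintype.card F : ℤ) ^ k - ε))
    (Q : (Fin (2 * k) → F) → F) (hQ : IsNondegenerateQuadraticForm Q) :
    ∃ ε : ℤ, (ε = 1 ∨ ε = -1) ∧ ∀ c : F, c ≠ 0 →
      (sfoCount Q c : ℤ) = (Fintype.card F : ℤ) ^ (k - 1) * ((Fintype.card F : ℤ) ^ k - ε) := by
  obtain ⟨e, hli, horth, hne⟩ := sfo_orth_basis h2 Q hQ
  obtain ⟨ε, hε, h⟩ := hD (fun j => Q (e j)) hne
  refine ⟨ε, hε, fun c hc => ?_⟩
  rw [h33_sfo_count_basis h2 Q hQ e hli horth c]
  exact h c hc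

/-- CNTO with CNTDO as a hypothesis -/
theorem h33_sfo_count_odd_core {F : Type*} [Field F] [Fintype F] [DecidableEq F]
    (h2 : (2 : F) ≠ 0) (k : ℕ)
    (hD : ∀ dd : Fin (2 * k + 1) → F, (∀ j, dd j ≠ 0) →
      ∃ E : ℤ, (E = 1 ∨ E = -1) ∧
        (∀ c : F, c ≠ 0 → IsSquare c →
          ((Finset.univ.filter (fun x : Fin (2 * k + 1) → F => ∑ j, dd j * x j ^ 2 = c)).card : ℤ) =
            (Fintype.card F : ℤ) ^ k * ((Fintype.card F : ℤ) ^ k + E)) ∧
        (∀ c : F, c ≠ 0 → ¬ IsSquare c →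
          ((Finset.univ.filter (fun x : Fin (2 * k + 1) → F => ∑ j, dd j * x j ^ 2 = c)).card : ℤ) =
            (Fintype.card F : ℤ) ^ k * ((Fintype.card F : ℤ) ^ k - E)))
    (Q : (Fin (2 * k + 1) → F) → F) (hQ : IsNondegenerateQuadraticForm Q) :
    ∃ E : ℤ, (E = 1 ∨ E = -1) ∧
      (∀ c : F, c ≠ 0 → IsSquare c →
        (sfoCount Q c : ℤ) = (Fintype.card F : ℤ) ^ k * ((Fintype.card F : ℤ) ^ k + E)) ∧
      (∀ c : F, c ≠ 0 → ¬ IsSquare c →
        (sfoCount Q c : ℤ) = (Fintype.card F : ℤ) ^ k * ((Fintype.card F : ℤ) ^ k - E)) := by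
  obtain ⟨e, hli, horth, hne⟩ := sfo_orth_basis h2 Q hQ
  obtain ⟨E, hE, h1, h2'⟩ := hD (fun j => Q (e j)) hne
  refine ⟨E, hE, fun c hc hs => ?_, fun c hc hs => ?_⟩
  · rw [h33_sfo_count_basis h2 Q hQ e hli horth c]
    exact h1 c hc hs
  · rw [h33_sfo_count_basis h2 Q hQ e hli horth c]
    exact h2' c hc hs

end Cfsg.Agent.Lib.helper24
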