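import Mathlib
import Cfsg.Agent.Lib.helper26.S4409Defs

/-!
S4409 split (helper26), piece KFN2: a dihedral 2-group of order more than 4 is `DihedralGroup n`
with `4 ≤ n`.
-/

set_option autoImplicit false

namespace Cfsg.Agent.Lib.helper26.S4409

theorem kfn2 {P : Type*} [Group P] [Finite P] (hP : IsPGroup 2 P) (n : ℕ)
    (e : Nonempty (P ≃* DihedralGroup n)) (h : 4 < Nat.card P) : 4 ≤ n := by
  obtain ⟨e⟩ := e
  have hc : Nat.card P = 2 * n := by
    rw [Nat.card_congr e.toEquiv, DihedralGroup.nat_card]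
  obtain ⟨k, hk⟩ := hP.exists_card_eq
  by_contra hn
  have hn3 : n = 3 := by omega
  subst hn3
  have h6 : 2 ^ k = 6 := by omega
  have hk3 : k < 3 := by
    by_contra hk3
    have : 2 ^ 3 ≤ 2 ^ k := Nat.pow_le_pow_right (by norm_num) (by omega)
    omega
  interval_cases k <;> omega

end Cfsg.Agent.Lib.helper26.S4409
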