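import Mathlib
import Cfsg.Agent.Lib.helper26.S4409Defs

/-!
S4409 split (helper26), piece KFN5: a group of order 4 with two distinct involutions has
exponent 2.
-/

set_option autoImplicit false

namespace Cfsg.Agent.Lib.helper26.S4409

theorem kfn5 {P : Type*} [Group P] [Finite P] (t z : P) (ht : orderOf t = 2) (hz : orderOf z = 2)
    (hzc : z ∈ Subgroup.center P) (htz : t ∉ Subgroup.zpowers z) (h4 : Nat.card P = 4) :
    ∀ y : P, y * y = 1 := by
  classical
  intro y
  have hd : orderOf y ∣ 4 := h4 ▸ orderOf_dvd_natCard y
  have hle : orderOf y ≤ 4 := Nat.le_of_dvd (by norm_num) hd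
  have hpos : 0 < orderOf y := orderOf_pos y
  by_cases h2 : orderOf y ∣ 2
  · rw [← pow_two]
    exact orderOf_dvd_iff_pow_eq_one.mp h2
  · exfalso
    have ho : orderOf y = 4 := by
      interval_cases hy : orderOf y
      · exact absurd (one_dvd 2) h2
      · exact absurd (dvd_refl 2) h2
      · norm_num at hd
      · rfl
    have : IsCyclic P := isCyclic_of_orderOf_eq_card y (by rw [ho, h4])
    haveI : Fintype P := Fintype.ofFinite P
    have hcard : Fintype.card P = 4 := by rw [← Nat.card_eq_fintype_card, h4]
    have htot := IsCyclic.card_orderOf_eq_totient (α := P) (d := 2) (by rw [hcard]; norm_num)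
    rw [Nat.totient_two] at htot
    have htm : t ∈ (Finset.univ.filter fun a : P => orderOf a = 2) := by simp [ht]
    have hzm : z ∈ (Finset.univ.filter fun a : P => orderOf a = 2) := by simp [hz]
    have := Finset.card_le_one.mp (le_of_eq htot) t htm z hzm
    exact htz (this ▸ Subgroup.mem_zpowers z)

end Cfsg.Agent.Lib.helper26.S4409
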