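import Mathlib
import Cfsg.Agent.Lib.helper26.S4409Defs

/-!
S4409 split (helper26), piece EL4: a subgroup of exponent 2 without abelian noncyclic subgroups
of order 8 has order dividing 4.
-/

set_option autoImplicit false

namespace Cfsg.Agent.Lib.helper26.S4409

variable {G : Type*} [Group G]

theorem el4 [Finite G] (M : Subgroup G) (hN : NoP M) (h2 : ∀ a ∈ M, a * a = 1) :
    Nat.card ↥M ∣ 4 := by
  have : Fact (Nat.Prime 2) := ⟨Nat.prime_two⟩
  have hP : IsPGroup 2 ↥M := by
    intro g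
    refine ⟨1, ?_⟩
    rw [pow_one, pow_two]
    exact Subtype.ext (h2 g.1 g.2)
  obtain ⟨k, hk⟩ := hP.exists_card_eq
  rw [hk]
  by_cases hk2 : k ≤ 2
  · exact pow_dvd_pow 2 hk2
  · exfalso
    have hdvd : 2 ^ 3 ∣ Nat.card ↥M := by
      rw [hk]; exact pow_dvd_pow 2 (by omega)
    obtain ⟨K, hK⟩ := Sylow.exists_subgroup_card_pow_prime 2 hdvd
    have hAM : K.map M.subtype ≤ M := by
      rintro _ ⟨x, -, rfl⟩
      exact x.2
    have hcardA : Nat.card ↥(K.map M.subtype) = 8 := by
      rw [Subgroup.card_map_of_injective M.subtype_injective, hK]; norm_num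
    have hcomm : IsMulCommutative ↥(K.map M.subtype) := by
      refine ⟨⟨fun a b => ?_⟩⟩
      have ha := h2 a.1 (hAM a.2)
      have hb := h2 b.1 (hAM b.2)
      have hab := h2 (a.1 * b.1) (hAM (mul_mem a.2 b.2))
      apply Subtype.ext
      show a.1 * b.1 = b.1 * a.1
      have ha' : (a.1)⁻¹ = a.1 := inv_eq_of_mul_eq_one_left ha
      have hb' : (b.1)⁻¹ = b.1 := inv_eq_of_mul_eq_one_left hb
      have hab' : (a.1 * b.1)⁻¹ = a.1 * b.1 := inv_eq_of_mul_eq_one_left hab
      rw [← hab', mul_inv_rev, ha', hb']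
    have hcyc := hN _ hAM hcomm hcardA
    obtain ⟨g, hg⟩ := IsCyclic.exists_ofOrder_eq_natCard (α := ↥(K.map M.subtype))
    rw [hcardA] at hg
    have hg2 : g ^ 2 = 1 := by
      rw [pow_two]; exact Subtype.ext (h2 g.1 (hAM g.2))
    have := orderOf_dvd_of_pow_eq_one hg2
    rw [hg] at this
    norm_num at this

end Cfsg.Agent.Lib.helper26.S4409
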