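/-
Trivial Schur multipliers via transfer: reduction of `Cfsg.HasCyclicSchurMultiplier G 1` to the
non-existence of stem extensions with kernel of prime order, the transfer lemma for central
elements, a complement criterion, and a bound for groups with a polycyclic generating sequence.
(owner: helper33)
-/
import Mathlib
import Cfsg.Prelude.Def_KGroupFacts

set_option autoImplicit false

universe u

namespace Cfsg.Agent.Lib.helper33

open scoped commutatorElement

/-- A stem extension whose kernel has order `p`. -/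
structure PStem {Γ G : Type*} [Group Γ] [Group G] (σ : Γ →* G) (p : ℕ) : Prop where
  surj : Function.Surjective σ
  central : σ.ker ≤ Subgroup.center Γ
  comm : σ.ker ≤ commutator Γ
  card : Nat.card σ.ker = p

theorem stem_ker_eq_bot_aux {G : Type u} [Group G]
    (h : ∀ p : ℕ, p.Prime → ∀ (Γ : Type u) [Group Γ] [Finite Γ] (σ : Γ →* G), PStem σ p → False) :
    ∀ n : ℕ, ∀ (Γ : Type u) [Group Γ] [Finite Γ] (σ : Γ →* G), Nat.card Γ = n →
      Cfsg.IsStemExtension σ → σ.ker = ⊥ := by
  intro n
  induction n using Nat.strong_induction_on with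
  | _ n ih =>
    intro Γ _ _ σ hn hσ
    obtain ⟨hsurj, hcen, hcom⟩ := hσ
    by_contra hne
    have hcard : Nat.card σ.ker ≠ 1 := fun h1 => hne (Subgroup.card_eq_one.1 h1)
    obtain ⟨p, hp, hpd⟩ := Nat.exists_prime_and_dvd hcard
    have := Fact.mk hp
    obtain ⟨z, hz⟩ := exists_prime_orderOf_dvd_card' p hpd
    have hNle : Subgroup.zpowers (z : Γ) ≤ σ.ker := by
      rw [Subgroup.zpowers_le]; exact z.2
    have hNcard : Nat.card (Subgroup.zpowers (z : Γ)) = p := by
      rw [Nat.card_zpowers, Subgroup.orderOf_coe, hz]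
    by_cases hEq : Subgroup.zpowers (z : Γ) = σ.ker
    · exact h p hp Γ σ ⟨hsurj, hcen, hcom, by rw [← hEq]; exact hNcard⟩
    · have hnorm : (Subgroup.zpowers (z : Γ)).Normal := by
        constructor
        intro x hx g
        have hxc : x ∈ Subgroup.center Γ := hcen (hNle hx)
        have : g * x * g⁻¹ = x := by
          rw [Subgroup.mem_center_iff] at hxc
          rw [hxc g, mul_inv_cancel_right]
        rw [this]; exact hx
      have hstem : Cfsg.IsStemExtension (QuotientGroup.lift (Subgroup.zpowers (z : Γ)) σ hNle) := by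
        refine ⟨?_, ?_, ?_⟩
        · intro g
          obtain ⟨x, rfl⟩ := hsurj g
          exact ⟨QuotientGroup.mk x, rfl⟩
        · intro q hq
          obtain ⟨x, rfl⟩ := QuotientGroup.mk_surjective q
          have hx : x ∈ σ.ker := by
            rw [MonoidHom.mem_ker] at hq ⊢
            exact hq
          have hxc := hcen hx
          rw [Subgroup.mem_center_iff] at hxc ⊢
          intro y
          obtain ⟨y', rfl⟩ := QuotientGroup.mk_surjective y
          rw [← QuotientGroup.mk_mul, ← QuotientGroup.mk_mul, hxc y']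
        · intro q hq
          obtain ⟨x, rfl⟩ := QuotientGroup.mk_surjective q
          have hx : x ∈ σ.ker := by
            rw [MonoidHom.mem_ker] at hq ⊢
            exact hq
          have hxc : x ∈ commutator Γ := hcom hx
          have h1 : (QuotientGroup.mk' (Subgroup.zpowers (z : Γ))) x ∈
              (commutator Γ).map (QuotientGroup.mk' (Subgroup.zpowers (z : Γ))) :=
            Subgroup.mem_map_of_mem _ hxc
          rw [commutator_def, Subgroup.map_commutator] at h1
          rw [commutator_def]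
          exact Subgroup.commutator_mono le_top le_top h1
      have hmul := Subgroup.card_eq_card_quotient_mul_card_subgroup (Subgroup.zpowers (z : Γ))
      rw [hNcard, hn] at hmul
      have hpos : 0 < Nat.card (Γ ⧸ Subgroup.zpowers (z : Γ)) := Nat.card_pos
      have hlt : Nat.card (Γ ⧸ Subgroup.zpowers (z : Γ)) < n := by
        have h2 := hp.two_le
        nlinarith
      have hbot := ih _ hlt (Γ ⧸ Subgroup.zpowers (z : Γ)) _ rfl hstem
      obtain ⟨k, hk, hkN⟩ : ∃ k ∈ σ.ker, k ∉ Subgroup.zpowers (z : Γ) := by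
        by_contra hcon
        push Not at hcon
        exact hEq (le_antisymm hNle hcon)
      have hmem : (QuotientGroup.mk k : Γ ⧸ Subgroup.zpowers (z : Γ)) ∈
          (QuotientGroup.lift (Subgroup.zpowers (z : Γ)) σ hNle).ker := by
        rw [MonoidHom.mem_ker]
        exact hk
      rw [hbot, Subgroup.mem_bot, QuotientGroup.eq_one_iff] at hmem
      exact hkN hmem

/-- A finite group without stem extensions of prime-order kernel has trivial Schur multiplier. -/
theorem hasCyclicSchurMultiplier_one_of_no_pstem {G : Type u} [Group G] [Finite G]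
    (h : ∀ p : ℕ, p.Prime → ∀ (Γ : Type u) [Group Γ] [Finite Γ] (σ : Γ →* G), PStem σ p → False) :
    Cfsg.HasCyclicSchurMultiplier G 1 := by
  have key := stem_ker_eq_bot_aux h
  constructor
  · refine ⟨G, inferInstance, inferInstance, MonoidHom.id G, ⟨Function.surjective_id, ?_, ?_⟩, ?_⟩
    · rw [MonoidHom.ker_id]; exact bot_le
    · rw [MonoidHom.ker_id]; exact bot_le
    · have hsub : Subsingleton (MonoidHom.id G).ker := by
        rw [MonoidHom.ker_id]; infer_instance
      have hsub2 : Subsingleton (Multiplicative (ZMod 1)) := by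
        show Subsingleton (Fin 1); infer_instance
      exact ⟨{ toFun := fun _ => 1
               invFun := fun _ => 1
               left_inv := fun x => Subsingleton.elim _ _
               right_inv := fun x => Subsingleton.elim _ _
               map_mul' := fun x y => Subsingleton.elim _ _ }⟩
  · intro Γ _ _ σ hσ
    have hk := key _ Γ σ rfl hσ
    refine ⟨1, ?_⟩
    intro x
    refine ⟨1, ?_⟩
    have hsub : Subsingleton σ.ker := by
      rw [hk]; infer_instance
    exact Subsingleton.elim _ _

/-- Transfer: a central element of the commutator subgroup, raised to the index of a subgroup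
`H`, lies in the commutator subgroup of `H`. -/
theorem pow_index_mem_comm {Γ : Type*} [Group Γ] (H : Subgroup Γ)
    [H.FiniteIndex] (z : Γ) (hz : z ∈ Subgroup.center Γ) (hz' : z ∈ commutator Γ) :
    ∃ h : z ^ H.index ∈ H, (⟨z ^ H.index, h⟩ : H) ∈ commutator H := by
  have key : ∀ (k : ℕ) (g₀ : Γ), g₀⁻¹ * z ^ k * g₀ ∈ H → g₀⁻¹ * z ^ k * g₀ = z ^ k := by
    intro k g₀ _
    have h1 : g₀ * z ^ k = z ^ k * g₀ := Subgroup.mem_center_iff.mp (pow_mem hz k) g₀
    rw [mul_assoc, ← h1, inv_mul_cancel_left]
  refine ⟨MonoidHom.transfer_eq_pow_aux z key, ?_⟩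
  have h1 := MonoidHom.transfer_eq_pow (Abelianization.of : H →* Abelianization H) z key
  have h2 : MonoidHom.transfer (Abelianization.of : H →* Abelianization H) z = 1 :=
    Abelianization.commutator_subset_ker
      (MonoidHom.transfer (Abelianization.of : H →* Abelianization H)) hz'
  rw [h2] at h1
  rw [← Abelianization.ker_of]
  exact h1.symm

theorem commutatorElement_mul_center_left {Γ : Type*} [Group Γ] (x y c : Γ)
    (hc : c ∈ Subgroup.center Γ) : ⁅x * c, y⁆ = ⁅x, y⁆ := by
  have e : y * c = c * y := Subgroup.mem_center_iff.1 hc y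
  rw [commutatorElement_def, commutatorElement_def, mul_inv_rev]
  calc x * c * y * (c⁻¹ * x⁻¹) * y⁻¹ = x * (c * y) * c⁻¹ * x⁻¹ * y⁻¹ := by group
    _ = x * (y * c) * c⁻¹ * x⁻¹ * y⁻¹ := by rw [e]
    _ = x * y * x⁻¹ * y⁻¹ := by group

theorem commutatorElement_mul_center_right {Γ : Type*} [Group Γ] (x y c : Γ)
    (hc : c ∈ Subgroup.center Γ) : ⁅x, y * c⁆ = ⁅x, y⁆ := by
  have e : x * c = c * x := Subgroup.mem_center_iff.1 hc x
  rw [commutatorElement_def, commutatorElement_def, mul_inv_rev]
  calc x * (y * c) * x⁻¹ * (c⁻¹ * y⁻¹) = x * y * (c * x⁻¹) * c⁻¹ * y⁻¹ := by group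
    _ = x * y * (x⁻¹ * c) * c⁻¹ * y⁻¹ := by
        have e' : c * x⁻¹ = x⁻¹ * c := by
          rw [eq_inv_mul_iff_mul_eq, ← mul_assoc, e, mul_assoc, mul_inv_cancel, mul_one]
        rw [e']
    _ = x * y * x⁻¹ * y⁻¹ := by group

/-- The transfer lemma in the form used below: if `Q ≤ G` has index prime to `p` and `K ≤ Γ`
maps onto (a group containing) `Q`, then the kernel of a stem extension with kernel of order `p`
lies in the commutator subgroup of `K`. -/
theorem ker_le_commutator_of_coprime {Γ G : Type*} [Group Γ] [Group G] [Finite Γ]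
    {σ : Γ →* G} {p : ℕ} (hp : p.Prime) (hσ : PStem σ p) (Q : Subgroup G)
    (hQ : Nat.Coprime Q.index p) (K : Subgroup Γ) (hK : Q ≤ K.map σ) : σ.ker ≤ ⁅K, K⁆ := by
  have hidx : (Q.comap σ).index = Q.index := Subgroup.index_comap_of_surjective Q hσ.surj
  intro z hz
  obtain ⟨h1, h2⟩ := pow_index_mem_comm (Q.comap σ) z (hσ.central hz) (hσ.comm hz)
  have h3 : z ^ (Q.comap σ).index ∈ ⁅Q.comap σ, Q.comap σ⁆ := by
    rw [← Subgroup.map_subtype_commutator]
    exact ⟨⟨z ^ (Q.comap σ).index, h1⟩, h2, rfl⟩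
  have h4 : ⁅Q.comap σ, Q.comap σ⁆ ≤ ⁅K, K⁆ := by
    rw [Subgroup.commutator_le]
    intro x hx y hy
    obtain ⟨w1, hw1, hw1x⟩ := hK hx
    obtain ⟨w2, hw2, hw2y⟩ := hK hy
    have hc1 : w1⁻¹ * x ∈ Subgroup.center Γ := hσ.central (by
      rw [MonoidHom.mem_ker, map_mul, map_inv, hw1x, inv_mul_cancel])
    have hc2 : w2⁻¹ * y ∈ Subgroup.center Γ := hσ.central (by
      rw [MonoidHom.mem_ker, map_mul, map_inv, hw2y, inv_mul_cancel])
    have hx' : x = w1 * (w1⁻¹ * x) := by group
    have hy' : y = w2 * (w2⁻¹ * y) := by group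
    rw [hx', hy', commutatorElement_mul_center_left _ _ _ hc1,
      commutatorElement_mul_center_right _ _ _ hc2]
    exact Subgroup.commutator_mem_commutator hw1 hw2
  have hzp : z ^ p = 1 := by
    have h5 : (⟨z, hz⟩ : σ.ker) ^ Nat.card σ.ker = 1 := pow_card_eq_one'
    rw [hσ.card] at h5
    exact congrArg Subtype.val h5
  have hcop : Nat.Coprime (Q.comap σ).index p := by rw [hidx]; exact hQ
  obtain ⟨m, -, hm⟩ := Nat.exists_mul_mod_eq_one_of_coprime hcop hp.one_lt
  have hz1 : z ^ ((Q.comap σ).index * m) = z := by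
    conv_lhs => rw [← Nat.div_add_mod ((Q.comap σ).index * m) p, pow_add, pow_mul, hzp, one_pow,
      one_mul, hm, pow_one]
  rw [← hz1, pow_mul]
  exact pow_mem (h4 h3) m

/-- Complement criterion: a subgroup `K` mapping onto a group of at least its own order meets
the kernel trivially. -/
theorem inf_ker_eq_bot_of_card_le {Γ G : Type*} [Group Γ] [Group G] [Finite Γ] [Finite G]
    (σ : Γ →* G) (K : Subgroup Γ) (Q : Subgroup G) (hK : Q ≤ K.map σ)
    (hc : Nat.card K ≤ Nat.card Q) : K ⊓ σ.ker = ⊥ := by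
  have hsurj : Function.Surjective (fun x : K => (⟨σ x, Subgroup.mem_map_of_mem σ x.2⟩ : K.map σ)) := by
    rintro ⟨y, x, hx, rfl⟩
    exact ⟨⟨x, hx⟩, rfl⟩
  have hle : Nat.card K ≤ Nat.card (K.map σ) := hc.trans (Subgroup.card_le_of_le hK)
  have hbij := hsurj.bijective_of_nat_card_le hle
  rw [eq_bot_iff]
  intro x hx
  obtain ⟨hxK, hxk⟩ := Subgroup.mem_inf.1 hx
  have h1 : (⟨x, hxK⟩ : K) = 1 := by
    apply hbij.1
    apply Subtype.ext
    show σ x = σ 1
    rw [map_one]
    exact hxk
  rw [Subgroup.mem_bot]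
  exact congrArg Subtype.val h1

/-- The final contradiction: a subgroup of the extension, of order at most that of a subgroup
`Q` of index prime to `p` in its image, cannot exist. -/
theorem pstem_false_of_complement {Γ G : Type*} [Group Γ] [Group G] [Finite Γ] [Finite G]
    {σ : Γ →* G} {p : ℕ} (hp : p.Prime) (hσ : PStem σ p) (Q : Subgroup G)
    (hQ : Nat.Coprime Q.index p) (K : Subgroup Γ) (hK : Q ≤ K.map σ)
    (hc : Nat.card K ≤ Nat.card Q) : False := by
  have h1 := ker_le_commutator_of_coprime hp hσ Q hQ K hK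
  have h2 := inf_ker_eq_bot_of_card_le σ K Q hK hc
  have h0 : ⁅K, K⁆ ≤ K := by
    rw [Subgroup.commutator_le]
    intro x hx y hy
    rw [commutatorElement_def]
    exact K.mul_mem (K.mul_mem (K.mul_mem hx hy) (K.inv_mem hx)) (K.inv_mem hy)
  have h3 : σ.ker ≤ K ⊓ σ.ker := le_inf (h1.trans h0) le_rfl
  rw [h2, le_bot_iff] at h3
  have h4 := hσ.card
  rw [h3, Subgroup.card_bot] at h4
  exact hp.one_lt.ne h4

/-- The final contradiction, abelian case. -/
theorem pstem_false_of_abelian {Γ G : Type*} [Group Γ] [Group G] [Finite Γ]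
    {σ : Γ →* G} {p : ℕ} (hp : p.Prime) (hσ : PStem σ p) (Q : Subgroup G)
    (hQ : Nat.Coprime Q.index p) (K : Subgroup Γ) (hK : Q ≤ K.map σ)
    (hab : ∀ x ∈ K, ∀ y ∈ K, x * y = y * x) : False := by
  have h1 := ker_le_commutator_of_coprime hp hσ Q hQ K hK
  have h2 : ⁅K, K⁆ = ⊥ := by
    rw [eq_bot_iff, Subgroup.commutator_le]
    intro x hx y hy
    rw [Subgroup.mem_bot, commutatorElement_eq_one_iff_mul_comm]
    exact hab x hx y hy
  rw [h2, le_bot_iff] at h1
  have h4 := hσ.card
  rw [h1, Subgroup.card_bot] at h4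
  exact hp.one_lt.ne h4

end Cfsg.Agent.Lib.helper33
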