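/-
Order bounds for groups with a polycyclic generating sequence, and the case of cyclic Sylow
subgroups for stem extensions with kernel of prime order.  (owner: helper33)
-/
import Mathlib
import Cfsg.Agent.Lib.helper33.SchurBase

set_option autoImplicit false

universe u

namespace Cfsg.Agent.Lib.helper33

open scoped commutatorElement

section pc

variable {X : Type*} [Group X]

/-- If conjugation by `y` maps the generators of a subgroup into the subgroup, it maps the
subgroup into itself. -/
theorem conj_mem_closure {S : Set X} {M : Subgroup X} (hM : Subgroup.closure S ≤ M) (y : X)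
    (h : ∀ s ∈ S, y * s * y⁻¹ ∈ M) : ∀ n ∈ Subgroup.closure S, y * n * y⁻¹ ∈ M := by
  intro n hn
  induction hn using Subgroup.closure_induction with
  | mem x hx => exact h x hx
  | one => simp
  | mul a b _ _ ha hb =>
    have : y * (a * b) * y⁻¹ = (y * a * y⁻¹) * (y * b * y⁻¹) := by group
    rw [this]; exact M.mul_mem ha hb
  | inv a _ ha =>
    have : y * a⁻¹ * y⁻¹ = (y * a * y⁻¹)⁻¹ := by group
    rw [this]; exact M.inv_mem ha

/-- One step of a polycyclic series: adjoining an element `y` normalising `N` with `y ^ m ∈ N`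
multiplies the order by at most `m`. -/
theorem card_sup_zpowers_le [Finite X] (N : Subgroup X) (y : X) (m : ℕ) (hm : 0 < m)
    (hy : y ^ m ∈ N) (hN : ∀ n ∈ N, y * n * y⁻¹ ∈ N) :
    Nat.card ↥(N ⊔ Subgroup.zpowers y) ≤ m * Nat.card N := by
  classical
  -- conjugation by `y⁻¹` also preserves `N`
  have hinj : Function.Injective (fun n : N => (⟨y * n * y⁻¹, hN n n.2⟩ : N)) := by
    intro a b hab
    have h1 : y * (a : X) * y⁻¹ = y * (b : X) * y⁻¹ := congrArg Subtype.val hab
    apply Subtype.ext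
    have h2 : (a : X) = y⁻¹ * (y * (a : X) * y⁻¹) * y := by group
    rw [h2, h1]; group
  have hsurj := Finite.injective_iff_surjective.1 hinj
  have hN' : ∀ n ∈ N, y⁻¹ * n * y ∈ N := by
    intro n hn
    obtain ⟨a, ha⟩ := hsurj ⟨n, hn⟩
    have h1 : y * (a : X) * y⁻¹ = n := congrArg Subtype.val ha
    have h2 : y⁻¹ * n * y = a := by rw [← h1]; group
    rw [h2]; exact a.2
  have hpow : ∀ (i : ℕ), ∀ n ∈ N, (y ^ i)⁻¹ * n * y ^ i ∈ N := by
    intro i
    induction i with
    | zero => intro n hn; simpa using hn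
    | succ i ih =>
      intro n hn
      have h1 : (y ^ (i + 1))⁻¹ * n * y ^ (i + 1) = y⁻¹ * ((y ^ i)⁻¹ * n * y ^ i) * y := by
        rw [pow_succ]; group
      rw [h1]; exact hN' _ (ih n hn)
  -- the set of normal forms
  let T : Set X := {x | ∃ i < m, ∃ n ∈ N, x = y ^ i * n}
  have hTN : ∀ g ∈ N, ∀ t ∈ T, g * t ∈ T := by
    rintro g hg t ⟨i, hi, n, hn, rfl⟩
    refine ⟨i, hi, (y ^ i)⁻¹ * g * y ^ i * n, N.mul_mem (hpow i g hg) hn, ?_⟩
    group
  have hTy : ∀ t ∈ T, y * t ∈ T := by
    rintro t ⟨i, hi, n, hn, rfl⟩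
    by_cases h : i + 1 < m
    · exact ⟨i + 1, h, n, hn, by rw [pow_succ']; group⟩
    · have him : i + 1 = m := by omega
      refine ⟨0, hm, y ^ m * n, N.mul_mem hy hn, ?_⟩
      rw [← him, pow_succ']; group
  have hTy' : ∀ t ∈ T, y⁻¹ * t ∈ T := by
    rintro t ⟨i, hi, n, hn, rfl⟩
    rcases Nat.eq_zero_or_pos i with h0 | hpos
    · subst h0
      refine ⟨m - 1, by omega, (y ^ m)⁻¹ * n, N.mul_mem (N.inv_mem hy) hn, ?_⟩
      have hm1 : y ^ m = y ^ (m - 1) * y := by
        rw [← pow_succ]; congr 1; omega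
      rw [hm1]; group
    · refine ⟨i - 1, by omega, n, hn, ?_⟩
      have hi1 : y ^ i = y * y ^ (i - 1) := by
        rw [← pow_succ']; congr 1; omega
      rw [hi1]; group
  have hsub : ∀ x ∈ N ⊔ Subgroup.zpowers y, (∀ t ∈ T, x * t ∈ T) ∧ (∀ t ∈ T, x⁻¹ * t ∈ T) := by
    intro x hx
    have hcl : N ⊔ Subgroup.zpowers y = Subgroup.closure ((N : Set X) ∪ {y}) := by
      rw [Subgroup.closure_union, Subgroup.closure_eq, Subgroup.zpowers_eq_closure]
    rw [hcl] at hx
    induction hx using Subgroup.closure_induction with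
    | mem g hg =>
      rcases hg with hg | hg
      · exact ⟨hTN g hg, hTN g⁻¹ (N.inv_mem hg)⟩
      · rw [Set.mem_singleton_iff] at hg
        subst hg
        exact ⟨hTy, hTy'⟩
    | one => exact ⟨fun t ht => by simpa using ht, fun t ht => by simpa using ht⟩
    | mul a b _ _ ha hb =>
      refine ⟨fun t ht => ?_, fun t ht => ?_⟩
      · rw [mul_assoc]; exact ha.1 _ (hb.1 t ht)
      · rw [mul_inv_rev, mul_assoc]; exact hb.2 _ (ha.2 t ht)
    | inv a _ ha => exact ⟨ha.2, fun t ht => by rw [inv_inv]; exact ha.1 t ht⟩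
  have h1T : (1 : X) ∈ T := ⟨0, hm, 1, N.one_mem, by simp⟩
  have hmem : ∀ x : ↥(N ⊔ Subgroup.zpowers y), ∃ q : Fin m × N, (x : X) = y ^ (q.1 : ℕ) * (q.2 : X) := by
    intro x
    have h2 := (hsub x x.2).1 1 h1T
    rw [mul_one] at h2
    obtain ⟨i, hi, n, hn, hx⟩ := h2
    exact ⟨(⟨i, hi⟩, ⟨n, hn⟩), hx⟩
  choose f hf using hmem
  have hfinj : Function.Injective f := by
    intro a b hab
    apply Subtype.ext
    rw [hf a, hf b, hab]
  have h3 := Nat.card_le_card_of_injective f hfinj
  rw [Nat.card_prod, Nat.card_fin] at h3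
  exact h3

/-- A polycyclic generating sequence over a base subgroup `N`, all exponents being `m`. -/
def PCList (m : ℕ) (N : Subgroup X) : List X → Prop
  | [] => True
  | y :: l => y ^ m ∈ N ⊔ Subgroup.closure {x | x ∈ l} ∧
      (∀ n ∈ N, y * n * y⁻¹ ∈ N ⊔ Subgroup.closure {x | x ∈ l}) ∧
      (∀ x ∈ l, y * x * y⁻¹ ∈ N ⊔ Subgroup.closure {x | x ∈ l}) ∧ PCList m N l

theorem card_pcList_le [Finite X] (m : ℕ) (hm : 0 < m) (N : Subgroup X) :
    ∀ l : List X, PCList m N l →
      Nat.card ↥(N ⊔ Subgroup.closure {x | x ∈ l}) ≤ m ^ l.length * Nat.card N := by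
  intro l
  induction l with
  | nil =>
    intro _
    have : ({x | x ∈ ([] : List X)} : Set X) = ∅ := by ext; simp
    rw [this, Subgroup.closure_empty, sup_bot_eq]
    simp
  | cons y l ih =>
    intro h
    obtain ⟨h1, h2, h3, h4⟩ := h
    have hset : ({x | x ∈ y :: l} : Set X) = {x | x ∈ l} ∪ {y} := by
      ext x; simp [or_comm]
    have hsup : N ⊔ Subgroup.closure {x | x ∈ y :: l} =
        (N ⊔ Subgroup.closure {x | x ∈ l}) ⊔ Subgroup.zpowers y := by
      rw [hset, Subgroup.closure_union, ← Subgroup.zpowers_eq_closure, sup_assoc]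
    have hconj : ∀ n ∈ N ⊔ Subgroup.closure {x | x ∈ l},
        y * n * y⁻¹ ∈ N ⊔ Subgroup.closure {x | x ∈ l} := by
      have hcl : N ⊔ Subgroup.closure {x | x ∈ l} =
          Subgroup.closure ((N : Set X) ∪ {x | x ∈ l}) := by
        rw [Subgroup.closure_union, Subgroup.closure_eq]
      intro n hn
      rw [hcl] at hn
      refine conj_mem_closure (le_of_eq hcl.symm) y ?_ n hn
      rintro s (hs | hs)
      · exact h2 s hs
      · exact h3 s hs
    have h5 := card_sup_zpowers_le (N ⊔ Subgroup.closure {x | x ∈ l}) y m hm h1 hconj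
    rw [hsup]
    calc Nat.card ↥((N ⊔ Subgroup.closure {x | x ∈ l}) ⊔ Subgroup.zpowers y)
        ≤ m * Nat.card ↥(N ⊔ Subgroup.closure {x | x ∈ l}) := h5
      _ ≤ m * (m ^ l.length * Nat.card N) := Nat.mul_le_mul_left m (ih h4)
      _ = m ^ (y :: l).length * Nat.card N := by rw [List.length_cons, pow_succ]; ring

/-- Pairwise commuting elements of order dividing `m` generate a group of order at most
`m ^ length`. -/
theorem card_closure_comm_le [Finite X] (m : ℕ) (hm : 0 < m) (l : List X)
    (hpow : ∀ x ∈ l, x ^ m = 1) (hcomm : ∀ x ∈ l, ∀ y ∈ l, x * y = y * x) :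
    Nat.card ↥(Subgroup.closure {x | x ∈ l}) ≤ m ^ l.length := by
  have key : ∀ l' : List X, (∀ x ∈ l', x ^ m = 1) → (∀ x ∈ l', ∀ y ∈ l', x * y = y * x) →
      PCList m ⊥ l' := by
    intro l'
    induction l' with
    | nil => intro _ _; trivial
    | cons y l' ih =>
      intro hp hc
      refine ⟨?_, ?_, ?_, ih (fun x hx => hp x (List.mem_cons_of_mem _ hx))
        (fun x hx z hz => hc x (List.mem_cons_of_mem _ hx) z (List.mem_cons_of_mem _ hz))⟩
      · rw [hp y List.mem_cons_self]; exact one_mem _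
      · intro n hn
        rw [Subgroup.mem_bot] at hn
        subst hn
        simp
      · intro x hx
        have : y * x * y⁻¹ = x := by
          rw [hc y List.mem_cons_self x (List.mem_cons_of_mem _ hx), mul_inv_cancel_right]
        rw [this]
        exact Subgroup.mem_sup_right (Subgroup.subset_closure hx)
  have h := card_pcList_le m hm ⊥ l (key l hpow hcomm)
  rw [bot_sup_eq, Subgroup.card_bot, mul_one] at h
  exact h

end pc

/-- If the Sylow `p`-subgroups of `G` have order at most `p`, then `G` has no stem extension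
with kernel of order `p`. -/
theorem pstem_false_of_sq_not_dvd {Γ G : Type*} [Group Γ] [Group G] [Finite Γ] [Finite G]
    {σ : Γ →* G} {p : ℕ} (hp : p.Prime) (hσ : PStem σ p) (hsq : ¬ p ^ 2 ∣ Nat.card G) : False := by
  haveI := Fact.mk hp
  obtain ⟨P⟩ : Nonempty (Sylow p G) := inferInstance
  have hcop : Nat.Coprime (P : Subgroup G).index p := by
    rw [Nat.coprime_comm, hp.coprime_iff_not_dvd]
    exact P.not_dvd_index
  -- the Sylow subgroup is cyclic
  have hcyc : IsCyclic (P : Subgroup G) := by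
    obtain ⟨n, hn⟩ := (P.isPGroup').exists_card_eq
    have hle : n ≤ 1 := by
      by_contra hcon
      push Not at hcon
      apply hsq
      have h1 : p ^ 2 ∣ p ^ n := pow_dvd_pow p hcon
      have h2 : p ^ n ∣ Nat.card G := by rw [← hn]; exact Subgroup.card_subgroup_dvd_card _
      exact h1.trans h2
    interval_cases n
    · rw [pow_zero] at hn
      haveI : Subsingleton (P : Subgroup G) := (Nat.card_eq_one_iff_unique.1 hn).1
      infer_instance
    · rw [pow_one] at hn
      exact isCyclic_of_prime_card hn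
  refine pstem_false_of_abelian hp hσ (P : Subgroup G) hcop ((P : Subgroup G).comap σ) ?_ ?_
  · intro x hx
    obtain ⟨y, rfl⟩ := hσ.surj x
    exact ⟨y, hx, rfl⟩
  · intro x hx y hy
    have hk : (σ.subgroupComap (P : Subgroup G)).ker ≤ Subgroup.center ((P : Subgroup G).comap σ) := by
      intro a ha
      rw [Subgroup.mem_center_iff]
      intro b
      have ha' : (a : Γ) ∈ σ.ker := by
        rw [MonoidHom.mem_ker] at ha ⊢
        exact congrArg Subtype.val ha
      have := Subgroup.mem_center_iff.1 (hσ.central ha') (b : Γ)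
      exact Subtype.ext this
    have := commutative_of_cyclic_center_quotient (σ.subgroupComap (P : Subgroup G)) hk
      ⟨x, hx⟩ ⟨y, hy⟩
    exact congrArg Subtype.val this

end Cfsg.Agent.Lib.helper33
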