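/-
Stem extensions with kernel of order 2: lifts of involutions, the parity identity for the seven
involutions of an elementary abelian subgroup of order 8, and consequences.  (owner: helper33)
-/
import Mathlib
import Cfsg.Agent.Lib.helper33.SchurPC

set_option autoImplicit false

namespace Cfsg.Agent.Lib.helper33

open scoped commutatorElement

section general

variable {X : Type*} [Group X]

theorem inv_eq_self_of_sq {a : X} (h : a * a = 1) : a⁻¹ = a := inv_eq_of_mul_eq_one_left h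

theorem comm_of_sq {a b : X} (ha : a * a = 1) (hb : b * b = 1) (hab : (a * b) * (a * b) = 1) :
    a * b = b * a := by
  have h1 : a * b = (a * b)⁻¹ := (inv_eq_of_mul_eq_one_left hab).symm
  rw [mul_inv_rev, inv_eq_self_of_sq ha, inv_eq_self_of_sq hb] at h1
  exact h1

/-- `(r s)^2 = [r,s] r^2 s^2` when `r^2` is central. -/
theorem sq_mul_of_central (r s : X) (hr : r * r ∈ Subgroup.center X) :
    (r * s) * (r * s) = ⁅r, s⁆ * (r * r) * (s * s) := by
  have h1 : r * s = ⁅r, s⁆ * (s * r) := by rw [commutatorElement_def]; group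
  have h2 : s * (r * r) = (r * r) * s := Subgroup.mem_center_iff.1 hr s
  calc r * s * (r * s) = ⁅r, s⁆ * (s * r) * (r * s) := by rw [← h1]
    _ = ⁅r, s⁆ * (s * (r * r)) * s := by group
    _ = ⁅r, s⁆ * ((r * r) * s) * s := by rw [h2]
    _ = ⁅r, s⁆ * (r * r) * (s * s) := by group

/-- `[x y, z] = [x, z] [y, z]` when `[y, z]` is central. -/
theorem commutator_mul_left_of_central (x y z : X) (h : ⁅y, z⁆ ∈ Subgroup.center X) :
    ⁅x * y, z⁆ = ⁅x, z⁆ * ⁅y, z⁆ := by
  have h1 : x * ⁅y, z⁆ = ⁅y, z⁆ * x := Subgroup.mem_center_iff.1 h x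
  have h2 : ⁅x, z⁆ * ⁅y, z⁆ = ⁅y, z⁆ * ⁅x, z⁆ := Subgroup.mem_center_iff.1 h _
  rw [h2]
  calc ⁅x * y, z⁆ = x * ⁅y, z⁆ * (z * x⁻¹ * z⁻¹) := by
        rw [commutatorElement_def, commutatorElement_def]; group
    _ = ⁅y, z⁆ * x * (z * x⁻¹ * z⁻¹) := by rw [h1]
    _ = ⁅y, z⁆ * ⁅x, z⁆ := by rw [commutatorElement_def x z]; group

/-- The parity identity: in a group where the squares and commutators of `r, s, t` are central
of order at most 2, the product of the squares of the seven products is trivial. -/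
theorem seven_squares (r s t : X) (Z : Subgroup X) (hZ : Z ≤ Subgroup.center X)
    (hZ2 : ∀ ζ ∈ Z, ζ * ζ = 1)
    (hrs : ⁅r, s⁆ ∈ Z) (hrt : ⁅r, t⁆ ∈ Z) (hst : ⁅s, t⁆ ∈ Z)
    (hr : r * r ∈ Z) (hs : s * s ∈ Z) (ht : t * t ∈ Z) :
    (r * r) * (s * s) * (t * t) * ((r * s) * (r * s)) * ((r * t) * (r * t)) *
      ((s * t) * (s * t)) * ((r * s * t) * (r * s * t)) = 1 := by
  have e1 : (r * s) * (r * s) = ⁅r, s⁆ * (r * r) * (s * s) := sq_mul_of_central r s (hZ hr)
  have e2 : (r * t) * (r * t) = ⁅r, t⁆ * (r * r) * (t * t) := sq_mul_of_central r t (hZ hr)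
  have e3 : (s * t) * (s * t) = ⁅s, t⁆ * (s * s) * (t * t) := sq_mul_of_central s t (hZ hs)
  have hrs2 : (r * s) * (r * s) ∈ Z := by
    rw [e1]; exact Z.mul_mem (Z.mul_mem hrs hr) hs
  have e4 : (r * s * t) * (r * s * t) = ⁅r * s, t⁆ * ((r * s) * (r * s)) * (t * t) :=
    sq_mul_of_central (r * s) t (hZ hrs2)
  have e5 : ⁅r * s, t⁆ = ⁅r, t⁆ * ⁅s, t⁆ := commutator_mul_left_of_central r s t (hZ hst)
  rw [e4, e5, e1, e2, e3]
  -- now a computation in the commutative subgroup `Z`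
  let A : Subgroup.center X := ⟨⁅r, s⁆, hZ hrs⟩
  let B : Subgroup.center X := ⟨⁅r, t⁆, hZ hrt⟩
  let C : Subgroup.center X := ⟨⁅s, t⁆, hZ hst⟩
  let R : Subgroup.center X := ⟨r * r, hZ hr⟩
  let S : Subgroup.center X := ⟨s * s, hZ hs⟩
  let T : Subgroup.center X := ⟨t * t, hZ ht⟩
  have hA : A * A = 1 := Subtype.ext (hZ2 _ hrs)
  have hB : B * B = 1 := Subtype.ext (hZ2 _ hrt)
  have hC : C * C = 1 := Subtype.ext (hZ2 _ hst)
  have hR : R * R = 1 := Subtype.ext (hZ2 _ hr)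
  have hS : S * S = 1 := Subtype.ext (hZ2 _ hs)
  have hT : T * T = 1 := Subtype.ext (hZ2 _ ht)
  have key : R * S * T * (A * R * S) * (B * R * T) * (C * S * T) * (B * C * (A * R * S) * T) = 1 := by
    have : R * S * T * (A * R * S) * (B * R * T) * (C * S * T) * (B * C * (A * R * S) * T)
        = (A * A) * (B * B) * (C * C) * ((R * R) * (R * R)) * ((S * S) * (S * S)) *
          ((T * T) * (T * T)) := by ac_rfl
    rw [this, hA, hB, hC, hR, hS, hT]; simp
  exact congrArg Subtype.val key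

end general

section two

variable {Γ G : Type*} [Group Γ] [Group G] {σ : Γ →* G}

theorem PStem.pow_eq_one {p : ℕ} [Finite Γ] (hσ : PStem σ p) {z : Γ} (hz : z ∈ σ.ker) :
    z ^ p = 1 := by
  have h5 : (⟨z, hz⟩ : σ.ker) ^ Nat.card σ.ker = 1 := pow_card_eq_one'
  rw [hσ.card] at h5
  exact congrArg Subtype.val h5

theorem PStem.sq_eq_one [Finite Γ] (hσ : PStem σ 2) {z : Γ} (hz : z ∈ σ.ker) : z * z = 1 := by
  rw [← pow_two]; exact hσ.pow_eq_one hz

/-- In a kernel of order two, the non-trivial elements coincide. -/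
theorem PStem.eq_of_ne_one (hσ : PStem σ 2) {a b : Γ} (ha : a ∈ σ.ker) (hb : b ∈ σ.ker)
    (ha1 : a ≠ 1) (hb1 : b ≠ 1) : a = b := by
  obtain ⟨y, -, hy⟩ := (Nat.card_eq_two_iff' (1 : σ.ker)).1 hσ.card
  have h1 : (⟨a, ha⟩ : σ.ker) = y := hy _ (fun h => ha1 (congrArg Subtype.val h))
  have h2 : (⟨b, hb⟩ : σ.ker) = y := hy _ (fun h => hb1 (congrArg Subtype.val h))
  exact congrArg Subtype.val (h1.trans h2.symm)

/-- Every lift of `t` squares to one. -/
def Plus (σ : Γ →* G) (t : G) : Prop := ∀ x : Γ, σ x = t → x * x = 1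

/-- All lifts of elements of order at most two square to one. -/
def CaseB (σ : Γ →* G) : Prop := ∀ x : Γ, σ x * σ x = 1 → x * x = 1

theorem Plus.conj (hs : Function.Surjective σ) {t : G} (h : Plus σ t) (g : G) :
    Plus σ (g * t * g⁻¹) := by
  intro x hx
  obtain ⟨g', rfl⟩ := hs g
  have h1 : σ (g'⁻¹ * x * g') = t := by
    rw [map_mul, map_mul, map_inv, hx]; group
  have h2 := h _ h1
  have h3 : x * x = g' * ((g'⁻¹ * x * g') * (g'⁻¹ * x * g')) * g'⁻¹ := by group
  rw [h3, h2]; group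

theorem plus_of_lift [Finite Γ] (hσ : PStem σ 2) {t : G} {x₀ : Γ} (h0 : σ x₀ = t)
    (h1 : x₀ * x₀ = 1) : Plus σ t := by
  intro x hx
  have hk : x₀⁻¹ * x ∈ σ.ker := by
    rw [MonoidHom.mem_ker, map_mul, map_inv, h0, hx, inv_mul_cancel]
  have hc := hσ.central hk
  have h2 := hσ.sq_eq_one hk
  have h3 : x₀ * (x₀⁻¹ * x) = (x₀⁻¹ * x) * x₀ := Subgroup.mem_center_iff.1 hc x₀
  calc x * x = (x₀ * (x₀⁻¹ * x)) * (x₀ * (x₀⁻¹ * x)) := by group
    _ = (x₀ * (x₀⁻¹ * x)) * ((x₀⁻¹ * x) * x₀) := by rw [← h3]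
    _ = x₀ * ((x₀⁻¹ * x) * (x₀⁻¹ * x)) * x₀ := by group
    _ = 1 := by rw [h2, mul_one, h1]

/-- Dichotomy: either all lifts of `t` square to one, or none does. -/
theorem plus_or_minus [Finite Γ] (hσ : PStem σ 2) (t : G) :
    Plus σ t ∨ ∀ x : Γ, σ x = t → x * x ≠ 1 := by
  by_cases h : ∃ x₀ : Γ, σ x₀ = t ∧ x₀ * x₀ = 1
  · obtain ⟨x₀, h0, h1⟩ := h
    exact Or.inl (plus_of_lift hσ h0 h1)
  · push Not at h
    exact Or.inr h

theorem lift_comm (hB : CaseB σ) (a b : Γ) (ha : σ a * σ a = 1) (hb : σ b * σ b = 1)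
    (hab : σ a * σ b = σ b * σ a) : a * b = b * a := by
  refine comm_of_sq (hB a ha) (hB b hb) (hB (a * b) ?_)
  rw [map_mul]
  calc σ a * σ b * (σ a * σ b) = σ a * (σ b * σ a) * σ b := by group
    _ = σ a * (σ a * σ b) * σ b := by rw [hab]
    _ = (σ a * σ a) * (σ b * σ b) := by group
    _ = 1 := by rw [ha, hb, mul_one]

/-- The parity argument: if `r, s, t` are commuting involutions of `G` whose seven products
have the same sign, the sign is `+`. Stated with explicit lifts. -/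
theorem seven_lifts [Finite Γ] (hσ : PStem σ 2) (r s t : Γ)
    (hr : σ r * σ r = 1) (hs : σ s * σ s = 1) (ht : σ t * σ t = 1)
    (hrs : σ r * σ s = σ s * σ r) (hrt : σ r * σ t = σ t * σ r) (hst : σ s * σ t = σ t * σ s) :
    (r * r) * (s * s) * (t * t) * ((r * s) * (r * s)) * ((r * t) * (r * t)) *
      ((s * t) * (s * t)) * ((r * s * t) * (r * s * t)) = 1 := by
  refine seven_squares r s t σ.ker hσ.central (fun ζ hζ => hσ.sq_eq_one hζ) ?_ ?_ ?_ ?_ ?_ ?_
  · rw [MonoidHom.mem_ker, map_commutatorElement, commutatorElement_eq_one_iff_mul_comm]; exact hrs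
  · rw [MonoidHom.mem_ker, map_commutatorElement, commutatorElement_eq_one_iff_mul_comm]; exact hrt
  · rw [MonoidHom.mem_ker, map_commutatorElement, commutatorElement_eq_one_iff_mul_comm]; exact hst
  · rw [MonoidHom.mem_ker, map_mul]; exact hr
  · rw [MonoidHom.mem_ker, map_mul]; exact hs
  · rw [MonoidHom.mem_ker, map_mul]; exact ht

end two

end Cfsg.Agent.Lib.helper33
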