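/-
Stem extensions with small kernels: quotients by central cyclic subgroups of the kernel, the
reduction of "the multiplier has order at most two" to kernels of prime order and of order four,
the exclusion of kernels of order four by a four-group of "minus" involutions, and a lemma on
elements of order eight.  (owner: helper33)
-/
import Mathlib
import Cfsg.Prelude.Def_KGroupFacts
import Cfsg.Agent.Lib.helper33.SchurBase
import Cfsg.Agent.Lib.helper33.SchurTwo

set_option autoImplicit false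

universe u

namespace Cfsg.Agent.Lib.helper33

open scoped commutatorElement

/-- The quotient of a stem extension by a cyclic subgroup of its kernel, with the projection. -/
theorem stem_quot {Γ : Type u} {G : Type*} [Group Γ] [Group G] [Finite Γ] (σ : Γ →* G)
    (hσ : Cfsg.IsStemExtension σ) (z : Γ) (hz : z ∈ σ.ker) :
    ∃ (Γ' : Type u) (_ : Group Γ') (_ : Finite Γ') (σ' : Γ' →* G) (π : Γ →* Γ'),
      Function.Surjective π ∧ (∀ x, σ' (π x) = σ x) ∧ π.ker = Subgroup.zpowers z ∧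
      Cfsg.IsStemExtension σ' ∧ Nat.card σ'.ker * orderOf z = Nat.card σ.ker ∧
      Nat.card Γ' * orderOf z = Nat.card Γ := by
  obtain ⟨hsurj, hcen, hcom⟩ := hσ
  have hNle : Subgroup.zpowers z ≤ σ.ker := by
    rw [Subgroup.zpowers_le]; exact hz
  have hnorm : (Subgroup.zpowers z).Normal := by
    constructor
    intro x hx g
    have hxc : x ∈ Subgroup.center Γ := hcen (hNle hx)
    have : g * x * g⁻¹ = x := by
      rw [Subgroup.mem_center_iff] at hxc
      rw [hxc g, mul_inv_cancel_right]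
    rw [this]; exact hx
  refine ⟨Γ ⧸ Subgroup.zpowers z, inferInstance, inferInstance,
    QuotientGroup.lift (Subgroup.zpowers z) σ hNle, QuotientGroup.mk' (Subgroup.zpowers z),
    QuotientGroup.mk'_surjective _, fun x => rfl, QuotientGroup.ker_mk' _, ⟨?_, ?_, ?_⟩, ?_, ?_⟩
  · intro g
    obtain ⟨x, rfl⟩ := hsurj g
    exact ⟨QuotientGroup.mk x, rfl⟩
  · intro q hq
    obtain ⟨x, rfl⟩ := QuotientGroup.mk_surjective q
    have hx : x ∈ σ.ker := by
      rw [MonoidHom.mem_ker] at hq ⊢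
      exact hq
    have hxc := hcen hx
    rw [Subgroup.mem_center_iff] at hxc ⊢
    intro y
    obtain ⟨y', rfl⟩ := QuotientGroup.mk_surjective y
    rw [← QuotientGroup.mk_mul, ← QuotientGroup.mk_mul, hxc y']
  · intro q hq
    obtain ⟨x, rfl⟩ := QuotientGroup.mk_surjective q
    have hx : x ∈ σ.ker := by
      rw [MonoidHom.mem_ker] at hq ⊢
      exact hq
    have hxc : x ∈ commutator Γ := hcom hx
    have h1 : (QuotientGroup.mk' (Subgroup.zpowers z)) x ∈
        (commutator Γ).map (QuotientGroup.mk' (Subgroup.zpowers z)) :=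
      Subgroup.mem_map_of_mem _ hxc
    rw [commutator_def, Subgroup.map_commutator] at h1
    rw [commutator_def]
    exact Subgroup.commutator_mono le_top le_top h1
  · have key : ∀ {A : Type u} [Group A] [Finite A] (f : A →* G), Function.Surjective f →
        Nat.card f.ker * Nat.card G = Nat.card A := by
      intro A _ _ f hf
      have h1 := Subgroup.card_mul_index f.ker
      rw [Subgroup.index_ker, MonoidHom.range_eq_top.2 hf, Subgroup.card_top] at h1
      exact h1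
    have hsurj' : Function.Surjective (QuotientGroup.lift (Subgroup.zpowers z) σ hNle) := by
      intro g
      obtain ⟨x, rfl⟩ := hsurj g
      exact ⟨QuotientGroup.mk x, rfl⟩
    have h1 := key σ hsurj
    have h2 := key (QuotientGroup.lift (Subgroup.zpowers z) σ hNle) hsurj'
    have h3 := Subgroup.card_eq_card_quotient_mul_card_subgroup (Subgroup.zpowers z)
    rw [Nat.card_zpowers] at h3
    have : Finite G := Finite.of_surjective σ hsurj
    have hG : 0 < Nat.card G := Nat.card_pos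
    have h4 : Nat.card (QuotientGroup.lift (Subgroup.zpowers z) σ hNle).ker * orderOf z *
        Nat.card G = Nat.card σ.ker * Nat.card G := by
      rw [h1, h3, ← h2]; ring
    exact Nat.eq_of_mul_eq_mul_right hG h4
  · have h := Subgroup.card_eq_card_quotient_mul_card_subgroup (Subgroup.zpowers z)
    rw [Nat.card_zpowers] at h
    exact h.symm

/-- If there are no stem extensions with kernel of odd prime order nor of order four, every
finite stem extension has kernel of order at most two. -/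
theorem card_ker_le_two_aux {G : Type u} [Group G]
    (h1 : ∀ p : ℕ, p.Prime → p ≠ 2 → ∀ (Γ : Type u) [Group Γ] [Finite Γ] (σ : Γ →* G),
      PStem σ p → False)
    (h4 : ∀ (Γ : Type u) [Group Γ] [Finite Γ] (σ : Γ →* G), Cfsg.IsStemExtension σ →
      Nat.card σ.ker = 4 → False) :
    ∀ n : ℕ, ∀ (Γ : Type u) [Group Γ] [Finite Γ] (σ : Γ →* G), Nat.card Γ = n →
      Cfsg.IsStemExtension σ → Nat.card σ.ker ≤ 2 := by
  intro n
  induction n using Nat.strong_induction_on with
  | _ n ih =>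
    intro Γ _ _ σ hn hσ
    by_contra hgt
    push Not at hgt
    have hcard : Nat.card σ.ker ≠ 1 := by omega
    obtain ⟨p, hp, hpd⟩ := Nat.exists_prime_and_dvd hcard
    have := Fact.mk hp
    obtain ⟨z, hz⟩ := exists_prime_orderOf_dvd_card' p hpd
    obtain ⟨Γ', _, _, σ', π, -, -, -, hst, hk, hc⟩ := stem_quot σ hσ (z : Γ) z.2
    rw [Subgroup.orderOf_coe, hz] at hk hc
    have hp2 := hp.two_le
    have hpos : 0 < Nat.card Γ' := Nat.card_pos
    have hlt : Nat.card Γ' < n := by rw [← hn, ← hc]; nlinarith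
    have hle := ih _ hlt Γ' σ' rfl hst
    have hpos' : 0 < Nat.card σ'.ker := Nat.card_pos
    rcases (by omega : Nat.card σ'.ker = 1 ∨ Nat.card σ'.ker = 2) with h | h
    · rw [h, one_mul] at hk
      by_cases hp' : p = 2
      · omega
      · exact h1 p hp hp' Γ σ ⟨hσ.1, hσ.2.1, hσ.2.2, hk.symm⟩
    · rw [h] at hk
      by_cases hp' : p = 2
      · subst hp'
        exact h4 Γ σ hσ hk.symm
      · have h2d : 2 ∣ Nat.card σ.ker := by rw [← hk]; exact dvd_mul_right 2 p
        have := Fact.mk Nat.prime_two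
        obtain ⟨z2, hz2⟩ := exists_prime_orderOf_dvd_card' 2 h2d
        obtain ⟨Γ'', _, _, σ'', π', -, -, -, hst', hk', -⟩ := stem_quot σ hσ (z2 : Γ) z2.2
        rw [Subgroup.orderOf_coe, hz2] at hk'
        have hkp : Nat.card σ''.ker = p := by omega
        exact h1 p hp hp' Γ'' σ'' ⟨hst'.1, hst'.2.1, hst'.2.2, hkp⟩

theorem card_ker_le_two {G : Type u} [Group G]
    (h1 : ∀ p : ℕ, p.Prime → p ≠ 2 → ∀ (Γ : Type u) [Group Γ] [Finite Γ] (σ : Γ →* G),
      PStem σ p → False)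
    (h4 : ∀ (Γ : Type u) [Group Γ] [Finite Γ] (σ : Γ →* G), Cfsg.IsStemExtension σ →
      Nat.card σ.ker = 4 → False)
    (Γ : Type u) [Group Γ] [Finite Γ] (σ : Γ →* G) (hσ : Cfsg.IsStemExtension σ) :
    Nat.card σ.ker ≤ 2 :=
  card_ker_le_two_aux h1 h4 _ Γ σ rfl hσ

theorem mem_zpowers_of_sq {X : Type*} [Group X] {m : X} (hm : m * m = 1) {x : X}
    (hx : x ∈ Subgroup.zpowers m) : x = 1 ∨ x = m := by
  obtain ⟨k, rfl⟩ := Subgroup.mem_zpowers_iff.1 hx
  have h2 : m ^ (2 : ℤ) = 1 := by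
    rw [show (2 : ℤ) = ((2 : ℕ) : ℤ) from rfl, zpow_natCast, pow_two]; exact hm
  rcases Int.even_or_odd' k with ⟨j, rfl | rfl⟩
  · left; rw [zpow_mul, h2, one_zpow]
  · right; rw [zpow_add, zpow_mul, h2, one_zpow, one_mul, zpow_one]

/-- A four-group `{1, a1, a2, a1 a2}` all of whose involutions lift to elements of order four in
every stem extension with kernel of order two excludes stem extensions with kernel of order
four. -/
theorem no_ker_four {G : Type u} [Group G] (a1 a2 : G) (ha1 : a1 * a1 = 1) (ha2 : a2 * a2 = 1)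
    (hcomm : a1 * a2 = a2 * a1)
    (hminus : ∀ (Γ : Type u) [Group Γ] [Finite Γ] (σ : Γ →* G), PStem σ 2 →
      ∀ t : G, t = a1 ∨ t = a2 ∨ t = a1 * a2 → ∀ x : Γ, σ x = t → x * x ≠ 1)
    (Γ : Type u) [Group Γ] [Finite Γ] (σ : Γ →* G) (hσ : Cfsg.IsStemExtension σ)
    (h4 : Nat.card σ.ker = 4) : False := by
  have := Fact.mk Nat.prime_two
  have hcen : ∀ a ∈ σ.ker, ∀ g : Γ, g * a = a * g := fun a ha g =>
    Subgroup.mem_center_iff.1 (hσ.2.1 ha) g
  have hquot : ∀ m ∈ σ.ker, m ≠ 1 → m * m = 1 →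
      ∃ (Γ' : Type u) (_ : Group Γ') (_ : Finite Γ') (σ' : Γ' →* G) (π : Γ →* Γ'),
        (∀ x, σ' (π x) = σ x) ∧ π.ker = Subgroup.zpowers m ∧ PStem σ' 2 := by
    intro m hm hm1 hm2
    obtain ⟨Γ', i1, i2, σ', π, -, hπσ, hπk, hst, hk, -⟩ := stem_quot σ hσ m hm
    have ho : orderOf m = 2 := orderOf_eq_prime (by rw [pow_two]; exact hm2) hm1
    have hc2 : Nat.card σ'.ker = 2 := by rw [ho, h4] at hk; omega
    exact ⟨Γ', i1, i2, σ', π, hπσ, hπk, ⟨hst.1, hst.2.1, hst.2.2, hc2⟩⟩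
  have F : ∀ m ∈ σ.ker, m ≠ 1 → m * m = 1 → ∀ t : G, (t = a1 ∨ t = a2 ∨ t = a1 * a2) →
      ∀ x : Γ, σ x = t → x * x ∉ Subgroup.zpowers m := by
    intro m hm hm1 hm2 t ht x hx hmem
    obtain ⟨Γ', _, _, σ', π, hπσ, hπk, hP⟩ := hquot m hm hm1 hm2
    apply hminus Γ' σ' hP t ht (π x) (by rw [hπσ, hx])
    rw [← map_mul, ← MonoidHom.mem_ker, hπk]; exact hmem
  have Gsq : ∀ m ∈ σ.ker, m ≠ 1 → m * m = 1 → ∀ c ∈ σ.ker, c * c ∈ Subgroup.zpowers m := by
    intro m hm hm1 hm2 c hc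
    obtain ⟨Γ', _, _, σ', π, hπσ, hπk, hP⟩ := hquot m hm hm1 hm2
    have hc' : π c ∈ σ'.ker := by
      rw [MonoidHom.mem_ker, hπσ]; exact MonoidHom.mem_ker.1 hc
    have h5 := hP.sq_eq_one hc'
    rw [← map_mul, ← MonoidHom.mem_ker, hπk] at h5
    exact h5
  obtain ⟨m0, hm0⟩ := exists_prime_orderOf_dvd_card' (G := σ.ker) 2 (by rw [h4]; norm_num)
  have hm0k : (m0 : Γ) ∈ σ.ker := m0.2
  have hm0o : orderOf (m0 : Γ) = 2 := by rw [Subgroup.orderOf_coe, hm0]
  have hm01 : (m0 : Γ) ≠ 1 := by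
    intro h
    rw [h, orderOf_one] at hm0o
    omega
  have hm02 : (m0 : Γ) * m0 = 1 := by
    rw [← pow_two, ← hm0o]; exact pow_orderOf_eq_one _
  have hpow4 : ∀ c ∈ σ.ker, (c * c) * (c * c) = 1 := by
    intro c hc
    have h5 : (⟨c, hc⟩ : σ.ker) ^ Nat.card σ.ker = 1 := pow_card_eq_one'
    rw [h4] at h5
    have h6 : c ^ 4 = 1 := congrArg Subtype.val h5
    have h7 : c ^ 4 = c * c * (c * c) := by
      rw [show (4 : ℕ) = 2 + 2 from rfl, pow_add, pow_two]
    rw [← h7, h6]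
  obtain ⟨x, hx⟩ := hσ.1 a1
  obtain ⟨y, hy⟩ := hσ.1 a2
  have hxy : σ (x * y) = a1 * a2 := by rw [map_mul, hx, hy]
  have h12 : (a1 * a2) * (a1 * a2) = 1 := by
    calc a1 * a2 * (a1 * a2) = a1 * (a2 * a1) * a2 := by group
      _ = a1 * (a1 * a2) * a2 := by rw [hcomm]
      _ = (a1 * a1) * (a2 * a2) := by group
      _ = 1 := by rw [ha1, ha2, mul_one]
  have hc1 : x * x ∈ σ.ker := by rw [MonoidHom.mem_ker, map_mul, hx, ha1]
  have hc2 : y * y ∈ σ.ker := by rw [MonoidHom.mem_ker, map_mul, hy, ha2]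
  have hc3 : (x * y) * (x * y) ∈ σ.ker := by rw [MonoidHom.mem_ker, map_mul, hxy, h12]
  -- the squares are not involutions
  have key : ∀ t : G, (t = a1 ∨ t = a2 ∨ t = a1 * a2) → ∀ w : Γ, σ w = t → w * w ∈ σ.ker →
      (w * w) * (w * w) ≠ 1 := by
    intro t ht w hw hk hsq
    have hne : w * w ≠ 1 := by
      intro h
      exact F (m0 : Γ) hm0k hm01 hm02 t ht w hw (by rw [h]; exact one_mem _)
    exact F (w * w) hk hne hsq t ht w hw (Subgroup.mem_zpowers _)
  have k1 := key a1 (Or.inl rfl) x hx hc1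
  have k2 := key a2 (Or.inr (Or.inl rfl)) y hy hc2
  have k3 := key (a1 * a2) (Or.inr (Or.inr rfl)) (x * y) hxy hc3
  -- the squares of `x * x` and `y * y` coincide
  have hω : (y * y) * (y * y) = (x * x) * (x * x) := by
    have h5 := Gsq ((x * x) * (x * x)) (σ.ker.mul_mem hc1 hc1) k1 (hpow4 (x * x) hc1)
      (y * y) hc2
    rcases mem_zpowers_of_sq (hpow4 (x * x) hc1) h5 with h6 | h6
    · exact absurd h6 k2
    · exact h6
  -- the commutator
  have hκ : y⁻¹ * x⁻¹ * y * x ∈ σ.ker := by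
    rw [MonoidHom.mem_ker, map_mul, map_mul, map_mul, map_inv, map_inv, hx, hy]
    calc a2⁻¹ * a1⁻¹ * a2 * a1 = a2⁻¹ * a1⁻¹ * (a2 * a1) := by group
      _ = a2⁻¹ * a1⁻¹ * (a1 * a2) := by rw [hcomm]
      _ = 1 := by group
  have e1 : y * x = x * y * (y⁻¹ * x⁻¹ * y * x) := by group
  generalize y⁻¹ * x⁻¹ * y * x = κ at hκ e1
  have cκ := hcen κ hκ
  have c1 := hcen (x * x) hc1
  have c2 := hcen (y * y) hc2
  have hκ2 : κ * κ = 1 := by
    have h5 : x * x * y = x * x * y * (κ * κ) := by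
      calc x * x * y = y * (x * x) := (c1 y).symm
        _ = (y * x) * x := by group
        _ = x * y * κ * x := by rw [e1]
        _ = x * y * (κ * x) := by group
        _ = x * y * (x * κ) := by rw [← cκ x]
        _ = x * (y * x) * κ := by group
        _ = x * (x * y * κ) * κ := by rw [e1]
        _ = x * x * y * (κ * κ) := by group
    have h6 : x * x * y * 1 = x * x * y * (κ * κ) := by rw [mul_one]; exact h5
    exact (mul_left_cancel h6).symm
  have e3 : (x * y) * (x * y) = (x * x) * (y * y) * κ := by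
    calc x * y * (x * y) = x * (y * x) * y := by group
      _ = x * (x * y * κ) * y := by rw [e1]
      _ = x * x * y * (κ * y) := by group
      _ = x * x * y * (y * κ) := by rw [← cκ y]
      _ = x * x * (y * y) * κ := by group
  apply k3
  rw [e3]
  calc x * x * (y * y) * κ * (x * x * (y * y) * κ)
      = x * x * (y * y) * (κ * (x * x)) * (y * y) * κ := by group
    _ = x * x * (y * y) * ((x * x) * κ) * (y * y) * κ := by rw [← c1 κ]
    _ = x * x * ((y * y) * (x * x)) * (κ * (y * y)) * κ := by group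
    _ = x * x * ((x * x) * (y * y)) * ((y * y) * κ) * κ := by rw [← c1 (y * y), ← c2 κ]
    _ = (x * x * (x * x)) * ((y * y) * (y * y)) * (κ * κ) := by group
    _ = 1 := by rw [hκ2, hω, mul_one, hpow4 (x * x) hc1]

/-- If `s` is an involution with `s u s⁻¹ = u ^ 3`, all lifts of `u ^ 4` to a stem extension with
kernel of order two are involutions. -/
theorem plus_of_order_eight {Γ G : Type*} [Group Γ] [Group G] [Finite Γ] {σ : Γ →* G}
    (hσ : PStem σ 2) {u s : G} (hs2 : s * s = 1) (hsu : s * u * s⁻¹ = u ^ 3) :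
    Plus σ (u ^ 4) := by
  obtain ⟨U, hU⟩ := hσ.surj u
  obtain ⟨S, hS⟩ := hσ.surj s
  have hζ : S * U * S⁻¹ * (U ^ 3)⁻¹ ∈ σ.ker := by
    rw [MonoidHom.mem_ker, map_mul, map_mul, map_mul, map_inv, map_inv, map_pow, hU, hS, hsu,
      mul_inv_cancel]
  have hW : S * U * S⁻¹ = S * U * S⁻¹ * (U ^ 3)⁻¹ * U ^ 3 := by group
  generalize S * U * S⁻¹ * (U ^ 3)⁻¹ = ζ at hζ hW
  have hc : ∀ x : Γ, x * ζ = ζ * x := Subgroup.mem_center_iff.1 (hσ.central hζ)
  have hζ2 : ζ ^ 2 = 1 := by rw [pow_two]; exact hσ.sq_eq_one hζ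
  have hζ4 : ζ ^ 4 = 1 := by
    rw [show (4 : ℕ) = 2 * 2 from rfl, pow_mul, hζ2, one_pow]
  have hcom : ∀ k : ℕ, Commute ζ (U ^ k) := fun k => (hc (U ^ k)).symm
  have hconj : ∀ k : ℕ, S * U ^ k * S⁻¹ = ζ ^ k * U ^ (3 * k) := by
    intro k
    rw [← conj_pow, hW, (hcom 3).mul_pow, ← pow_mul]
  have hS2 : S * S ∈ σ.ker := by rw [MonoidHom.mem_ker, map_mul, hS, hs2]
  have hSS : ∀ x : Γ, x * (S * S) = (S * S) * x := Subgroup.mem_center_iff.1 (hσ.central hS2)
  have hU8 : U ^ 8 = 1 := by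
    have e1 : S * (S * U * S⁻¹) * S⁻¹ = U := by
      calc S * (S * U * S⁻¹) * S⁻¹ = (S * S) * U * S⁻¹ * S⁻¹ := by group
        _ = U * (S * S) * S⁻¹ * S⁻¹ := by rw [hSS U]
        _ = U := by group
    have e2 : S * (S * U * S⁻¹) * S⁻¹ = U ^ 9 := by
      rw [hW]
      calc S * (ζ * U ^ 3) * S⁻¹ = (S * ζ) * U ^ 3 * S⁻¹ := by group
        _ = ζ * S * U ^ 3 * S⁻¹ := by rw [hc S]
        _ = ζ * (S * U ^ 3 * S⁻¹) := by group
        _ = ζ * (ζ ^ 3 * U ^ 9) := by rw [hconj 3]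
        _ = ζ ^ 4 * U ^ 9 := by group
        _ = U ^ 9 := by rw [hζ4, one_mul]
    have e3 : U * 1 = U * U ^ 8 := by
      rw [mul_one, ← pow_succ']
      exact e1.symm.trans e2
    exact (mul_left_cancel e3).symm
  refine plus_of_lift hσ (x₀ := U ^ 4) (by rw [map_pow, hU]) ?_
  rw [← pow_add]; exact hU8

/-- The Schur multiplier is cyclic of order two if some finite stem extension has kernel of
order two and all have kernel of order at most two. -/
theorem hasCyclicSchurMultiplier_two {G : Type u} [Group G]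
    (hex : ∃ (Γ : Type u) (_ : Group Γ) (_ : Finite Γ) (σ : Γ →* G),
      Cfsg.IsStemExtension σ ∧ Nat.card σ.ker = 2)
    (hle : ∀ (Γ : Type u) [Group Γ] [Finite Γ] (σ : Γ →* G), Cfsg.IsStemExtension σ →
      Nat.card σ.ker ≤ 2) :
    Cfsg.HasCyclicSchurMultiplier G 2 := by
  have := Fact.mk Nat.prime_two
  have hZ : Nat.card (Multiplicative (ZMod 2)) = 2 := by
    rw [Nat.card_eq_fintype_card]; rfl
  constructor
  · obtain ⟨Γ, i1, i2, σ, hσ, hc⟩ := hex
    exact ⟨Γ, i1, i2, σ, hσ, ⟨mulEquivOfPrimeCardEq (p := 2) hc hZ⟩⟩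
  · intro Γ _ _ σ hσ
    have h2 := hle Γ σ hσ
    have h1 : 0 < Nat.card σ.ker := Nat.card_pos
    rcases (by omega : Nat.card σ.ker = 1 ∨ Nat.card σ.ker = 2) with h | h
    · refine ⟨1, fun x => ⟨1, ?_⟩⟩
      have := (Nat.card_eq_one_iff_unique.1 h).1
      exact Subsingleton.elim _ _
    · have e : Multiplicative (ZMod 2) ≃* σ.ker := mulEquivOfPrimeCardEq (p := 2) hZ h
      exact ⟨e.toMonoidHom, e.surjective⟩

end Cfsg.Agent.Lib.helper33
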