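/-
The 2-part for groups whose Sylow 2-subgroup is `2^4 : U_4(2)` (unitriangular group acting on
its natural module), given that all involutions lift to involutions.  (owner: helper33)
-/
import Mathlib
import Cfsg.Agent.Lib.helper33.SchurTwo

set_option autoImplicit false

namespace Cfsg.Agent.Lib.helper33

open scoped commutatorElement

section general

variable {X : Type*} [Group X]

theorem mem_sup_closure_of_mem (N : Subgroup X) {l : List X} {x : X} (h : x ∈ l) :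
    x ∈ N ⊔ Subgroup.closure {x | x ∈ l} :=
  Subgroup.mem_sup_right (Subgroup.subset_closure h)

theorem conj_eq_of_comm {y x : X} (h : y * x = x * y) : y * x * y⁻¹ = x := by
  rw [h, mul_inv_cancel_right]

theorem conj_eq_commutator_mul (y x : X) : y * x * y⁻¹ = ⁅y, x⁆ * x := by
  rw [commutatorElement_def]; group

/-- Elements normalising a subgroup (in the weak sense) are closed under products. -/
theorem nrm_mul {N : Subgroup X} {a b : X} (ha : ∀ n ∈ N, a * n * a⁻¹ ∈ N)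
    (hb : ∀ n ∈ N, b * n * b⁻¹ ∈ N) : ∀ n ∈ N, (a * b) * n * (a * b)⁻¹ ∈ N := by
  intro n hn
  have : (a * b) * n * (a * b)⁻¹ = a * (b * n * b⁻¹) * a⁻¹ := by group
  rw [this]; exact ha _ (hb n hn)

theorem nrm_commutator {N : Subgroup X} {a b : X} (ha2 : a * a = 1) (hb2 : b * b = 1)
    (ha : ∀ n ∈ N, a * n * a⁻¹ ∈ N) (hb : ∀ n ∈ N, b * n * b⁻¹ ∈ N) :
    ∀ n ∈ N, ⁅a, b⁆ * n * ⁅a, b⁆⁻¹ ∈ N := by
  have h : ⁅a, b⁆ = (a * b) * (a * b) := by
    rw [commutatorElement_def, inv_eq_self_of_sq ha2, inv_eq_self_of_sq hb2]; group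
  rw [h]
  exact nrm_mul (nrm_mul ha hb) (nrm_mul ha hb)

/-- A Hall–Witt type identity for three involutions `a, b, c` with `a c = c a`. -/
theorem hall_witt_inv (a b c : X) (ha : a * a = 1) (hb : b * b = 1) (hc : c * c = 1)
    (hac : a * c = c * a) (he2 : ⁅b, c⁆ * ⁅b, c⁆ = 1) (hd2 : ⁅a, b⁆ * ⁅a, b⁆ = 1)
    (heb : ⁅b, c⁆ * b = b * ⁅b, c⁆) (hgb : ⁅a, ⁅b, c⁆⁆ * b = b * ⁅a, ⁅b, c⁆⁆) :
    ⁅a, ⁅b, c⁆⁆ = ⁅⁅a, b⁆, c⁆ := by
  have hai := inv_eq_self_of_sq ha
  have hbi := inv_eq_self_of_sq hb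
  have hci := inv_eq_self_of_sq hc
  have hei := inv_eq_self_of_sq he2
  have hdi := inv_eq_self_of_sq hd2
  -- generalise the commutators
  have hd : ⁅a, b⁆ = a * (b * (a * b)) := by
    rw [commutatorElement_def, hai, hbi]; group
  have he : ⁅b, c⁆ = b * (c * (b * c)) := by
    rw [commutatorElement_def, hbi, hci]; group
  have hg : ⁅a, ⁅b, c⁆⁆ = a * (⁅b, c⁆ * (a * ⁅b, c⁆)) := by
    rw [commutatorElement_def a, hai, hei]; group
  have hf : ⁅⁅a, b⁆, c⁆ = ⁅a, b⁆ * (c * (⁅a, b⁆ * c)) := by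
    rw [commutatorElement_def _ c, hdi, hci]; group
  generalize ⁅a, ⁅b, c⁆⁆ = g at *
  generalize ⁅b, c⁆ = e at *
  -- rewrite rules on right-associated words
  have r3 : ∀ w, c * (a * w) = a * (c * w) := fun w => by
    rw [← mul_assoc, ← hac, mul_assoc]
  have rcc : ∀ w, c * (c * w) = w := fun w => by rw [← mul_assoc, hc, one_mul]
  have ree : ∀ w, e * (e * w) = w := fun w => by rw [← mul_assoc, he2, one_mul]
  have rbb : ∀ w, b * (b * w) = w := fun w => by rw [← mul_assoc, hb, one_mul]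
  have raa : ∀ w, a * (a * w) = w := fun w => by rw [← mul_assoc, ha, one_mul]
  have r1 : ∀ w, c * (b * w) = b * (e * (c * w)) := fun w => by
    rw [he]; simp only [mul_assoc, rbb, rcc]
  have r2 : ∀ w, e * (a * w) = a * (g * (e * w)) := fun w => by
    rw [hg]; simp only [mul_assoc, raa, ree]
  have r4 : ∀ w, e * (b * w) = b * (e * w) := fun w => by
    rw [← mul_assoc, heb, mul_assoc]
  have r5 : ∀ w, g * (b * w) = b * (g * w) := fun w => by
    rw [← mul_assoc, hgb, mul_assoc]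
  have key : ∀ w, c * (a * (b * (a * (b * (c * w))))) = a * (b * (a * (b * (g * w)))) := by
    intro w
    simp only [r3, r1, rcc, r2, r4, ree, r5]
  rw [hf, hd]
  have h1 := key 1
  simp only [mul_one] at h1
  simp only [mul_assoc]
  rw [h1]
  have rdd : a * (b * (a * (b * (a * (b * (a * (b * g))))))) = g := by
    have h2 := congrArg (fun t => t * g) hd2
    rw [hd] at h2
    simp only [mul_assoc, one_mul] at h2
    exact h2
  exact rdd.symm

end general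

/-- The relations of `2^4 : U_4(2)` on generators `x12, x23, x34` (root elements) and
`e1, …, e4` (a basis of the normal subgroup). -/
structure U4Rel {X : Type*} [Group X] (x12 x23 x34 e1 e2 e3 e4 : X) : Prop where
  s12 : x12 * x12 = 1
  s23 : x23 * x23 = 1
  s34 : x34 * x34 = 1
  s13 : ⁅x12, x23⁆ * ⁅x12, x23⁆ = 1
  s24 : ⁅x23, x34⁆ * ⁅x23, x34⁆ = 1
  s14 : ⁅⁅x12, x23⁆, x34⁆ * ⁅⁅x12, x23⁆, x34⁆ = 1
  t1 : e1 * e1 = 1
  t2 : e2 * e2 = 1
  t3 : e3 * e3 = 1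
  t4 : e4 * e4 = 1
  c12 : e1 * e2 = e2 * e1
  c13 : e1 * e3 = e3 * e1
  c14 : e1 * e4 = e4 * e1
  c23 : e2 * e3 = e3 * e2
  c24 : e2 * e4 = e4 * e2
  c34 : e3 * e4 = e4 * e3
  a12_1 : x12 * e1 = e1 * x12
  a12_3 : x12 * e3 = e3 * x12
  a12_4 : x12 * e4 = e4 * x12
  a23_1 : x23 * e1 = e1 * x23
  a23_2 : x23 * e2 = e2 * x23
  a23_4 : x23 * e4 = e4 * x23
  a34_1 : x34 * e1 = e1 * x34
  a34_2 : x34 * e2 = e2 * x34
  a34_3 : x34 * e3 = e3 * x34
  d3 : ⁅x34, e4⁆ = e3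
  d2 : ⁅x23, e3⁆ = e2
  d1 : ⁅x12, e2⁆ = e1
  k12_34 : x12 * x34 = x34 * x12
  k12_13 : x12 * ⁅x12, x23⁆ = ⁅x12, x23⁆ * x12
  k12_14 : x12 * ⁅⁅x12, x23⁆, x34⁆ = ⁅⁅x12, x23⁆, x34⁆ * x12
  k23_13 : x23 * ⁅x12, x23⁆ = ⁅x12, x23⁆ * x23
  k23_24 : x23 * ⁅x23, x34⁆ = ⁅x23, x34⁆ * x23
  k23_14 : x23 * ⁅⁅x12, x23⁆, x34⁆ = ⁅⁅x12, x23⁆, x34⁆ * x23
  k34_24 : x34 * ⁅x23, x34⁆ = ⁅x23, x34⁆ * x34
  k34_14 : x34 * ⁅⁅x12, x23⁆, x34⁆ = ⁅⁅x12, x23⁆, x34⁆ * x34
  k13_24 : ⁅x12, x23⁆ * ⁅x23, x34⁆ = ⁅x23, x34⁆ * ⁅x12, x23⁆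
  k13_14 : ⁅x12, x23⁆ * ⁅⁅x12, x23⁆, x34⁆ = ⁅⁅x12, x23⁆, x34⁆ * ⁅x12, x23⁆
  k24_14 : ⁅x23, x34⁆ * ⁅⁅x12, x23⁆, x34⁆ = ⁅⁅x12, x23⁆, x34⁆ * ⁅x23, x34⁆
  der : ⁅x12, ⁅x23, x34⁆⁆ = ⁅⁅x12, x23⁆, x34⁆

/-- The subgroup generated by elements satisfying the relations. -/
def U4Rel.grp {X : Type*} [Group X] (x12 x23 x34 e1 e2 e3 e4 : X) : Subgroup X :=
  Subgroup.closure {x | x ∈ [e4, e3, e2, e1]} ⊔
    Subgroup.closure {x | x ∈ [x12, x23, x34, ⁅x12, x23⁆, ⁅x23, x34⁆, ⁅⁅x12, x23⁆, x34⁆]}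

theorem U4Rel.card_le {X : Type*} [Group X] [Finite X] {x12 x23 x34 e1 e2 e3 e4 : X}
    (h : U4Rel x12 x23 x34 e1 e2 e3 e4) :
    Nat.card (U4Rel.grp x12 x23 x34 e1 e2 e3 e4) ≤ 1024 := by
  have hE : Nat.card ↥(Subgroup.closure {x | x ∈ [e4, e3, e2, e1]}) ≤ 2 ^ 4 := by
    refine card_closure_comm_le 2 (by norm_num) [e4, e3, e2, e1] ?_ ?_
    · intro x hx
      simp only [List.mem_cons, List.not_mem_nil, or_false] at hx
      rcases hx with rfl | rfl | rfl | rfl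
      · rw [pow_two]; exact h.t4
      · rw [pow_two]; exact h.t3
      · rw [pow_two]; exact h.t2
      · rw [pow_two]; exact h.t1
    · intro x hx y hy
      simp only [List.mem_cons, List.not_mem_nil, or_false] at hx hy
      rcases hx with rfl | rfl | rfl | rfl <;> rcases hy with rfl | rfl | rfl | rfl <;>
        first
          | rfl
          | exact h.c12 | exact h.c13 | exact h.c14 | exact h.c23 | exact h.c24 | exact h.c34
          | exact h.c12.symm | exact h.c13.symm | exact h.c14.symm | exact h.c23.symm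
          | exact h.c24.symm | exact h.c34.symm
  set E1 : Subgroup X := Subgroup.closure {x | x ∈ [e4, e3, e2, e1]} with hE1
  have me1 : e1 ∈ E1 := Subgroup.subset_closure (by simp)
  have me2 : e2 ∈ E1 := Subgroup.subset_closure (by simp)
  have me3 : e3 ∈ E1 := Subgroup.subset_closure (by simp)
  have me4 : e4 ∈ E1 := Subgroup.subset_closure (by simp)
  -- the root elements normalise `E1`
  have n12 : ∀ n ∈ E1, x12 * n * x12⁻¹ ∈ E1 := by
    refine conj_mem_closure le_rfl x12 ?_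
    intro s hs
    simp only [Set.mem_ofPred_eq, List.mem_cons, List.not_mem_nil, or_false] at hs
    rcases hs with rfl | rfl | rfl | rfl
    · rw [conj_eq_of_comm h.a12_4]; exact me4
    · rw [conj_eq_of_comm h.a12_3]; exact me3
    · rw [conj_eq_commutator_mul, h.d1]; exact E1.mul_mem me1 me2
    · rw [conj_eq_of_comm h.a12_1]; exact me1
  have n23 : ∀ n ∈ E1, x23 * n * x23⁻¹ ∈ E1 := by
    refine conj_mem_closure le_rfl x23 ?_
    intro s hs
    simp only [Set.mem_ofPred_eq, List.mem_cons, List.not_mem_nil, or_false] at hs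
    rcases hs with rfl | rfl | rfl | rfl
    · rw [conj_eq_of_comm h.a23_4]; exact me4
    · rw [conj_eq_commutator_mul, h.d2]; exact E1.mul_mem me2 me3
    · rw [conj_eq_of_comm h.a23_2]; exact me2
    · rw [conj_eq_of_comm h.a23_1]; exact me1
  have n34 : ∀ n ∈ E1, x34 * n * x34⁻¹ ∈ E1 := by
    refine conj_mem_closure le_rfl x34 ?_
    intro s hs
    simp only [Set.mem_ofPred_eq, List.mem_cons, List.not_mem_nil, or_false] at hs
    rcases hs with rfl | rfl | rfl | rfl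
    · rw [conj_eq_commutator_mul, h.d3]; exact E1.mul_mem me3 me4
    · rw [conj_eq_of_comm h.a34_3]; exact me3
    · rw [conj_eq_of_comm h.a34_2]; exact me2
    · rw [conj_eq_of_comm h.a34_1]; exact me1
  have n13 := nrm_commutator h.s12 h.s23 n12 n23
  have n24 := nrm_commutator h.s23 h.s34 n23 n34
  have n14 := nrm_commutator h.s13 h.s34 n13 n34
  have hpc : PCList 2 E1 [x12, x23, x34, ⁅x12, x23⁆, ⁅x23, x34⁆, ⁅⁅x12, x23⁆, x34⁆] := by
    refine ⟨?_, fun n hn => Subgroup.mem_sup_left (n12 n hn), ?_,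
      ?_, fun n hn => Subgroup.mem_sup_left (n23 n hn), ?_,
      ?_, fun n hn => Subgroup.mem_sup_left (n34 n hn), ?_,
      ?_, fun n hn => Subgroup.mem_sup_left (n13 n hn), ?_,
      ?_, fun n hn => Subgroup.mem_sup_left (n24 n hn), ?_,
      ?_, fun n hn => Subgroup.mem_sup_left (n14 n hn), ?_, trivial⟩
    · rw [pow_two, h.s12]; exact one_mem _
    · intro x hx
      simp only [List.mem_cons, List.not_mem_nil, or_false] at hx
      rcases hx with rfl | rfl | rfl | rfl | rfl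
      · rw [conj_eq_commutator_mul]
        exact mul_mem (mem_sup_closure_of_mem _ (by simp)) (mem_sup_closure_of_mem _ (by simp))
      · rw [conj_eq_of_comm h.k12_34]; exact mem_sup_closure_of_mem _ (by simp)
      · rw [conj_eq_of_comm h.k12_13]; exact mem_sup_closure_of_mem _ (by simp)
      · rw [conj_eq_commutator_mul, h.der]
        exact mul_mem (mem_sup_closure_of_mem _ (by simp)) (mem_sup_closure_of_mem _ (by simp))
      · rw [conj_eq_of_comm h.k12_14]; exact mem_sup_closure_of_mem _ (by simp)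
    · rw [pow_two, h.s23]; exact one_mem _
    · intro x hx
      simp only [List.mem_cons, List.not_mem_nil, or_false] at hx
      rcases hx with rfl | rfl | rfl | rfl
      · rw [conj_eq_commutator_mul]
        exact mul_mem (mem_sup_closure_of_mem _ (by simp)) (mem_sup_closure_of_mem _ (by simp))
      · rw [conj_eq_of_comm h.k23_13]; exact mem_sup_closure_of_mem _ (by simp)
      · rw [conj_eq_of_comm h.k23_24]; exact mem_sup_closure_of_mem _ (by simp)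
      · rw [conj_eq_of_comm h.k23_14]; exact mem_sup_closure_of_mem _ (by simp)
    · rw [pow_two, h.s34]; exact one_mem _
    · intro x hx
      simp only [List.mem_cons, List.not_mem_nil, or_false] at hx
      rcases hx with rfl | rfl | rfl
      · have h1 : x34 * ⁅x12, x23⁆ * x34⁻¹ = (⁅⁅x12, x23⁆, x34⁆)⁻¹ * ⁅x12, x23⁆ := by
          rw [commutatorElement_def ⁅x12, x23⁆ x34]; group
        rw [h1]
        exact mul_mem (inv_mem (mem_sup_closure_of_mem _ (by simp)))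
          (mem_sup_closure_of_mem _ (by simp))
      · rw [conj_eq_of_comm h.k34_24]; exact mem_sup_closure_of_mem _ (by simp)
      · rw [conj_eq_of_comm h.k34_14]; exact mem_sup_closure_of_mem _ (by simp)
    · rw [pow_two, h.s13]; exact one_mem _
    · intro x hx
      simp only [List.mem_cons, List.not_mem_nil, or_false] at hx
      rcases hx with rfl | rfl
      · rw [conj_eq_of_comm h.k13_24]; exact mem_sup_closure_of_mem _ (by simp)
      · rw [conj_eq_of_comm h.k13_14]; exact mem_sup_closure_of_mem _ (by simp)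
    · rw [pow_two, h.s24]; exact one_mem _
    · intro x hx
      simp only [List.mem_cons, List.not_mem_nil, or_false] at hx
      subst hx
      rw [conj_eq_of_comm h.k24_14]; exact mem_sup_closure_of_mem _ (by simp)
    · rw [pow_two, h.s14]; exact one_mem _
    · intro x hx
      simp at hx
  have h1 := card_pcList_le 2 (by norm_num) E1 _ hpc
  have h2 : Nat.card (U4Rel.grp x12 x23 x34 e1 e2 e3 e4) ≤ 2 ^ 6 * Nat.card E1 := h1
  calc Nat.card (U4Rel.grp x12 x23 x34 e1 e2 e3 e4) ≤ 2 ^ 6 * Nat.card E1 := h2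
    _ ≤ 2 ^ 6 * 2 ^ 4 := Nat.mul_le_mul_left _ hE
    _ = 1024 := by norm_num

theorem U4Rel.mem_grp {X : Type*} [Group X] (x12 x23 x34 e1 e2 e3 e4 : X) :
    x12 ∈ U4Rel.grp x12 x23 x34 e1 e2 e3 e4 ∧ x23 ∈ U4Rel.grp x12 x23 x34 e1 e2 e3 e4 ∧
    x34 ∈ U4Rel.grp x12 x23 x34 e1 e2 e3 e4 ∧ e1 ∈ U4Rel.grp x12 x23 x34 e1 e2 e3 e4 ∧
    e2 ∈ U4Rel.grp x12 x23 x34 e1 e2 e3 e4 ∧ e3 ∈ U4Rel.grp x12 x23 x34 e1 e2 e3 e4 ∧
    e4 ∈ U4Rel.grp x12 x23 x34 e1 e2 e3 e4 := by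
  refine ⟨?_, ?_, ?_, ?_, ?_, ?_, ?_⟩
  · exact Subgroup.mem_sup_right (Subgroup.subset_closure (by simp))
  · exact Subgroup.mem_sup_right (Subgroup.subset_closure (by simp))
  · exact Subgroup.mem_sup_right (Subgroup.subset_closure (by simp))
  · exact Subgroup.mem_sup_left (Subgroup.subset_closure (by simp))
  · exact Subgroup.mem_sup_left (Subgroup.subset_closure (by simp))
  · exact Subgroup.mem_sup_left (Subgroup.subset_closure (by simp))
  · exact Subgroup.mem_sup_left (Subgroup.subset_closure (by simp))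

section lift

variable {Γ G : Type*} [Group Γ] [Group G] {σ : Γ →* G}

/-- A subgroup `K` of the extension of order at most `n`, mapping onto a subgroup of `G` of
order at least `n`, where `|G| = n m` with `m` prime to `p`: contradiction. -/
theorem pstem_false_of_bound [Finite Γ] [Finite G] {p : ℕ} (hp : p.Prime) (hσ : PStem σ p)
    (Q : Subgroup G) (K : Subgroup Γ) (hK : Q ≤ K.map σ) (n m : ℕ) (hKn : Nat.card K ≤ n)
    (hQn : n ≤ Nat.card Q) (hG : Nat.card G = n * m) (hm : Nat.Coprime m p) : False := by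
  have hsurj : Function.Surjective (fun x : K => (⟨σ x, Subgroup.mem_map_of_mem σ x.2⟩ : K.map σ)) := by
    rintro ⟨y, x, hx, rfl⟩
    exact ⟨⟨x, hx⟩, rfl⟩
  have h1 : Nat.card (K.map σ) ≤ Nat.card K := Nat.card_le_card_of_surjective _ hsurj
  have h2 : Nat.card Q ≤ Nat.card (K.map σ) := Subgroup.card_le_of_le hK
  have hQ : Nat.card Q = n := le_antisymm (h2.trans (h1.trans hKn)) hQn
  have h3 := Q.index_mul_card
  rw [hQ, hG] at h3
  have hn : 0 < n := by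
    rw [← hQ]; exact Nat.card_pos
  have h4 : Q.index = m := by
    have : n * Q.index = n * m := by rw [mul_comm]; exact h3
    exact Nat.eq_of_mul_eq_mul_left hn this
  exact pstem_false_of_complement hp hσ Q (by rw [h4]; exact hm) K hK (by rw [hQ]; exact hKn)

/-- The relations lift to the extension when all involutions lift to involutions. -/
theorem U4Rel.lift (hB : CaseB σ) {x12 x23 x34 e1 e2 e3 e4 : G}
    (h : U4Rel x12 x23 x34 e1 e2 e3 e4) {X12 X23 X34 F4 : Γ} (h12 : σ X12 = x12)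
    (h23 : σ X23 = x23) (h34 : σ X34 = x34) (h4 : σ F4 = e4) :
    U4Rel X12 X23 X34 ⁅X12, ⁅X23, ⁅X34, F4⁆⁆⁆ ⁅X23, ⁅X34, F4⁆⁆ ⁅X34, F4⁆ F4 := by
  have h3 : σ ⁅X34, F4⁆ = e3 := by rw [map_commutatorElement, h34, h4, h.d3]
  have h2 : σ ⁅X23, ⁅X34, F4⁆⁆ = e2 := by rw [map_commutatorElement, h23, h3, h.d2]
  have h1 : σ ⁅X12, ⁅X23, ⁅X34, F4⁆⁆⁆ = e1 := by rw [map_commutatorElement, h12, h2, h.d1]
  have h13 : σ ⁅X12, X23⁆ = ⁅x12, x23⁆ := by rw [map_commutatorElement, h12, h23]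
  have h24 : σ ⁅X23, X34⁆ = ⁅x23, x34⁆ := by rw [map_commutatorElement, h23, h34]
  have h14 : σ ⁅⁅X12, X23⁆, X34⁆ = ⁅⁅x12, x23⁆, x34⁆ := by rw [map_commutatorElement, h13, h34]
  have h14' : σ ⁅X12, ⁅X23, X34⁆⁆ = ⁅⁅x12, x23⁆, x34⁆ := by
    rw [map_commutatorElement, h12, h24, h.der]
  have sq : ∀ (A : Γ) (a : G), σ A = a → a * a = 1 → A * A = 1 :=
    fun A a hA ha => hB A (by rw [hA]; exact ha)
  have cm : ∀ (A B : Γ) (a b : G), σ A = a → σ B = b → a * a = 1 → b * b = 1 → a * b = b * a →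
      A * B = B * A :=
    fun A B a b hA hB' ha hb hab => lift_comm hB A B (by rw [hA]; exact ha) (by rw [hB']; exact hb)
      (by rw [hA, hB']; exact hab)
  have S12 := sq _ _ h12 h.s12
  have S23 := sq _ _ h23 h.s23
  have S34 := sq _ _ h34 h.s34
  have S13 := sq _ _ h13 h.s13
  have S24 := sq _ _ h24 h.s24
  exact
    { s12 := S12
      s23 := S23
      s34 := S34
      s13 := S13
      s24 := S24
      s14 := sq _ _ h14 h.s14
      t1 := sq _ _ h1 h.t1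
      t2 := sq _ _ h2 h.t2
      t3 := sq _ _ h3 h.t3
      t4 := sq _ _ h4 h.t4
      c12 := cm _ _ _ _ h1 h2 h.t1 h.t2 h.c12
      c13 := cm _ _ _ _ h1 h3 h.t1 h.t3 h.c13
      c14 := cm _ _ _ _ h1 h4 h.t1 h.t4 h.c14
      c23 := cm _ _ _ _ h2 h3 h.t2 h.t3 h.c23
      c24 := cm _ _ _ _ h2 h4 h.t2 h.t4 h.c24
      c34 := cm _ _ _ _ h3 h4 h.t3 h.t4 h.c34
      a12_1 := cm _ _ _ _ h12 h1 h.s12 h.t1 h.a12_1
      a12_3 := cm _ _ _ _ h12 h3 h.s12 h.t3 h.a12_3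
      a12_4 := cm _ _ _ _ h12 h4 h.s12 h.t4 h.a12_4
      a23_1 := cm _ _ _ _ h23 h1 h.s23 h.t1 h.a23_1
      a23_2 := cm _ _ _ _ h23 h2 h.s23 h.t2 h.a23_2
      a23_4 := cm _ _ _ _ h23 h4 h.s23 h.t4 h.a23_4
      a34_1 := cm _ _ _ _ h34 h1 h.s34 h.t1 h.a34_1
      a34_2 := cm _ _ _ _ h34 h2 h.s34 h.t2 h.a34_2
      a34_3 := cm _ _ _ _ h34 h3 h.s34 h.t3 h.a34_3
      d3 := rfl
      d2 := rfl
      d1 := rfl
      k12_34 := cm _ _ _ _ h12 h34 h.s12 h.s34 h.k12_34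
      k12_13 := cm _ _ _ _ h12 h13 h.s12 h.s13 h.k12_13
      k12_14 := cm _ _ _ _ h12 h14 h.s12 h.s14 h.k12_14
      k23_13 := cm _ _ _ _ h23 h13 h.s23 h.s13 h.k23_13
      k23_24 := cm _ _ _ _ h23 h24 h.s23 h.s24 h.k23_24
      k23_14 := cm _ _ _ _ h23 h14 h.s23 h.s14 h.k23_14
      k34_24 := cm _ _ _ _ h34 h24 h.s34 h.s24 h.k34_24
      k34_14 := cm _ _ _ _ h34 h14 h.s34 h.s14 h.k34_14
      k13_24 := cm _ _ _ _ h13 h24 h.s13 h.s24 h.k13_24
      k13_14 := cm _ _ _ _ h13 h14 h.s13 h.s14 h.k13_14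
      k24_14 := cm _ _ _ _ h24 h14 h.s24 h.s14 h.k24_14
      der := hall_witt_inv X12 X23 X34 S12 S23 S34
        (cm _ _ _ _ h12 h34 h.s12 h.s34 h.k12_34) S24 S13
        (cm _ _ _ _ h24 h23 h.s24 h.s23 h.k23_24.symm)
        (cm _ _ _ _ h14' h23 h.s14 h.s23 h.k23_14.symm) }

/-- No stem extension with kernel of order 2 for a group with Sylow 2-subgroup `2^4 : U_4(2)`
all of whose involutions lift to involutions. -/
theorem pstem_false_of_U4 [Finite Γ] [Finite G] (hσ : PStem σ 2) (hB : CaseB σ)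
    {x12 x23 x34 e1 e2 e3 e4 : G} (h : U4Rel x12 x23 x34 e1 e2 e3 e4)
    (hcard : 1024 ≤ Nat.card (Subgroup.closure ({x12, x23, x34, e4} : Set G)))
    (m : ℕ) (hm : Nat.Coprime m 2) (hG : Nat.card G = 1024 * m) : False := by
  obtain ⟨X12, h12⟩ := hσ.surj x12
  obtain ⟨X23, h23⟩ := hσ.surj x23
  obtain ⟨X34, h34⟩ := hσ.surj x34
  obtain ⟨F4, h4⟩ := hσ.surj e4
  have hl := h.lift hB h12 h23 h34 h4
  have hmem := U4Rel.mem_grp X12 X23 X34 ⁅X12, ⁅X23, ⁅X34, F4⁆⁆⁆ ⁅X23, ⁅X34, F4⁆⁆ ⁅X34, F4⁆ F4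
  refine pstem_false_of_bound Nat.prime_two hσ (Subgroup.closure ({x12, x23, x34, e4} : Set G))
    (U4Rel.grp X12 X23 X34 ⁅X12, ⁅X23, ⁅X34, F4⁆⁆⁆ ⁅X23, ⁅X34, F4⁆⁆ ⁅X34, F4⁆ F4) ?_ 1024 m
    hl.card_le hcard hG hm
  rw [Subgroup.closure_le]
  intro g hg
  simp only [Set.mem_insert_iff, Set.mem_singleton_iff] at hg
  rcases hg with rfl | rfl | rfl | rfl
  · exact ⟨X12, hmem.1, h12⟩
  · exact ⟨X23, hmem.2.1, h23⟩
  · exact ⟨X34, hmem.2.2.1, h34⟩
  · exact ⟨F4, hmem.2.2.2.2.2.2, h4⟩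

end lift

end Cfsg.Agent.Lib.helper33
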