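/-
Stem extensions with kernel of order 3 for groups whose Sylow 3-subgroup is elementary abelian
of order 9 or extraspecial of order 27, with a suitable element normalising it.
(owner: helper33)
-/
import Mathlib
import Cfsg.Agent.Lib.helper33.SchurU4

set_option autoImplicit false

namespace Cfsg.Agent.Lib.helper33

open scoped commutatorElement

section general

variable {X : Type*} [Group X]

theorem comm_of_mem_closure {S : Set X} (h : ∀ x ∈ S, ∀ y ∈ S, x * y = y * x) :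
    ∀ x ∈ Subgroup.closure S, ∀ y ∈ Subgroup.closure S, x * y = y * x := by
  have h1 : ∀ y ∈ Subgroup.closure S, ∀ s ∈ S, s * y = y * s := by
    intro y hy
    induction hy using Subgroup.closure_induction with
    | mem y hy => exact fun s hs => h s hs y hy
    | one => intro s _; simp
    | mul a b _ _ ha hb =>
      intro s hs
      rw [← mul_assoc, ha s hs, mul_assoc, hb s hs, mul_assoc]
    | inv a _ ha =>
      intro s hs
      have := ha s hs
      calc s * a⁻¹ = a⁻¹ * (a * s) * a⁻¹ := by group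
        _ = a⁻¹ * (s * a) * a⁻¹ := by rw [this]
        _ = a⁻¹ * s := by group
  intro x hx
  induction hx using Subgroup.closure_induction with
  | mem x hx => exact fun y hy => h1 y hy x hx
  | one => intro y _; simp
  | mul a b _ _ ha hb =>
    intro y hy
    rw [mul_assoc, hb y hy, ← mul_assoc, ha y hy, mul_assoc]
  | inv a _ ha =>
    intro y hy
    have := ha y hy
    calc a⁻¹ * y = a⁻¹ * (y * a) * a⁻¹ := by group
      _ = a⁻¹ * (a * y) * a⁻¹ := by rw [this]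
      _ = y * a⁻¹ := by group

theorem conj_commutator (g x y : X) : g * ⁅x, y⁆ * g⁻¹ = ⁅g * x * g⁻¹, g * y * g⁻¹⁆ := by
  rw [commutatorElement_def, commutatorElement_def]; group

/-- `[a, b⁻¹] = [a, b]⁻¹` when `[a, b]` commutes with `b⁻¹`. -/
theorem comm_inv_of_central (a b : X) (hc : b⁻¹ * ⁅a, b⁆ = ⁅a, b⁆ * b⁻¹) :
    ⁅a, b⁻¹⁆ = (⁅a, b⁆)⁻¹ := by
  have h1 : ⁅a, b⁻¹⁆ = (b⁻¹ * ⁅a, b⁆ * b)⁻¹ := by
    rw [commutatorElement_def, commutatorElement_def]; group
  rw [h1, hc]; group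

/-- `[a⁻¹, b] = [a, b]⁻¹` when `[a, b]` commutes with `a⁻¹`. -/
theorem comm_inv_left_of_central (a b : X) (hc : a⁻¹ * ⁅a, b⁆ = ⁅a, b⁆ * a⁻¹) :
    ⁅a⁻¹, b⁆ = (⁅a, b⁆)⁻¹ := by
  have h1 : ⁅a⁻¹, b⁆ = a⁻¹ * (a⁻¹ * ⁅a, b⁆)⁻¹ := by
    rw [commutatorElement_def, commutatorElement_def]; group
  rw [h1, hc]; group

theorem comm_mem_of_mem {Q : Subgroup X} {a b : X} (ha : a ∈ Q) (hb : b ∈ Q) : ⁅a, b⁆ ∈ Q := by
  rw [commutatorElement_def]
  exact mul_mem (mul_mem (mul_mem ha hb) (inv_mem ha)) (inv_mem hb)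

/-- If `u` has order dividing 2 and 3 it is trivial. -/
theorem eq_one_of_pow_two_three {u : X} (h2 : u ^ 2 = 1) (h3 : u ^ 3 = 1) : u = 1 := by
  have : u ^ 3 = u ^ 2 * u := pow_succ u 2
  rw [h3, h2, one_mul] at this
  exact this.symm

end general

section three

variable {Γ G : Type*} [Group Γ] [Group G] {σ : Γ →* G}

/-- A central element of the kernel inverted by conjugation is trivial (kernel of order 3). -/
theorem eq_one_of_eq_inv [Finite Γ] (hσ : PStem σ 3) {u : Γ} (hu : u ∈ σ.ker) (h : u = u⁻¹) :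
    u = 1 := by
  apply eq_one_of_pow_two_three _ (hσ.pow_eq_one hu)
  rw [pow_two]
  nth_rewrite 1 [h]
  exact inv_mul_cancel u

/-- A lift `A` of an element `a` of order 3 which is inverted by some element has order 3. -/
theorem cube_eq_one_of_inverted [Finite Γ] (hσ : PStem σ 3) {a g : G} (ha : a ^ 3 = 1)
    (hg : g * a * g⁻¹ = a⁻¹) {A Gt : Γ} (hA : σ A = a) (hG : σ Gt = g) : A ^ 3 = 1 := by
  have hk : A ^ 3 ∈ σ.ker := by rw [MonoidHom.mem_ker, map_pow, hA, ha]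
  have hη : A * (Gt * A * Gt⁻¹) ∈ σ.ker := by
    rw [MonoidHom.mem_ker, map_mul, map_mul, map_mul, map_inv, hA, hG, hg, mul_inv_cancel]
  have hηc : Commute A⁻¹ (A * (Gt * A * Gt⁻¹)) :=
    (Subgroup.mem_center_iff.1 (hσ.central hη) A⁻¹)
  have e1 : Gt * A * Gt⁻¹ = A⁻¹ * (A * (Gt * A * Gt⁻¹)) := by group
  have e2 : Gt * A ^ 3 * Gt⁻¹ = (A ^ 3)⁻¹ := by
    rw [← conj_pow, e1, hηc.mul_pow, hσ.pow_eq_one hη, mul_one, inv_pow]
  have e3 : Gt * A ^ 3 * Gt⁻¹ = A ^ 3 := by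
    rw [Subgroup.mem_center_iff.1 (hσ.central hk) Gt, mul_inv_cancel_right]
  exact eq_one_of_eq_inv hσ hk (e3.symm.trans e2)

/-- Relations of an elementary abelian group of order 9 with an element centralising `a` and
inverting `b`. -/
structure E9Rel {X : Type*} [Group X] (a b g : X) : Prop where
  a3 : a ^ 3 = 1
  b3 : b ^ 3 = 1
  ab : a * b = b * a
  ga : g * a * g⁻¹ = a
  gb : g * b * g⁻¹ = b⁻¹

theorem pstem_false_of_E9 [Finite Γ] [Finite G] (hσ : PStem σ 3) {a b g : G}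
    (h : E9Rel a b g) (hcard : 9 ≤ Nat.card (Subgroup.closure ({a, b} : Set G)))
    (m : ℕ) (hm : Nat.Coprime m 3) (hG : Nat.card G = 9 * m) : False := by
  -- the order of the subgroup
  have hle : Nat.card (Subgroup.closure ({a, b} : Set G)) ≤ 9 := by
    have h1 := card_closure_comm_le 3 (by norm_num) [a, b] (by
      intro x hx
      simp only [List.mem_cons, List.not_mem_nil, or_false] at hx
      rcases hx with rfl | rfl
      · exact h.a3
      · exact h.b3) (by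
      intro x hx y hy
      simp only [List.mem_cons, List.not_mem_nil, or_false] at hx hy
      rcases hx with rfl | rfl <;> rcases hy with rfl | rfl
      · rfl
      · exact h.ab
      · exact h.ab.symm
      · rfl)
    have hset : ({x | x ∈ [a, b]} : Set G) = {a, b} := by
      ext x; simp
    rw [hset] at h1
    exact h1
  have hQ : Nat.card (Subgroup.closure ({a, b} : Set G)) = 9 := le_antisymm hle hcard
  have h3 := (Subgroup.closure ({a, b} : Set G)).index_mul_card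
  rw [hQ, hG] at h3
  have hidx : (Subgroup.closure ({a, b} : Set G)).index = m := by
    have : 9 * (Subgroup.closure ({a, b} : Set G)).index = 9 * m := by rw [mul_comm]; exact h3
    exact Nat.eq_of_mul_eq_mul_left (by norm_num) this
  obtain ⟨A, hA⟩ := hσ.surj a
  obtain ⟨B, hB⟩ := hσ.surj b
  obtain ⟨Gt, hGt⟩ := hσ.surj g
  -- the commutator of the lifts is trivial
  have hu : ⁅A, B⁆ ∈ σ.ker := by
    rw [MonoidHom.mem_ker, map_commutatorElement, hA, hB, commutatorElement_eq_one_iff_mul_comm]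
    exact h.ab
  have hη1 : A⁻¹ * (Gt * A * Gt⁻¹) ∈ σ.ker := by
    rw [MonoidHom.mem_ker, map_mul, map_mul, map_mul, map_inv, map_inv, hA, hGt, h.ga,
      inv_mul_cancel]
  have hη2 : B * (Gt * B * Gt⁻¹) ∈ σ.ker := by
    rw [MonoidHom.mem_ker, map_mul, map_mul, map_mul, map_inv, hB, hGt, h.gb, mul_inv_cancel]
  have e1 : Gt * A * Gt⁻¹ = A * (A⁻¹ * (Gt * A * Gt⁻¹)) := by group
  have e2 : Gt * B * Gt⁻¹ = B⁻¹ * (B * (Gt * B * Gt⁻¹)) := by group
  have e3 : Gt * ⁅A, B⁆ * Gt⁻¹ = ⁅A, B⁻¹⁆ := by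
    rw [conj_commutator, e1, e2, commutatorElement_mul_center_left _ _ _ (hσ.central hη1),
      commutatorElement_mul_center_right _ _ _ (hσ.central hη2)]
  have e4 : Gt * ⁅A, B⁆ * Gt⁻¹ = ⁅A, B⁆ := by
    rw [Subgroup.mem_center_iff.1 (hσ.central hu) Gt, mul_inv_cancel_right]
  have e5 : ⁅A, B⁻¹⁆ = (⁅A, B⁆)⁻¹ := by
    have hc : B⁻¹ * ⁅A, B⁆ = ⁅A, B⁆ * B⁻¹ := Subgroup.mem_center_iff.1 (hσ.central hu) B⁻¹
    exact comm_inv_of_central A B hc
  have hu1 : ⁅A, B⁆ = 1 := eq_one_of_eq_inv hσ hu (e4.symm.trans (e3.trans e5))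
  have hAB : A * B = B * A := commutatorElement_eq_one_iff_mul_comm.1 hu1
  refine pstem_false_of_abelian Nat.prime_three hσ (Subgroup.closure ({a, b} : Set G))
    (by rw [hidx]; exact hm) (Subgroup.closure ({A, B} : Set Γ)) ?_ ?_
  · rw [Subgroup.closure_le]
    intro x hx
    simp only [Set.mem_insert_iff, Set.mem_singleton_iff] at hx
    rcases hx with rfl | rfl
    · exact ⟨A, Subgroup.subset_closure (by simp), hA⟩
    · exact ⟨B, Subgroup.subset_closure (by simp), hB⟩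
  · apply comm_of_mem_closure
    intro x hx y hy
    simp only [Set.mem_insert_iff, Set.mem_singleton_iff] at hx hy
    rcases hx with rfl | rfl <;> rcases hy with rfl | rfl
    · rfl
    · exact hAB
    · exact hAB.symm
    · rfl

/-- Relations of an extraspecial group of order 27 and exponent 3 with an element inverting the
generators `a`, `b` (and hence centralising the centre). -/
structure E27Rel {X : Type*} [Group X] (a b g : X) : Prop where
  a3 : a ^ 3 = 1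
  b3 : b ^ 3 = 1
  ca : ⁅a, b⁆ * a = a * ⁅a, b⁆
  cb : ⁅a, b⁆ * b = b * ⁅a, b⁆
  ga : g * a * g⁻¹ = a⁻¹
  gb : g * b * g⁻¹ = b⁻¹
  gc : g * ⁅a, b⁆ * g⁻¹ = ⁅a, b⁆

theorem pstem_false_of_E27 [Finite Γ] [Finite G] (hσ : PStem σ 3) {a b g : G}
    (h : E27Rel a b g) (hcard : 27 ≤ Nat.card (Subgroup.closure ({a, b} : Set G)))
    (m : ℕ) (hm : Nat.Coprime m 3) (hG : Nat.card G = 27 * m) : False := by
  obtain ⟨A, hA⟩ := hσ.surj a
  obtain ⟨B, hB⟩ := hσ.surj b
  obtain ⟨Gt, hGt⟩ := hσ.surj g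
  have hA3 : A ^ 3 = 1 := cube_eq_one_of_inverted hσ h.a3 h.ga hA hGt
  have hB3 : B ^ 3 = 1 := cube_eq_one_of_inverted hσ h.b3 h.gb hB hGt
  have hC : σ ⁅A, B⁆ = ⁅a, b⁆ := by rw [map_commutatorElement, hA, hB]
  -- conjugation by `Gt` on the lifts
  have hη1 : A * (Gt * A * Gt⁻¹) ∈ σ.ker := by
    rw [MonoidHom.mem_ker, map_mul, map_mul, map_mul, map_inv, hA, hGt, h.ga, mul_inv_cancel]
  have hη2 : B * (Gt * B * Gt⁻¹) ∈ σ.ker := by
    rw [MonoidHom.mem_ker, map_mul, map_mul, map_mul, map_inv, hB, hGt, h.gb, mul_inv_cancel]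
  have hη3 : (⁅A, B⁆)⁻¹ * (Gt * ⁅A, B⁆ * Gt⁻¹) ∈ σ.ker := by
    rw [MonoidHom.mem_ker, map_mul, map_mul, map_mul, map_inv, map_inv, hC, hGt, h.gc,
      inv_mul_cancel]
  have e1 : Gt * A * Gt⁻¹ = A⁻¹ * (A * (Gt * A * Gt⁻¹)) := by group
  have e2 : Gt * B * Gt⁻¹ = B⁻¹ * (B * (Gt * B * Gt⁻¹)) := by group
  have e3 : Gt * ⁅A, B⁆ * Gt⁻¹ = ⁅A, B⁆ * ((⁅A, B⁆)⁻¹ * (Gt * ⁅A, B⁆ * Gt⁻¹)) := by group
  -- `[x, C]` is trivial for `x = A, B`
  have key : ∀ (Y : Γ) (y : G), σ Y = y → ⁅a, b⁆ * y = y * ⁅a, b⁆ →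
      Y * (Gt * Y * Gt⁻¹) ∈ σ.ker → ⁅Y, ⁅A, B⁆⁆ = 1 := by
    intro Y y hY hcy hη
    have hu : ⁅Y, ⁅A, B⁆⁆ ∈ σ.ker := by
      rw [MonoidHom.mem_ker, map_commutatorElement, hY, hC,
        commutatorElement_eq_one_iff_mul_comm]
      exact hcy.symm
    have e0 : Gt * Y * Gt⁻¹ = Y⁻¹ * (Y * (Gt * Y * Gt⁻¹)) := by group
    have e4 : Gt * ⁅Y, ⁅A, B⁆⁆ * Gt⁻¹ = ⁅Y⁻¹, ⁅A, B⁆⁆ := by
      rw [conj_commutator, e0, e3, commutatorElement_mul_center_left _ _ _ (hσ.central hη),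
        commutatorElement_mul_center_right _ _ _ (hσ.central hη3)]
    have e5 : Gt * ⁅Y, ⁅A, B⁆⁆ * Gt⁻¹ = ⁅Y, ⁅A, B⁆⁆ := by
      rw [Subgroup.mem_center_iff.1 (hσ.central hu) Gt, mul_inv_cancel_right]
    have e6 : ⁅Y⁻¹, ⁅A, B⁆⁆ = (⁅Y, ⁅A, B⁆⁆)⁻¹ := by
      have hc : Y⁻¹ * ⁅Y, ⁅A, B⁆⁆ = ⁅Y, ⁅A, B⁆⁆ * Y⁻¹ :=
        Subgroup.mem_center_iff.1 (hσ.central hu) Y⁻¹
      exact comm_inv_left_of_central Y ⁅A, B⁆ hc
    exact eq_one_of_eq_inv hσ hu (e5.symm.trans (e4.trans e6))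
  have hAC : A * ⁅A, B⁆ = ⁅A, B⁆ * A :=
    commutatorElement_eq_one_iff_mul_comm.1 (key A a hA h.ca hη1)
  have hBC : B * ⁅A, B⁆ = ⁅A, B⁆ * B :=
    commutatorElement_eq_one_iff_mul_comm.1 (key B b hB h.cb hη2)
  -- `C ^ 3 = 1`
  have hpow : ∀ n : ℕ, ⁅A ^ n, B⁆ = ⁅A, B⁆ ^ n := by
    intro n
    induction n with
    | zero => simp
    | succ n ih =>
      have hcomm : A * ⁅A, B⁆ ^ n = ⁅A, B⁆ ^ n * A := (Commute.pow_right hAC n)
      calc ⁅A ^ (n + 1), B⁆ = A * ⁅A ^ n, B⁆ * A⁻¹ * ⁅A, B⁆ := by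
            rw [pow_succ', commutatorElement_def, commutatorElement_def, commutatorElement_def]
            group
        _ = A * ⁅A, B⁆ ^ n * A⁻¹ * ⁅A, B⁆ := by rw [ih]
        _ = ⁅A, B⁆ ^ n * A * A⁻¹ * ⁅A, B⁆ := by rw [hcomm]
        _ = ⁅A, B⁆ ^ (n + 1) := by rw [mul_inv_cancel_right, pow_succ]
  have hC3 : ⁅A, B⁆ ^ 3 = 1 := by
    rw [← hpow 3, hA3]
    simp
  -- the polycyclic sequence `A, B, C`
  have hpc : PCList 3 (⊥ : Subgroup Γ) [A, B, ⁅A, B⁆] := by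
    refine ⟨?_, ?_, ?_, ?_, ?_, ?_, ?_, ?_, ?_, trivial⟩
    · rw [hA3]; exact one_mem _
    · intro n hn
      rw [Subgroup.mem_bot] at hn; subst hn; simp
    · intro x hx
      simp only [List.mem_cons, List.not_mem_nil, or_false] at hx
      rcases hx with rfl | rfl
      · rw [conj_eq_commutator_mul]
        exact mul_mem (mem_sup_closure_of_mem _ (by simp)) (mem_sup_closure_of_mem _ (by simp))
      · rw [conj_eq_of_comm hAC]; exact mem_sup_closure_of_mem _ (by simp)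
    · rw [hB3]; exact one_mem _
    · intro n hn
      rw [Subgroup.mem_bot] at hn; subst hn; simp
    · intro x hx
      simp only [List.mem_cons, List.not_mem_nil, or_false] at hx
      subst hx
      rw [conj_eq_of_comm hBC]; exact mem_sup_closure_of_mem _ (by simp)
    · rw [hC3]; exact one_mem _
    · intro n hn
      rw [Subgroup.mem_bot] at hn; subst hn
      rw [mul_one, mul_inv_cancel]; exact one_mem _
    · intro x hx
      simp at hx
  have hK := card_pcList_le 3 (by norm_num) ⊥ _ hpc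
  rw [Subgroup.card_bot, mul_one] at hK
  refine pstem_false_of_bound Nat.prime_three hσ (Subgroup.closure ({a, b} : Set G))
    (⊥ ⊔ Subgroup.closure {x | x ∈ [A, B, ⁅A, B⁆]}) ?_ 27 m hK hcard hG hm
  rw [Subgroup.closure_le]
  intro x hx
  simp only [Set.mem_insert_iff, Set.mem_singleton_iff] at hx
  rcases hx with rfl | rfl
  · exact ⟨A, mem_sup_closure_of_mem _ (by simp), hA⟩
  · exact ⟨B, mem_sup_closure_of_mem _ (by simp), hB⟩

end three

end Cfsg.Agent.Lib.helper33
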