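/-
Schur multipliers that are cyclic of order six: reduction of "all kernels of stem extensions have
order dividing 6" to kernels of order 4, 9 and of prime order at least 5; exclusion of kernels of
order 4 when a Sylow 2-subgroup is dihedral of order 8 with conjugate involutions, and of kernels
of order 9 when a Sylow 3-subgroup is elementary abelian of order 9; and the final criterion,
glued with the canonical multiplier of helper69.  (owner: helper33)
-/
import Mathlib
import Cfsg.Prelude.Def_KGroupFacts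
import Cfsg.Agent.Lib.helper33.SchurBase
import Cfsg.Agent.Lib.helper33.SchurPC
import Cfsg.Agent.Lib.helper33.SchurTwo
import Cfsg.Agent.Lib.helper33.SchurThree
import Cfsg.Agent.Lib.helper33.SchurQuot
import Cfsg.Agent.Lib.helper69.SchurCover

set_option autoImplicit false

universe u v w

namespace Cfsg.Agent.Lib.helper33

open scoped commutatorElement

/-- If `q` divides the order of the kernel of a finite stem extension, some finite stem extension
has kernel of order exactly `q`. -/
theorem exists_stem_card_eq_aux {G : Type*} [Group G] (q : ℕ) :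
    ∀ n : ℕ, ∀ (Γ : Type u) [Group Γ] [Finite Γ] (σ : Γ →* G), Nat.card Γ = n →
      Cfsg.IsStemExtension σ → q ∣ Nat.card σ.ker →
      ∃ (Γ' : Type u) (_ : Group Γ') (_ : Finite Γ') (σ' : Γ' →* G),
        Cfsg.IsStemExtension σ' ∧ Nat.card σ'.ker = q := by
  intro n
  induction n using Nat.strong_induction_on with
  | _ n ih =>
    intro Γ _ _ σ hn hσ hq
    by_cases heq : Nat.card σ.ker = q
    · exact ⟨Γ, inferInstance, inferInstance, σ, hσ, heq⟩
    · obtain ⟨k, hk⟩ := hq
      have hk1 : k ≠ 1 := by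
        rintro rfl
        exact heq (by rw [hk, mul_one])
      obtain ⟨p, hp, hpk⟩ := Nat.exists_prime_and_dvd hk1
      have := Fact.mk hp
      have hpd : p ∣ Nat.card σ.ker := by rw [hk]; exact Dvd.dvd.mul_left hpk q
      obtain ⟨z, hz⟩ := exists_prime_orderOf_dvd_card' p hpd
      obtain ⟨Γ', _, _, σ', π, -, -, -, hst, hk', hc⟩ := stem_quot σ hσ (z : Γ) z.2
      rw [Subgroup.orderOf_coe, hz] at hk' hc
      have hlt : Nat.card Γ' < n := by
        rw [← hn, ← hc]
        have h1 : 0 < Nat.card Γ' := Nat.card_pos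
        have h2 := hp.two_le
        nlinarith
      refine ih _ hlt Γ' σ' rfl hst ?_
      obtain ⟨j, rfl⟩ := hpk
      refine ⟨j, ?_⟩
      have h3 : Nat.card σ'.ker * p = (q * j) * p := by rw [hk', hk]; ring
      exact Nat.eq_of_mul_eq_mul_right hp.pos h3

/-- If no finite stem extension of `G` has kernel of order 4, of order 9, or of prime order at
least 5, then the kernel of every finite stem extension has order dividing 6. -/
theorem card_ker_dvd_six {G : Type u} [Group G]
    (h5 : ∀ p : ℕ, p.Prime → 5 ≤ p → ∀ (Γ : Type u) [Group Γ] [Finite Γ] (σ : Γ →* G),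
      PStem σ p → False)
    (h4 : ∀ (Γ : Type u) [Group Γ] [Finite Γ] (σ : Γ →* G), Cfsg.IsStemExtension σ →
      Nat.card σ.ker = 4 → False)
    (h9 : ∀ (Γ : Type u) [Group Γ] [Finite Γ] (σ : Γ →* G), Cfsg.IsStemExtension σ →
      Nat.card σ.ker = 9 → False)
    (Γ : Type u) [Group Γ] [Finite Γ] (σ : Γ →* G) (hσ : Cfsg.IsStemExtension σ) :
    Nat.card σ.ker ∣ 6 := by
  have hN : Nat.card σ.ker ≠ 0 := Nat.card_pos.ne'
  have n4 : ¬ 4 ∣ Nat.card σ.ker := fun h => by
    obtain ⟨Γ', _, _, σ', hst, hc⟩ := exists_stem_card_eq_aux 4 _ Γ σ rfl hσ h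
    exact h4 Γ' σ' hst hc
  have n9 : ¬ 9 ∣ Nat.card σ.ker := fun h => by
    obtain ⟨Γ', _, _, σ', hst, hc⟩ := exists_stem_card_eq_aux 9 _ Γ σ rfl hσ h
    exact h9 Γ' σ' hst hc
  have np : ∀ p : ℕ, p.Prime → 5 ≤ p → ¬ p ∣ Nat.card σ.ker := fun p hp h5p h => by
    obtain ⟨Γ', _, _, σ', hst, hc⟩ := exists_stem_card_eq_aux p _ Γ σ rfl hσ h
    exact h5 p hp h5p Γ' σ' ⟨hst.1, hst.2.1, hst.2.2, hc⟩
  rw [← Nat.factorization_le_iff_dvd hN (by norm_num)]
  intro p
  by_cases hp : p.Prime
  · by_cases h2 : p = 2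
    · subst h2
      have h1 : (Nat.card σ.ker).factorization 2 ≤ 1 := by
        by_contra hcon
        push Not at hcon
        have h := (Nat.prime_two.pow_dvd_iff_le_factorization hN).2 hcon
        exact n4 h
      have h2 : 1 ≤ (6 : ℕ).factorization 2 :=
        (Nat.prime_two.pow_dvd_iff_le_factorization (by norm_num)).1 (by norm_num)
      exact h1.trans h2
    · by_cases h3 : p = 3
      · subst h3
        have h1 : (Nat.card σ.ker).factorization 3 ≤ 1 := by
          by_contra hcon
          push Not at hcon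
          have h := (Nat.prime_three.pow_dvd_iff_le_factorization hN).2 hcon
          exact n9 h
        have h2 : 1 ≤ (6 : ℕ).factorization 3 :=
          (Nat.prime_three.pow_dvd_iff_le_factorization (by norm_num)).1 (by norm_num)
        exact h1.trans h2
      · have h5p : 5 ≤ p := by
          have h0 := hp.two_le
          by_contra hcon
          push Not at hcon
          interval_cases p
          · exact h2 rfl
          · exact h3 rfl
          · exact absurd hp (by decide)
        rw [Nat.factorization_eq_zero_of_not_dvd (np p hp h5p)]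
        exact Nat.zero_le _
  · rw [Nat.factorization_eq_zero_of_not_prime _ hp]
    exact Nat.zero_le _

/-- Transfer for an arbitrary finite stem extension: the `Q.index`-th power of an element of the
kernel lies in the commutator subgroup of any subgroup `K` mapping onto (a group containing)
`Q`. -/
theorem ker_pow_index_mem_commutator {Γ G : Type*} [Group Γ] [Group G] [Finite Γ]
    {σ : Γ →* G} (hσ : Cfsg.IsStemExtension σ) (Q : Subgroup G) (K : Subgroup Γ)
    (hK : Q ≤ K.map σ) {z : Γ} (hz : z ∈ σ.ker) : z ^ Q.index ∈ ⁅K, K⁆ := by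
  obtain ⟨hsurj, hcen, hcom⟩ := hσ
  have hidx : (Q.comap σ).index = Q.index := Subgroup.index_comap_of_surjective Q hsurj
  obtain ⟨h1, h2⟩ := pow_index_mem_comm (Q.comap σ) z (hcen hz) (hcom hz)
  have h3 : z ^ (Q.comap σ).index ∈ ⁅Q.comap σ, Q.comap σ⁆ := by
    rw [← Subgroup.map_subtype_commutator]
    exact ⟨⟨z ^ (Q.comap σ).index, h1⟩, h2, rfl⟩
  have h4 : ⁅Q.comap σ, Q.comap σ⁆ ≤ ⁅K, K⁆ := by
    rw [Subgroup.commutator_le]
    intro x hx y hy
    obtain ⟨w1, hw1, hw1x⟩ := hK hx
    obtain ⟨w2, hw2, hw2y⟩ := hK hy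
    have hc1 : w1⁻¹ * x ∈ Subgroup.center Γ := hcen (by
      rw [MonoidHom.mem_ker, map_mul, map_inv, hw1x, inv_mul_cancel])
    have hc2 : w2⁻¹ * y ∈ Subgroup.center Γ := hcen (by
      rw [MonoidHom.mem_ker, map_mul, map_inv, hw2y, inv_mul_cancel])
    have hx' : x = w1 * (w1⁻¹ * x) := by group
    have hy' : y = w2 * (w2⁻¹ * y) := by group
    rw [hx', hy', commutatorElement_mul_center_left _ _ _ hc1,
      commutatorElement_mul_center_right _ _ _ hc2]
    exact Subgroup.commutator_mem_commutator hw1 hw2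
  rw [← hidx]
  exact h4 h3

/-- The commutators of the subgroup generated by `A` and `B` are powers of `[A, B]` when the
latter is central. -/
theorem commutator_mem_zpowers_of_central {X : Type*} [Group X] (A B : X)
    (hc : ⁅A, B⁆ ∈ Subgroup.center X) :
    ∀ x ∈ Subgroup.closure ({A, B} : Set X), ∀ y ∈ Subgroup.closure ({A, B} : Set X),
      ⁅x, y⁆ ∈ Subgroup.zpowers ⁅A, B⁆ := by
  have hle : Subgroup.zpowers ⁅A, B⁆ ≤ Subgroup.center X := by
    rw [Subgroup.zpowers_le]; exact hc
  have hn : (Subgroup.zpowers ⁅A, B⁆).Normal := by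
    constructor
    intro n hn g
    have h1 := Subgroup.mem_center_iff.1 (hle hn) g
    rw [h1, mul_inv_cancel_right]
    exact hn
  have h1 : (QuotientGroup.mk' (Subgroup.zpowers ⁅A, B⁆)) ⁅A, B⁆ = 1 :=
    (QuotientGroup.eq_one_iff _).2 (Subgroup.mem_zpowers _)
  rw [map_commutatorElement, commutatorElement_eq_one_iff_mul_comm] at h1
  have hmap : (Subgroup.closure ({A, B} : Set X)).map (QuotientGroup.mk' (Subgroup.zpowers ⁅A, B⁆))
      = Subgroup.closure ((QuotientGroup.mk' (Subgroup.zpowers ⁅A, B⁆)) '' ({A, B} : Set X)) :=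
    MonoidHom.map_closure _ _
  have hcomm := comm_of_mem_closure
    (S := (QuotientGroup.mk' (Subgroup.zpowers ⁅A, B⁆)) '' ({A, B} : Set X)) (by
      rintro _ ⟨u, hu, rfl⟩ _ ⟨v, hv, rfl⟩
      simp only [Set.mem_insert_iff, Set.mem_singleton_iff] at hu hv
      rcases hu with rfl | rfl <;> rcases hv with rfl | rfl
      · rfl
      · exact h1
      · exact h1.symm
      · rfl)
  intro x hx y hy
  have h2 := hcomm _ (hmap ▸ Subgroup.mem_map_of_mem _ hx) _ (hmap ▸ Subgroup.mem_map_of_mem _ hy)
  rw [← commutatorElement_eq_one_iff_mul_comm, ← map_commutatorElement] at h2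
  exact (QuotientGroup.eq_one_iff _).1 h2

/-- Commuting elements of order dividing 3 generate a group of order at most 9. -/
theorem card_E9_le {X : Type*} [Group X] [Finite X] (a b : X) (ha : a ^ 3 = 1) (hb : b ^ 3 = 1)
    (hab : a * b = b * a) : Nat.card (Subgroup.closure ({a, b} : Set X)) ≤ 9 := by
  have h1 := card_closure_comm_le 3 (by norm_num) [a, b] (by
    intro x hx
    simp only [List.mem_cons, List.not_mem_nil, or_false] at hx
    rcases hx with rfl | rfl
    · exact ha
    · exact hb) (by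
    intro x hx y hy
    simp only [List.mem_cons, List.not_mem_nil, or_false] at hx hy
    rcases hx with rfl | rfl <;> rcases hy with rfl | rfl
    · rfl
    · exact hab
    · exact hab.symm
    · rfl)
  have hset : ({x | x ∈ [a, b]} : Set X) = {a, b} := by
    ext x; simp
  rw [hset] at h1
  exact h1

/-- A list of distinct elements of a subgroup bounds its order from below. -/
theorem length_le_card_of_nodup_sub {X : Type*} [Group X] [Finite X] (H : Subgroup X) (l : List X)
    (hl : l.Nodup) (hmem : ∀ x ∈ l, x ∈ H) : l.length ≤ Nat.card H := by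
  classical
  have h1 : (↑l.toFinset : Set X) ⊆ (H : Set X) := by
    intro x hx
    exact hmem x (by simpa using hx)
  have h2 := Set.ncard_le_ncard h1 (Set.toFinite _)
  rw [Set.ncard_coe_finset, List.toFinset_card_of_nodup hl] at h2
  exact h2.trans (Nat.card_coe_set_eq (H : Set X)).symm.le

/-- A group whose order is `9 m` with `m` prime to 3, containing commuting elements `a, b` of
order 3 generating a subgroup of order 9, has no stem extension with kernel of order 9. -/
theorem no_ker_nine_of_E9 {G : Type u} [Group G] [Finite G] (a b : G) (ha : a ^ 3 = 1)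
    (hb : b ^ 3 = 1) (hab : a * b = b * a)
    (hcard : 9 ≤ Nat.card (Subgroup.closure ({a, b} : Set G)))
    (m : ℕ) (hm : Nat.Coprime m 3) (hG : Nat.card G = 9 * m)
    (Γ : Type u) [Group Γ] [Finite Γ] (σ : Γ →* G) (hσ : Cfsg.IsStemExtension σ)
    (h9 : Nat.card σ.ker = 9) : False := by
  have hle : Nat.card (Subgroup.closure ({a, b} : Set G)) ≤ 9 := card_E9_le a b ha hb hab
  have hQ : Nat.card (Subgroup.closure ({a, b} : Set G)) = 9 := le_antisymm hle hcard
  have h3 := (Subgroup.closure ({a, b} : Set G)).index_mul_card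
  rw [hQ, hG] at h3
  have hidx : (Subgroup.closure ({a, b} : Set G)).index = m := by
    have : 9 * (Subgroup.closure ({a, b} : Set G)).index = 9 * m := by rw [mul_comm]; exact h3
    exact Nat.eq_of_mul_eq_mul_left (by norm_num) this
  obtain ⟨A, hA⟩ := hσ.1 a
  obtain ⟨B, hB⟩ := hσ.1 b
  have hu : ⁅A, B⁆ ∈ σ.ker := by
    rw [MonoidHom.mem_ker, map_commutatorElement, hA, hB, commutatorElement_eq_one_iff_mul_comm]
    exact hab
  have hcen : ⁅A, B⁆ ∈ Subgroup.center Γ := hσ.2.1 hu
  -- the cube of the commutator is trivial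
  have hA3 : A * (A * A) ∈ Subgroup.center Γ := hσ.2.1 (by
    rw [MonoidHom.mem_ker, map_mul, map_mul, hA, ← pow_two, ← pow_succ']
    exact ha)
  have e1 : ⁅A * A, B⁆ = ⁅A, B⁆ * ⁅A, B⁆ := commutator_mul_left_of_central A A B hcen
  have e2 : ⁅A * (A * A), B⁆ = ⁅A, B⁆ * ⁅A * A, B⁆ :=
    commutator_mul_left_of_central A (A * A) B (by
      rw [e1]; exact Subgroup.mul_mem _ hcen hcen)
  have e3 : ⁅A * (A * A), B⁆ = 1 := by
    rw [commutatorElement_eq_one_iff_mul_comm]
    exact (Subgroup.mem_center_iff.1 hA3 B).symm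
  have hc3 : ⁅A, B⁆ ^ 3 = 1 := by
    rw [pow_succ', pow_two, ← e1, ← e2, e3]
  -- the kernel lies in the cyclic group generated by the commutator
  have hK : Subgroup.closure ({a, b} : Set G) ≤ (Subgroup.closure ({A, B} : Set Γ)).map σ := by
    rw [Subgroup.closure_le]
    intro x hx
    simp only [Set.mem_insert_iff, Set.mem_singleton_iff] at hx
    rcases hx with rfl | rfl
    · exact ⟨A, Subgroup.subset_closure (by simp), hA⟩
    · exact ⟨B, Subgroup.subset_closure (by simp), hB⟩
  have hcomm : ⁅Subgroup.closure ({A, B} : Set Γ), Subgroup.closure ({A, B} : Set Γ)⁆ ≤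
      Subgroup.zpowers ⁅A, B⁆ := by
    rw [Subgroup.commutator_le]
    exact commutator_mem_zpowers_of_central A B hcen
  have hker : σ.ker ≤ Subgroup.zpowers ⁅A, B⁆ := by
    intro z hz
    have h1 := hcomm (ker_pow_index_mem_commutator hσ _ _ hK hz)
    rw [hidx] at h1
    have hz9 : z ^ 9 = 1 := by
      have h5 : (⟨z, hz⟩ : σ.ker) ^ Nat.card σ.ker = 1 := pow_card_eq_one'
      rw [h9] at h5
      exact congrArg Subtype.val h5
    have hcop : Nat.Coprime m 9 := by
      have : (9 : ℕ) = 3 ^ 2 := by norm_num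
      rw [this]
      exact Nat.Coprime.pow_right 2 hm
    obtain ⟨j, -, hj⟩ := Nat.exists_mul_mod_eq_one_of_coprime hcop (by norm_num)
    have hz1 : z ^ (m * j) = z := by
      conv_lhs => rw [← Nat.div_add_mod (m * j) 9, pow_add, pow_mul, hz9, one_pow,
        one_mul, hj, pow_one]
    rw [← hz1, pow_mul]
    exact Subgroup.pow_mem _ h1 j
  have h4 := Subgroup.card_le_of_le hker
  rw [h9, Nat.card_zpowers] at h4
  have h5 : orderOf ⁅A, B⁆ ∣ 3 := orderOf_dvd_of_pow_eq_one hc3
  have h6 := Nat.le_of_dvd (by norm_num) h5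
  omega

/-- A dihedral group of order 8 given by generators and relations has at most 8 elements. -/
theorem card_D8_le {X : Type*} [Group X] [Finite X] (r s : X)
    (hr : (r * r) * (r * r) = 1) (hs : s * s = 1) (hsr : (s * r) * (s * r) = 1) :
    Nat.card (Subgroup.closure {x | x ∈ [s, r, r * r]}) ≤ 8 := by
  have hsinv : s⁻¹ = s := inv_eq_self_of_sq hs
  have hsrs : s * r * s⁻¹ = r⁻¹ := by
    rw [hsinv]
    have h1 : s * r * s = (s * r * (s * r)) * r⁻¹ := by group
    rw [h1, hsr, one_mul]
  have hpc : PCList 2 (⊥ : Subgroup X) [s, r, r * r] := by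
    refine ⟨?_, ?_, ?_, ⟨?_, ?_, ?_, ⟨?_, ?_, ?_, trivial⟩⟩⟩
    · rw [pow_two, hs]; exact one_mem _
    · intro n hn
      rw [Subgroup.mem_bot] at hn
      subst hn
      simp
    · intro x hx
      simp only [List.mem_cons, List.not_mem_nil, or_false] at hx
      apply Subgroup.mem_sup_right
      rcases hx with rfl | rfl
      · rw [hsrs]
        exact Subgroup.inv_mem _ (Subgroup.subset_closure (by simp))
      · have h1 : s * (r * r) * s⁻¹ = (s * r * s⁻¹) * (s * r * s⁻¹) := by group
        rw [h1, hsrs, ← mul_inv_rev]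
        exact Subgroup.inv_mem _ (Subgroup.subset_closure (by simp))
    · rw [pow_two]
      exact Subgroup.mem_sup_right (Subgroup.subset_closure (by simp))
    · intro n hn
      rw [Subgroup.mem_bot] at hn
      subst hn
      simp
    · intro x hx
      simp only [List.mem_cons, List.not_mem_nil, or_false] at hx
      subst hx
      have h1 : r * (r * r) * r⁻¹ = r * r := by group
      rw [h1]
      exact Subgroup.mem_sup_right (Subgroup.subset_closure (by simp))
    · rw [pow_two, hr]; exact one_mem _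
    · intro n hn
      rw [Subgroup.mem_bot] at hn
      subst hn
      simp
    · intro x hx
      simp at hx
  have h := card_pcList_le 2 (by norm_num) ⊥ [s, r, r * r] hpc
  rw [bot_sup_eq, Subgroup.card_bot, mul_one] at h
  exact h

/-- A group of order `8 m`, `m` odd, containing a dihedral subgroup `⟨r, s⟩` of order 8 whose
involutions `r²`, `s`, `s r` are conjugate in the group, has no stem extension with kernel of
order 4. -/
theorem no_ker_four_of_D8 {G : Type u} [Group G] [Finite G] (r s g1 g2 : G)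
    (hr : (r * r) * (r * r) = 1) (hs : s * s = 1) (hsr : (s * r) * (s * r) = 1)
    (hcomm : (r * r) * s = s * (r * r)) (hconj : r * s * r⁻¹ = (r * r) * s)
    (h1 : g1 * (r * r) * g1⁻¹ = s) (h2 : g2 * (r * r) * g2⁻¹ = s * r)
    (hcard : 8 ≤ Nat.card (Subgroup.closure {x | x ∈ [s, r, r * r]}))
    (m : ℕ) (hm : Nat.Coprime m 2) (hG : Nat.card G = 8 * m)
    (Γ : Type u) [Group Γ] [Finite Γ] (σ : Γ →* G) (hσ : Cfsg.IsStemExtension σ)
    (h4 : Nat.card σ.ker = 4) : False := by
  refine no_ker_four (r * r) s hr hs hcomm ?_ Γ σ hσ h4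
  intro Γ _ _ σ hσ t ht x hx hxx
  have hPt : Plus σ t := plus_of_lift hσ hx hxx
  -- `s` is plus
  have hPs' : Plus σ t → Plus σ s ∨ Plus σ (r * r) := by
    intro hP
    rcases ht with rfl | rfl | rfl
    · exact Or.inr hP
    · exact Or.inl hP
    · left
      have h3 := hP.conj hσ.surj r⁻¹
      have e : r⁻¹ * (r * r * s) * r⁻¹⁻¹ = s := by
        rw [← hconj]; group
      rw [e] at h3
      exact h3
  have hPr : Plus σ (r * r) := by
    rcases hPs' hPt with h | h
    · have h3 := h.conj hσ.surj g1⁻¹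
      have e : g1⁻¹ * s * g1⁻¹⁻¹ = r * r := by
        rw [← h1]; group
      rw [e] at h3
      exact h3
    · exact h
  have hPs : Plus σ s := by
    have h3 := hPr.conj hσ.surj g1
    rw [h1] at h3
    exact h3
  have hPsr : Plus σ (s * r) := by
    have h3 := hPr.conj hσ.surj g2
    rw [h2] at h3
    exact h3
  obtain ⟨R, hR⟩ := hσ.surj r
  obtain ⟨S, hS⟩ := hσ.surj s
  have eR : (R * R) * (R * R) = 1 := hPr (R * R) (by rw [map_mul, hR])
  have eS : S * S = 1 := hPs S hS
  have eSR : (S * R) * (S * R) = 1 := hPsr (S * R) (by rw [map_mul, hS, hR])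
  have hle : Nat.card (Subgroup.closure {x | x ∈ [s, r, r * r]}) ≤ 8 := card_D8_le r s hr hs hsr
  have hQ : Nat.card (Subgroup.closure {x | x ∈ [s, r, r * r]}) = 8 := le_antisymm hle hcard
  have h3 := (Subgroup.closure {x | x ∈ [s, r, r * r]}).index_mul_card
  rw [hQ, hG] at h3
  have hidx : (Subgroup.closure {x | x ∈ [s, r, r * r]}).index = m := by
    have : 8 * (Subgroup.closure {x | x ∈ [s, r, r * r]}).index = 8 * m := by
      rw [mul_comm]; exact h3
    exact Nat.eq_of_mul_eq_mul_left (by norm_num) this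
  refine pstem_false_of_complement Nat.prime_two hσ (Subgroup.closure {x | x ∈ [s, r, r * r]})
    (by rw [hidx]; exact hm) (Subgroup.closure {x | x ∈ [S, R, R * R]}) ?_ ?_
  · rw [Subgroup.closure_le]
    intro x hx
    have hx' : x ∈ [s, r, r * r] := hx
    simp only [List.mem_cons, List.not_mem_nil, or_false] at hx'
    rcases hx' with rfl | rfl | rfl
    · exact ⟨S, Subgroup.subset_closure (by simp), hS⟩
    · exact ⟨R, Subgroup.subset_closure (by simp), hR⟩
    · exact ⟨R * R, Subgroup.subset_closure (by simp), by rw [map_mul, hR]⟩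
  · rw [hQ]
    exact card_D8_le R S eR eS eSR

/-- The Schur multiplier is cyclic of order 6 if all kernels of finite stem extensions have order
dividing 6 and there are central extensions whose kernel meets the commutator subgroup in
elements of order 2 and 3. -/
theorem hasCyclicSchurMultiplier_six {Q : Type u} [Group Q] [Finite Q]
    (hub : ∀ (Γ : Type u) [Group Γ] [Finite Γ] (σ : Γ →* Q), Cfsg.IsStemExtension σ →
      Nat.card σ.ker ∣ 6)
    {Δ2 : Type v} [Group Δ2] (τ2 : Δ2 →* Q) (h2s : Function.Surjective τ2)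
    (h2c : τ2.ker ≤ Subgroup.center Δ2) (ω2 : Δ2) (hω2 : ω2 ∈ τ2.ker ⊓ commutator Δ2)
    (ho2 : orderOf ω2 = 2)
    {Δ3 : Type w} [Group Δ3] (τ3 : Δ3 →* Q) (h3s : Function.Surjective τ3)
    (h3c : τ3.ker ≤ Subgroup.center Δ3) (ω3 : Δ3) (hω3 : ω3 ∈ τ3.ker ⊓ commutator Δ3)
    (ho3 : orderOf ω3 = 3) :
    Cfsg.HasCyclicSchurMultiplier Q 6 := by
  obtain ⟨Γ, _, _, σ, hσ, ⟨e⟩⟩ := Cfsg.Agent.Lib.helper69.exists_cover Q
  have hd : Nat.card (Cfsg.Agent.Lib.helper69.Mult Q) ∣ 6 := by
    rw [← Nat.card_congr e.toEquiv]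
    exact hub Γ σ hσ
  obtain ⟨π2, hπ2⟩ := Cfsg.Agent.Lib.helper69.exists_surjective_mult_of_central Q τ2 h2s h2c
  obtain ⟨π3, hπ3⟩ := Cfsg.Agent.Lib.helper69.exists_surjective_mult_of_central Q τ3 h3s h3c
  obtain ⟨m2, hm2⟩ := hπ2 ⟨ω2, hω2⟩
  obtain ⟨m3, hm3⟩ := hπ3 ⟨ω3, hω3⟩
  have d2 : 2 ∣ orderOf m2 := by
    have h1 : orderOf (π2 m2) ∣ orderOf m2 := orderOf_map_dvd π2 m2
    rw [hm2, Subgroup.orderOf_mk, ho2] at h1
    exact h1
  have d3 : 3 ∣ orderOf m3 := by
    have h1 : orderOf (π3 m3) ∣ orderOf m3 := orderOf_map_dvd π3 m3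
    rw [hm3, Subgroup.orderOf_mk, ho3] at h1
    exact h1
  have c2 : 2 ∣ Nat.card (Cfsg.Agent.Lib.helper69.Mult Q) := d2.trans (orderOf_dvd_natCard m2)
  have c3 : 3 ∣ Nat.card (Cfsg.Agent.Lib.helper69.Mult Q) := d3.trans (orderOf_dvd_natCard m3)
  have hcard : Nat.card (Cfsg.Agent.Lib.helper69.Mult Q) = 6 := by
    have h6 : 6 ∣ Nat.card (Cfsg.Agent.Lib.helper69.Mult Q) :=
      Nat.Coprime.mul_dvd_of_dvd_of_dvd (by norm_num) c2 c3
    exact Nat.dvd_antisymm hd h6
  have := Fact.mk Nat.prime_two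
  have := Fact.mk Nat.prime_three
  obtain ⟨x, hx⟩ := exists_prime_orderOf_dvd_card' (G := Cfsg.Agent.Lib.helper69.Mult Q) 2 c2
  obtain ⟨y, hy⟩ := exists_prime_orderOf_dvd_card' (G := Cfsg.Agent.Lib.helper69.Mult Q) 3 c3
  have hxy : orderOf (x * y) = 6 := by
    have h1 := (Commute.all x y).orderOf_mul_eq_mul_orderOf_of_coprime (by rw [hx, hy]; norm_num)
    rw [h1, hx, hy]
  have hcyc : IsCyclic (Cfsg.Agent.Lib.helper69.Mult Q) :=
    isCyclic_of_orderOf_eq_card (x * y) (by rw [hxy, hcard])
  have e6 : Multiplicative (ZMod 6) ≃* Cfsg.Agent.Lib.helper69.Mult Q := by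
    have e0 := zmodCyclicMulEquiv hcyc
    rw [hcard] at e0
    exact e0
  exact Cfsg.Agent.Lib.helper69.hasSchurMultiplier_iff.2 ⟨e6⟩

end Cfsg.Agent.Lib.helper33
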