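/-
The triple cover of the alternating group of degree 7, as the group of automorphisms of the
Conway–Smith graph (a 3-fold cover of the Kneser graph on the 21 pairs of 7 points, given by a
gain function defined from the Fano plane) which commute with the deck transformations.
(owner: helper33)
-/
import Mathlib
import Cfsg.Agent.Lib.helper33.SchurSix

set_option autoImplicit false

namespace Cfsg.Agent.Lib.helper33.A7C

open scoped commutatorElement

/-- first endpoint of the 21 pairs of points -/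
def pa : Fin 21 → Fin 7 := ![0,0,0,0,0,0,1,1,1,1,1,2,2,2,2,3,3,3,4,4,5]
/-- second endpoint -/
def pb : Fin 21 → Fin 7 := ![1,2,3,4,5,6,2,3,4,5,6,3,4,5,6,4,5,6,5,6,6]

/-- index of the pair `{i, j}` -/
def pidx (i j : Fin 7) : Fin 21 :=
  if i < j then ⟨(i.1 * (13 - i.1) / 2 + j.1 - i.1 - 1) % 21, Nat.mod_lt _ (by norm_num)⟩
  else ⟨(j.1 * (13 - j.1) / 2 + i.1 - j.1 - 1) % 21, Nat.mod_lt _ (by norm_num)⟩

/-- third point of the Fano line through two points (lines `{i, i+1, i+3}`) -/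
def third : Fin 7 → Fin 7 → Fin 7 :=
  ![![0,3,6,1,5,4,2],
    ![3,1,4,0,2,6,5],
    ![6,4,2,5,1,3,0],
    ![1,0,5,3,6,2,4],
    ![5,2,1,6,4,0,3],
    ![4,6,3,2,0,5,1],
    ![2,5,0,4,3,1,6]]

/-- the point `k` lies in the pair `p` -/
def inP (k : Fin 7) (p : Fin 21) : Prop := pa p = k ∨ pb p = k

instance (k : Fin 7) (p : Fin 21) : Decidable (inP k p) := by unfold inP; infer_instance

/-- disjoint pairs -/
def disj (p q : Fin 21) : Prop := pa p ≠ pa q ∧ pa p ≠ pb q ∧ pb p ≠ pa q ∧ pb p ≠ pb q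

instance (p q : Fin 21) : Decidable (disj p q) := by unfold disj; infer_instance

/-- the gain function of the Conway–Smith cover -/
def w (p q : Fin 21) : ZMod 3 :=
  (if inP (third (pa p) (pb p)) q then 1 else 0) - (if inP (third (pa q) (pb q)) p then 1 else 0)

theorem pidx_symm : ∀ i j : Fin 7, pidx i j = pidx j i := by decide +kernel

theorem inP_pidx : ∀ i j k : Fin 7, i ≠ j → (inP k (pidx i j) ↔ k = i ∨ k = j) := by
  decide +kernel

theorem pidx_pa_pb : ∀ p : Fin 21, pidx (pa p) (pb p) = p := by decide +kernel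

theorem pa_ne_pb : ∀ p : Fin 21, pa p ≠ pb p := by decide +kernel

theorem disj_iff : ∀ p q : Fin 21, disj p q ↔ ∀ k : Fin 7, inP k p → ¬ inP k q := by
  decide +kernel

theorem exists_disj : ∀ p q : Fin 21, ∃ r : Fin 21, disj p r ∧ disj q r := by decide +kernel

theorem eq_of_inP : ∀ p q : Fin 21, (∀ k : Fin 7, inP k p ↔ inP k q) → p = q := by decide +kernel

/-- action on pairs -/
def pact (g : Equiv.Perm (Fin 7)) (p : Fin 21) : Fin 21 := pidx (g (pa p)) (g (pb p))

theorem inP_pact (g : Equiv.Perm (Fin 7)) (k : Fin 7) (p : Fin 21) :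
    inP k (pact g p) ↔ inP (g.symm k) p := by
  unfold pact
  rw [inP_pidx _ _ _ (fun h => pa_ne_pb p (g.injective h))]
  unfold inP
  rw [Equiv.eq_symm_apply, Equiv.eq_symm_apply, eq_comm, @eq_comm _ k]

theorem pact_one (p : Fin 21) : pact 1 p = p := pidx_pa_pb p

theorem pact_mul (g h : Equiv.Perm (Fin 7)) (p : Fin 21) :
    pact (g * h) p = pact g (pact h p) := by
  apply eq_of_inP
  intro k
  rw [inP_pact, inP_pact, inP_pact]
  rfl

theorem disj_pact (g : Equiv.Perm (Fin 7)) {p q : Fin 21} (h : disj p q) :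
    disj (pact g p) (pact g q) := by
  rw [disj_iff] at h ⊢
  intro k hk
  rw [inP_pact] at hk ⊢
  exact h _ hk


/-- the vertices of the cover -/
abbrev Cov : Type := Fin 21 × ZMod 3

/-- The triple cover of the alternating group of degree 7: permutations of the 63 vertices of the
Conway–Smith graph which commute with the deck transformations, induce the given even permutation
on the 21 pairs and respect the gain function. -/
def cover : Subgroup (Equiv.Perm Cov × alternatingGroup (Fin 7)) where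
  carrier := {x | ∃ f : Fin 21 → ZMod 3, (∀ p t, x.1 (p, t) = (pact x.2.1 p, t + f p)) ∧
    ∀ p q, disj p q → w (pact x.2.1 p) (pact x.2.1 q) = w p q + f q - f p}
  one_mem' := by
    refine ⟨fun _ => 0, ?_, ?_⟩
    · intro p t
      show (p, t) = (pact 1 p, t + 0)
      rw [pact_one, add_zero]
    · intro p q _
      show w (pact 1 p) (pact 1 q) = _
      rw [pact_one, pact_one]; ring
  mul_mem' := by
    rintro x y ⟨f, hf1, hf2⟩ ⟨f', hf1', hf2'⟩
    refine ⟨fun p => f' p + f (pact y.2.1 p), ?_, ?_⟩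
    · intro p t
      show x.1 (y.1 (p, t)) = (pact (x.2.1 * y.2.1) p, _)
      rw [hf1', hf1, pact_mul, add_assoc]
    · intro p q hpq
      show w (pact (x.2.1 * y.2.1) p) (pact (x.2.1 * y.2.1) q) = _
      have h1 := hf2' p q hpq
      have h2 := hf2 (pact y.2.1 p) (pact y.2.1 q) (disj_pact _ hpq)
      rw [pact_mul, pact_mul, h2, h1]; ring
  inv_mem' := by
    rintro x ⟨f, hf1, hf2⟩
    refine ⟨fun p => - f (pact x.2.1⁻¹ p), ?_, ?_⟩
    · intro p t
      show x.1⁻¹ (p, t) = (pact x.2.1⁻¹ p, _)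
      rw [Equiv.Perm.inv_eq_iff_eq, hf1, ← pact_mul, mul_inv_cancel, pact_one]
      congr 1
      ring
    · intro p q hpq
      show w (pact x.2.1⁻¹ p) (pact x.2.1⁻¹ q) = _
      have h := hf2 (pact x.2.1⁻¹ p) (pact x.2.1⁻¹ q) (disj_pact _ hpq)
      rw [← pact_mul, ← pact_mul, mul_inv_cancel, pact_one, pact_one] at h
      rw [h]; ring

/-- the covering homomorphism -/
def σ3 : cover →* alternatingGroup (Fin 7) :=
  (MonoidHom.snd _ _).comp cover.subtype

theorem σ3_apply (x : cover) : σ3 x = x.1.2 := rfl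

/-- the deck transformations -/
def shiftP (c : ZMod 3) : Equiv.Perm Cov := Equiv.prodCongr (Equiv.refl _) (Equiv.addRight c)

theorem shiftP_apply (c : ZMod 3) (p : Fin 21) (t : ZMod 3) : shiftP c (p, t) = (p, t + c) := rfl

theorem shift_mem (c : ZMod 3) : ((shiftP c, 1) : Equiv.Perm Cov × alternatingGroup (Fin 7)) ∈ cover := by
  refine ⟨fun _ => c, ?_, ?_⟩
  · intro p t
    show shiftP c (p, t) = (pact 1 p, t + c)
    rw [pact_one, shiftP_apply]
  · intro p q _
    show w (pact 1 p) (pact 1 q) = _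
    rw [pact_one, pact_one]; ring

/-- the central elements -/
def zc (c : ZMod 3) : cover := ⟨(shiftP c, 1), shift_mem c⟩

theorem ker_eq (x : cover) (hx : x ∈ σ3.ker) : ∃ c, x = zc c := by
  have h1 : x.1.2 = 1 := hx
  obtain ⟨f, hf1, hf2⟩ := x.2
  have h2 : (x.1.2 : Equiv.Perm (Fin 7)) = 1 := by rw [h1]; rfl
  rw [h2] at hf1 hf2
  have hconst : ∀ p q, disj p q → f q = f p := by
    intro p q hpq
    have h := hf2 p q hpq
    rw [pact_one, pact_one] at h
    have h3 : w p q + (f q - f p) = w p q + 0 := by rw [add_zero]; rw [← add_sub_assoc]; exact h.symm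
    exact sub_eq_zero.1 (add_left_cancel h3)
  have hc : ∀ p, f p = f 0 := by
    intro p
    obtain ⟨r, hr1, hr2⟩ := exists_disj p 0
    rw [← hconst p r hr1, hconst 0 r hr2]
  refine ⟨f 0, ?_⟩
  apply Subtype.ext
  apply Prod.ext
  · apply Equiv.ext
    rintro ⟨p, t⟩
    show x.1.1 (p, t) = shiftP (f 0) (p, t)
    rw [hf1, pact_one, hc p, shiftP_apply]
  · exact h1

theorem zc_mem_center (c : ZMod 3) : zc c ∈ Subgroup.center cover := by
  rw [Subgroup.mem_center_iff]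
  intro y
  obtain ⟨f, hf1, -⟩ := y.2
  apply Subtype.ext
  apply Prod.ext
  · apply Equiv.ext
    rintro ⟨p, t⟩
    show y.1.1 (shiftP c (p, t)) = shiftP c (y.1.1 (p, t))
    rw [shiftP_apply, hf1, hf1, shiftP_apply, add_right_comm]
  · show y.1.2 * 1 = 1 * y.1.2
    rw [mul_one, one_mul]

theorem ker_le_center : σ3.ker ≤ Subgroup.center cover := by
  intro x hx
  obtain ⟨c, rfl⟩ := ker_eq x hx
  exact zc_mem_center c

theorem ker_pow_three (x : cover) (hx : x ∈ σ3.ker) : x ^ 3 = 1 := by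
  obtain ⟨c, rfl⟩ := ker_eq x hx
  apply Subtype.ext
  apply Prod.ext
  · apply Equiv.ext
    rintro ⟨p, t⟩
    show (shiftP c * (shiftP c * (shiftP c * 1))) (p, t) = (p, t)
    rw [mul_one, Equiv.Perm.mul_apply, Equiv.Perm.mul_apply, shiftP_apply, shiftP_apply,
      shiftP_apply]
    congr 1
    have h3 : (3 : ZMod 3) = 0 := by decide
    calc t + c + c + c = t + 3 * c := by ring
      _ = t := by rw [h3, zero_mul, add_zero]
  · show (1 : alternatingGroup (Fin 7)) ^ 3 = 1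
    rw [one_pow]

/-- an explicit lift -/
def mkL (g : Equiv.Perm (Fin 7)) (f : Fin 21 → ZMod 3) : Equiv.Perm Cov where
  toFun u := (pact g u.1, u.2 + f u.1)
  invFun u := (pact g⁻¹ u.1, u.2 - f (pact g⁻¹ u.1))
  left_inv u := by
    show (pact g⁻¹ (pact g u.1), u.2 + f u.1 - f (pact g⁻¹ (pact g u.1))) = u
    rw [← pact_mul, inv_mul_cancel, pact_one, add_sub_cancel_right]
  right_inv u := by
    show (pact g (pact g⁻¹ u.1), u.2 - f (pact g⁻¹ u.1) + f (pact g⁻¹ u.1)) = u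
    rw [← pact_mul, mul_inv_cancel, pact_one, sub_add_cancel]

/-- the condition for `mkL g f` to lie in the cover -/
def chk (g : Equiv.Perm (Fin 7)) (f : Fin 21 → ZMod 3) : Prop :=
  ∀ p q : Fin 21, disj p q → w (pact g p) (pact g q) = w p q + f q - f p

instance (g : Equiv.Perm (Fin 7)) (f : Fin 21 → ZMod 3) : Decidable (chk g f) := by
  unfold chk; infer_instance

theorem mem_of_chk (g : alternatingGroup (Fin 7)) (f : Fin 21 → ZMod 3) (h : chk g.1 f) :
    ((mkL g.1 f, g) : Equiv.Perm Cov × alternatingGroup (Fin 7)) ∈ cover :=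
  ⟨f, fun _ _ => rfl, h⟩

/-- an explicit permutation given by the tables of its values and of the values of its inverse -/
def pm {n : ℕ} (l l' : Fin n → Fin n) (h1 : ∀ i, l' (l i) = i) (h2 : ∀ i, l (l' i) = i) :
    Equiv.Perm (Fin n) := ⟨l, l', h1, h2⟩

def pA : Equiv.Perm (Fin 7) := pm ![1,2,0,3,4,5,6] ![2,0,1,3,4,5,6] (by decide) (by decide)
def pB : Equiv.Perm (Fin 7) := pm ![0,1,2,4,5,3,6] ![0,1,2,5,3,4,6] (by decide) (by decide)
def pR : Equiv.Perm (Fin 7) := pm ![1,2,3,0,5,4,6] ![3,0,1,2,5,4,6] (by decide) (by decide)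
def pS : Equiv.Perm (Fin 7) := pm ![2,1,0,3,5,4,6] ![2,1,0,3,5,4,6] (by decide) (by decide)
def p5 : Equiv.Perm (Fin 7) := pm ![1,2,3,4,0,5,6] ![4,0,1,2,3,5,6] (by decide) (by decide)
def p7 : Equiv.Perm (Fin 7) := pm ![1,2,3,4,5,6,0] ![6,0,1,2,3,4,5] (by decide) (by decide)

def pG1 : Equiv.Perm (Fin 7) := pm ![0,4,2,5,1,3,6] ![0,4,2,5,1,3,6] (by decide) (by decide)
def pG2 : Equiv.Perm (Fin 7) := pm ![0,2,1,3,5,4,6] ![0,2,1,3,5,4,6] (by decide) (by decide)

theorem signs : Equiv.Perm.sign pA = 1 ∧ Equiv.Perm.sign pB = 1 ∧ Equiv.Perm.sign pR = 1 ∧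
    Equiv.Perm.sign pS = 1 ∧ Equiv.Perm.sign p5 = 1 ∧ Equiv.Perm.sign p7 = 1 ∧
    Equiv.Perm.sign pG1 = 1 ∧ Equiv.Perm.sign pG2 = 1 := by
  decide +kernel

def eA : alternatingGroup (Fin 7) := ⟨pA, Equiv.Perm.mem_alternatingGroup.2 signs.1⟩
def eB : alternatingGroup (Fin 7) := ⟨pB, Equiv.Perm.mem_alternatingGroup.2 signs.2.1⟩
def eR : alternatingGroup (Fin 7) := ⟨pR, Equiv.Perm.mem_alternatingGroup.2 signs.2.2.1⟩
def eS : alternatingGroup (Fin 7) := ⟨pS, Equiv.Perm.mem_alternatingGroup.2 signs.2.2.2.1⟩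
def e5 : alternatingGroup (Fin 7) := ⟨p5, Equiv.Perm.mem_alternatingGroup.2 signs.2.2.2.2.1⟩
def e7 : alternatingGroup (Fin 7) := ⟨p7, Equiv.Perm.mem_alternatingGroup.2 signs.2.2.2.2.2.1⟩
def eG1 : alternatingGroup (Fin 7) := ⟨pG1, Equiv.Perm.mem_alternatingGroup.2 signs.2.2.2.2.2.2.1⟩
def eG2 : alternatingGroup (Fin 7) := ⟨pG2, Equiv.Perm.mem_alternatingGroup.2 signs.2.2.2.2.2.2.2⟩

def fA : Fin 21 → ZMod 3 := ![0,2,1,2,1,0,1,1,2,2,0,1,2,0,0,0,1,2,2,1,0]
def fB : Fin 21 → ZMod 3 := ![0,2,0,0,0,1,1,2,0,1,2,1,1,1,0,1,0,2,2,2,2]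
def fR : Fin 21 → ZMod 3 := ![0,1,2,2,1,0,2,0,1,0,0,1,0,1,1,2,0,1,2,2,2]
def fS : Fin 21 → ZMod 3 := ![0,2,0,0,0,1,1,2,0,1,2,1,1,1,0,1,0,2,2,2,2]
def f5 : Fin 21 → ZMod 3 := ![0,2,1,2,2,2,1,2,1,1,1,0,0,2,1,0,0,0,1,2,0]
def f7 : Fin 21 → ZMod 3 := fun _ => 0

theorem chks : chk pA fA ∧ chk pB fB ∧ chk pR fR ∧ chk pS fS ∧ chk p5 f5 ∧ chk p7 f7 := by
  decide +kernel

def LA : cover := ⟨(mkL pA fA, eA), mem_of_chk eA fA chks.1⟩
def LB : cover := ⟨(mkL pB fB, eB), mem_of_chk eB fB chks.2.1⟩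
def LR : cover := ⟨(mkL pR fR, eR), mem_of_chk eR fR chks.2.2.1⟩
def LS : cover := ⟨(mkL pS fS, eS), mem_of_chk eS fS chks.2.2.2.1⟩
def L5 : cover := ⟨(mkL p5 f5, e5), mem_of_chk e5 f5 chks.2.2.2.2.1⟩
def L7 : cover := ⟨(mkL p7 f7, e7), mem_of_chk e7 f7 chks.2.2.2.2.2⟩

/-! ### Relations in the alternating group -/

theorem d8_rel : (eR * eR) * (eR * eR) = 1 ∧ eS * eS = 1 ∧ (eS * eR) * (eS * eR) = 1 ∧
    (eR * eR) * eS = eS * (eR * eR) ∧ eR * eS * eR⁻¹ = (eR * eR) * eS ∧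
    eG1 * (eR * eR) * eG1⁻¹ = eS ∧ eG2 * (eR * eR) * eG2⁻¹ = eS * eR := by
  decide +kernel

theorem d8_nodup : [1, eR, eR * eR, eR * (eR * eR), eS, eS * eR, eS * (eR * eR),
    eS * (eR * (eR * eR))].Nodup := by
  decide +kernel

theorem card_D8 : 8 ≤ Nat.card (Subgroup.closure {x | x ∈ [eS, eR, eR * eR]}) := by
  have hs : eS ∈ Subgroup.closure {x | x ∈ [eS, eR, eR * eR]} :=
    Subgroup.subset_closure (by simp)
  have hr : eR ∈ Subgroup.closure {x | x ∈ [eS, eR, eR * eR]} :=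
    Subgroup.subset_closure (by simp)
  refine length_le_card_of_nodup_sub _ _ d8_nodup ?_
  intro x hx
  simp only [List.mem_cons, List.not_mem_nil, or_false] at hx
  rcases hx with rfl | rfl | rfl | rfl | rfl | rfl | rfl | rfl
  · exact one_mem _
  · exact hr
  · exact mul_mem hr hr
  · exact mul_mem hr (mul_mem hr hr)
  · exact hs
  · exact mul_mem hs hr
  · exact mul_mem hs (mul_mem hr hr)
  · exact mul_mem hs (mul_mem hr (mul_mem hr hr))

theorem e9_rel : eA ^ 3 = 1 ∧ eB ^ 3 = 1 ∧ eA * eB = eB * eA := by decide +kernel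

theorem e9_nodup : [1, eA, eA * eA, eB, eA * eB, eA * eA * eB, eB * eB, eA * (eB * eB),
    eA * eA * (eB * eB)].Nodup := by
  decide +kernel

theorem card_E9 : 9 ≤ Nat.card (Subgroup.closure ({eA, eB} : Set (alternatingGroup (Fin 7)))) := by
  have ha : eA ∈ Subgroup.closure ({eA, eB} : Set (alternatingGroup (Fin 7))) :=
    Subgroup.subset_closure (by simp)
  have hb : eB ∈ Subgroup.closure ({eA, eB} : Set (alternatingGroup (Fin 7))) :=
    Subgroup.subset_closure (by simp)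
  refine length_le_card_of_nodup_sub _ _ e9_nodup ?_
  intro x hx
  simp only [List.mem_cons, List.not_mem_nil, or_false] at hx
  rcases hx with rfl | rfl | rfl | rfl | rfl | rfl | rfl | rfl | rfl
  · exact one_mem _
  · exact ha
  · exact mul_mem ha ha
  · exact hb
  · exact mul_mem ha hb
  · exact mul_mem (mul_mem ha ha) hb
  · exact mul_mem hb hb
  · exact mul_mem ha (mul_mem hb hb)
  · exact mul_mem (mul_mem ha ha) (mul_mem hb hb)

theorem ord57 : e5 ^ 5 = 1 ∧ e5 ≠ 1 ∧ e7 ^ 7 = 1 ∧ e7 ≠ 1 := by decide +kernel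

theorem card_alt7 : Nat.card (alternatingGroup (Fin 7)) = 2520 := by
  rw [nat_card_alternatingGroup, Nat.card_fin]
  rfl

/-! ### Surjectivity -/

theorem dvd8 : 8 ∣ Nat.card σ3.range := by
  have hle : Subgroup.closure {x | x ∈ [eS, eR, eR * eR]} ≤ σ3.range := by
    rw [Subgroup.closure_le]
    intro x hx
    have hx' : x ∈ [eS, eR, eR * eR] := hx
    simp only [List.mem_cons, List.not_mem_nil, or_false] at hx'
    rcases hx' with rfl | rfl | rfl
    · exact ⟨LS, rfl⟩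
    · exact ⟨LR, rfl⟩
    · exact ⟨LR * LR, rfl⟩
  have hc : Nat.card (Subgroup.closure {x | x ∈ [eS, eR, eR * eR]}) = 8 :=
    le_antisymm (card_D8_le eR eS d8_rel.1 d8_rel.2.1 d8_rel.2.2.1) card_D8
  have h := Subgroup.card_dvd_of_le hle
  rwa [hc] at h

theorem dvd9 : 9 ∣ Nat.card σ3.range := by
  have hle : Subgroup.closure ({eA, eB} : Set (alternatingGroup (Fin 7))) ≤ σ3.range := by
    rw [Subgroup.closure_le]
    intro x hx
    simp only [Set.mem_insert_iff, Set.mem_singleton_iff] at hx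
    rcases hx with rfl | rfl
    · exact ⟨LA, rfl⟩
    · exact ⟨LB, rfl⟩
  have hc : Nat.card (Subgroup.closure ({eA, eB} : Set (alternatingGroup (Fin 7)))) = 9 :=
    le_antisymm (card_E9_le eA eB e9_rel.1 e9_rel.2.1 e9_rel.2.2) card_E9
  have h := Subgroup.card_dvd_of_le hle
  rwa [hc] at h

theorem dvd5 : 5 ∣ Nat.card σ3.range := by
  have := Fact.mk (by norm_num : Nat.Prime 5)
  have h := Subgroup.orderOf_dvd_natCard σ3.range (⟨L5, rfl⟩ : e5 ∈ σ3.range)
  rwa [orderOf_eq_prime ord57.1 ord57.2.1] at h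

theorem dvd7 : 7 ∣ Nat.card σ3.range := by
  have := Fact.mk (by norm_num : Nat.Prime 7)
  have h := Subgroup.orderOf_dvd_natCard σ3.range (⟨L7, rfl⟩ : e7 ∈ σ3.range)
  rwa [orderOf_eq_prime ord57.2.2.1 ord57.2.2.2] at h

theorem range_top : σ3.range = ⊤ := by
  have h1 := (by norm_num : Nat.Coprime 8 9).mul_dvd_of_dvd_of_dvd dvd8 dvd9
  have h2 := (by norm_num : Nat.Coprime (8 * 9) 5).mul_dvd_of_dvd_of_dvd h1 dvd5
  have h3 := (by norm_num : Nat.Coprime (8 * 9 * 5) 7).mul_dvd_of_dvd_of_dvd h2 dvd7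
  apply Subgroup.eq_top_of_card_eq
  have hle := Subgroup.card_le_card_group σ3.range
  have hge := Nat.le_of_dvd Nat.card_pos h3
  rw [card_alt7] at hle ⊢
  omega

theorem σ3_surjective : Function.Surjective σ3 := MonoidHom.range_eq_top.1 range_top

/-! ### The element of order 3 in the kernel and the commutator subgroup -/

theorem lifts_ne : mkL pA fA (mkL pB fB (0, 0)) ≠ mkL pB fB (mkL pA fA (0, 0)) := by
  decide +kernel

theorem LA_LB_ne : LA * LB ≠ LB * LA := by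
  intro h
  have h1 := congrArg (fun x : cover => x.1.1 (0, 0)) h
  exact lifts_ne h1

theorem comm_mem_ker : ⁅LA, LB⁆ ∈ σ3.ker := by
  rw [MonoidHom.mem_ker, map_commutatorElement, commutatorElement_eq_one_iff_mul_comm]
  exact e9_rel.2.2

theorem comm_mem : ⁅LA, LB⁆ ∈ σ3.ker ⊓ commutator cover := by
  refine Subgroup.mem_inf.2 ⟨comm_mem_ker, ?_⟩
  rw [commutator_def]
  exact Subgroup.commutator_mem_commutator (Subgroup.mem_top _) (Subgroup.mem_top _)

theorem orderOf_comm : orderOf ⁅LA, LB⁆ = 3 := by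
  have := Fact.mk Nat.prime_three
  refine orderOf_eq_prime (ker_pow_three _ comm_mem_ker) ?_
  rw [Ne, commutatorElement_eq_one_iff_mul_comm]
  exact LA_LB_ne

end Cfsg.Agent.Lib.helper33.A7C
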