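/-
The triple cover of the alternating group of degree 6, as the pull-back of the triple cover of the
alternating group of degree 7 along the embedding fixing the last point; explicit dihedral and
elementary abelian subgroups of the alternating group of degree 6.  (owner: helper33)
-/
import Mathlib
import Cfsg.Agent.Lib.helper33.SchurSix
import Cfsg.Agent.Lib.helper33.A7Cover

set_option autoImplicit false

namespace Cfsg.Agent.Lib.helper33.A7C

open scoped commutatorElement

/-! ### Pull-backs of central extensions -/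

section pull

variable {G A T : Type*} [Group G] [Group A] [Group T]

/-- The pull-back of `β : T → A` along `q : G → A`. -/
def pull (q : G →* A) (β : T →* A) : Subgroup (G × T) :=
  (q.comp (MonoidHom.fst G T)).eqLocus (β.comp (MonoidHom.snd G T))

theorem mem_pull (q : G →* A) (β : T →* A) (x : G × T) : x ∈ pull q β ↔ q x.1 = β x.2 :=
  Iff.rfl

/-- The projection of the pull-back. -/
def pullFst (q : G →* A) (β : T →* A) : pull q β →* G :=
  (MonoidHom.fst G T).comp (pull q β).subtype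

theorem pullFst_surjective (q : G →* A) (β : T →* A) (hβ : Function.Surjective β) :
    Function.Surjective (pullFst q β) := by
  intro g
  obtain ⟨t, ht⟩ := hβ (q g)
  exact ⟨⟨(g, t), ht.symm⟩, rfl⟩

theorem pullFst_ker_le_center (q : G →* A) (β : T →* A) (hβk : β.ker ≤ Subgroup.center T) :
    (pullFst q β).ker ≤ Subgroup.center (pull q β) := by
  intro x hx
  have h1 : x.1.1 = 1 := hx
  have h2 : x.1.2 ∈ β.ker := by
    rw [MonoidHom.mem_ker]
    have h := (mem_pull q β x.1).mp x.2
    rw [h1, map_one] at h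
    exact h.symm
  have h3 := hβk h2
  rw [Subgroup.mem_center_iff] at h3 ⊢
  intro y
  apply Subtype.ext
  apply Prod.ext
  · show y.1.1 * x.1.1 = x.1.1 * y.1.1
    rw [h1, mul_one, one_mul]
  · exact h3 y.1.2

theorem pull_witness (q : G →* A) (β : T →* A) (hβ3 : ∀ t ∈ β.ker, t ^ 3 = 1) (g g' : G)
    (t t' : T) (h : q g = β t) (h' : q g' = β t') (hg : g * g' = g' * g)
    (hne : t * t' ≠ t' * t) :
    ∃ ω : pull q β, ω ∈ (pullFst q β).ker ⊓ commutator (pull q β) ∧ orderOf ω = 3 := by
  have hgg : ⁅g, g'⁆ = 1 := commutatorElement_eq_one_iff_mul_comm.2 hg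
  have hval : ((⁅(⟨(g, t), h⟩ : pull q β), (⟨(g', t'), h'⟩ : pull q β)⁆ : pull q β) : G × T)
      = (⁅g, g'⁆, ⁅t, t'⁆) := rfl
  have hk : ⁅t, t'⁆ ∈ β.ker := by
    rw [MonoidHom.mem_ker, map_commutatorElement, ← h, ← h', ← map_commutatorElement, hgg,
      map_one]
  refine ⟨⁅(⟨(g, t), h⟩ : pull q β), (⟨(g', t'), h'⟩ : pull q β)⁆, Subgroup.mem_inf.2 ⟨?_, ?_⟩, ?_⟩
  · rw [MonoidHom.mem_ker]
    show ((⁅(⟨(g, t), h⟩ : pull q β), (⟨(g', t'), h'⟩ : pull q β)⁆ : pull q β) : G × T).1 = 1
    rw [hval]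
    exact hgg
  · rw [commutator_def]
    exact Subgroup.commutator_mem_commutator (Subgroup.mem_top _) (Subgroup.mem_top _)
  · have := Fact.mk Nat.prime_three
    refine orderOf_eq_prime ?_ ?_
    · apply Subtype.ext
      rw [Subgroup.coe_pow, hval, Prod.pow_mk, hgg, one_pow, hβ3 _ hk]
      rfl
    · intro h1
      have h2 := congrArg (fun x : pull q β => (x : G × T).2) h1
      have h3 : ⁅t, t'⁆ = 1 := by
        have h4 : ((⁅(⟨(g, t), h⟩ : pull q β), (⟨(g', t'), h'⟩ : pull q β)⁆ : pull q β) : G × T).2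
            = 1 := h2
        rw [hval] at h4
        exact h4
      exact hne (commutatorElement_eq_one_iff_mul_comm.1 h3)

end pull

/-! ### Explicit elements of the alternating group of degree 6 -/

def qA : Equiv.Perm (Fin 6) := pm ![1,2,0,3,4,5] ![2,0,1,3,4,5] (by decide) (by decide)
def qB : Equiv.Perm (Fin 6) := pm ![0,1,2,4,5,3] ![0,1,2,5,3,4] (by decide) (by decide)
def qR : Equiv.Perm (Fin 6) := pm ![1,2,3,0,5,4] ![3,0,1,2,5,4] (by decide) (by decide)
def qS : Equiv.Perm (Fin 6) := pm ![2,1,0,3,5,4] ![2,1,0,3,5,4] (by decide) (by decide)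
def qG1 : Equiv.Perm (Fin 6) := pm ![0,4,2,5,1,3] ![0,4,2,5,1,3] (by decide) (by decide)
def qG2 : Equiv.Perm (Fin 6) := pm ![0,2,1,3,5,4] ![0,2,1,3,5,4] (by decide) (by decide)

theorem signs6 : Equiv.Perm.sign qA = 1 ∧ Equiv.Perm.sign qB = 1 ∧ Equiv.Perm.sign qR = 1 ∧
    Equiv.Perm.sign qS = 1 ∧ Equiv.Perm.sign qG1 = 1 ∧ Equiv.Perm.sign qG2 = 1 := by
  decide +kernel

def dA : alternatingGroup (Fin 6) := ⟨qA, Equiv.Perm.mem_alternatingGroup.2 signs6.1⟩
def dB : alternatingGroup (Fin 6) := ⟨qB, Equiv.Perm.mem_alternatingGroup.2 signs6.2.1⟩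
def dR : alternatingGroup (Fin 6) := ⟨qR, Equiv.Perm.mem_alternatingGroup.2 signs6.2.2.1⟩
def dS : alternatingGroup (Fin 6) := ⟨qS, Equiv.Perm.mem_alternatingGroup.2 signs6.2.2.2.1⟩
def dG1 : alternatingGroup (Fin 6) := ⟨qG1, Equiv.Perm.mem_alternatingGroup.2 signs6.2.2.2.2.1⟩
def dG2 : alternatingGroup (Fin 6) := ⟨qG2, Equiv.Perm.mem_alternatingGroup.2 signs6.2.2.2.2.2⟩

theorem d8_rel6 : (dR * dR) * (dR * dR) = 1 ∧ dS * dS = 1 ∧ (dS * dR) * (dS * dR) = 1 ∧
    (dR * dR) * dS = dS * (dR * dR) ∧ dR * dS * dR⁻¹ = (dR * dR) * dS ∧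
    dG1 * (dR * dR) * dG1⁻¹ = dS ∧ dG2 * (dR * dR) * dG2⁻¹ = dS * dR := by
  decide +kernel

theorem d8_nodup6 : [1, dR, dR * dR, dR * (dR * dR), dS, dS * dR, dS * (dR * dR),
    dS * (dR * (dR * dR))].Nodup := by
  decide +kernel

theorem card_D8_6 : 8 ≤ Nat.card (Subgroup.closure {x | x ∈ [dS, dR, dR * dR]}) := by
  have hs : dS ∈ Subgroup.closure {x | x ∈ [dS, dR, dR * dR]} :=
    Subgroup.subset_closure (by simp)
  have hr : dR ∈ Subgroup.closure {x | x ∈ [dS, dR, dR * dR]} :=
    Subgroup.subset_closure (by simp)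
  refine length_le_card_of_nodup_sub _ _ d8_nodup6 ?_
  intro x hx
  simp only [List.mem_cons, List.not_mem_nil, or_false] at hx
  rcases hx with rfl | rfl | rfl | rfl | rfl | rfl | rfl | rfl
  · exact one_mem _
  · exact hr
  · exact mul_mem hr hr
  · exact mul_mem hr (mul_mem hr hr)
  · exact hs
  · exact mul_mem hs hr
  · exact mul_mem hs (mul_mem hr hr)
  · exact mul_mem hs (mul_mem hr (mul_mem hr hr))

theorem e9_rel6 : dA ^ 3 = 1 ∧ dB ^ 3 = 1 ∧ dA * dB = dB * dA := by decide +kernel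

theorem e9_nodup6 : [1, dA, dA * dA, dB, dA * dB, dA * dA * dB, dB * dB, dA * (dB * dB),
    dA * dA * (dB * dB)].Nodup := by
  decide +kernel

theorem card_E9_6 :
    9 ≤ Nat.card (Subgroup.closure ({dA, dB} : Set (alternatingGroup (Fin 6)))) := by
  have ha : dA ∈ Subgroup.closure ({dA, dB} : Set (alternatingGroup (Fin 6))) :=
    Subgroup.subset_closure (by simp)
  have hb : dB ∈ Subgroup.closure ({dA, dB} : Set (alternatingGroup (Fin 6))) :=
    Subgroup.subset_closure (by simp)
  refine length_le_card_of_nodup_sub _ _ e9_nodup6 ?_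
  intro x hx
  simp only [List.mem_cons, List.not_mem_nil, or_false] at hx
  rcases hx with rfl | rfl | rfl | rfl | rfl | rfl | rfl | rfl | rfl
  · exact one_mem _
  · exact ha
  · exact mul_mem ha ha
  · exact hb
  · exact mul_mem ha hb
  · exact mul_mem (mul_mem ha ha) hb
  · exact mul_mem hb hb
  · exact mul_mem ha (mul_mem hb hb)
  · exact mul_mem (mul_mem ha ha) (mul_mem hb hb)

theorem card_alt6 : Nat.card (alternatingGroup (Fin 6)) = 360 := by
  rw [nat_card_alternatingGroup, Nat.card_fin]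
  rfl

/-! ### The embedding into the alternating group of degree 7 -/

/-- The embedding of the symmetric group of degree 6 fixing the last point. -/
def embP : Equiv.Perm (Fin 6) →* Equiv.Perm (Fin 7) :=
  Equiv.Perm.extendDomainHom (finSuccAboveEquiv (Fin.last 6))

/-- The embedding of the alternating group of degree 6 fixing the last point. -/
def emb : alternatingGroup (Fin 6) →* alternatingGroup (Fin 7) :=
  (embP.comp (alternatingGroup (Fin 6)).subtype).codRestrict (alternatingGroup (Fin 7)) (by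
    intro x
    rw [Equiv.Perm.mem_alternatingGroup]
    show Equiv.Perm.sign (Equiv.Perm.extendDomain x.1 (finSuccAboveEquiv (Fin.last 6))) = 1
    rw [Equiv.Perm.sign_extendDomain]
    exact Equiv.Perm.mem_alternatingGroup.1 x.2)

theorem emb_vals : emb dA = eA ∧ emb dB = eB := by decide +kernel

/-- The triple cover of the alternating group of degree 6. -/
theorem exists_three_six : ∃ ω : pull emb σ3,
    ω ∈ (pullFst emb σ3).ker ⊓ commutator (pull emb σ3) ∧ orderOf ω = 3 :=
  pull_witness emb σ3 ker_pow_three dA dB LA LB emb_vals.1 emb_vals.2 e9_rel6.2.2 LA_LB_ne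

end Cfsg.Agent.Lib.helper33.A7C
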