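import Cfsg.Agent.Lib.helper95.APDefs

/-!
S2276 split (helper95), piece PLUMB (racer copy): realise sub-cycle-types of `U` and of a conjugate
of `W` on a common invariant subset.
-/

set_option autoImplicit false

namespace Cfsg.Agent.Lib.helper95.AP

open Equiv

/-- one permutation: an embedding intertwining `a` with `U` -/
theorem h33_plumb_one {n m : ℕ} (U : Perm (Fin n)) (a : Perm (Fin m))
    (ha : a.cycleType ≤ U.cycleType) (ha' : m - a.support.card ≤ n - U.support.card) :
    ∃ ι : Fin m ↪ Fin n, ∀ i, U (ι i) = ι (a i) := by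
  classical
  have hsa : a.cycleType.sum = a.support.card := Perm.sum_cycleType a
  have hsU : U.cycleType.sum = U.support.card := Perm.sum_cycleType U
  obtain ⟨d, hd⟩ := Multiset.le_iff_exists_add.mp ha
  have hsum : U.cycleType.sum = a.cycleType.sum + d.sum := by rw [hd, Multiset.sum_add]
  have hd' : d = U.cycleType - a.cycleType := by rw [hd, add_tsub_cancel_left]
  have ham : a.support.card ≤ m := by
    have := Finset.card_le_univ a.support
    simpa using this
  have hUn : U.support.card ≤ n := by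
    have := Finset.card_le_univ U.support
    simpa using this
  have hmn : m ≤ n := by omega
  let ι₀ : Fin m ↪ Fin n := Fin.castLEEmb hmn
  let a' : Perm (Fin n) := a.extendDomain ι₀.toEquivRange
  have hcard : Fintype.card {x : Fin n // x ∉ Set.range ι₀} = n - m := by
    rw [Fintype.card_subtype_compl, Fintype.card_fin, Fintype.card_range, Fintype.card_fin]
  obtain ⟨ρ, hρ⟩ : ∃ ρ : Perm {x : Fin n // x ∉ Set.range ι₀}, ρ.cycleType = d := by
    refine (Equiv.Perm.exists_with_cycleType_iff _).mpr ⟨?_, ?_⟩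
    · rw [hcard]; omega
    · intro c hc
      exact Perm.two_le_of_mem_cycleType (σ := U) (by rw [hd]; exact Multiset.mem_add.mpr (Or.inr hc))
  have hdisj : Perm.Disjoint a' (Perm.ofSubtype ρ) := by
    intro x
    by_cases hx : x ∈ Set.range ι₀
    · right
      exact Perm.ofSubtype_apply_of_not_mem ρ (not_not.mpr hx)
    · left
      exact Perm.extendDomain_apply_not_subtype _ _ hx
  have hct : (a' * Perm.ofSubtype ρ).cycleType = U.cycleType := by
    rw [hdisj.cycleType_mul, Perm.cycleType_extendDomain, Perm.cycleType_ofSubtype, hρ, hd]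
  obtain ⟨h, hh⟩ := isConj_iff.mp (Perm.isConj_iff_cycleType_eq.mpr hct)
  refine ⟨ι₀.trans h.toEmbedding, fun i => ?_⟩
  have h1 : Perm.ofSubtype ρ (ι₀ i) = ι₀ i :=
    Perm.ofSubtype_apply_of_not_mem ρ (not_not.mpr (Set.mem_range_self i))
  have h2 : a' (ι₀ i) = ι₀ (a i) := Perm.viaFintypeEmbedding_apply_image a ι₀ i
  show U (h (ι₀ i)) = h (ι₀ (a i))
  rw [← hh]
  have h3 : h⁻¹ (h (ι₀ i)) = ι₀ i := by simp
  rw [Perm.mul_apply, Perm.mul_apply, Perm.mul_apply, h3, h1, h2]

theorem h33_plumb {n m : ℕ} (U W : Perm (Fin n)) (a b : Perm (Fin m))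
    (ha : a.cycleType ≤ U.cycleType) (ha' : m - a.support.card ≤ n - U.support.card)
    (hb : b.cycleType ≤ W.cycleType) (hb' : m - b.support.card ≤ n - W.support.card) :
    ∃ (ι : Fin m ↪ Fin n) (g : Perm (Fin n)),
      (∀ i, U (ι i) = ι (a i)) ∧ (∀ i, (g * W * g⁻¹) (ι i) = ι (b i)) := by
  classical
  obtain ⟨ι, hι⟩ := h33_plumb_one U a ha ha'
  obtain ⟨κ, hκ⟩ := h33_plumb_one W b hb hb'
  let e : {x : Fin n // x ∈ Set.range κ} ≃ {x : Fin n // x ∈ Set.range ι} :=
    κ.toEquivRange.symm.trans ι.toEquivRange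
  have hg : ∀ i, e.extendSubtype (κ i) = ι i := by
    intro i
    rw [Equiv.extendSubtype_apply_of_mem e (κ i) (Set.mem_range_self i)]
    show ((ι.toEquivRange (κ.toEquivRange.symm ⟨κ i, Set.mem_range_self i⟩) : Set.range ι) : Fin n) = ι i
    rw [Function.Embedding.toEquivRange_symm_apply_self, Function.Embedding.toEquivRange_apply]
  refine ⟨ι, e.extendSubtype, hι, fun i => ?_⟩
  have h1 : (e.extendSubtype)⁻¹ (ι i) = κ i := by
    rw [← hg i]; simp
  rw [Perm.mul_apply, Perm.mul_apply, h1, hκ, hg]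

end Cfsg.Agent.Lib.helper95.AP
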