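/-
Generic lemmas on permutation groups used for automorphism groups:
* an automorphism of a permutation group mapping point stabilisers to point stabilisers is induced
  by a permutation of the points;
* fixed points of elements of prime power order on invariant sets;
* a subgroup of `p`-power exponent elements lies in a normal subgroup of index prime to `p`.
-/
import Mathlib

set_option autoImplicit false

namespace Cfsg.Agent.Lib.helper33

theorem perm_inv_apply {Ω : Type*} (g : Equiv.Perm Ω) (x : Ω) : g⁻¹ (g x) = x :=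
  g.symm_apply_apply x

theorem perm_apply_inv {Ω : Type*} (g : Equiv.Perm Ω) (x : Ω) : g (g⁻¹ x) = x :=
  g.apply_symm_apply x

/-- An automorphism of a permutation group `G` which maps the stabiliser of every point of `X`
onto the stabiliser of a point of `X` is conjugation by a permutation, provided `G` fixes the
points outside `X` and distinct points of `X` have distinct stabilisers. -/
theorem exists_perm_of_stab_map {Ω : Type*} [Fintype Ω] [DecidableEq Ω]
    (G : Subgroup (Equiv.Perm Ω)) (X : Finset Ω)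
    (hfix : ∀ x, x ∉ X → ∀ g ∈ G, g x = x)
    (hdist : ∀ q ∈ X, ∀ q' ∈ X, q ≠ q' → ∃ g ∈ G, g q = q ∧ g q' ≠ q')
    (φ : ↥G ≃* ↥G)
    (hφ : ∀ q ∈ X, ∃ f ∈ X, ∀ g : ↥G,
      (g : Equiv.Perm Ω) q = q ↔ (φ g : Equiv.Perm Ω) f = f) :
    ∃ π : Equiv.Perm Ω, (∀ x, x ∉ X → π x = x) ∧
      ∀ g : ↥G, (φ g : Equiv.Perm Ω) = π * g * π⁻¹ := by
  classical
  choose! f hfX hf using hφ
  have hinv : ∀ g ∈ G, ∀ q ∈ X, g q ∈ X := by
    intro g hg q hq
    by_contra h
    have h2 := hfix (g q) h g⁻¹ (inv_mem hg)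
    rw [perm_inv_apply] at h2
    exact h (h2 ▸ hq)
  let π₀ : Ω → Ω := fun q => if q ∈ X then f q else q
  have hπ₀X : ∀ q ∈ X, π₀ q = f q := fun q hq => if_pos hq
  have hπ₀N : ∀ q, q ∉ X → π₀ q = q := fun q hq => if_neg hq
  have hinj : Function.Injective π₀ := by
    intro q q' h
    by_cases hq : q ∈ X <;> by_cases hq' : q' ∈ X
    · rw [hπ₀X q hq, hπ₀X q' hq'] at h
      by_contra hne
      obtain ⟨g, hg, h1, h2⟩ := hdist q hq q' hq' hne
      have h3 := (hf q hq ⟨g, hg⟩).1 h1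
      rw [h] at h3
      exact h2 ((hf q' hq' ⟨g, hg⟩).2 h3)
    · rw [hπ₀X q hq, hπ₀N q' hq'] at h
      exact absurd (h ▸ hfX q hq) hq'
    · rw [hπ₀N q hq, hπ₀X q' hq'] at h
      exact absurd (h ▸ hfX q' hq') hq
    · rw [hπ₀N q hq, hπ₀N q' hq'] at h
      exact h
  let π : Equiv.Perm Ω := Equiv.ofBijective π₀ (Finite.injective_iff_bijective.1 hinj)
  have hπ : ∀ q, π q = π₀ q := fun q => rfl
  refine ⟨π, fun x hx => hπ₀N x hx, fun g => ?_⟩
  have key : ∀ q, π ((g : Equiv.Perm Ω) q) = (φ g : Equiv.Perm Ω) (π q) := by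
    intro q
    rw [hπ, hπ]
    by_cases hq : q ∈ X
    · have hgq : (g : Equiv.Perm Ω) q ∈ X := hinv g g.2 q hq
      rw [hπ₀X q hq, hπ₀X _ hgq]
      by_contra hne
      have hX' : (φ g : Equiv.Perm Ω) (f q) ∈ X := hinv _ (φ g).2 _ (hfX q hq)
      obtain ⟨k, hk, h1, h2⟩ := hdist _ (hfX _ hgq) _ hX' hne
      obtain ⟨k₀, hk₀⟩ := φ.surjective ⟨k, hk⟩
      have e1 : (k₀ : Equiv.Perm Ω) ((g : Equiv.Perm Ω) q) = (g : Equiv.Perm Ω) q := by
        rw [hf _ hgq k₀, hk₀]
        exact h1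
      have e2 : ((g⁻¹ * k₀ * g : ↥G) : Equiv.Perm Ω) q = q := by
        show (g : Equiv.Perm Ω)⁻¹ ((k₀ : Equiv.Perm Ω) ((g : Equiv.Perm Ω) q)) = q
        rw [e1, perm_inv_apply]
      have e3 := (hf q hq (g⁻¹ * k₀ * g)).1 e2
      rw [map_mul, map_mul, map_inv, hk₀] at e3
      have e4 : (φ g : Equiv.Perm Ω)⁻¹ (k ((φ g : Equiv.Perm Ω) (f q))) = f q := e3
      rw [Equiv.Perm.inv_eq_iff_eq] at e4
      exact h2 e4
    · rw [hπ₀N q hq, hfix q hq g g.2, hπ₀N q hq, hfix q hq _ (φ g).2]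
  apply Equiv.ext
  intro x
  show (φ g : Equiv.Perm Ω) x = π ((g : Equiv.Perm Ω) (π⁻¹ x))
  rw [key, perm_apply_inv]

/-- Fixed points of a permutation of prime power order on an invariant finite set. -/
theorem card_modEq_card_fixed {Ω : Type*} [Fintype Ω] [DecidableEq Ω] (y : Equiv.Perm Ω)
    (p n : ℕ) [hp : Fact p.Prime] (hy : y ^ p ^ n = 1) (B : Finset Ω)
    (hB : ∀ b, y b ∈ B ↔ b ∈ B) :
    B.card ≡ (B.filter fun b => y b = b).card [MOD p] := by
  classical
  have hσ : (y.subtypePerm hB) ^ p ^ n = 1 := by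
    apply Equiv.ext
    intro b
    apply Subtype.ext
    rw [Equiv.Perm.subtypePerm_pow, Equiv.Perm.subtypePerm_apply]
    simp [hy]
  have h1 := Equiv.Perm.card_compl_support_modEq hσ
  rw [Fintype.card_coe] at h1
  have h2 : (y.subtypePerm hB).supportᶜ.card = (B.filter fun b => y b = b).card := by
    rw [← Finset.card_map (Function.Embedding.subtype _)]
    congr 1
    ext b
    simp only [Finset.mem_map, Finset.mem_compl, Equiv.Perm.mem_support, not_not,
      Function.Embedding.coe_subtype, Finset.mem_filter, Subtype.exists, exists_and_right,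
      exists_eq_right]
    constructor
    · rintro ⟨hb, h⟩
      exact ⟨hb, congrArg Subtype.val h⟩
    · rintro ⟨hb, h⟩
      exact ⟨hb, Subtype.ext h⟩
  rw [h2] at h1
  exact h1.symm

/-- In a group `L` of order `48` with a subgroup `N` of order `16` normalised by `L`, every
element of `L` of order dividing `16` lies in `N`. -/
theorem mem_of_pow_sixteen {G : Type*} [Group G] (L N : Subgroup G) (hNL : N ≤ L)
    (hnorm : ∀ g ∈ L, ∀ n ∈ N, g * n * g⁻¹ ∈ N) (hL : Nat.card L = 48) (hN : Nat.card N = 16)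
    (x : G) (hx : x ∈ L) (hx16 : x ^ 16 = 1) : x ∈ N := by
  have hnormal : (N.subgroupOf L).Normal := by
    constructor
    intro n hn g
    rw [Subgroup.mem_subgroupOf] at hn ⊢
    exact hnorm g.1 g.2 n.1 hn
  have hcard : Nat.card ↥(N.subgroupOf L) = 16 := by
    rw [← hN]
    exact Nat.card_congr (Subgroup.subgroupOfEquivOfLe hNL).toEquiv
  have hidx : (N.subgroupOf L).index = 3 := by
    have := Subgroup.card_mul_index (N.subgroupOf L)
    rw [hcard, hL] at this
    omega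
  have h3 := Subgroup.pow_index_mem (N.subgroupOf L) (⟨x, hx⟩ : ↥L)
  rw [hidx, Subgroup.mem_subgroupOf] at h3
  have h3' : x ^ 3 ∈ N := h3
  have : x = ((x ^ 3) ^ 5)⁻¹ * x ^ 16 := by
    rw [← pow_mul, ← zpow_natCast, ← zpow_natCast, ← zpow_neg, ← zpow_add]
    norm_num
  rw [this, hx16, mul_one]
  exact inv_mem (pow_mem h3' 5)

/-- The image of a point stabiliser under an automorphism, as a subgroup of permutations. -/
def stabImage {Ω : Type*} (G : Subgroup (Equiv.Perm Ω)) (φ : ↥G ≃* ↥G) (q : Ω) :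
    Subgroup (Equiv.Perm Ω) :=
  (((G ⊓ MulAction.stabilizer (Equiv.Perm Ω) q).subgroupOf G).map φ.toMonoidHom).map G.subtype

theorem stabImage_le {Ω : Type*} (G : Subgroup (Equiv.Perm Ω)) (φ : ↥G ≃* ↥G) (q : Ω) :
    stabImage G φ q ≤ G := by
  rintro _ ⟨x, -, rfl⟩
  exact x.2

theorem card_stabImage {Ω : Type*} (G : Subgroup (Equiv.Perm Ω)) (φ : ↥G ≃* ↥G) (q : Ω) :
    Nat.card (stabImage G φ q) =
      Nat.card ↥(G ⊓ MulAction.stabilizer (Equiv.Perm Ω) q) := by
  rw [stabImage, Subgroup.card_map_of_injective (Subgroup.subtype_injective G),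
    Subgroup.card_map_of_injective φ.injective]
  exact Nat.card_congr (Subgroup.subgroupOfEquivOfLe inf_le_left).toEquiv

theorem stab_iff_of_stabImage {Ω : Type*} {G : Subgroup (Equiv.Perm Ω)} {φ : ↥G ≃* ↥G} {q f : Ω}
    (h : stabImage G φ q = G ⊓ MulAction.stabilizer (Equiv.Perm Ω) f) (g : ↥G) :
    (g : Equiv.Perm Ω) q = q ↔ (φ g : Equiv.Perm Ω) f = f := by
  constructor
  · intro hg
    have h1 : (φ g : Equiv.Perm Ω) ∈ stabImage G φ q := by
      refine ⟨φ g, ⟨g, ?_, rfl⟩, rfl⟩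
      exact Subgroup.mem_subgroupOf.2
        (Subgroup.mem_inf.2 ⟨g.2, MulAction.mem_stabilizer_iff.2 hg⟩)
    rw [h] at h1
    exact MulAction.mem_stabilizer_iff.1 (Subgroup.mem_inf.1 h1).2
  · intro hg
    have h1 : (φ g : Equiv.Perm Ω) ∈ stabImage G φ q := by
      rw [h]
      exact Subgroup.mem_inf.2 ⟨(φ g).2, MulAction.mem_stabilizer_iff.2 hg⟩
    obtain ⟨x, ⟨g', hg', rfl⟩, hx⟩ := h1
    have h2 : φ g' = φ g := Subtype.ext hx
    have h3 := φ.injective h2
    subst h3
    exact MulAction.mem_stabilizer_iff.1 (Subgroup.mem_inf.1 (Subgroup.mem_subgroupOf.1 hg')).2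

/-- In a group of order 40, every element of order 5 commutes with an involution. -/
theorem exists_invol_comm {G : Type*} [Group G] [Finite G] (hG : Nat.card G = 40) (w : G)
    (hw : orderOf w = 5) : ∃ n : G, orderOf n = 2 ∧ n * w = w * n := by
  classical
  have hp5 : Fact (Nat.Prime 5) := ⟨by norm_num⟩
  have hp2 : Fact (Nat.Prime 2) := ⟨by norm_num⟩
  have hw5 : w ^ 5 = 1 := by rw [← hw]; exact pow_orderOf_eq_one w
  obtain ⟨P⟩ : Nonempty (Sylow 5 G) := inferInstance
  have hmul := Subgroup.card_mul_index (P : Subgroup G)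
  rw [hG] at hmul
  have hPcard : Nat.card (P : Subgroup G) = 5 := by
    obtain ⟨k, hk⟩ := IsPGroup.iff_card.mp P.isPGroup'
    have hnd := Sylow.not_dvd_index P
    have hk1 : k ≤ 1 := by
      by_contra hk2
      have h25 : 5 ^ 2 ∣ 5 ^ k := pow_dvd_pow 5 (by omega)
      have h40 : 5 ^ k ∣ 40 := by
        rw [← hk]
        exact Dvd.intro _ hmul
      have := dvd_trans h25 h40
      norm_num at this
    interval_cases k
    · exfalso
      apply hnd
      rw [hk] at hmul
      have : (P : Subgroup G).index = 40 := by omega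
      rw [this]
      norm_num
    · rw [hk]; norm_num
  have hidx : (P : Subgroup G).index = 8 := by
    rw [hPcard] at hmul
    omega
  have hsub : Subsingleton (Sylow 5 G) := by
    have h1 := card_sylow_modEq_one 5 G
    have h2 := Sylow.card_dvd_index P
    rw [hidx] at h2
    have h2' : Nat.card (Sylow 5 G) ∣ 2 ^ 3 := by norm_num; exact h2
    obtain ⟨j, hj, hjeq⟩ := (Nat.dvd_prime_pow Nat.prime_two).1 h2'
    rw [← Finite.card_le_one_iff_subsingleton, hjeq]
    rw [hjeq] at h1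
    unfold Nat.ModEq at h1
    interval_cases j <;> simp_all
  have hconj : ∀ g : G, g * w * g⁻¹ ∈ (P : Subgroup G) := by
    intro g
    have hx5 : (g * w * g⁻¹) ^ 5 = 1 := by rw [conj_pow, hw5, mul_one, mul_inv_cancel]
    have hpg : IsPGroup 5 ↥(Subgroup.zpowers (g * w * g⁻¹)) := by
      rintro ⟨y, hy⟩
      obtain ⟨j, rfl⟩ := Subgroup.mem_zpowers_iff.1 hy
      refine ⟨1, ?_⟩
      apply Subtype.ext
      show ((g * w * g⁻¹) ^ j) ^ 5 ^ 1 = 1
      rw [pow_one, ← zpow_natCast, ← zpow_mul, mul_comm, zpow_mul, zpow_natCast, hx5, one_zpow]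
    obtain ⟨Q, hQ⟩ := hpg.exists_le_sylow
    rw [Subsingleton.elim P Q]
    exact hQ (Subgroup.mem_zpowers _)
  obtain ⟨T, hT⟩ := Sylow.exists_subgroup_card_pow_prime 2 (show 2 ^ 3 ∣ Nat.card G by
    rw [hG]; norm_num)
  let _ : Fintype ↥(P : Subgroup G) := Fintype.ofFinite _
  let _ : Fintype ↥T := Fintype.ofFinite _
  have hlt : Fintype.card ↥(P : Subgroup G) < Fintype.card ↥T := by
    rw [← Nat.card_eq_fintype_card, ← Nat.card_eq_fintype_card, hPcard, hT]
    norm_num
  obtain ⟨a, b, hab, hfab⟩ := Fintype.exists_ne_map_eq_of_card_lt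
    (fun t : ↥T => (⟨(t : G) * w * (t : G)⁻¹, hconj t⟩ : ↥(P : Subgroup G))) hlt
  have e : (a : G) * w * (a : G)⁻¹ = (b : G) * w * (b : G)⁻¹ := congrArg Subtype.val hfab
  have hcomm : ((b : G)⁻¹ * (a : G)) * w = w * ((b : G)⁻¹ * (a : G)) := by
    calc ((b : G)⁻¹ * (a : G)) * w = (b : G)⁻¹ * ((a : G) * w * (a : G)⁻¹) * (a : G) := by group
      _ = (b : G)⁻¹ * ((b : G) * w * (b : G)⁻¹) * (a : G) := by rw [e]
      _ = w * ((b : G)⁻¹ * (a : G)) := by group
  have hne : (b : G)⁻¹ * (a : G) ≠ 1 := by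
    intro h
    apply hab
    apply Subtype.ext
    have := inv_mul_eq_one.1 h
    exact this.symm
  have hord : orderOf ((b : G)⁻¹ * (a : G)) ∣ 2 ^ 3 := by
    have h1 := orderOf_dvd_natCard (b⁻¹ * a : ↥T)
    rw [hT, ← Subgroup.orderOf_coe] at h1
    exact h1
  obtain ⟨j, hj, hjeq⟩ := (Nat.dvd_prime_pow Nat.prime_two).1 hord
  have hj0 : j ≠ 0 := by
    rintro rfl
    rw [pow_zero, orderOf_eq_one_iff] at hjeq
    exact hne hjeq
  have h2dvd : 2 ∣ orderOf ((b : G)⁻¹ * (a : G)) := by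
    rw [hjeq]
    exact dvd_pow_self 2 hj0
  refine ⟨((b : G)⁻¹ * (a : G)) ^ (orderOf ((b : G)⁻¹ * (a : G)) / 2),
    orderOf_pow_orderOf_div (by rw [hjeq]; positivity) h2dvd, ?_⟩
  exact ((Commute.pow_left (show Commute ((b : G)⁻¹ * (a : G)) w from hcomm) _)).eq

end Cfsg.Agent.Lib.helper33
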