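import Mathlib
import Cfsg.Agent.Lib.helper20.BGFieldCore

/-!
S5977 / S5978 block [C-I] (helper20 split), leaves CIARP (`ciar_plus`) and CIARM (`ciar_minus`):
the valuation arithmetic comparing `|O^±_{2d}(q)|` with `|O_d(q^2)|`.
-/

set_option autoImplicit false

namespace Cfsg.Agent.Lib.helper20.BG

/-- the valuation of a product of nonzero factors -/
theorem h33_padic_prod (r : ℕ) [Fact r.Prime] (s : Finset ℕ) (f : ℕ → ℕ)
    (hf : ∀ j ∈ s, f j ≠ 0) :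
    padicValNat r (∏ j ∈ s, f j) = ∑ j ∈ s, padicValNat r (f j) := by
  classical
  induction s using Finset.induction_on with
  | empty => simp
  | insert a s ha ih =>
    rw [Finset.prod_insert ha, Finset.sum_insert ha,
      padicValNat.mul (hf a (Finset.mem_insert_self a s))
        (Finset.prod_ne_zero_iff.mpr (fun j hj => hf j (Finset.mem_insert_of_mem hj))),
      ih (fun j hj => hf j (Finset.mem_insert_of_mem hj))]

/-- common core of CIARP / CIARM -/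
theorem h33_ciar_core (q r d : ℕ) (hr : r.Prime) (hr2 : r ≠ 2) (hrq : ¬ r ∣ q) (hd : 2 ≤ d)
    (X N1 : ℕ) (hXdvd : X ∣ (q ^ 2) ^ d - 1)
    (hN1 : orderOf ((q ^ 2 : ℕ) : ZMod r) ∣ d → r ∣ X → r ∣ N1) :
    padicValNat r (2 * q ^ (d * (d - 1)) * X *
        ∏ j ∈ Finset.range (d - 1), (q ^ (2 * (j + 1)) - 1)) ≤
      (∑ t ∈ (Finset.range d).filter (fun t => orderOf ((q ^ 2 : ℕ) : ZMod r) ∣ t),
          padicValNat r ((q ^ 2) ^ t - 1)) +
        (if orderOf ((q ^ 2 : ℕ) : ZMod r) ∣ d ∧ r ∣ N1 then padicValNat r ((q ^ 2) ^ d - 1)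
          else 0) := by
  have hfact : Fact r.Prime := ⟨hr⟩
  by_cases h0 : 2 * q ^ (d * (d - 1)) * X *
      ∏ j ∈ Finset.range (d - 1), (q ^ (2 * (j + 1)) - 1) = 0
  · rw [h0]; simp
  have hne : 2 * q ^ (d * (d - 1)) * X ≠ 0 ∧
      ∏ j ∈ Finset.range (d - 1), (q ^ (2 * (j + 1)) - 1) ≠ 0 := mul_ne_zero_iff.mp h0
  have hne2 : 2 * q ^ (d * (d - 1)) ≠ 0 ∧ X ≠ 0 := mul_ne_zero_iff.mp hne.1
  have hq1 : 1 ≤ q := by
    rcases Nat.eq_zero_or_pos q with h | h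
    · exfalso; exact hrq (h ▸ dvd_zero r)
    · exact h
  have hfac : ∀ j ∈ Finset.range (d - 1), q ^ (2 * (j + 1)) - 1 ≠ 0 :=
    fun j hj => Finset.prod_ne_zero_iff.mp hne.2 j hj
  have hq2 : 2 ≤ q := by
    have h1 := hfac 0 (Finset.mem_range.mpr (by omega))
    by_contra hcon
    have hq : q = 1 := by omega
    rw [hq] at h1
    simp at h1
  have hbig : (q ^ 2) ^ d - 1 ≠ 0 := by
    have h2 : 2 ≤ (q ^ 2) ^ d := by
      calc 2 ≤ q := hq2
        _ = q ^ 1 := (pow_one q).symm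
        _ ≤ q ^ (2 * d) := Nat.pow_le_pow_right hq1 (by omega)
        _ = (q ^ 2) ^ d := by rw [pow_mul]
    omega
  have hv2 : padicValNat r 2 = 0 :=
    padicValNat.eq_zero_of_not_dvd
      (fun h => hr2 ((Nat.prime_dvd_prime_iff_eq hr Nat.prime_two).mp h))
  have hvq : padicValNat r (q ^ (d * (d - 1))) = 0 := by
    rw [padicValNat.pow, padicValNat.eq_zero_of_not_dvd hrq, mul_zero]
  have hsplit : padicValNat r (2 * q ^ (d * (d - 1)) * X *
      ∏ j ∈ Finset.range (d - 1), (q ^ (2 * (j + 1)) - 1)) =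
      padicValNat r X + padicValNat r (∏ j ∈ Finset.range (d - 1), (q ^ (2 * (j + 1)) - 1)) := by
    rw [padicValNat.mul hne.1 hne.2, padicValNat.mul hne2.1 hne2.2,
      padicValNat.mul (by norm_num) (pow_ne_zero _ (by omega)), hv2, hvq]
    omega
  rw [hsplit]
  have hPv : padicValNat r (∏ j ∈ Finset.range (d - 1), (q ^ (2 * (j + 1)) - 1)) ≤
      ∑ t ∈ (Finset.range d).filter (fun t => orderOf ((q ^ 2 : ℕ) : ZMod r) ∣ t),
        padicValNat r ((q ^ 2) ^ t - 1) := by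
    rw [h33_padic_prod r _ _ hfac, Finset.sum_filter]
    obtain ⟨e, rfl⟩ : ∃ e, d = e + 1 := ⟨d - 1, by omega⟩
    rw [Finset.sum_range_succ']
    simp only [Nat.add_sub_cancel]
    refine le_trans (Finset.sum_le_sum (fun j hj => ?_)) (Nat.le_add_right _ _)
    rw [pow_mul]
    split_ifs with hdiv
    · exact le_rfl
    · have hnd : ¬ r ∣ (q ^ 2) ^ (j + 1) - 1 := fun hcon =>
        hdiv (h20_bg_order_dvd (q ^ 2) r (j + 1) (Nat.one_le_pow _ _ hq1) hcon)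
      rw [padicValNat.eq_zero_of_not_dvd hnd]
  have hXv : padicValNat r X ≤
      (if orderOf ((q ^ 2 : ℕ) : ZMod r) ∣ d ∧ r ∣ N1 then padicValNat r ((q ^ 2) ^ d - 1)
        else 0) := by
    by_cases hrX : r ∣ X
    · have hdvd : r ∣ (q ^ 2) ^ d - 1 := hrX.trans hXdvd
      have hi'd : orderOf ((q ^ 2 : ℕ) : ZMod r) ∣ d :=
        h20_bg_order_dvd (q ^ 2) r d (Nat.one_le_pow _ _ hq1) hdvd
      rw [if_pos ⟨hi'd, hN1 hi'd hrX⟩]
      obtain ⟨c, hc⟩ := hXdvd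
      have hc0 : c ≠ 0 := by
        rintro rfl
        rw [mul_zero] at hc
        exact hbig hc
      rw [hc, padicValNat.mul hne2.2 hc0]
      exact Nat.le_add_right _ _
    · rw [padicValNat.eq_zero_of_not_dvd hrX]
      exact Nat.zero_le _
  omega

theorem h33_sq_sub_one (q d : ℕ) : (q ^ 2) ^ d - 1 = (q ^ d - 1) * (q ^ d + 1) := by
  have h1 : (q ^ 2) ^ d = (q ^ d) ^ 2 := by rw [← pow_mul, ← pow_mul, mul_comm]
  rw [h1]
  rcases Nat.eq_zero_or_pos (q ^ d) with h | h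
  · rw [h]; simp
  · obtain ⟨n, hn⟩ : ∃ n, q ^ d = n + 1 := ⟨q ^ d - 1, by omega⟩
    rw [hn, Nat.add_sub_cancel]
    apply Nat.sub_eq_of_eq_add
    ring

/-- CIARP (M/L): valuation arithmetic, plus type. -/
theorem ciar_plus (q r d : ℕ) (hr : r.Prime) (hr2 : r ≠ 2) (hrq : ¬ r ∣ q) (hd : 2 ≤ d)
    (h4 : orderOf (q : ZMod r) % 4 = 0) (N1 : ℕ)
    (hN1 : orderOf ((q ^ 2 : ℕ) : ZMod r) ∣ d → r ∣ q ^ d - 1 → r ∣ N1) :
    padicValNat r (2 * q ^ (d * (d - 1)) * (q ^ d - 1) *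
        ∏ j ∈ Finset.range (d - 1), (q ^ (2 * (j + 1)) - 1)) ≤
      (∑ t ∈ (Finset.range d).filter (fun t => orderOf ((q ^ 2 : ℕ) : ZMod r) ∣ t),
          padicValNat r ((q ^ 2) ^ t - 1)) +
        (if orderOf ((q ^ 2 : ℕ) : ZMod r) ∣ d ∧ r ∣ N1 then padicValNat r ((q ^ 2) ^ d - 1)
          else 0) :=
  h33_ciar_core q r d hr hr2 hrq hd (q ^ d - 1) N1 (Dvd.intro _ (h33_sq_sub_one q d).symm) hN1

/-- CIARM (M/L): valuation arithmetic, minus type. -/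
theorem ciar_minus (q r d : ℕ) (hr : r.Prime) (hr2 : r ≠ 2) (hrq : ¬ r ∣ q) (hd : 2 ≤ d)
    (h4 : orderOf (q : ZMod r) % 4 = 0) (N1 : ℕ)
    (hN1 : orderOf ((q ^ 2 : ℕ) : ZMod r) ∣ d → r ∣ q ^ d + 1 → r ∣ N1) :
    padicValNat r (2 * q ^ (d * (d - 1)) * (q ^ d + 1) *
        ∏ j ∈ Finset.range (d - 1), (q ^ (2 * (j + 1)) - 1)) ≤
      (∑ t ∈ (Finset.range d).filter (fun t => orderOf ((q ^ 2 : ℕ) : ZMod r) ∣ t),
          padicValNat r ((q ^ 2) ^ t - 1)) +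
        (if orderOf ((q ^ 2 : ℕ) : ZMod r) ∣ d ∧ r ∣ N1 then padicValNat r ((q ^ 2) ^ d - 1)
          else 0) :=
  h33_ciar_core q r d hr hr2 hrq hd (q ^ d + 1) N1 (Dvd.intro_left _ (h33_sq_sub_one q d).symm) hN1

end Cfsg.Agent.Lib.helper20.BG
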