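/-
A kernel-checkable certificate bounding the order of a group generated by involutions: a Cayley
table with a spanning tree of representative words, whose non-tree edges are derived one by one
from relators of the form `v * v`.  (owner: helper33)
-/
import Mathlib

set_option autoImplicit false

namespace Cfsg.Agent.Lib.helper33.CT

variable {Γ : Type*} [Group Γ]

/-- The value of a word in the generators `γ 0, γ 1, …`. -/
def ev (γ : ℕ → Γ) : List ℕ → Γ
  | [] => 1
  | i :: w => γ i * ev γ w

theorem ev_nil (γ : ℕ → Γ) : ev γ [] = 1 := rfl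

theorem ev_cons (γ : ℕ → Γ) (i : ℕ) (w : List ℕ) : ev γ (i :: w) = γ i * ev γ w := rfl

theorem ev_append (γ : ℕ → Γ) (a b : List ℕ) : ev γ (a ++ b) = ev γ a * ev γ b := by
  induction a with
  | nil => rw [List.nil_append, ev_nil, one_mul]
  | cons i a ih => rw [List.cons_append, ev_cons, ev_cons, ih, mul_assoc]

theorem ev_singleton (γ : ℕ → Γ) (i : ℕ) : ev γ [i] = γ i := by
  rw [ev_cons, ev_nil, mul_one]

theorem map_ev {G : Type*} [Group G] (σ : Γ →* G) (γ : ℕ → Γ) (w : List ℕ) :
    σ (ev γ w) = ev (fun i => σ (γ i)) w := by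
  induction w with
  | nil => rw [ev_nil, ev_nil, map_one]
  | cons i w ih => rw [ev_cons, ev_cons, map_mul, ih]

/-- A table: the number of generators, the representative words and the multiplication by the
generators. -/
structure Tab where
  k : ℕ
  W : ℕ → List ℕ
  nx : ℕ → ℕ → ℕ

/-- The index of the edge `(c, i)` in the bit mask of derived edges. -/
def Tab.bit (T : Tab) (c i : ℕ) : ℕ := c * T.k + i

theorem Tab.bit_inj (T : Tab) {c i c' i' : ℕ} (hi : i < T.k) (hi' : i' < T.k)
    (h : T.bit c i = T.bit c' i') : c = c' ∧ i = i' := by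
  unfold Tab.bit at h
  have h1 : (c * T.k + i) % T.k = i := by
    rw [Nat.mul_comm, Nat.mul_add_mod]; exact Nat.mod_eq_of_lt hi
  have h2 : (c' * T.k + i') % T.k = i' := by
    rw [Nat.mul_comm, Nat.mul_add_mod]; exact Nat.mod_eq_of_lt hi'
  have hii : i = i' := by rw [← h1, ← h2, h]
  subst hii
  have hk : 0 < T.k := Nat.lt_of_le_of_lt (Nat.zero_le _) hi
  have h3 : c * T.k = c' * T.k := Nat.add_right_cancel h
  exact ⟨Nat.eq_of_mul_eq_mul_right hk h3, rfl⟩

/-- Follow a word along derived edges. -/
def Tab.trace (T : Tab) (P : ℕ) : ℕ → List ℕ → Option ℕ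
  | c, [] => some c
  | c, i :: w =>
    match (decide (i < T.k) && P.testBit (T.bit c i)) with
    | true => T.trace P (T.nx c i) w
    | false => none

/-- The derived edges are correct. -/
def Tab.Inv (T : Tab) (γ : ℕ → Γ) (P : ℕ) : Prop :=
  ∀ c i, i < T.k → P.testBit (T.bit c i) = true → ev γ (T.W c) * γ i = ev γ (T.W (T.nx c i))

theorem Tab.trace_sound (T : Tab) (γ : ℕ → Γ) (P : ℕ) (hP : T.Inv γ P) :
    ∀ (w : List ℕ) (c c' : ℕ), T.trace P c w = some c' →
      ev γ (T.W c) * ev γ w = ev γ (T.W c') := by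
  intro w
  induction w with
  | nil =>
    intro c c' h
    rw [Tab.trace] at h
    rw [ev_nil, mul_one, Option.some.inj h]
  | cons i w ih =>
    intro c c' h
    rw [Tab.trace] at h
    cases hb : (decide (i < T.k) && P.testBit (T.bit c i)) with
    | false => rw [hb] at h; exact absurd h (by simp)
    | true =>
      rw [hb] at h
      rw [Bool.and_eq_true, decide_eq_true_eq] at hb
      have h1 := hP c i hb.1 hb.2
      have h2 := ih (T.nx c i) c' h
      rw [ev_cons, ← mul_assoc, h1, h2]

/-- Add the two directions of an edge. -/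
def Tab.add (T : Tab) (P c i c' : ℕ) : ℕ := P ||| 2 ^ T.bit c i ||| 2 ^ T.bit c' i

theorem Tab.inv_add (T : Tab) (γ : ℕ → Γ) (P c i c' : ℕ) (hP : T.Inv γ P) (hi : i < T.k)
    (h1 : ev γ (T.W c) * γ i = ev γ (T.W (T.nx c i)))
    (h2 : ev γ (T.W c') * γ i = ev γ (T.W (T.nx c' i))) : T.Inv γ (T.add P c i c') := by
  intro d j hj hb
  unfold Tab.add at hb
  rw [Nat.testBit_or, Nat.testBit_or, Bool.or_eq_true, Bool.or_eq_true, Nat.testBit_two_pow,
    Nat.testBit_two_pow, decide_eq_true_eq, decide_eq_true_eq] at hb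
  rcases hb with (hb | hb) | hb
  · exact hP d j hj hb
  · obtain ⟨rfl, rfl⟩ := T.bit_inj hi hj hb
    exact h1
  · obtain ⟨rfl, rfl⟩ := T.bit_inj hi hj hb
    exact h2

/-- A tree edge `(c, i)`: the representative of `nx c i` is that of `c` followed by `i`. -/
def Tab.treeStep (T : Tab) (P : ℕ) (s : ℕ × ℕ) : Option ℕ :=
  match (decide (s.2 < T.k) && (decide (T.W (T.nx s.1 s.2) = T.W s.1 ++ [s.2]) &&
      decide (T.nx (T.nx s.1 s.2) s.2 = s.1))) with
  | true => some (T.add P s.1 s.2 (T.nx s.1 s.2))
  | false => none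

theorem Tab.treeStep_sound (T : Tab) (γ : ℕ → Γ) (hinv : ∀ i < T.k, γ i * γ i = 1) (P P' : ℕ)
    (s : ℕ × ℕ) (hP : T.Inv γ P) (h : T.treeStep P s = some P') : T.Inv γ P' := by
  unfold Tab.treeStep at h
  cases hb : (decide (s.2 < T.k) && (decide (T.W (T.nx s.1 s.2) = T.W s.1 ++ [s.2]) &&
      decide (T.nx (T.nx s.1 s.2) s.2 = s.1))) with
  | false => rw [hb] at h; exact absurd h (by simp)
  | true =>
    rw [hb] at h
    rw [Bool.and_eq_true, Bool.and_eq_true, decide_eq_true_eq, decide_eq_true_eq,
      decide_eq_true_eq] at hb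
    obtain ⟨hi, hW, hnx⟩ := hb
    rw [← Option.some.inj h]
    have e1 : ev γ (T.W s.1) * γ s.2 = ev γ (T.W (T.nx s.1 s.2)) := by
      rw [hW, ev_append, ev_singleton]
    refine T.inv_add γ P s.1 s.2 _ hP hi e1 ?_
    rw [hnx, ← e1, mul_assoc, hinv s.2 hi, mul_one]

/-- A relator step `(c, v, i)`: the relator is `(v ++ [i]) ++ (v ++ [i])`, read from `c`; all
its edges but the last are already derived. -/
def Tab.relStep (T : Tab) (P : ℕ) (s : ℕ × List ℕ × ℕ) : Option ℕ :=
  match T.trace P s.1 (s.2.1 ++ s.2.2 :: s.2.1) with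
  | some c' =>
    match (decide (s.2.2 < T.k) && (decide (T.nx c' s.2.2 = s.1) &&
        decide (T.nx s.1 s.2.2 = c'))) with
    | true => some (T.add P c' s.2.2 s.1)
    | false => none
  | none => none

theorem Tab.relStep_sound (T : Tab) (γ : ℕ → Γ) (hinv : ∀ i < T.k, γ i * γ i = 1) (P P' : ℕ)
    (s : ℕ × List ℕ × ℕ) (hP : T.Inv γ P)
    (hrel : ev γ (s.2.1 ++ [s.2.2]) * ev γ (s.2.1 ++ [s.2.2]) = 1)
    (h : T.relStep P s = some P') : T.Inv γ P' := by
  unfold Tab.relStep at h
  cases ht : T.trace P s.1 (s.2.1 ++ s.2.2 :: s.2.1) with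
  | none => rw [ht] at h; exact absurd h (by simp)
  | some c' =>
    rw [ht] at h
    dsimp only at h
    cases hb : (decide (s.2.2 < T.k) && (decide (T.nx c' s.2.2 = s.1) &&
        decide (T.nx s.1 s.2.2 = c'))) with
    | false => rw [hb] at h; exact absurd h (by simp)
    | true =>
      rw [hb] at h
      rw [Bool.and_eq_true, Bool.and_eq_true, decide_eq_true_eq, decide_eq_true_eq,
        decide_eq_true_eq] at hb
      obtain ⟨hi, hn1, hn2⟩ := hb
      rw [← Option.some.inj h]
      have e0 := T.trace_sound γ P hP _ _ _ ht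
      rw [ev_append, ev_cons] at e0
      rw [ev_append, ev_singleton] at hrel
      have e1 : ev γ (T.W c') * γ s.2.2 = ev γ (T.W s.1) := by
        rw [← e0]
        calc ev γ (T.W s.1) * (ev γ s.2.1 * (γ s.2.2 * ev γ s.2.1)) * γ s.2.2
            = ev γ (T.W s.1) * (ev γ s.2.1 * γ s.2.2 * (ev γ s.2.1 * γ s.2.2)) := by group
          _ = ev γ (T.W s.1) := by rw [hrel, mul_one]
      refine T.inv_add γ P c' s.2.2 s.1 hP hi ?_ ?_
      · rw [hn1]; exact e1
      · rw [hn2, ← e1, mul_assoc, hinv s.2.2 hi, mul_one]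

/-- Run a list of steps. -/
def run {α : Type} (f : ℕ → α → Option ℕ) : ℕ → List α → Option ℕ
  | P, [] => some P
  | P, s :: l =>
    match f P s with
    | some P' => run f P' l
    | none => none

theorem run_sound {α : Type} (f : ℕ → α → Option ℕ) (Q : ℕ → Prop) (l : List α)
    (hf : ∀ s ∈ l, ∀ P P', Q P → f P s = some P' → Q P') :
    ∀ P P', Q P → run f P l = some P' → Q P' := by
  induction l with
  | nil =>
    intro P P' hQ h
    rw [run] at h
    rw [← Option.some.inj h]; exact hQ
  | cons s l ih =>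
    intro P P' hQ h
    rw [run] at h
    cases hs : f P s with
    | none => rw [hs] at h; exact absurd h (by simp)
    | some P1 =>
      rw [hs] at h
      exact ih (fun t ht => hf t (List.mem_cons_of_mem _ ht)) P1 P'
        (hf s List.mem_cons_self P P1 hQ hs) h

/-- All edges are derived and stay inside the first `n` rows. -/
def Tab.final (T : Tab) (n P : ℕ) : Bool :=
  (List.range n).all (fun c => (List.range T.k).all (fun i =>
    P.testBit (T.bit c i) && decide (T.nx c i < n)))

/-- The complete check. -/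
def Tab.check (T : Tab) (n : ℕ) (ts : List (ℕ × ℕ)) (rs : List (ℕ × List ℕ × ℕ)) : Bool :=
  match run T.treeStep 0 ts with
  | some P1 =>
    match run T.relStep P1 rs with
    | some P2 => decide (0 < n) && (decide (T.W 0 = []) && T.final n P2)
    | none => false
  | none => false

/-- A group generated by involutions satisfying the relators of a checked table has at most as
many elements as the table has rows. -/
theorem card_closure_le [Finite Γ] (T : Tab) (γ : ℕ → Γ) (n : ℕ) (ts : List (ℕ × ℕ))
    (rs : List (ℕ × List ℕ × ℕ)) (hinv : ∀ i < T.k, γ i * γ i = 1)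
    (hrel : ∀ s ∈ rs, ev γ (s.2.1 ++ [s.2.2]) * ev γ (s.2.1 ++ [s.2.2]) = 1)
    (hchk : T.check n ts rs = true) :
    Nat.card (Subgroup.closure {x | ∃ i < T.k, x = γ i}) ≤ n := by
  unfold Tab.check at hchk
  cases h1 : run T.treeStep 0 ts with
  | none => rw [h1] at hchk; exact absurd hchk (by simp)
  | some P1 =>
    rw [h1] at hchk
    dsimp only at hchk
    cases h2 : run T.relStep P1 rs with
    | none => rw [h2] at hchk; exact absurd hchk (by simp)
    | some P2 =>
      rw [h2] at hchk
      dsimp only at hchk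
      rw [Bool.and_eq_true, Bool.and_eq_true, decide_eq_true_eq, decide_eq_true_eq] at hchk
      obtain ⟨hn, hW0, hfin⟩ := hchk
      have hI0 : T.Inv γ 0 := by
        intro c i _ hb
        rw [Nat.zero_testBit] at hb
        exact absurd hb (by simp)
      have hI1 : T.Inv γ P1 :=
        run_sound T.treeStep (T.Inv γ) ts
          (fun s _ P P' hP h => T.treeStep_sound γ hinv P P' s hP h) 0 P1 hI0 h1
      have hI2 : T.Inv γ P2 :=
        run_sound T.relStep (T.Inv γ) rs
          (fun s hs P P' hP h => T.relStep_sound γ hinv P P' s hP (hrel s hs) h) P1 P2 hI1 h2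
      have hedge : ∀ c < n, ∀ i < T.k,
          ev γ (T.W c) * γ i = ev γ (T.W (T.nx c i)) ∧ T.nx c i < n := by
        intro c hc i hi
        unfold Tab.final at hfin
        rw [List.all_eq_true] at hfin
        have h3 := hfin c (List.mem_range.2 hc)
        rw [List.all_eq_true] at h3
        have h4 := h3 i (List.mem_range.2 hi)
        rw [Bool.and_eq_true, decide_eq_true_eq] at h4
        exact ⟨hI2 c i hi h4.1, h4.2⟩
      have key : ∀ x ∈ Subgroup.closure {x | ∃ i < T.k, x = γ i}, ∃ c < n, x = ev γ (T.W c) := by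
        intro x hx
        induction hx using Subgroup.closure_induction_right with
        | one => exact ⟨0, hn, by rw [hW0, ev_nil]⟩
        | mul_right x _ y hy ih =>
          obtain ⟨c, hc, rfl⟩ := ih
          obtain ⟨i, hi, rfl⟩ := hy
          exact ⟨T.nx c i, (hedge c hc i hi).2, (hedge c hc i hi).1⟩
        | mul_inv_cancel x _ y hy ih =>
          obtain ⟨c, hc, rfl⟩ := ih
          obtain ⟨i, hi, rfl⟩ := hy
          have e : (γ i)⁻¹ = γ i := inv_eq_of_mul_eq_one_left (hinv i hi)
          rw [e]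
          exact ⟨T.nx c i, (hedge c hc i hi).2, (hedge c hc i hi).1⟩
      choose f hf using fun x : Subgroup.closure {x | ∃ i < T.k, x = γ i} => key x.1 x.2
      have hinj : Function.Injective (fun x => (⟨f x, (hf x).1⟩ : Fin n)) := by
        intro x y hxy
        have h5 : f x = f y := congrArg Fin.val hxy
        apply Subtype.ext
        rw [(hf x).2, (hf y).2, h5]
      have := Nat.card_le_card_of_injective _ hinj
      rwa [Nat.card_fin] at this

end Cfsg.Agent.Lib.helper33.CT
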