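/-
Dodecads of the length-24 code: there are 2576 of them; an octad meets a dodecad in 2, 4 or 6 points,
with 132, 495 and 132 octads of each kind; intersection numbers of two dodecads.
-/
import Mathlib
import Cfsg.Agent.Lib.helper33.GolayBridge
import Cfsg.Agent.Lib.helper8.Steiner2

set_option autoImplicit false

namespace Cfsg.Agent.Lib.helper33

open Finset Cfsg.Agent.Lib.helper94

/-- The supports of the code words, as a predicate on finsets. -/
def IsCodeSupp (b : Finset Cfsg.GolayPt) : Prop := ∃ c ∈ Cfsg.golayCode, bsupp c = b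

theorem isCodeSupp_compl {b : Finset Cfsg.GolayPt} (hb : IsCodeSupp b) : IsCodeSupp bᶜ :=
  compl_mem_supports hb

theorem isCodeSupp_symmDiff {b b' : Finset Cfsg.GolayPt} (hb : IsCodeSupp b) (hb' : IsCodeSupp b') :
    IsCodeSupp (symmDiff b b') :=
  symmDiff_mem_supports hb hb'

theorem isCodeSupp_card {b : Finset Cfsg.GolayPt} (hb : IsCodeSupp b) :
    b.card = 0 ∨ b.card = 8 ∨ b.card = 12 ∨ b.card = 16 ∨ b.card = 24 :=
  card_of_mem_supports hb

theorem mem_octads' {b : Finset Cfsg.GolayPt} : b ∈ Cfsg.octads ↔ IsCodeSupp b ∧ b.card = 8 :=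
  mem_octads b

theorem mem_dodecads' {b : Finset Cfsg.GolayPt} : b ∈ Cfsg.dodecads ↔ IsCodeSupp b ∧ b.card = 12 :=
  mem_dodecads b

open Classical in
/-- All code supports, as a finset. -/
noncomputable def suppF : Finset (Finset Cfsg.GolayPt) := Finset.univ.filter IsCodeSupp

theorem mem_suppF {b : Finset Cfsg.GolayPt} : b ∈ suppF ↔ IsCodeSupp b := by
  classical
  simp [suppF]

theorem card_suppF : suppF.card = 4096 := by
  classical
  have h1 : Nat.card Cfsg.golayCode = 4096 := by
    rw [Module.natCard_eq_pow_finrank (K := ZMod 2), golay_finrank, Nat.card_zmod]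
    norm_num
  have h2 : (↑suppF : Set (Finset Cfsg.GolayPt)) = bsupp '' (Cfsg.golayCode : Set (Cfsg.GolayPt → ZMod 2)) := by
    ext b
    simp only [mem_suppF, IsCodeSupp, Set.mem_image, SetLike.mem_coe]
  rw [← Set.ncard_coe_finset, h2, Set.ncard_image_of_injective _ bsupp_injective, ← h1]
  rfl

open Classical in
/-- The dodecads as a finset. -/
noncomputable def dodF : Finset (Finset Cfsg.GolayPt) := Finset.univ.filter (· ∈ Cfsg.dodecads)

theorem mem_dodF {b : Finset Cfsg.GolayPt} : b ∈ dodF ↔ b ∈ Cfsg.dodecads := by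
  classical
  simp [dodF]

theorem coe_dodF : (↑dodF : Set (Finset Cfsg.GolayPt)) = Cfsg.dodecads := by
  ext b; simp [mem_dodF]

theorem compl_mem_dodecads {d : Finset Cfsg.GolayPt} (hd : d ∈ Cfsg.dodecads) : dᶜ ∈ Cfsg.dodecads := by
  rw [mem_dodecads'] at hd ⊢
  exact ⟨isCodeSupp_compl hd.1, by rw [Finset.card_compl, golayPt_card, hd.2]⟩

/-- There are 2576 dodecads. -/
theorem card_dodF : dodF.card = 2576 := by
  classical
  have hmaps : ∀ b ∈ suppF, b.card ∈ ({0, 8, 12, 16, 24} : Finset ℕ) := by
    intro b hb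
    have := isCodeSupp_card (mem_suppF.1 hb)
    simp only [Finset.mem_insert, Finset.mem_singleton]
    exact this
  have h := Finset.card_eq_sum_card_fiberwise hmaps
  rw [card_suppF] at h
  have e0 : suppF.filter (fun b => b.card = 0) = {∅} := by
    ext b
    simp only [Finset.mem_filter, mem_suppF, Finset.card_eq_zero, Finset.mem_singleton]
    constructor
    · exact fun h => h.2
    · rintro rfl
      exact ⟨⟨0, Cfsg.golayCode.zero_mem, bsupp_zero⟩, rfl⟩
  have e8 : suppF.filter (fun b => b.card = 8) = octF := by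
    ext b
    simp only [Finset.mem_filter, mem_suppF, mem_octF, mem_octads']
  have e12 : suppF.filter (fun b => b.card = 12) = dodF := by
    ext b
    simp only [Finset.mem_filter, mem_suppF, mem_dodF, mem_dodecads']
  have e16 : suppF.filter (fun b => b.card = 16) = octF.image compl := by
    ext b
    simp only [Finset.mem_filter, mem_suppF, Finset.mem_image, mem_octF, mem_octads']
    constructor
    · rintro ⟨h1, h2⟩
      refine ⟨bᶜ, ⟨isCodeSupp_compl h1, ?_⟩, compl_compl b⟩
      rw [Finset.card_compl, golayPt_card, h2]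
    · rintro ⟨o, ⟨h1, h2⟩, rfl⟩
      refine ⟨isCodeSupp_compl h1, ?_⟩
      rw [Finset.card_compl, golayPt_card, h2]
  have e24 : suppF.filter (fun b => b.card = 24) = {Finset.univ} := by
    ext b
    simp only [Finset.mem_filter, mem_suppF, Finset.mem_singleton]
    constructor
    · rintro ⟨-, h2⟩
      rw [← Finset.card_eq_iff_eq_univ, golayPt_card, h2]
    · rintro rfl
      refine ⟨⟨1, one_mem_golay, bsupp_one⟩, ?_⟩
      rw [Finset.card_univ, golayPt_card]
  have hs : (∑ b ∈ ({0, 8, 12, 16, 24} : Finset ℕ), (suppF.filter (fun a => a.card = b)).card)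
      = 1 + (759 + (dodF.card + (759 + 1))) := by
    rw [Finset.sum_insert (by decide), Finset.sum_insert (by decide), Finset.sum_insert (by decide),
      Finset.sum_insert (by decide), Finset.sum_singleton, e0, e8, e12, e16, e24,
      Finset.card_image_of_injective _ compl_injective, card_octF, Finset.card_singleton,
      Finset.card_singleton]
  rw [hs] at h
  omega

/-- An octad meets a dodecad in 2, 4 or 6 points. -/
theorem octad_inter_dodecad {o d : Finset Cfsg.GolayPt} (ho : o ∈ Cfsg.octads) (hd : d ∈ Cfsg.dodecads) :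
    (d ∩ o).card = 2 ∨ (d ∩ o).card = 4 ∨ (d ∩ o).card = 6 := by
  rw [mem_octads'] at ho
  rw [mem_dodecads'] at hd
  have h1 := isCodeSupp_card (isCodeSupp_symmDiff hd.1 ho.1)
  have h2 := card_symmDiff_add d o
  have h3 : (d ∩ o).card ≤ 8 := by
    rw [← ho.2]; exact Finset.card_le_card Finset.inter_subset_right
  rw [hd.2, ho.2] at h2
  omega

theorem sum_choose5_eq {d : Finset Cfsg.GolayPt} (hd : d ∈ Cfsg.dodecads) :
    6 * (octF.filter (fun o => (d ∩ o).card = 6)).card = 792 := by
  classical
  have h := Cfsg.Agent.Lib.helper8.steiner_sum_choose golay_steiner d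
  have hd12 := (mem_dodecads'.1 hd).2
  rw [hd12] at h
  have e : (Finset.univ.filter (· ∈ Cfsg.octads)) = octF := by
    ext b; simp [mem_octF]
  rw [e] at h
  have h5 : ∀ o ∈ octF, (d ∩ o).card.choose 5 = if (d ∩ o).card = 6 then 6 else 0 := by
    intro o ho
    rcases octad_inter_dodecad (mem_octF.1 ho) hd with h' | h' | h'
    · rw [h']; decide
    · rw [h']; decide
    · rw [h']; decide
  rw [Finset.sum_congr rfl h5, Finset.sum_ite, Finset.sum_const, Finset.sum_const_zero, add_zero,
    smul_eq_mul] at h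
  have h792 : Nat.choose 12 5 = 792 := by decide
  rw [h792] at h
  omega

/-- Exactly 132 octads meet a given dodecad in 6 points. -/
theorem card_octads_meet6 {d : Finset Cfsg.GolayPt} (hd : d ∈ Cfsg.dodecads) :
    (octF.filter (fun o => (d ∩ o).card = 6)).card = 132 := by
  have := sum_choose5_eq hd
  omega

/-- Exactly 132 octads meet a given dodecad in 2 points. -/
theorem card_octads_meet2 {d : Finset Cfsg.GolayPt} (hd : d ∈ Cfsg.dodecads) :
    (octF.filter (fun o => (d ∩ o).card = 2)).card = 132 := by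
  have h := card_octads_meet6 (compl_mem_dodecads hd)
  rw [← h]
  congr 1
  ext o
  simp only [Finset.mem_filter, mem_octF]
  have key : o ∈ Cfsg.octads → ((d ∩ o).card = 2 ↔ (dᶜ ∩ o).card = 6) := by
    intro ho
    have h8 := (mem_octads'.1 ho).2
    have h1 : (d ∩ o).card + (dᶜ ∩ o).card = o.card := by
      rw [Finset.inter_comm d o, Finset.inter_comm dᶜ o, ← Finset.sdiff_eq_inter_compl,
        add_comm, Finset.card_sdiff_add_card_inter]
    omega
  constructor
  · rintro ⟨ho, h2⟩; exact ⟨ho, (key ho).1 h2⟩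
  · rintro ⟨ho, h2⟩; exact ⟨ho, (key ho).2 h2⟩

/-- Exactly 495 octads meet a given dodecad in 4 points. -/
theorem card_octads_meet4 {d : Finset Cfsg.GolayPt} (hd : d ∈ Cfsg.dodecads) :
    (octF.filter (fun o => (d ∩ o).card = 4)).card = 495 := by
  classical
  have hmaps : ∀ o ∈ octF, (d ∩ o).card ∈ ({2, 4, 6} : Finset ℕ) := by
    intro o ho
    have := octad_inter_dodecad (mem_octF.1 ho) hd
    simp only [Finset.mem_insert, Finset.mem_singleton]
    exact this
  have h := Finset.card_eq_sum_card_fiberwise hmaps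
  rw [card_octF, Finset.sum_insert (by decide), Finset.sum_insert (by decide), Finset.sum_singleton,
    card_octads_meet2 hd, card_octads_meet6 hd] at h
  omega

end Cfsg.Agent.Lib.helper33
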