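import Cfsg.Agent.Lib.helper42.FGDefs

/-!
S1915 split (helper42), leaf K2: if `u₁ ∈ U`, `u₁ ≠ 1`, acts on `S` as conjugation by `x ∈ S`, then
`c := x⁻¹ * u₁` lies outside `A`, normalizes `A`, centralizes `S` and squares to `z`.
-/

set_option autoImplicit false

namespace Cfsg.Agent.Lib.helper42.FG

variable {G : Type*} [Group G] [Finite G]

/-- a subgroup with at most two elements containing `z ≠ 1` consists of `1` and `z` -/
theorem h33_mem_of_card_le_two {E : Subgroup G} (hE : Nat.card E ≤ 2) {z : G} (hz : z ∈ E)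
    (hz1 : z ≠ 1) {x : G} (hx : x ∈ E) : x = 1 ∨ x = z := by
  classical
  by_contra hcon
  push Not at hcon
  have hfin : Fintype ↥E := Fintype.ofFinite _
  have h3 : ({(1 : ↥E), ⟨z, hz⟩, ⟨x, hx⟩} : Finset ↥E).card = 3 := by
    refine Finset.card_eq_three.mpr ⟨1, ⟨z, hz⟩, ⟨x, hx⟩, ?_, ?_, ?_, rfl⟩
    · intro h; exact hz1 (congrArg Subtype.val h).symm
    · intro h; exact hcon.1 (congrArg Subtype.val h).symm
    · intro h; exact hcon.2 (congrArg Subtype.val h).symm
  have h4 := Finset.card_le_univ ({(1 : ↥E), ⟨z, hz⟩, ⟨x, hx⟩} : Finset ↥E)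
  rw [h3, ← Nat.card_eq_fintype_card] at h4
  omega

theorem exists_c {A S U : Subgroup G} (h : Cfg A S U) {z : G} (hz : ZData S z)
    (u₁ : G) (hu₁ : u₁ ∈ U) (hu₁1 : u₁ ≠ 1) (x : G) (hx : x ∈ S)
    (hconj : ∀ y ∈ S, u₁ * y * u₁⁻¹ = x * y * x⁻¹) :
    ∃ c : G, c ∉ A ∧ (∀ a ∈ A, c * a * c⁻¹ ∈ A) ∧ (∀ y ∈ S, c * y = y * c) ∧ c * c = z := by
  have hUk : IsKleinFour ↥U := h.hU
  have hu2 : u₁ * u₁ = 1 := by
    have := IsKleinFour.mul_self (⟨u₁, hu₁⟩ : ↥U)
    exact congrArg Subtype.val this
  have huinv : u₁⁻¹ = u₁ := inv_eq_of_mul_eq_one_left hu2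
  have hz1 : z ≠ 1 := by
    intro h1
    have := hz.hz2
    rw [h1, orderOf_one] at this
    omega
  have hzz : z * z = 1 := by
    have := pow_orderOf_eq_one z
    rw [hz.hz2, pow_two] at this
    exact this
  -- `x * x` is central in `S`
  have hxx : ∀ y ∈ S, (x * x) * y = y * (x * x) := by
    intro y hy
    have hy' : x * y * x⁻¹ ∈ S := mul_mem (mul_mem hx hy) (inv_mem hx)
    have e1 := hconj y hy
    have e2 := hconj (x * y * x⁻¹) hy'
    rw [← e1] at e2
    have e3 : u₁ * (u₁ * y * u₁⁻¹) * u₁⁻¹ = y := by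
      rw [huinv]
      calc u₁ * (u₁ * y * u₁) * u₁ = (u₁ * u₁) * y * (u₁ * u₁) := by group
        _ = y := by rw [hu2, one_mul, mul_one]
    rw [e3, e1] at e2
    -- e2 : y = x * (x * y * x⁻¹) * x⁻¹
    calc x * x * y = x * (x * y * x⁻¹) * x⁻¹ * (x * x) := by group
      _ = y * (x * x) := by rw [← e2]
  have hxxS : x * x ∈ S := mul_mem hx hx
  rcases hz.hzu (x * x) hxxS hxx with hx2 | hx2
  · -- `x * x = 1` is impossible
    exfalso
    by_cases hxc : x = 1 ∨ x = z
    · -- `u₁` centralizes `S`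
      have hcent : ∀ y ∈ S, u₁ * y = y * u₁ := by
        intro y hy
        have e1 := hconj y hy
        have e2 : x * y * x⁻¹ = y := by
          rcases hxc with rfl | rfl
          · simp
          · have := hz.hzc y hy
            calc x * y * x⁻¹ = (y * x) * x⁻¹ := by rw [this]
              _ = y := by group
        rw [e2] at e1
        calc u₁ * y = (u₁ * y * u₁⁻¹) * u₁ := by group
          _ = y * u₁ := by rw [e1]
      obtain ⟨E, hES, hE, hcard⟩ := h.hc
      have := h.hb u₁ hu₁ hu₁1 E hES (fun e he => hcent e (hES he)) hE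
      omega
    · push Not at hxc
      -- the four-group generated by `x` and `z`
      have hxz : x * z = z * x := hz.hzc x hx
      have hux : u₁ * x = x * u₁ := by
        have e1 := hconj x hx
        have e2 : x * x * x⁻¹ = x := by group
        rw [e2] at e1
        calc u₁ * x = (u₁ * x * u₁⁻¹) * u₁ := by group
          _ = x * u₁ := by rw [e1]
      have huz : u₁ * z = z * u₁ := by
        have e1 := hconj z hz.hzS
        have e2 : x * z * x⁻¹ = z := by
          calc x * z * x⁻¹ = (z * x) * x⁻¹ := by rw [hxz]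
            _ = z := by group
        rw [e2] at e1
        calc u₁ * z = (u₁ * z * u₁⁻¹) * u₁ := by group
          _ = z * u₁ := by rw [e1]
      have hcomm0 : ∀ a ∈ ({x, z} : Set G), ∀ b ∈ ({x, z} : Set G), a * b = b * a := by
        intro a ha b hb
        rcases ha with ha | ha <;> rcases hb with hb | hb
        · rw [ha, hb]
        · have hb' : b = z := hb
          rw [ha, hb', hxz]
        · have ha' : a = z := ha
          rw [ha', hb, hxz]
        · have ha' : a = z := ha
          have hb' : b = z := hb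
          rw [ha', hb']
      have hTcomm : ∀ a ∈ Subgroup.closure ({x, z} : Set G),
          ∀ b ∈ Subgroup.closure ({x, z} : Set G), a * b = b * a := by
        intro a ha b hb
        have := (Subgroup.closureCommGroupOfComm hcomm0).mul_comm ⟨a, ha⟩ ⟨b, hb⟩
        exact congrArg Subtype.val this
      have hgen : ∀ e ∈ Subgroup.closure ({x, z} : Set G),
          (e ∈ S ∧ u₁ * e = e * u₁ ∧ e ^ 2 = 1) := by
        intro e he
        induction he using Subgroup.closure_induction with
        | mem g hg =>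
          rcases hg with hg | hg
          · rw [hg]
            exact ⟨hx, hux, by rw [pow_two]; exact hx2⟩
          · have hg' : g = z := hg
            rw [hg']
            exact ⟨hz.hzS, huz, by rw [pow_two]; exact hzz⟩
        | one => exact ⟨one_mem _, by simp, one_pow _⟩
        | mul a b ha hb iha ihb =>
          obtain ⟨ha1, ha2, ha5⟩ := iha
          obtain ⟨hb1, hb2, hb5⟩ := ihb
          refine ⟨mul_mem ha1 hb1, ?_, ?_⟩
          · calc u₁ * (a * b) = (u₁ * a) * b := by group
              _ = a * (u₁ * b) := by rw [ha2]; group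
              _ = a * b * u₁ := by rw [hb2]; group
          · have hab := hTcomm a ha b hb
            rw [pow_two] at ha5 hb5 ⊢
            calc a * b * (a * b) = a * (b * a) * b := by group
              _ = a * (a * b) * b := by rw [hab]
              _ = (a * a) * (b * b) := by group
              _ = 1 := by rw [ha5, hb5, one_mul]
        | inv a _ iha =>
          obtain ⟨ha1, ha2, ha5⟩ := iha
          refine ⟨inv_mem ha1, ?_, ?_⟩
          · calc u₁ * a⁻¹ = a⁻¹ * (a * u₁) * a⁻¹ := by group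
              _ = a⁻¹ * (u₁ * a) * a⁻¹ := by rw [ha2]
              _ = a⁻¹ * u₁ := by group
          · rw [inv_pow, ha5, inv_one]
      have hTS : Subgroup.closure ({x, z} : Set G) ≤ S := fun e he => (hgen e he).1
      have hTE : El (Subgroup.closure ({x, z} : Set G)) :=
        ⟨hTcomm, fun e he => (hgen e he).2.2⟩
      have hTc := h.hb u₁ hu₁ hu₁1 _ hTS (fun e he => (hgen e he).2.1) hTE
      have hxT : x ∈ Subgroup.closure ({x, z} : Set G) := Subgroup.subset_closure (by simp)
      have hzT : z ∈ Subgroup.closure ({x, z} : Set G) := Subgroup.subset_closure (by simp)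
      rcases h33_mem_of_card_le_two hTc hzT hz1 hxT with h1 | h1
      · exact hxc.1 h1
      · exact hxc.2 h1
  · -- `x * x = z`
    have hxinv : u₁ * x⁻¹ = x⁻¹ * u₁ := by
      have e1 := hconj x⁻¹ (inv_mem hx)
      have e2 : x * x⁻¹ * x⁻¹ = x⁻¹ := by group
      rw [e2] at e1
      calc u₁ * x⁻¹ = (u₁ * x⁻¹ * u₁⁻¹) * u₁ := by group
        _ = x⁻¹ * u₁ := by rw [e1]
    refine ⟨x⁻¹ * u₁, ?_, ?_, ?_, ?_⟩
    · intro hcA
      have hu₁A : u₁ ∈ A := by
        have := mul_mem (h.hSA hx) hcA
        simpa using this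
      have hbot : u₁ ∈ U ⊓ A := Subgroup.mem_inf.mpr ⟨hu₁, hu₁A⟩
      rw [h.hUA'] at hbot
      exact hu₁1 (Subgroup.mem_bot.mp hbot)
    · intro a ha
      have h1 := (Subgroup.mem_normalizer_iff.mp (h.hUA hu₁) a).mp ha
      have hxA := h.hSA hx
      have h2 : x⁻¹ * u₁ * a * (x⁻¹ * u₁)⁻¹ = x⁻¹ * (u₁ * a * u₁⁻¹) * x := by group
      rw [h2]
      exact mul_mem (mul_mem (inv_mem hxA) h1) hxA
    · intro y hy
      have e1 := hconj y hy
      calc x⁻¹ * u₁ * y = x⁻¹ * (u₁ * y * u₁⁻¹) * u₁ := by group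
        _ = x⁻¹ * (x * y * x⁻¹) * u₁ := by rw [e1]
        _ = y * (x⁻¹ * u₁) := by group
    · calc x⁻¹ * u₁ * (x⁻¹ * u₁) = x⁻¹ * (u₁ * x⁻¹) * u₁ := by group
        _ = x⁻¹ * (x⁻¹ * u₁) * u₁ := by rw [hxinv]
        _ = (x * x)⁻¹ * (u₁ * u₁) := by group
        _ = z := by
          rw [hx2, hu2, mul_one]
          exact inv_eq_of_mul_eq_one_left hzz

end Cfsg.Agent.Lib.helper42.FG
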