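import Cfsg.Agent.Lib.helper42.FGDefs
import Cfsg.Agent.Lib.helper59.UniqueOrderP

/-!
S1915 split (helper42), leaf T1A: in the configuration `Cfg A S U`, a commutative `U`-invariant
subgroup of `S` is cyclic.
-/

set_option autoImplicit false

namespace Cfsg.Agent.Lib.helper42.FG

variable {G : Type*} [Group G] [Finite G]

theorem cyclic_of_inv_comm {A S U : Subgroup G} (h : Cfg A S U) (N : Subgroup G) (hNS : N ≤ S)
    (hUN : U ≤ Subgroup.normalizer (N : Set G)) (hN : ∀ x ∈ N, ∀ y ∈ N, x * y = y * x) :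
    IsCyclic N := by
  have hf : Fact (Nat.Prime 2) := ⟨Nat.prime_two⟩
  have hS2 : IsPGroup 2 ↥S := IsPGroup.of_card h.hSyl
  have hN2 : IsPGroup 2 ↥N := hS2.to_le hNS
  let Ω : Subgroup G :=
    { carrier := {n | n ∈ N ∧ n ^ 2 = 1}
      mul_mem' := by
        rintro a b ⟨ha, ha2⟩ ⟨hb, hb2⟩
        refine ⟨mul_mem ha hb, ?_⟩
        have hab := hN a ha b hb
        rw [pow_two] at ha2 hb2 ⊢
        calc a * b * (a * b) = a * (b * a) * b := by group
          _ = a * (a * b) * b := by rw [hab]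
          _ = (a * a) * (b * b) := by group
          _ = 1 := by rw [ha2, hb2, one_mul]
      one_mem' := ⟨one_mem _, one_pow _⟩
      inv_mem' := by
        rintro a ⟨ha, ha2⟩
        exact ⟨inv_mem ha, by rw [inv_pow, ha2, inv_one]⟩ }
  have hΩmem : ∀ n, n ∈ Ω ↔ n ∈ N ∧ n ^ 2 = 1 := fun n => Iff.rfl
  have hΩS : Ω ≤ S := fun n hn => hNS ((hΩmem n).mp hn).1
  have hUΩ : U ≤ Subgroup.normalizer (Ω : Set G) := by
    intro u hu
    have huN := Subgroup.mem_normalizer_iff.mp (hUN hu)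
    rw [Subgroup.mem_normalizer_iff]
    intro n
    rw [hΩmem, hΩmem]
    constructor
    · rintro ⟨hn, hn2⟩
      refine ⟨(huN n).mp hn, ?_⟩
      rw [conj_pow, hn2, mul_one, mul_inv_cancel]
    · rintro ⟨hn, hn2⟩
      refine ⟨(huN n).mpr hn, ?_⟩
      rw [conj_pow] at hn2
      have : n ^ 2 = u⁻¹ * (u * n ^ 2 * u⁻¹) * u := by group
      rw [this, hn2]; group
  have hΩE : El Ω := by
    refine ⟨fun x hx y hy => hN x ((hΩmem x).mp hx).1 y ((hΩmem y).mp hy).1, fun e he => ?_⟩
    exact ((hΩmem e).mp he).2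
  have hΩc : Nat.card Ω ≤ 2 := h.ha Ω hΩS hUΩ hΩE
  have hU2 : Cfsg.Agent.Lib.helper59.UniqueOrderP 2 ↥N := by
    have key : ∀ H : Subgroup ↥N, Nat.card H = 2 → H.map N.subtype = Ω := by
      intro H hH
      have hle : H.map N.subtype ≤ Ω := by
        rintro _ ⟨x, hx, rfl⟩
        rw [hΩmem]
        refine ⟨x.2, ?_⟩
        have h1 : (⟨x, hx⟩ : ↥H) ^ Nat.card H = 1 := pow_card_eq_one'
        rw [hH] at h1
        have h2 : x ^ 2 = 1 := by
          have := congrArg (Subtype.val) h1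
          simpa using this
        have h3 := congrArg (Subtype.val) h2
        simpa using h3
      refine Subgroup.eq_of_le_of_card_ge hle ?_
      rw [Subgroup.card_map_of_injective N.subtype_injective, hH]
      exact hΩc
    intro H K hH hK
    exact Subgroup.map_injective N.subtype_injective ((key H hH).trans (key K hK).symm)
  exact Cfsg.Agent.Lib.helper59.isCyclic_of_comm_of_uniqueOrderP (p := 2) (Nat.card ↥N) ↥N rfl hN2 hU2
    (fun a b => Subtype.ext (hN a.1 a.2 b.1 b.2))

end Cfsg.Agent.Lib.helper42.FG
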