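import Cfsg.Agent.Lib.helper42.FGDefs
import Cfsg.Agent.Lib.helper33.FGK2

/-!
S1915 split (helper42), leaf T2C3 (`case_faithful_k1`): if `u₀ ∈ U` acts on the cyclic maximal
subgroup `B = ⟨b⟩` of `S` by `b ↦ b * z` (and `b * b ≠ z`), then `u₀` maps every involution `s` of
`S` outside `B` to `s * z`, and `C_S(u₀)` is a subgroup of index 2 whose only involution is `z`.
-/

set_option autoImplicit false

namespace Cfsg.Agent.Lib.helper42.FG

variable {G : Type*} [Group G] [Finite G]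

/-- two commuting involutions `x ≠ z` of `S` centralized by a non-identity element of `U`
contradict the configuration -/
theorem h33_pair_contra {A S U : Subgroup G} (h : Cfg A S U) {u x z : G} (hu : u ∈ U)
    (hu1 : u ≠ 1) (hx : x ∈ S) (hzS : z ∈ S) (hxz : x * z = z * x) (hx2 : x * x = 1)
    (hzz : z * z = 1) (hz1 : z ≠ 1) (hx1 : x ≠ 1) (hxz' : x ≠ z) (hux : u * x = x * u)
    (huz : u * z = z * u) : False := by
  have hcomm0 : ∀ a ∈ ({x, z} : Set G), ∀ b ∈ ({x, z} : Set G), a * b = b * a := by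
    intro a ha b hb
    rcases ha with ha | ha <;> rcases hb with hb | hb
    · rw [ha, hb]
    · have hb' : b = z := hb
      rw [ha, hb', hxz]
    · have ha' : a = z := ha
      rw [ha', hb, hxz]
    · have ha' : a = z := ha
      have hb' : b = z := hb
      rw [ha', hb']
  have hTcomm : ∀ a ∈ Subgroup.closure ({x, z} : Set G),
      ∀ b ∈ Subgroup.closure ({x, z} : Set G), a * b = b * a := by
    intro a ha b hb
    have := (Subgroup.isMulCommutative_closure hcomm0).is_comm.comm ⟨a, ha⟩ ⟨b, hb⟩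
    exact congrArg Subtype.val this
  have hgen : ∀ e ∈ Subgroup.closure ({x, z} : Set G),
      (e ∈ S ∧ u * e = e * u ∧ e ^ 2 = 1) := by
    intro e he
    induction he using Subgroup.closure_induction with
    | mem g hg =>
      rcases hg with hg | hg
      · rw [hg]
        exact ⟨hx, hux, by rw [pow_two]; exact hx2⟩
      · have hg' : g = z := hg
        rw [hg']
        exact ⟨hzS, huz, by rw [pow_two]; exact hzz⟩
    | one => exact ⟨one_mem _, by simp, one_pow _⟩
    | mul a b ha hb iha ihb =>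
      obtain ⟨ha1, ha2, ha5⟩ := iha
      obtain ⟨hb1, hb2, hb5⟩ := ihb
      refine ⟨mul_mem ha1 hb1, ?_, ?_⟩
      · calc u * (a * b) = (u * a) * b := by group
          _ = a * (u * b) := by rw [ha2]; group
          _ = a * b * u := by rw [hb2]; group
      · have hab := hTcomm a ha b hb
        rw [pow_two] at ha5 hb5 ⊢
        calc a * b * (a * b) = a * (b * a) * b := by group
          _ = a * (a * b) * b := by rw [hab]
          _ = (a * a) * (b * b) := by group
          _ = 1 := by rw [ha5, hb5, one_mul]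
    | inv a _ iha =>
      obtain ⟨ha1, ha2, ha5⟩ := iha
      refine ⟨inv_mem ha1, ?_, ?_⟩
      · calc u * a⁻¹ = a⁻¹ * (a * u) * a⁻¹ := by group
          _ = a⁻¹ * (u * a) * a⁻¹ := by rw [ha2]
          _ = a⁻¹ * u := by group
      · rw [inv_pow, ha5, inv_one]
  have hTS : Subgroup.closure ({x, z} : Set G) ≤ S := fun e he => (hgen e he).1
  have hTE : El (Subgroup.closure ({x, z} : Set G)) :=
    ⟨hTcomm, fun e he => (hgen e he).2.2⟩
  have hTc := h.hb u hu hu1 _ hTS (fun e he => (hgen e he).2.1) hTE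
  have hxT : x ∈ Subgroup.closure ({x, z} : Set G) := Subgroup.subset_closure (by simp)
  have hzT : z ∈ Subgroup.closure ({x, z} : Set G) := Subgroup.subset_closure (by simp)
  rcases h33_mem_of_card_le_two hTc hzT hz1 hxT with h1 | h1
  · exact hx1 h1
  · exact hxz' h1

/-- a cyclic group has at most one involution -/
theorem h33_cyc_invol {B : Subgroup G} (hcyc : IsCyclic B) {z : G} (hzB : z ∈ B)
    (hz2 : orderOf z = 2) {q : G} (hq : q ∈ B) (hq2 : q ^ 2 = 1) : q = 1 ∨ q = z := by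
  classical
  by_cases hq1 : q = 1
  · exact Or.inl hq1
  · right
    have hf : Fact (Nat.Prime 2) := ⟨Nat.prime_two⟩
    have hqo : orderOf q = 2 := orderOf_eq_prime hq2 hq1
    have hfin : Fintype ↥B := Fintype.ofFinite _
    have hdvd : 2 ∣ Fintype.card ↥B := by
      rw [← Nat.card_eq_fintype_card, ← hz2, ← Subgroup.orderOf_mk z hzB]
      exact orderOf_dvd_natCard _
    have htot := IsCyclic.card_orderOf_eq_totient (α := ↥B) (d := 2) hdvd
    rw [Nat.totient_two] at htot
    have hzm : (⟨z, hzB⟩ : ↥B) ∈ (Finset.univ.filter fun a : ↥B => orderOf a = 2) := by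
      simp [Subgroup.orderOf_mk, hz2]
    have hqm : (⟨q, hq⟩ : ↥B) ∈ (Finset.univ.filter fun a : ↥B => orderOf a = 2) := by
      simp [Subgroup.orderOf_mk, hqo]
    have := Finset.card_le_one.mp (le_of_eq htot) _ hqm _ hzm
    exact congrArg Subtype.val this

theorem case_faithful_k1 {A S U : Subgroup G} (h : Cfg A S U) {B : Subgroup G} (hB : BData S U B)
    {z : G} (hzB : z ∈ B) (hz : ZData S z) (b : G) (hb : Subgroup.zpowers b = B) (hbz : b * b ≠ z)
    (u₀ : G) (hu₀ : u₀ ∈ U) (hu₀b : u₀ * b * u₀⁻¹ = b * z) :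
    (∀ s ∈ S, s ∉ B → s ^ 2 = 1 → u₀ * s * u₀⁻¹ = s * z) ∧ K1 S z := by
  have hUk : IsKleinFour ↥U := h.hU
  have hu2 : u₀ * u₀ = 1 := congrArg Subtype.val (IsKleinFour.mul_self (⟨u₀, hu₀⟩ : ↥U))
  have huinv : u₀⁻¹ = u₀ := inv_eq_of_mul_eq_one_left hu2
  have hz1 : z ≠ 1 := by
    intro h1
    have := hz.hz2
    rw [h1, orderOf_one] at this
    omega
  have hzz : z * z = 1 := by
    have := pow_orderOf_eq_one z
    rw [hz.hz2, pow_two] at this
    exact this
  have hzinv : z⁻¹ = z := inv_eq_of_mul_eq_one_left hzz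
  have hbB : b ∈ B := hb ▸ Subgroup.mem_zpowers b
  have hbS : b ∈ S := hB.hBS hbB
  have hbzc : b * z = z * b := hz.hzc b hbS
  have hu₀1 : u₀ ≠ 1 := by
    intro h1
    rw [h1] at hu₀b
    have : b = b * z := by simpa using hu₀b
    exact hz1 (by simpa using this.symm)
  have hS2 : IsPGroup 2 ↥S := IsPGroup.of_card h.hSyl
  have hcS : ∀ y, y ∈ S ↔ u₀ * y * u₀⁻¹ ∈ S := Subgroup.mem_normalizer_iff.mp (h.hUS hu₀)
  have hcB : ∀ y, y ∈ B ↔ u₀ * y * u₀⁻¹ ∈ B := Subgroup.mem_normalizer_iff.mp (hB.hUB hu₀)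
  have key : ∀ y ∈ S, ∀ s ∈ S, (y * s ∈ B ↔ (y ∈ B ↔ s ∈ B)) := by
    intro y hy s hs
    have := Subgroup.mul_mem_iff_of_index_two (H := B.subgroupOf S) hB.hidx
      (a := ⟨y, hy⟩) (b := ⟨s, hs⟩)
    simpa [Subgroup.mem_subgroupOf] using this
  have huz : u₀ * z * u₀⁻¹ = z := by
    have hS' : u₀ * z * u₀⁻¹ ∈ S := (hcS z).mp hz.hzS
    have hcen : ∀ y ∈ S, (u₀ * z * u₀⁻¹) * y = y * (u₀ * z * u₀⁻¹) := by
      intro y hy
      have hy' : u₀⁻¹ * y * u₀ ∈ S := by
        apply (hcS _).mpr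
        have : u₀ * (u₀⁻¹ * y * u₀) * u₀⁻¹ = y := by group
        rw [this]; exact hy
      have hc := hz.hzc _ hy'
      calc u₀ * z * u₀⁻¹ * y = u₀ * (z * (u₀⁻¹ * y * u₀)) * u₀⁻¹ := by group
        _ = u₀ * ((u₀⁻¹ * y * u₀) * z) * u₀⁻¹ := by rw [hc]
        _ = y * (u₀ * z * u₀⁻¹) := by group
    rcases hz.hzu _ hS' hcen with h1 | h1
    · exfalso
      apply hz1
      have : z = u₀⁻¹ * (u₀ * z * u₀⁻¹) * u₀ := by group
      rw [this, h1]; group
    · exact h1
  have huz' : u₀ * z = z * u₀ := by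
    calc u₀ * z = (u₀ * z * u₀⁻¹) * u₀ := by group
      _ = z * u₀ := by rw [huz]
  have hpow : ∀ i : ℕ, u₀ * b ^ i * u₀⁻¹ = b ^ i * z ^ i := by
    intro i
    have : u₀ * b ^ i * u₀⁻¹ = (u₀ * b * u₀⁻¹) ^ i := (conj_pow).symm
    rw [this, hu₀b]
    exact Commute.mul_pow hbzc i
  have hzpow : ∀ i : ℕ, z ^ i = 1 ∨ z ^ i = z := by
    intro i
    induction i with
    | zero => left; simp
    | succ n ih =>
      rcases ih with h1 | h1
      · right; rw [pow_succ, h1, one_mul]
      · left; rw [pow_succ, h1, hzz]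
  have hinv : ∀ q ∈ B, q ^ 2 = 1 → q = 1 ∨ q = z :=
    fun q hq hq2 => h33_cyc_invol hB.hcyc hzB hz.hz2 hq hq2
  have hpowB : ∀ y ∈ B, ∃ i : ℕ, b ^ i = y := by
    intro y hy
    have hy' : y ∈ Subgroup.zpowers b := by rw [hb]; exact hy
    exact (Submonoid.mem_powers_iff _ _).mp (mem_powers_iff_mem_zpowers.mpr hy')
  have claim1 : ∀ s ∈ S, s ∉ B → s ^ 2 = 1 → u₀ * s * u₀⁻¹ = s * z := by
    intro s hs hsB hs2
    have hss : s * s = 1 := by rw [← pow_two]; exact hs2
    have hs'S : u₀ * s * u₀⁻¹ ∈ S := (hcS s).mp hs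
    have hs'B : u₀ * s * u₀⁻¹ ∉ B := fun hcon => hsB ((hcB s).mpr hcon)
    have hb'B : s * (u₀ * s * u₀⁻¹) ∈ B :=
      (key s hs _ hs'S).mpr ⟨fun h1 => absurd h1 hsB, fun h1 => absurd h1 hs'B⟩
    obtain ⟨j, hj⟩ := hpowB _ hb'B
    have hs' : u₀ * s * u₀⁻¹ = s * b ^ j := by
      rw [hj, ← mul_assoc, hss, one_mul]
    have e1 : u₀ * (u₀ * s * u₀⁻¹) * u₀⁻¹ = s := by
      rw [huinv]
      calc u₀ * (u₀ * s * u₀) * u₀ = (u₀ * u₀) * s * (u₀ * u₀) := by group
        _ = s := by rw [hu2, one_mul, mul_one]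
    have e2 : u₀ * (s * b ^ j) * u₀⁻¹ = (u₀ * s * u₀⁻¹) * (u₀ * b ^ j * u₀⁻¹) := by group
    rw [hs', e2, hs', hpow j] at e1
    have e3 : b ^ j * (b ^ j * z ^ j) = 1 := by
      have : s * (b ^ j * (b ^ j * z ^ j)) = s * 1 := by
        rw [mul_one, ← mul_assoc]; exact e1
      exact mul_left_cancel this
    have hbj : b ^ j = 1 ∨ b ^ j = z := by
      rcases Nat.even_or_odd' j with ⟨i, hi | hi⟩
      · have hzj : z ^ j = 1 := by rw [hi, pow_mul, pow_two, hzz, one_pow]
        rw [hzj, mul_one] at e3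
        exact hinv _ (hb ▸ Subgroup.pow_mem _ (Subgroup.mem_zpowers b) j)
          (by rw [pow_two]; exact e3)
      · exfalso
        have hzj : z ^ j = z := by rw [hi, pow_succ, pow_mul, pow_two, hzz, one_pow, one_mul]
        rw [hzj] at e3
        have e4 : b ^ j * b ^ j = z := by
          have : b ^ j * b ^ j * z = 1 := by rw [mul_assoc]; exact e3
          calc b ^ j * b ^ j = (b ^ j * b ^ j * z) * z⁻¹ := by group
            _ = z := by rw [this, one_mul, hzinv]
        have e5 : (b * b) ^ j = z := by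
          rw [← e4, ← pow_two, ← pow_two, ← pow_mul, ← pow_mul, mul_comm]
        have e6 : (b * b) ^ (2 * j) = 1 := by rw [mul_comm, pow_mul, e5, pow_two, hzz]
        obtain ⟨k, hk⟩ := hS2 ⟨b * b, mul_mem hbS hbS⟩
        have hk' : (b * b) ^ (2 ^ k) = 1 := by simpa using congrArg Subtype.val hk
        have e7 : (b * b) ^ (Nat.gcd (2 ^ k) (2 * j)) = 1 := pow_gcd_eq_one.mpr ⟨hk', e6⟩
        have hg : Nat.gcd (2 ^ k) (2 * j) ∣ 2 := by
          obtain ⟨a, ha, hga⟩ :=
            (Nat.dvd_prime_pow Nat.prime_two).mp (Nat.gcd_dvd_left (2 ^ k) (2 * j))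
          have h2 : 2 ^ a ∣ 2 * j := hga ▸ Nat.gcd_dvd_right (2 ^ k) (2 * j)
          rw [hga]
          have ha1 : a ≤ 1 := by
            by_contra hcon
            have h4 : 2 ^ 2 ∣ 2 * j := (pow_dvd_pow 2 (by omega)).trans h2
            obtain ⟨c, hc⟩ := h4
            omega
          have := pow_dvd_pow 2 ha1
          simpa using this
        have e8 : (b * b) ^ 2 = 1 := by
          obtain ⟨c, hc⟩ := hg
          rw [hc, pow_mul, e7, one_pow]
        rcases hinv (b * b) (mul_mem hbB hbB) e8 with h1 | h1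
        · rw [h1, one_pow] at e5; exact hz1 e5.symm
        · exact hbz h1
    rcases hbj with h1 | h1
    · exfalso
      rw [h1, mul_one] at hs'
      have hus : u₀ * s = s * u₀ := by
        calc u₀ * s = (u₀ * s * u₀⁻¹) * u₀ := by group
          _ = s * u₀ := by rw [hs']
      exact h33_pair_contra h hu₀ hu₀1 hs hz.hzS (hz.hzc s hs) hss hzz hz1
        (fun h1 => hsB (h1 ▸ one_mem B)) (fun h1 => hsB (h1 ▸ hzB)) hus huz'
    · rw [hs', h1]
  refine ⟨claim1, ?_⟩
  obtain ⟨E, hES, hE, hEc⟩ := h.hc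
  have hexs : ∃ s ∈ S, s ∉ B ∧ s ^ 2 = 1 := by
    by_contra hcon
    push Not at hcon
    have hle : E ≤ Subgroup.zpowers z := by
      intro e he
      have heB : e ∈ B := by
        by_contra heB
        exact hcon e (hES he) heB (hE.2 e he)
      rcases hinv e heB (hE.2 e he) with h1 | h1
      · rw [h1]; exact one_mem _
      · rw [h1]; exact Subgroup.mem_zpowers z
    have := Subgroup.card_le_of_le hle
    rw [Nat.card_zpowers, hz.hz2] at this
    omega
  obtain ⟨s, hs, hsB, hs2⟩ := hexs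
  have hss : s * s = 1 := by rw [← pow_two]; exact hs2
  have hus := claim1 s hs hsB hs2
  have hP : ∀ y ∈ S, u₀ * y * u₀⁻¹ = y ∨ u₀ * y * u₀⁻¹ = y * z := by
    intro y hy
    by_cases hyB : y ∈ B
    · obtain ⟨i, hi⟩ := hpowB y hyB
      rw [← hi, hpow i]
      rcases hzpow i with h1 | h1
      · left; rw [h1, mul_one]
      · right; rw [h1]
    · have hysB : y * s ∈ B :=
        (key y hy s hs).mpr ⟨fun h1 => absurd h1 hyB, fun h1 => absurd h1 hsB⟩
      obtain ⟨i, hi⟩ := hpowB _ hysB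
      have hy' : y = b ^ i * s := by rw [hi, mul_assoc, hss, mul_one]
      have e2 : u₀ * (b ^ i * s) * u₀⁻¹ = (u₀ * b ^ i * u₀⁻¹) * (u₀ * s * u₀⁻¹) := by group
      rw [hy', e2, hpow i, hus]
      have hzs : z * s = s * z := (hz.hzc s hs).symm
      rcases hzpow i with h1 | h1
      · right; rw [h1, mul_one, mul_assoc]
      · left; rw [h1]
        calc b ^ i * z * (s * z) = b ^ i * (z * s) * z := by group
          _ = b ^ i * (s * z) * z := by rw [hzs]
          _ = b ^ i * s * (z * z) := by group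
          _ = b ^ i * s := by rw [hzz, mul_one]
  have hQmem : ∀ y, y ∈ S ⊓ Subgroup.centralizer {u₀} ↔ y ∈ S ∧ u₀ * y * u₀⁻¹ = y := by
    intro y
    rw [Subgroup.mem_inf, Subgroup.mem_centralizer_singleton_iff]
    constructor
    · rintro ⟨h1, h2⟩
      exact ⟨h1, by rw [← h2]; group⟩
    · rintro ⟨h1, h2⟩
      refine ⟨h1, ?_⟩
      calc y * u₀ = (u₀ * y * u₀⁻¹) * u₀ := by rw [h2]
        _ = u₀ * y := by group
  refine ⟨S ⊓ Subgroup.centralizer {u₀}, inf_le_left, ?_, ?_, ?_⟩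
  · refine Subgroup.relIndex_eq_two_iff_exists_notMem_and.mpr ⟨b, hbS, ?_, fun y hy => ?_⟩
    · intro hbQ
      have := ((hQmem b).mp hbQ).2
      rw [hu₀b] at this
      exact hz1 (by simpa using this)
    · rcases hP y hy with h1 | h1
      · right
        exact (hQmem y).mpr ⟨hy, h1⟩
      · left
        refine (hQmem _).mpr ⟨mul_mem hy hbS, ?_⟩
        have e2 : u₀ * (y * b) * u₀⁻¹ = (u₀ * y * u₀⁻¹) * (u₀ * b * u₀⁻¹) := by group
        rw [e2, h1, hu₀b]
        calc y * z * (b * z) = y * (z * b) * z := by group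
          _ = y * (b * z) * z := by rw [hbzc]
          _ = y * b * (z * z) := by group
          _ = y * b := by rw [hzz, mul_one]
  · exact (hQmem z).mpr ⟨hz.hzS, huz⟩
  · intro q hq hq2
    by_contra hcon
    push Not at hcon
    obtain ⟨hqS, hqc⟩ := (hQmem q).mp hq
    have huq : u₀ * q = q * u₀ := by
      calc u₀ * q = (u₀ * q * u₀⁻¹) * u₀ := by group
        _ = q * u₀ := by rw [hqc]
    exact h33_pair_contra h hu₀ hu₀1 hqS hz.hzS (hz.hzc q hqS) (by rw [← pow_two]; exact hq2)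
      hzz hz1 hcon.1 hcon.2 huq huz'

end Cfsg.Agent.Lib.helper42.FG
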