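/-
Packed 7 x 7 matrices over `ZMod 11` (one natural number, 4 bits per entry) with a
kernel-computable product, for the Janko group `J1` given by two explicit matrices.
(owner: helper33)
-/
import Mathlib
import Cfsg.Prelude.Def_Spor_J1

set_option autoImplicit false

namespace Cfsg.Agent.Lib.helper33.J1M

open Cfsg

/-- The type of 7 x 7 matrices over the integers modulo 11. -/
abbrev Mat7 : Type := Matrix (Fin 7) (Fin 7) (ZMod 11)

/-- Entry `(i, j)` of a packed matrix. -/
def ent (m i j : ℕ) : ℕ := Nat.mod (Nat.div m (Nat.pow 16 (Nat.add (Nat.mul 7 i) j))) 16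

theorem ent_eq (m i j : ℕ) : ent m i j = m / 16 ^ (7 * i + j) % 16 := rfl

/-- The matrix of a packed matrix. -/
def toMat (m : ℕ) : Mat7 := Matrix.of fun i j => ((ent m i.val j.val : ℕ) : ZMod 11)

theorem toMat_apply (m : ℕ) (i j : Fin 7) : toMat m i j = ((ent m i.val j.val : ℕ) : ZMod 11) := rfl

/-- Entry `(i, j)` of the product, reduced modulo 11. -/
def pe (a b i j : ℕ) : ℕ :=
  Nat.mod (Nat.add (Nat.add (Nat.add (Nat.add (Nat.add (Nat.add
    (Nat.mul (ent a i 0) (ent b 0 j)) (Nat.mul (ent a i 1) (ent b 1 j)))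
    (Nat.mul (ent a i 2) (ent b 2 j))) (Nat.mul (ent a i 3) (ent b 3 j)))
    (Nat.mul (ent a i 4) (ent b 4 j))) (Nat.mul (ent a i 5) (ent b 5 j)))
    (Nat.mul (ent a i 6) (ent b 6 j))) 11

theorem pe_eq (a b i j : ℕ) : pe a b i j =
    (ent a i 0 * ent b 0 j + ent a i 1 * ent b 1 j + ent a i 2 * ent b 2 j + ent a i 3 * ent b 3 j
      + ent a i 4 * ent b 4 j + ent a i 5 * ent b 5 j + ent a i 6 * ent b 6 j) % 11 := rfl

theorem pe_lt (a b i j : ℕ) : pe a b i j < 16 := by
  rw [pe_eq]; omega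

/-- Packing of a list of digits in base 16. -/
def packL : List ℕ → ℕ
  | [] => 0
  | x :: l => Nat.add x (Nat.mul 16 (packL l))

theorem packL_cons (x : ℕ) (l : List ℕ) : packL (x :: l) = x + 16 * packL l := rfl

theorem packL_digit (l : List ℕ) (h : ∀ x ∈ l, x < 16) (k : ℕ) :
    packL l / 16 ^ k % 16 = l.getD k 0 := by
  induction l generalizing k with
  | nil => simp [packL]
  | cons x l ih =>
    have hx : x < 16 := h x List.mem_cons_self
    have hl : ∀ y ∈ l, y < 16 := fun y hy => h y (List.mem_cons_of_mem _ hy)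
    cases k with
    | zero =>
      simp only [packL_cons, pow_zero, Nat.div_one, List.getD_cons_zero]
      omega
    | succ k =>
      rw [List.getD_cons_succ, ← ih hl k, packL_cons, pow_succ, mul_comm (16 ^ k) 16,
        ← Nat.div_div_eq_div_mul]
      congr 2
      omega

/-- The indices `0, ..., 6`. -/
def idx7 : List ℕ := [0, 1, 2, 3, 4, 5, 6]

/-- The list of the 49 values `f i j`. -/
def entries (f : ℕ → ℕ → ℕ) : List ℕ := idx7.flatMap fun i => idx7.map fun j => f i j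

theorem entries_getD (f : ℕ → ℕ → ℕ) (i j : ℕ) (hi : i < 7) (hj : j < 7) :
    (entries f).getD (7 * i + j) 0 = f i j := by
  interval_cases i <;> interval_cases j <;> rfl

theorem mem_entries {f : ℕ → ℕ → ℕ} {x : ℕ} (hx : x ∈ entries f) : ∃ i j, x = f i j := by
  unfold entries at hx
  rw [List.mem_flatMap] at hx
  obtain ⟨i, -, hx⟩ := hx
  rw [List.mem_map] at hx
  obtain ⟨j, -, rfl⟩ := hx
  exact ⟨i, j, rfl⟩

/-- The packed product (written out, so that the kernel evaluates it without list recursion). -/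
def mulC (a b : ℕ) : ℕ :=
  Nat.add (pe a b 0 0) (Nat.mul 16 (Nat.add (pe a b 0 1) (Nat.mul 16 (Nat.add (pe a b 0 2)
  (Nat.mul 16 (Nat.add (pe a b 0 3) (Nat.mul 16 (Nat.add (pe a b 0 4) (Nat.mul 16 (Nat.add (pe a b
  0 5) (Nat.mul 16 (Nat.add (pe a b 0 6) (Nat.mul 16 (Nat.add (pe a b 1 0) (Nat.mul 16 (Nat.add
  (pe a b 1 1) (Nat.mul 16 (Nat.add (pe a b 1 2) (Nat.mul 16 (Nat.add (pe a b 1 3) (Nat.mul 16
  (Nat.add (pe a b 1 4) (Nat.mul 16 (Nat.add (pe a b 1 5) (Nat.mul 16 (Nat.add (pe a b 1 6)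
  (Nat.mul 16 (Nat.add (pe a b 2 0) (Nat.mul 16 (Nat.add (pe a b 2 1) (Nat.mul 16 (Nat.add (pe a b
  2 2) (Nat.mul 16 (Nat.add (pe a b 2 3) (Nat.mul 16 (Nat.add (pe a b 2 4) (Nat.mul 16 (Nat.add
  (pe a b 2 5) (Nat.mul 16 (Nat.add (pe a b 2 6) (Nat.mul 16 (Nat.add (pe a b 3 0) (Nat.mul 16
  (Nat.add (pe a b 3 1) (Nat.mul 16 (Nat.add (pe a b 3 2) (Nat.mul 16 (Nat.add (pe a b 3 3)
  (Nat.mul 16 (Nat.add (pe a b 3 4) (Nat.mul 16 (Nat.add (pe a b 3 5) (Nat.mul 16 (Nat.add (pe a b
  3 6) (Nat.mul 16 (Nat.add (pe a b 4 0) (Nat.mul 16 (Nat.add (pe a b 4 1) (Nat.mul 16 (Nat.add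
  (pe a b 4 2) (Nat.mul 16 (Nat.add (pe a b 4 3) (Nat.mul 16 (Nat.add (pe a b 4 4) (Nat.mul 16
  (Nat.add (pe a b 4 5) (Nat.mul 16 (Nat.add (pe a b 4 6) (Nat.mul 16 (Nat.add (pe a b 5 0)
  (Nat.mul 16 (Nat.add (pe a b 5 1) (Nat.mul 16 (Nat.add (pe a b 5 2) (Nat.mul 16 (Nat.add (pe a b
  5 3) (Nat.mul 16 (Nat.add (pe a b 5 4) (Nat.mul 16 (Nat.add (pe a b 5 5) (Nat.mul 16 (Nat.add
  (pe a b 5 6) (Nat.mul 16 (Nat.add (pe a b 6 0) (Nat.mul 16 (Nat.add (pe a b 6 1) (Nat.mul 16
  (Nat.add (pe a b 6 2) (Nat.mul 16 (Nat.add (pe a b 6 3) (Nat.mul 16 (Nat.add (pe a b 6 4)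
  (Nat.mul 16 (Nat.add (pe a b 6 5) (Nat.mul 16 (Nat.add (pe a b 6 6) (Nat.mul 16
  (0))))))))))))))))))))))))))))))))))))))))))))))))))))))))))))))))))))))))))))))))))))))))))))))))))

theorem mulC_eq (a b : ℕ) : mulC a b = packL (entries (pe a b)) := rfl

theorem ent_mulC (a b i j : ℕ) (hi : i < 7) (hj : j < 7) : ent (mulC a b) i j = pe a b i j := by
  rw [ent_eq, mulC_eq, packL_digit, entries_getD _ i j hi hj]
  intro x hx
  obtain ⟨i', j', rfl⟩ := mem_entries hx
  exact pe_lt _ _ _ _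

theorem toMat_mulC (a b : ℕ) : toMat (mulC a b) = toMat a * toMat b := by
  ext i j
  rw [toMat_apply, ent_mulC a b i.val j.val i.isLt j.isLt, Matrix.mul_apply, Fin.sum_univ_seven]
  simp only [toMat_apply, pe_eq, ZMod.natCast_mod]
  push_cast
  rfl

/-- Canonical form of a packed matrix (entries reduced modulo 11). -/
def normC (a : ℕ) : ℕ := packL (entries fun i j => Nat.mod (ent a i j) 11)

theorem normC_eq_of_toMat_eq {a b : ℕ} (h : toMat a = toMat b) : normC a = normC b := by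
  have key : ∀ i ∈ idx7, ∀ j ∈ idx7, Nat.mod (ent a i j) 11 = Nat.mod (ent b i j) 11 := by
    intro i hi j hj
    have hi' : i < 7 := by simp only [idx7, List.mem_cons, List.mem_nil_iff, or_false] at hi; omega
    have hj' : j < 7 := by simp only [idx7, List.mem_cons, List.mem_nil_iff, or_false] at hj; omega
    have h1 := congrFun (congrFun h ⟨i, hi'⟩) ⟨j, hj'⟩
    rw [toMat_apply, toMat_apply] at h1
    exact (ZMod.natCast_eq_natCast_iff' _ _ 11).1 h1
  unfold normC entries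
  congr 1
  apply List.flatMap_congr
  intro i hi
  apply List.map_congr_left
  intro j hj
  exact key i hi j hj

theorem toMat_ne_of_normC_ne {a b : ℕ} (h : normC a ≠ normC b) : toMat a ≠ toMat b :=
  fun h1 => h (normC_eq_of_toMat_eq h1)

/-- Lookup in a table packed with `w` bits per entry. -/
def tab (T w i : ℕ) : ℕ := Nat.land (Nat.shiftRight T (Nat.mul w i)) (Nat.sub (Nat.pow 2 w) 1)

/-- The packed identity matrix. -/
def oneC : ℕ := 6277101736848182401506974708411517874814724153223283736577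

/-- The packed matrix of `jankoMatrixX`. -/
def xC : ℕ := 397528445359450111623404940514766352372066718580752

/-- The packed matrix of `jankoMatrixY`. -/
def yC : ℕ := 7480991916830962229115210795734213009165743696062808893992

theorem toMat_oneC : toMat oneC = 1 := by decide +kernel

theorem toMat_xC : toMat xC = Cfsg.jankoMatrixX := by decide +kernel

theorem toMat_yC : toMat yC = Cfsg.jankoMatrixY := by decide +kernel

/-- Packed powers. -/
def powC (g : ℕ) : ℕ → ℕ
  | 0 => oneC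
  | n + 1 => mulC g (powC g n)

theorem toMat_powC (g n : ℕ) : toMat (powC g n) = toMat g ^ n := by
  induction n with
  | zero => rw [powC, toMat_oneC, pow_zero]
  | succ n ih => rw [powC, toMat_mulC, ih, pow_succ']

/-- Bounded universal quantifier. -/
def allB (p : ℕ → Bool) : ℕ → Bool
  | 0 => true
  | n + 1 => p n && allB p n

theorem allB_iff (p : ℕ → Bool) (n : ℕ) : allB p n = true ↔ ∀ i < n, p i = true := by
  induction n with
  | zero => simp [allB]
  | succ n ih =>
    rw [allB, Bool.and_eq_true, ih]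
    constructor
    · rintro ⟨h1, h2⟩ i hi
      rcases Nat.lt_succ_iff_lt_or_eq.1 hi with h | rfl
      · exact h2 i h
      · exact h1
    · intro h
      exact ⟨h n (Nat.lt_succ_self n), fun i hi => h i (Nat.lt_succ_of_lt hi)⟩

end Cfsg.Agent.Lib.helper33.J1M
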