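/-
Elements of the Janko group `J1` (the subgroup of `GL_7(11)` generated by two explicit matrices)
described by packed matrices: membership, products, conjugates, words in the generators.
(owner: helper33)
-/
import Cfsg.Agent.Lib.helper33.J1Mat

set_option autoImplicit false

namespace Cfsg.Agent.Lib.helper33.J1M

open Cfsg

/-- The matrix of an element of `J1`. -/
def matOf (g : ↥Spor.J1) : Mat7 := ((g : GL (Fin 7) (ZMod 11)) : Mat7)

theorem matOf_mul (g h : ↥Spor.J1) : matOf (g * h) = matOf g * matOf h := rfl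

theorem matOf_one : matOf 1 = 1 := rfl

theorem matOf_pow (g : ↥Spor.J1) (n : ℕ) : matOf (g ^ n) = matOf g ^ n := by
  induction n with
  | zero => rw [pow_zero, pow_zero, matOf_one]
  | succ n ih => rw [pow_succ, pow_succ, matOf_mul, ih]

theorem matOf_injective : Function.Injective matOf := by
  intro g h hgh
  exact Subtype.ext (Units.ext hgh)

theorem mat_cancel_right (U : ↥Spor.J1) {A B : Mat7} (h : A * matOf U = B * matOf U) : A = B := by
  have h1 : matOf U * matOf U⁻¹ = 1 := by rw [← matOf_mul, mul_inv_cancel, matOf_one]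
  calc A = A * (matOf U * matOf U⁻¹) := by rw [h1, mul_one]
    _ = B * (matOf U * matOf U⁻¹) := by rw [← mul_assoc, h, mul_assoc]
    _ = B := by rw [h1, mul_one]

/-- The generator `X` as an element of `J1`. -/
def xJ : ↥Spor.J1 := ⟨Spor.jankoX, Subgroup.subset_closure (Set.mem_insert _ _)⟩

/-- The generator `Y` as an element of `J1`. -/
def yJ : ↥Spor.J1 :=
  ⟨Spor.jankoY, Subgroup.subset_closure (Set.mem_insert_of_mem _ (Set.mem_singleton _))⟩

theorem matOf_xJ : matOf xJ = toMat xC := toMat_xC.symm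

theorem matOf_yJ : matOf yJ = toMat yC := toMat_yC.symm

theorem closure_xy : Subgroup.closure ({xJ, yJ} : Set ↥Spor.J1) = ⊤ := by
  have h := Subgroup.closure_closure_coe_preimage (k := ({Spor.jankoX, Spor.jankoY} : Set (GL (Fin 7) (ZMod 11))))
  have e : ({xJ, yJ} : Set ↥Spor.J1) = (Subtype.val ⁻¹' ({Spor.jankoX, Spor.jankoY} : Set (GL (Fin 7) (ZMod 11)))) := by
    ext g
    simp only [Set.mem_insert_iff, Set.mem_singleton_iff, Set.mem_preimage, Subtype.ext_iff]
    rfl
  rw [e]
  exact h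

/-- The packed matrix `m` is the matrix of an element of `J1`. -/
def InJ (m : ℕ) : Prop := ∃ g : ↥Spor.J1, matOf g = toMat m

theorem inJ_one : InJ oneC := ⟨1, by rw [matOf_one, toMat_oneC]⟩

theorem inJ_x : InJ xC := ⟨xJ, matOf_xJ⟩

theorem inJ_y : InJ yC := ⟨yJ, matOf_yJ⟩

theorem InJ.mul {a b : ℕ} (ha : InJ a) (hb : InJ b) : InJ (mulC a b) := by
  obtain ⟨g, hg⟩ := ha
  obtain ⟨h, hh⟩ := hb
  exact ⟨g * h, by rw [matOf_mul, hg, hh, toMat_mulC]⟩

theorem InJ.pow {a : ℕ} (ha : InJ a) (n : ℕ) : InJ (powC a n) := by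
  induction n with
  | zero => exact inJ_one
  | succ n ih => exact ha.mul ih

theorem InJ.of_conj {c u g : ℕ} (hu : InJ u) (hg : InJ g) (h : mulC c u = mulC u g) : InJ c := by
  obtain ⟨U, hU⟩ := hu
  obtain ⟨G, hG⟩ := hg
  refine ⟨U * G * U⁻¹, mat_cancel_right U ?_⟩
  rw [← matOf_mul, inv_mul_cancel_right, matOf_mul, hU, hG, ← toMat_mulC, ← toMat_mulC, h]

/-- The packed matrix of a word in the generators (`0` stands for `X`, anything else for `Y`). -/
def wordC : List ℕ → ℕ
  | [] => oneC
  | 0 :: w => mulC xC (wordC w)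
  | (_ + 1) :: w => mulC yC (wordC w)

theorem inJ_word (w : List ℕ) : InJ (wordC w) := by
  induction w with
  | nil => exact inJ_one
  | cons s w ih =>
    cases s with
    | zero => exact inJ_x.mul ih
    | succ n => exact inJ_y.mul ih

/-- The element of `J1` with a given packed matrix. -/
noncomputable def elt (m : ℕ) (h : InJ m) : ↥Spor.J1 := h.choose

theorem matOf_elt (m : ℕ) (h : InJ m) : matOf (elt m h) = toMat m := h.choose_spec

theorem elt_mul {a b c : ℕ} (ha : InJ a) (hb : InJ b) (hc : InJ c) (h : mulC a b = c) :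
    elt a ha * elt b hb = elt c hc := by
  apply matOf_injective
  rw [matOf_mul, matOf_elt, matOf_elt, matOf_elt, ← toMat_mulC, h]

theorem elt_mul_comm {a b : ℕ} (ha : InJ a) (hb : InJ b) (h : mulC a b = mulC b a) :
    elt a ha * elt b hb = elt b hb * elt a ha := by
  apply matOf_injective
  rw [matOf_mul, matOf_mul, matOf_elt, matOf_elt, ← toMat_mulC, ← toMat_mulC, h]

theorem elt_one (h : InJ oneC) : elt oneC h = 1 := by
  apply matOf_injective
  rw [matOf_elt, matOf_one, toMat_oneC]

theorem elt_x (h : InJ xC) : elt xC h = xJ := by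
  apply matOf_injective
  rw [matOf_elt, matOf_xJ]

theorem elt_y (h : InJ yC) : elt yC h = yJ := by
  apply matOf_injective
  rw [matOf_elt, matOf_yJ]

theorem elt_ne {a b : ℕ} (ha : InJ a) (hb : InJ b) (h : normC a ≠ normC b) :
    elt a ha ≠ elt b hb := by
  intro h1
  apply toMat_ne_of_normC_ne h
  rw [← matOf_elt a ha, ← matOf_elt b hb, h1]

theorem elt_ne_one {a : ℕ} (ha : InJ a) (h : normC a ≠ normC oneC) : elt a ha ≠ 1 := by
  rw [← elt_one inJ_one]
  exact elt_ne ha inJ_one h

theorem elt_pow {a : ℕ} (ha : InJ a) (n : ℕ) (hn : InJ (powC a n)) :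
    elt a ha ^ n = elt (powC a n) hn := by
  apply matOf_injective
  rw [matOf_pow, matOf_elt, matOf_elt, toMat_powC]

theorem elt_pow_eq_one {a : ℕ} (ha : InJ a) (n : ℕ) (h : powC a n = oneC) : elt a ha ^ n = 1 := by
  apply matOf_injective
  rw [matOf_pow, matOf_elt, ← toMat_powC, h, toMat_oneC, matOf_one]

theorem elt_conj {c u g : ℕ} (hc : InJ c) (hu : InJ u) (hg : InJ g) (h : mulC c u = mulC u g) :
    elt u hu * elt g hg * (elt u hu)⁻¹ = elt c hc := by
  apply matOf_injective
  apply mat_cancel_right (elt u hu)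
  rw [← matOf_mul, inv_mul_cancel_right, matOf_mul, matOf_elt, matOf_elt, matOf_elt,
    ← toMat_mulC, ← toMat_mulC, h]

theorem orderOf_elt {a : ℕ} (ha : InJ a) (p : ℕ) [hp : Fact p.Prime] (h : powC a p = oneC)
    (h1 : normC a ≠ normC oneC) : orderOf (elt a ha) = p :=
  orderOf_eq_prime (elt_pow_eq_one ha p h) (elt_ne_one ha h1)

end Cfsg.Agent.Lib.helper33.J1M
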