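/-
The Janko group `J1` has at most 175560 elements: every element is a product
`X^e R_c L_k` of a power of `X`, one of 440 representatives and one of the 57 elements of the
stabiliser of a vector (Schreier's lemma, checked by kernel evaluation).  (owner: helper33)
-/
import Cfsg.Agent.Lib.helper33.J1Grp
import Cfsg.Agent.Lib.helper33.J1Data

set_option autoImplicit false

namespace Cfsg.Agent.Lib.helper33.J1M

open Cfsg

/-- The representative `R_c`. -/
def rC (c : ℕ) : ℕ := tab rT 196 c

/-- The element `L_k` of the stabiliser. -/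
def lC (k : ℕ) : ℕ := tab lT 196 k

/-- The matrix `X^(-e') Y X^e` for `n = 7 e' + e`. -/
def yyC (n : ℕ) : ℕ := tab yyT 196 n

/-- The power `X^e`. -/
def xpC (e : ℕ) : ℕ := tab xpT 196 e

/-- The index of `L_k1 L_k2` for `n = 57 k1 + k2`. -/
def lmulC (n : ℕ) : ℕ := tab lmulT 6 n

/-- The check of the Schreier relation of `Y` at `X^e R_c`, `i = 7 c + e`. -/
def chkY (i : ℕ) : Bool :=
  Nat.blt (Nat.div (Nat.div (tab yrelT 18 i) 64) 7) 440 && Nat.blt (Nat.mod (tab yrelT 18 i) 64) 57 &&
    Nat.beq (mulC (yyC (Nat.add (Nat.mul 7 (Nat.mod (Nat.div (tab yrelT 18 i) 64) 7)) (Nat.mod i 7)))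
        (rC (Nat.div i 7)))
      (mulC (rC (Nat.div (Nat.div (tab yrelT 18 i) 64) 7)) (lC (Nat.mod (tab yrelT 18 i) 64)))

/-- The check of the multiplication table of the stabiliser at `n = 57 k1 + k2`. -/
def chkL (n : ℕ) : Bool :=
  Nat.blt (lmulC n) 57 && Nat.beq (mulC (lC (Nat.div n 57)) (lC (Nat.mod n 57))) (lC (lmulC n))

/-- The check of `X^e' (X^(-e') Y X^e) = Y X^e` at `n = 7 e' + e`. -/
def chkYY (n : ℕ) : Bool :=
  Nat.beq (mulC (xpC (Nat.div n 7)) (yyC n)) (mulC yC (xpC (Nat.mod n 7)))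

/-- The check of `X X^e = X^(e+1)`. -/
def chkXP (e : ℕ) : Bool := Nat.beq (mulC xC (xpC e)) (xpC (Nat.mod (Nat.add e 1) 7))

set_option maxRecDepth 100000 in
theorem chkY_all : allB chkY 3080 = true := by decide +kernel

set_option maxRecDepth 100000 in
theorem chkL_all : allB chkL 3249 = true := by decide +kernel

theorem chkYY_all : allB chkYY 49 = true := by decide +kernel

theorem chkXP_all : allB chkXP 7 = true := by decide +kernel

theorem xpC_zero : xpC 0 = oneC := by decide +kernel

theorem rC_zero : rC 0 = oneC := by decide +kernel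

theorem lC_zero : lC 0 = oneC := by decide +kernel

theorem powC_x : powC xC 7 = oneC := by decide +kernel

theorem powC_y : powC yC 5 = oneC := by decide +kernel

/-- The matrices `X^e R_c L_k`. -/
def InP (M : Mat7) : Prop :=
  ∃ e c k : ℕ, e < 7 ∧ c < 440 ∧ k < 57 ∧ M = toMat (xpC e) * toMat (rC c) * toMat (lC k)

theorem inP_one : InP 1 :=
  ⟨0, 0, 0, by norm_num, by norm_num, by norm_num, by
    rw [xpC_zero, rC_zero, lC_zero, toMat_oneC, mul_one, mul_one]⟩

theorem inP_x {M : Mat7} (h : InP M) : InP (toMat xC * M) := by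
  obtain ⟨e, c, k, he, hc, hk, rfl⟩ := h
  have h1 := (allB_iff chkXP 7).1 chkXP_all e he
  have h2 : mulC xC (xpC e) = xpC ((e + 1) % 7) := Nat.eq_of_beq_eq_true h1
  refine ⟨(e + 1) % 7, c, k, Nat.mod_lt _ (by norm_num), hc, hk, ?_⟩
  rw [← h2, toMat_mulC, mul_assoc, mul_assoc, mul_assoc]

theorem inP_y {M : Mat7} (h : InP M) : InP (toMat yC * M) := by
  obtain ⟨e, c, k, he, hc, hk, rfl⟩ := h
  have hi : 7 * c + e < 3080 := by omega
  have h1 := (allB_iff chkY 3080).1 chkY_all (7 * c + e) hi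
  unfold chkY at h1
  rw [Bool.and_eq_true, Bool.and_eq_true] at h1
  obtain ⟨⟨h1a, h1b⟩, h1c⟩ := h1
  have e1 : Nat.mod (7 * c + e) 7 = e := by
    show (7 * c + e) % 7 = e
    omega
  have e2 : Nat.div (7 * c + e) 7 = c := by
    show (7 * c + e) / 7 = c
    omega
  rw [e1, e2] at h1c
  generalize Nat.div (Nat.div (tab yrelT 18 (7 * c + e)) 64) 7 = c' at h1a h1c
  generalize Nat.mod (tab yrelT 18 (7 * c + e)) 64 = k' at h1b h1c
  generalize hq : Nat.mod (Nat.div (tab yrelT 18 (7 * c + e)) 64) 7 = e' at h1c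
  have he' : e' < 7 := by
    rw [← hq]
    exact Nat.mod_lt _ (by norm_num)
  have hc' : c' < 440 := by
    have := Nat.le_of_ble_eq_true h1a
    exact this
  have hk' : k' < 57 := by
    have := Nat.le_of_ble_eq_true h1b
    exact this
  have h3 : mulC (yyC (7 * e' + e)) (rC c) = mulC (rC c') (lC k') := Nat.eq_of_beq_eq_true h1c
  -- the table of `X^(-e') Y X^e`
  have h4 := (allB_iff chkYY 49).1 chkYY_all (7 * e' + e) (by omega)
  unfold chkYY at h4
  have e3 : Nat.mod (7 * e' + e) 7 = e := by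
    show (7 * e' + e) % 7 = e
    omega
  have e4 : Nat.div (7 * e' + e) 7 = e' := by
    show (7 * e' + e) / 7 = e'
    omega
  rw [e3, e4] at h4
  have h5 : mulC (xpC e') (yyC (7 * e' + e)) = mulC yC (xpC e) := Nat.eq_of_beq_eq_true h4
  -- the multiplication table of the stabiliser
  have h6 := (allB_iff chkL 3249).1 chkL_all (57 * k' + k) (by omega)
  unfold chkL at h6
  rw [Bool.and_eq_true] at h6
  obtain ⟨h6a, h6b⟩ := h6
  have e5 : Nat.mod (57 * k' + k) 57 = k := by
    show (57 * k' + k) % 57 = k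
    omega
  have e6 : Nat.div (57 * k' + k) 57 = k' := by
    show (57 * k' + k) / 57 = k'
    omega
  rw [e5, e6] at h6b
  have h7 : mulC (lC k') (lC k) = lC (lmulC (57 * k' + k)) := Nat.eq_of_beq_eq_true h6b
  have hk'' : lmulC (57 * k' + k) < 57 := Nat.le_of_ble_eq_true h6a
  refine ⟨e', c', lmulC (57 * k' + k), he', hc', hk'', ?_⟩
  have m3 := congrArg toMat h3
  have m5 := congrArg toMat h5
  have m7 := congrArg toMat h7
  rw [toMat_mulC, toMat_mulC] at m3 m5
  rw [toMat_mulC] at m7
  calc toMat yC * (toMat (xpC e) * toMat (rC c) * toMat (lC k))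
      = (toMat yC * toMat (xpC e)) * toMat (rC c) * toMat (lC k) := by
        simp only [mul_assoc]
    _ = toMat (xpC e') * (toMat (yyC (7 * e' + e)) * toMat (rC c)) * toMat (lC k) := by
        rw [← m5]; simp only [mul_assoc]
    _ = toMat (xpC e') * toMat (rC c') * (toMat (lC k') * toMat (lC k)) := by
        rw [m3]; simp only [mul_assoc]
    _ = toMat (xpC e') * toMat (rC c') * toMat (lC (lmulC (57 * k' + k))) := by rw [m7]

theorem inP_x_pow {M : Mat7} (h : InP M) (n : ℕ) : InP (toMat xC ^ n * M) := by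
  induction n with
  | zero => rwa [pow_zero, one_mul]
  | succ n ih =>
    rw [pow_succ', mul_assoc]
    exact inP_x ih

theorem inP_y_pow {M : Mat7} (h : InP M) (n : ℕ) : InP (toMat yC ^ n * M) := by
  induction n with
  | zero => rwa [pow_zero, one_mul]
  | succ n ih =>
    rw [pow_succ', mul_assoc]
    exact inP_y ih

theorem jankoX_pow : Spor.jankoX ^ 7 = 1 := by
  apply Units.ext
  rw [Units.val_pow_eq_pow_val, Units.val_one]
  show Cfsg.jankoMatrixX ^ 7 = 1
  rw [← toMat_xC, ← toMat_powC, powC_x, toMat_oneC]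

theorem jankoY_pow : Spor.jankoY ^ 5 = 1 := by
  apply Units.ext
  rw [Units.val_pow_eq_pow_val, Units.val_one]
  show Cfsg.jankoMatrixY ^ 5 = 1
  rw [← toMat_yC, ← toMat_powC, powC_y, toMat_oneC]

theorem inP_of_mem (g : GL (Fin 7) (ZMod 11)) (hg : g ∈ Spor.J1) : InP (g : Mat7) := by
  have hg' : g ∈ Subgroup.closure ({Spor.jankoX, Spor.jankoY} : Set (GL (Fin 7) (ZMod 11))) := hg
  clear hg
  induction hg' using Subgroup.closure_induction_left with
  | one => exact inP_one
  | mul_left x hx y hy ih =>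
    rw [Units.val_mul]
    rcases hx with rfl | rfl
    · have : ((Spor.jankoX : GL (Fin 7) (ZMod 11)) : Mat7) = toMat xC := toMat_xC.symm
      rw [this]
      exact inP_x ih
    · have : ((Spor.jankoY : GL (Fin 7) (ZMod 11)) : Mat7) = toMat yC := toMat_yC.symm
      rw [this]
      exact inP_y ih
  | inv_mul_cancel x hx y hy ih =>
    rw [Units.val_mul]
    rcases hx with rfl | rfl
    · have h1 : (Spor.jankoX)⁻¹ = Spor.jankoX ^ 6 := by
        apply inv_eq_of_mul_eq_one_right
        rw [← pow_succ', jankoX_pow]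
      have : (((Spor.jankoX)⁻¹ : GL (Fin 7) (ZMod 11)) : Mat7) = toMat xC ^ 6 := by
        rw [h1, Units.val_pow_eq_pow_val]
        exact congrArg (· ^ 6) toMat_xC.symm
      rw [this]
      exact inP_x_pow ih 6
    · have h1 : (Spor.jankoY)⁻¹ = Spor.jankoY ^ 4 := by
        apply inv_eq_of_mul_eq_one_right
        rw [← pow_succ', jankoY_pow]
      have : (((Spor.jankoY)⁻¹ : GL (Fin 7) (ZMod 11)) : Mat7) = toMat yC ^ 4 := by
        rw [h1, Units.val_pow_eq_pow_val]
        exact congrArg (· ^ 4) toMat_yC.symm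
      rw [this]
      exact inP_y_pow ih 4

/-- The product `X^e R_c L_k` for `n = 399 c + 57 e + k`. -/
noncomputable def pMat (n : Fin 175560) : Mat7 :=
  toMat (xpC (n.val / 57 % 7)) * toMat (rC (n.val / 399)) * toMat (lC (n.val % 57))

theorem exists_pMat (g : ↥Spor.J1) : ∃ n : Fin 175560, matOf g = pMat n := by
  obtain ⟨e, c, k, he, hc, hk, h⟩ := inP_of_mem g.1 g.2
  refine ⟨⟨399 * c + 57 * e + k, by omega⟩, ?_⟩
  have e1 : (399 * c + 57 * e + k) / 57 % 7 = e := by omega
  have e2 : (399 * c + 57 * e + k) / 399 = c := by omega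
  have e3 : (399 * c + 57 * e + k) % 57 = k := by omega
  unfold pMat
  simp only [e1, e2, e3]
  exact h

theorem card_J1_le : Nat.card ↥Spor.J1 ≤ 175560 := by
  have hinj : Function.Injective (fun g : ↥Spor.J1 => (exists_pMat g).choose) := by
    intro g h hgh
    apply matOf_injective
    rw [(exists_pMat g).choose_spec, (exists_pMat h).choose_spec]
    exact congrArg pMat hgh
  have := Nat.card_le_card_of_injective _ hinj
  simpa using this

end Cfsg.Agent.Lib.helper33.J1M
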