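/-
An element of prime order `p` is conjugate into any given Sylow `p`-subgroup (given by its
order).  (owner: helper33)
-/
import Mathlib

set_option autoImplicit false

namespace Cfsg.Agent.Lib.helper33

theorem exists_conj_mem_of_card_pow {G : Type*} [Group G] [Finite G] {p : ℕ} (hp : p.Prime)
    (P : Subgroup G) (k : ℕ) (hPk : Nat.card P = p ^ k) (hk : ¬ p ^ (k + 1) ∣ Nat.card G)
    (x : G) (hxo : orderOf x = p) : ∃ g : G, g⁻¹ * x * g ∈ P := by
  have := Fact.mk hp
  have hcard0 : Nat.card G ≠ 0 := Nat.card_pos.ne'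
  have hfac : (Nat.card G).factorization p = k := by
    have h1 : p ^ k ∣ Nat.card G := by
      rw [← hPk]; exact Subgroup.card_subgroup_dvd_card P
    have h2 := (hp.pow_dvd_iff_le_factorization hcard0).1 h1
    have h3 : ¬ k + 1 ≤ (Nat.card G).factorization p := fun h3 =>
      hk ((hp.pow_dvd_iff_le_factorization hcard0).2 h3)
    omega
  let PS : Sylow p G := Sylow.ofCard P (by rw [hPk, hfac])
  have hzp : IsPGroup p (Subgroup.zpowers x) := by
    apply IsPGroup.of_card (n := 1)
    rw [Nat.card_zpowers, hxo, pow_one]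
  obtain ⟨Q, hQ⟩ := hzp.exists_le_sylow
  obtain ⟨g, hg⟩ := MulAction.exists_smul_eq G PS Q
  have hxQ : x ∈ (Q : Subgroup G) := hQ (Subgroup.mem_zpowers x)
  rw [← hg, Sylow.coe_subgroup_smul, Subgroup.mem_pointwise_smul_iff_inv_smul_mem] at hxQ
  refine ⟨g, ?_⟩
  have e : (MulAut.conj g)⁻¹ • x = g⁻¹ * x * g := by
    rw [← map_inv, MulAut.smul_def, MulAut.conj_apply, inv_inv]
  rw [← e]
  exact hxQ

end Cfsg.Agent.Lib.helper33
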