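/-
Every automorphism of the Janko group `J1` is inner: an automorphism can be normalised to fix the
generator `X` of order 7; the image of a fixed involution `t` with `⟨X, t⟩ = J1` is then one of the
1463 involutions, and all but the seven `X`-conjugates of `t` violate a relation satisfied by
`(X, t)`.  (owner: helper33)
-/
import Cfsg.Agent.Lib.helper33.J1Inv
import Cfsg.Agent.Lib.helper33.SylowConj

set_option autoImplicit false

namespace Cfsg.Agent.Lib.helper33.J1M

open Cfsg

theorem xJ_pow : xJ ^ 7 = 1 := Subtype.ext jankoX_pow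

theorem yJ_pow : yJ ^ 5 = 1 := Subtype.ext jankoY_pow

/-- The value of a word in `x` (letter `0`) and `t` (any other letter). -/
def gword {G : Type*} [Group G] (x t : G) : List ℕ → G
  | [] => 1
  | 0 :: w => x * gword x t w
  | (_ + 1) :: w => t * gword x t w

theorem gword_map {G H : Type*} [Group G] [Group H] (f : G →* H) (x t : G) (w : List ℕ) :
    f (gword x t w) = gword (f x) (f t) w := by
  induction w with
  | nil => exact map_one f
  | cons s w ih =>
    cases s with
    | zero =>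
      show f (x * gword x t w) = f x * gword (f x) (f t) w
      rw [map_mul, ih]
    | succ n =>
      show f (t * gword x t w) = f t * gword (f x) (f t) w
      rw [map_mul, ih]

theorem gword_mem {G : Type*} [Group G] (x t : G) (w : List ℕ) :
    gword x t w ∈ Subgroup.closure ({x, t} : Set G) := by
  induction w with
  | nil => exact Subgroup.one_mem _
  | cons s w ih =>
    cases s with
    | zero => exact Subgroup.mul_mem _ (Subgroup.subset_closure (by simp)) ih
    | succ n => exact Subgroup.mul_mem _ (Subgroup.subset_closure (by simp)) ih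

theorem matOf_gword (t : ↥Spor.J1) (tc : ℕ) (ht : matOf t = toMat tc) (w : List ℕ) :
    matOf (gword xJ t w) = toMat (twordC tc w) := by
  induction w with
  | nil =>
    show matOf 1 = toMat (twordC tc [])
    rw [matOf_one, twordC_nil, toMat_oneC]
  | cons s w ih =>
    cases s with
    | zero =>
      show matOf (xJ * gword xJ t w) = toMat (twordC tc (0 :: w))
      rw [matOf_mul, ih, twordC_zero, toMat_mulC, matOf_xJ]
    | succ n =>
      show matOf (t * gword xJ t w) = toMat (twordC tc ((n + 1) :: w))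
      rw [matOf_mul, ih, twordC_succ, toMat_mulC, ht]

/-- The conjugate of the involution `a` by `g` is in the list of involutions. -/
def ConjA (g : ↥Spor.J1) : Prop :=
  ∃ i, i < 1463 ∧ matOf (g * elt aC inJ_a * g⁻¹) = toMat (invC i)

theorem conjA_step_x {g : ↥Spor.J1} (h : ConjA g) : ConjA (xJ * g) := by
  obtain ⟨i, hi, hm⟩ := h
  obtain ⟨h1, -, h3, -⟩ := chkConj_spec i ((allB_iff chkConj 1463).1 chkConj_all i hi)
  refine ⟨tab cxT 11 i, h1, ?_⟩
  apply mat_cancel_right xJ
  have e : xJ * g * elt aC inJ_a * (xJ * g)⁻¹ * xJ = xJ * (g * elt aC inJ_a * g⁻¹) := by group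
  rw [← matOf_mul, e, matOf_mul, hm, matOf_xJ, ← toMat_mulC, ← toMat_mulC, h3]

theorem conjA_step_y {g : ↥Spor.J1} (h : ConjA g) : ConjA (yJ * g) := by
  obtain ⟨i, hi, hm⟩ := h
  obtain ⟨-, h2, -, h4⟩ := chkConj_spec i ((allB_iff chkConj 1463).1 chkConj_all i hi)
  refine ⟨tab cyT 11 i, h2, ?_⟩
  apply mat_cancel_right yJ
  have e : yJ * g * elt aC inJ_a * (yJ * g)⁻¹ * yJ = yJ * (g * elt aC inJ_a * g⁻¹) := by group
  rw [← matOf_mul, e, matOf_mul, hm, matOf_yJ, ← toMat_mulC, ← toMat_mulC, h4]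

theorem conjA_step_x_pow {g : ↥Spor.J1} (h : ConjA g) (n : ℕ) : ConjA (xJ ^ n * g) := by
  induction n with
  | zero => rwa [pow_zero, one_mul]
  | succ n ih =>
    rw [pow_succ', mul_assoc]
    exact conjA_step_x ih

theorem conjA_step_y_pow {g : ↥Spor.J1} (h : ConjA g) (n : ℕ) : ConjA (yJ ^ n * g) := by
  induction n with
  | zero => rwa [pow_zero, one_mul]
  | succ n ih =>
    rw [pow_succ', mul_assoc]
    exact conjA_step_y ih

theorem conjA_all (g : ↥Spor.J1) : ConjA g := by
  have hg : g ∈ Subgroup.closure ({xJ, yJ} : Set ↥Spor.J1) := by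
    rw [closure_xy]; exact Subgroup.mem_top g
  induction hg using Subgroup.closure_induction_left with
  | one =>
    refine ⟨0, by norm_num, ?_⟩
    rw [one_mul, inv_one, mul_one, matOf_elt, invC_zero]
  | mul_left x hx y hy ih =>
    rcases hx with rfl | rfl
    · exact conjA_step_x ih
    · exact conjA_step_y ih
  | inv_mul_cancel x hx y hy ih =>
    rcases hx with rfl | rfl
    · have h1 : xJ⁻¹ = xJ ^ 6 := inv_eq_of_mul_eq_one_right (by rw [← pow_succ', xJ_pow])
      rw [h1]
      exact conjA_step_x_pow ih 6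
    · have h1 : yJ⁻¹ = yJ ^ 4 := inv_eq_of_mul_eq_one_right (by rw [← pow_succ', yJ_pow])
      rw [h1]
      exact conjA_step_y_pow ih 4

/-- All involutions of `J1` are conjugate. -/
theorem inv_conj_a (t : ↥Spor.J1) (ht : orderOf t = 2) :
    ∃ g : ↥Spor.J1, t = g * elt aC inJ_a * g⁻¹ := by
  obtain ⟨g, hg⟩ := exists_conj_mem_of_card_pow Nat.prime_two sylE 3
    (by rw [card_sylE]; norm_num) (by rw [card_J1]; norm_num) t ht
  have et : t = g * (g⁻¹ * t * g) * g⁻¹ := by group
  have hne : g⁻¹ * t * g ≠ 1 := by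
    intro h1
    have h2 : t = 1 := by rw [et, h1]; group
    rw [h2, orderOf_one] at ht
    norm_num at ht
  obtain ⟨cb, cc, cab, cac, cbc, cabc⟩ := conj_of_singer (elt sC inJ_s) (elt aC inJ_a)
    (elt bC inJ_b) (elt cC inJ_c) b_sq ab_comm ac_comm bc_comm conj_sa conj_sb conj_sc
  have key : ∃ u : ↥Spor.J1, g⁻¹ * t * g = u * elt aC inJ_a * u⁻¹ := by
    have hl := mem_listE hg
    simp only [listE, List.mem_cons, List.mem_nil_iff, or_false] at hl
    rcases hl with h | h | h | h | h | h | h | h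
    · exact absurd h hne
    · exact ⟨1, by rw [h]; group⟩
    · rw [h]; exact cb
    · rw [h]; exact cc
    · rw [h]; exact cab
    · rw [h]; exact cac
    · rw [h]; exact cbc
    · rw [h]; exact cabc
  obtain ⟨u, hu⟩ := key
  exact ⟨g * u, by rw [et, hu]; group⟩

theorem xpow_conj (k : ℕ) (h0 : 0 < k) (h7 : k < 7) : ∃ u : ↥Spor.J1, xJ ^ k = u * xJ * u⁻¹ := by
  have key : ∀ (k : ℕ) (hc : ℕ) (hh : InJ hc), mulC (powC xC k) hc = mulC hc xC →
      ∃ u : ↥Spor.J1, xJ ^ k = u * xJ * u⁻¹ := by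
    intro k hc hh hrel
    refine ⟨elt hc hh, ?_⟩
    have h1 := elt_conj (inJ_x.pow k) hh inJ_x hrel
    rw [elt_x] at h1
    rw [h1, ← elt_pow inJ_x k (inJ_x.pow k), elt_x]
  interval_cases k
  · exact ⟨1, by group⟩
  · exact key 2 h2C inJ_h2 h2_rel
  · exact key 3 h3C inJ_h3 h3_rel
  · exact key 4 h4C inJ_h4 h4_rel
  · exact key 5 h5C inJ_h5 h5_rel
  · exact key 6 h6C inJ_h6 h6_rel

theorem orderOf_xJ : orderOf xJ = 7 := by
  rw [← elt_x inJ_x]; exact order_x

/-- All elements of order 7 of `J1` are conjugate. -/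
theorem ord7_conj (z : ↥Spor.J1) (hz : orderOf z = 7) : ∃ g : ↥Spor.J1, z = g * xJ * g⁻¹ := by
  classical
  obtain ⟨g, hg⟩ := exists_conj_mem_of_card_pow (by norm_num : Nat.Prime 7) (Subgroup.zpowers xJ) 1
    (by rw [Nat.card_zpowers, orderOf_xJ, pow_one]) (by rw [card_J1]; norm_num) z hz
  have ez : z = g * (g⁻¹ * z * g) * g⁻¹ := by group
  rw [mem_zpowers_iff_mem_range_orderOf, orderOf_xJ] at hg
  obtain ⟨k, hk, hk2⟩ := Finset.mem_image.1 hg
  have hk7 : k < 7 := Finset.mem_range.1 hk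
  have hk2' : xJ ^ k = g⁻¹ * z * g := hk2
  have hk0 : 0 < k := by
    by_contra h0
    have hk0' : k = 0 := by omega
    subst hk0'
    rw [pow_zero] at hk2'
    have h2 : z = 1 := by rw [ez, ← hk2']; group
    rw [h2, orderOf_one] at hz
    norm_num at hz
  obtain ⟨u, hu⟩ := xpow_conj k hk0 hk7
  exact ⟨g * u, by rw [ez, ← hk2', hu]; group⟩

/-- Every automorphism of `J1` is inner. -/
theorem aut_inner (φ : ↥Spor.J1 ≃* ↥Spor.J1) : ∃ m : ↥Spor.J1, φ = MulAut.conj m := by
  obtain ⟨g1, hg1⟩ := ord7_conj (φ xJ) ((MulEquiv.orderOf_eq φ xJ).trans orderOf_xJ)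
  obtain ⟨ψ, hψ⟩ : ∃ ψ : ↥Spor.J1 ≃* ↥Spor.J1, ∀ z, ψ z = g1⁻¹ * φ z * g1 :=
    ⟨φ.trans ((MulAut.conj g1)⁻¹ : MulAut ↥Spor.J1), fun z => MulAut.conj_inv_apply g1 (φ z)⟩
  have hψx : ψ xJ = xJ := by rw [hψ, hg1]; group
  obtain ⟨T, hTdef⟩ : ∃ T : ↥Spor.J1, T = elt tC inJ_t := ⟨_, rfl⟩
  have hTmat : matOf T = toMat tC := by rw [hTdef, matOf_elt]
  have hT2 : orderOf T = 2 := by
    rw [hTdef]
    exact orderOf_eq_prime (by rw [pow_two]; exact (elt_mul inJ_t inJ_t inJ_one t_sq).trans (elt_one _))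
      (elt_ne_one inJ_t t_ne)
  obtain ⟨g2, hg2⟩ := inv_conj_a (ψ T) ((MulEquiv.orderOf_eq ψ T).trans hT2)
  obtain ⟨i, hi, hm⟩ := conjA_all g2
  rw [← hg2] at hm
  have hgw : ∀ w, matOf (ψ (gword xJ T w)) = toMat (twordC (invC i) w) := by
    intro w
    have h1 : ψ (gword xJ T w) = gword (ψ xJ) (ψ T) w := gword_map ψ.toMonoidHom xJ T w
    rw [h1, hψx]
    exact matOf_gword (ψ T) (invC i) hm w
  have hgT : ∀ w, matOf (gword xJ T w) = toMat (twordC tC w) := matOf_gword T tC hTmat
  have bad : ∀ (w : List ℕ) (n : ℕ), powC (twordC tC w) n = oneC →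
      normC (powC (twordC (invC i) w) n) ≠ normC oneC → False := by
    intro w n hrel hne
    apply toMat_ne_of_normC_ne hne
    have e1 : gword xJ T w ^ n = 1 := by
      apply matOf_injective
      rw [matOf_pow, hgT, ← toMat_powC, hrel, toMat_oneC, matOf_one]
    have e2 : matOf (ψ (gword xJ T w ^ n)) = matOf 1 := by rw [e1, map_one]
    rw [map_pow, matOf_pow, hgw, ← toMat_powC, matOf_one] at e2
    rw [e2, toMat_oneC]
  rcases chkCert_spec i ((allB_iff chkCert 1463).1 chkCert_all i hi) with h | h | h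
  · exact (bad w1 3 w1_rel h).elim
  · exact (bad w2 5 w2_rel h).elim
  · obtain ⟨c, hc⟩ : ∃ c : ℕ, c = tab certT 4 i := ⟨_, rfl⟩
    rw [← hc] at h
    have hconj : ψ T = xJ ^ c * T * (xJ ^ c)⁻¹ := by
      apply matOf_injective
      apply mat_cancel_right (xJ ^ c)
      rw [← matOf_mul (xJ ^ c * T * (xJ ^ c)⁻¹), inv_mul_cancel_right, matOf_mul, hm, matOf_pow,
        matOf_xJ, hTmat, ← toMat_powC, ← toMat_mulC, ← toMat_mulC, h]
    have hdense : Subgroup.closure ({xJ, T} : Set ↥Spor.J1) = ⊤ := by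
      rw [eq_top_iff, ← closure_xy, Subgroup.closure_le]
      intro z hz
      rcases hz with rfl | rfl
      · exact Subgroup.subset_closure (by simp)
      · have hy : yJ = gword xJ T wY := by
          apply matOf_injective
          rw [hgT, wY_rel, matOf_yJ]
        rw [hy]
        exact gword_mem xJ T wY
    have hfun : ψ.toMonoidHom = (MulAut.conj (xJ ^ c)).toMonoidHom := by
      apply MonoidHom.eq_of_eqOn_dense hdense
      intro z hz
      rcases hz with rfl | hz'
      · show ψ xJ = MulAut.conj (xJ ^ c) xJ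
        rw [hψx, MulAut.conj_apply, ← pow_succ, pow_succ', mul_inv_cancel_right]
      · rw [Set.mem_singleton_iff] at hz'
        rw [hz']
        show ψ T = MulAut.conj (xJ ^ c) T
        rw [hconj, MulAut.conj_apply]
    refine ⟨g1 * xJ ^ c, ?_⟩
    apply MulEquiv.ext
    intro z
    have h1 : ψ z = MulAut.conj (xJ ^ c) z := DFunLike.congr_fun hfun z
    rw [hψ, MulAut.conj_apply] at h1
    rw [MulAut.conj_apply]
    have e : φ z = g1 * (g1⁻¹ * φ z * g1) * g1⁻¹ := by group
    rw [e, h1]; group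

end Cfsg.Agent.Lib.helper33.J1M
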