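/-
Stem extensions with kernel of order 2 for groups with a Sylow 2-subgroup `E : D8`, where `E` is
elementary abelian and the dihedral group normalises an element of order 3 acting fixed point
freely on `E`.  Also a criterion for involutions to lift to involutions.  (owner: helper33)
-/
import Mathlib
import Cfsg.Agent.Lib.helper33.SchurU4
import Cfsg.Agent.Lib.helper33.SchurThree

set_option autoImplicit false

namespace Cfsg.Agent.Lib.helper33

open scoped commutatorElement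

section caseB

variable {Γ G : Type*} [Group Γ] [Group G] {σ : Γ →* G}

theorem mul_sq_of_commute {X : Type*} [Group X] {a b : X} (ha : a * a = 1) (hb : b * b = 1)
    (hab : a * b = b * a) : (a * b) * (a * b) = 1 := by
  calc a * b * (a * b) = a * (b * a) * b := by group
    _ = a * (a * b) * b := by rw [hab]
    _ = (a * a) * (b * b) := by group
    _ = 1 := by rw [ha, hb, mul_one]

/-- If all involutions of `G` are conjugate to `r` and `G` contains an elementary abelian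
subgroup of order 8, then in a stem extension with kernel of order 2 all involutions lift to
involutions. -/
theorem caseB_of_conj [Finite Γ] (hσ : PStem σ 2) (r a b c : G)
    (hconj : ∀ g : G, g * g = 1 → g ≠ 1 → ∃ x : G, g = x * r * x⁻¹)
    (ha : a * a = 1) (hb : b * b = 1) (hc : c * c = 1)
    (hab : a * b = b * a) (hac : a * c = c * a) (hbc : b * c = c * b)
    (n1 : a ≠ 1) (n2 : b ≠ 1) (n3 : c ≠ 1) (n12 : a * b ≠ 1) (n13 : a * c ≠ 1)
    (n23 : b * c ≠ 1) (n123 : a * b * c ≠ 1) : CaseB σ := by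
  have s12 := mul_sq_of_commute ha hb hab
  have s13 := mul_sq_of_commute ha hc hac
  have s23 := mul_sq_of_commute hb hc hbc
  have c12_3 : (a * b) * c = c * (a * b) := by
    rw [mul_assoc, hbc, ← mul_assoc, hac, mul_assoc]
  have s123 := mul_sq_of_commute s12 hc c12_3
  have hA : Plus σ r := by
    rcases plus_or_minus hσ r with h | h
    · exact h
    · exfalso
      have hminus : ∀ g : G, g * g = 1 → g ≠ 1 → ∀ x : Γ, σ x = g → x * x ≠ 1 := by
        intro g hg2 hg1 x hx hxx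
        obtain ⟨y, hy⟩ := hconj g hg2 hg1
        have hPg : Plus σ g := plus_of_lift hσ hx hxx
        have hPA : Plus σ (y⁻¹ * g * y⁻¹⁻¹) := hPg.conj hσ.surj y⁻¹
        have e : y⁻¹ * g * y⁻¹⁻¹ = r := by rw [hy]; group
        rw [e] at hPA
        obtain ⟨x0, hx0⟩ := hσ.surj r
        exact h x0 hx0 (hPA x0 hx0)
      obtain ⟨R, hR⟩ := hσ.surj a
      obtain ⟨S, hS⟩ := hσ.surj b
      obtain ⟨T, hT⟩ := hσ.surj c
      have h7 := seven_lifts hσ R S T (by rw [hR]; exact ha) (by rw [hS]; exact hb)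
        (by rw [hT]; exact hc) (by rw [hR, hS]; exact hab) (by rw [hR, hT]; exact hac)
        (by rw [hS, hT]; exact hbc)
      have m1 := hminus a ha n1 R hR
      have m2 := hminus b hb n2 S hS
      have m3 := hminus c hc n3 T hT
      have m12 := hminus (a * b) s12 n12 (R * S) (by rw [map_mul, hR, hS])
      have m13 := hminus (a * c) s13 n13 (R * T) (by rw [map_mul, hR, hT])
      have m23 := hminus (b * c) s23 n23 (S * T) (by rw [map_mul, hS, hT])
      have m123 := hminus (a * b * c) s123 n123 (R * S * T)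
        (by rw [map_mul, map_mul, hR, hS, hT])
      have k : ∀ x : Γ, σ x * σ x = 1 → x * x ∈ σ.ker := fun x hx => by
        rw [MonoidHom.mem_ker, map_mul]; exact hx
      have k1 := k R (by rw [hR]; exact ha)
      have e2 := hσ.eq_of_ne_one (k S (by rw [hS]; exact hb)) k1 m2 m1
      have e3 := hσ.eq_of_ne_one (k T (by rw [hT]; exact hc)) k1 m3 m1
      have e12 := hσ.eq_of_ne_one (k (R * S) (by rw [map_mul, hR, hS]; exact s12)) k1 m12 m1
      have e13 := hσ.eq_of_ne_one (k (R * T) (by rw [map_mul, hR, hT]; exact s13)) k1 m13 m1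
      have e23 := hσ.eq_of_ne_one (k (S * T) (by rw [map_mul, hS, hT]; exact s23)) k1 m23 m1
      have e123 := hσ.eq_of_ne_one
        (k (R * S * T) (by rw [map_mul, map_mul, hR, hS, hT]; exact s123)) k1 m123 m1
      rw [e2, e3, e12, e13, e23, e123] at h7
      have hz := hσ.sq_eq_one k1
      rw [hz, one_mul, hz, one_mul, hz, one_mul] at h7
      exact m1 h7
  intro x hx
  by_cases hg1 : σ x = 1
  · exact hσ.sq_eq_one (by rw [MonoidHom.mem_ker, hg1])
  · obtain ⟨y, hy⟩ := hconj (σ x) hx hg1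
    exact (hA.conj hσ.surj y) x hy

/-- Lifts of order 3 are unique (kernel of order 2). -/
theorem eq_of_cube_eq_one [Finite Γ] (hσ : PStem σ 2) {x y : Γ} (hx : x ^ 3 = 1) (hy : y ^ 3 = 1)
    (hxy : σ x = σ y) : x = y := by
  have hk : x⁻¹ * y ∈ σ.ker := by
    rw [MonoidHom.mem_ker, map_mul, map_inv, hxy, inv_mul_cancel]
  have hc : Commute x (x⁻¹ * y) := Subgroup.mem_center_iff.1 (hσ.central hk) x
  have h1 : y = x * (x⁻¹ * y) := by group
  have h2 : (x⁻¹ * y) ^ 3 = 1 := by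
    have := hc.mul_pow 3
    rw [← h1, hy, hx, one_mul] at this
    exact this.symm
  have h3 : (x⁻¹ * y) ^ 2 = 1 := by rw [pow_two]; exact hσ.sq_eq_one hk
  have h4 : x⁻¹ * y = 1 := eq_one_of_pow_two_three h3 h2
  rw [h1, h4, mul_one]

end caseB

section d8

variable {Γ G : Type*} [Group Γ] [Group G] {σ : Γ →* G}

/-- The map `x ↦ x * (c x c⁻¹)`. -/
def psiMap {X : Type*} [Group X] (c x : X) : X := x * (c * x * c⁻¹)

/-- Relations in a group `E : D8` with `E = ⟨l⟩` elementary abelian, `⟨s, t⟩` dihedral of order 8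
normalising `⟨c⟩` where `c` has order 3 and acts fixed point freely on `E`. -/
structure D8Rel {X : Type*} [Group X] (s t c : X) (l : List X) : Prop where
  s2 : s * s = 1
  t2 : t * t = 1
  d2 : ⁅s, t⁆ * ⁅s, t⁆ = 1
  sd : s * ⁅s, t⁆ = ⁅s, t⁆ * s
  td : t * ⁅s, t⁆ = ⁅s, t⁆ * t
  c3 : c ^ 3 = 1
  sc : s * c * s⁻¹ = c ∨ s * c * s⁻¹ = c⁻¹
  tc : t * c * t⁻¹ = c ∨ t * c * t⁻¹ = c⁻¹
  e2 : ∀ x ∈ l, x * x = 1
  ec : ∀ x ∈ l, ∀ y ∈ l, x * y = y * x
  ns : ∀ x ∈ l, s * x * s⁻¹ ∈ Subgroup.closure {x | x ∈ l}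
  nt : ∀ x ∈ l, t * x * t⁻¹ ∈ Subgroup.closure {x | x ∈ l}
  nc : ∀ x ∈ l, c * x * c⁻¹ ∈ Subgroup.closure {x | x ∈ l}
  fp : ∀ x ∈ l, x ∈ Subgroup.closure {y | ∃ e ∈ l, y = e * (c * e * c⁻¹)}

theorem pstem_false_of_D8 [Finite Γ] [Finite G] (hσ : PStem σ 2) (hB : CaseB σ)
    {s t c : G} {l : List G} (h : D8Rel s t c l)
    (hcard : 2 ^ (l.length + 3) ≤ Nat.card (Subgroup.closure {x | x ∈ s :: t :: l}))
    (m : ℕ) (hm : Nat.Coprime m 2) (hG : Nat.card G = 2 ^ (l.length + 3) * m) : False := by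
  classical
  -- `E` is elementary abelian
  have hEc : ∀ x ∈ Subgroup.closure {x | x ∈ l}, ∀ y ∈ Subgroup.closure {x | x ∈ l},
      x * y = y * x := comm_of_mem_closure h.ec
  have hE2 : ∀ x ∈ Subgroup.closure {x | x ∈ l}, x * x = 1 := by
    intro x hx
    induction hx using Subgroup.closure_induction with
    | mem x hx => exact h.e2 x hx
    | one => simp
    | mul a b ha hb iha ihb => exact mul_sq_of_commute iha ihb (hEc a ha b hb)
    | inv a ha iha => rw [inv_eq_self_of_sq iha]; exact iha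
  have hsE : ∀ x ∈ Subgroup.closure {x | x ∈ l}, s * x * s⁻¹ ∈ Subgroup.closure {x | x ∈ l} :=
    conj_mem_closure le_rfl s h.ns
  have htE : ∀ x ∈ Subgroup.closure {x | x ∈ l}, t * x * t⁻¹ ∈ Subgroup.closure {x | x ∈ l} :=
    conj_mem_closure le_rfl t h.nt
  have hcE : ∀ x ∈ Subgroup.closure {x | x ∈ l}, c * x * c⁻¹ ∈ Subgroup.closure {x | x ∈ l} :=
    conj_mem_closure le_rfl c h.nc
  -- lifts
  obtain ⟨S, hS⟩ := hσ.surj s
  obtain ⟨T, hT⟩ := hσ.surj t
  obtain ⟨C0, hC0⟩ := hσ.surj c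
  have hC : σ (C0 ^ 4) = c := by
    rw [map_pow, hC0, pow_succ, h.c3, one_mul]
  have hC3 : (C0 ^ 4) ^ 3 = 1 := by
    have hk : C0 ^ 3 ∈ σ.ker := by rw [MonoidHom.mem_ker, map_pow, hC0, h.c3]
    have := hσ.sq_eq_one hk
    rw [← pow_mul]
    calc C0 ^ (4 * 3) = (C0 ^ 3 * C0 ^ 3) * (C0 ^ 3 * C0 ^ 3) := by group
      _ = 1 := by rw [this, one_mul]
  generalize C0 ^ 4 = C at hC hC3
  have hCinv : C⁻¹ = C * C := by
    rw [inv_eq_iff_mul_eq_one, ← mul_assoc, ← pow_two, ← pow_succ]; exact hC3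
  have hA2 : ∀ x ∈ (Subgroup.closure {x | x ∈ l}).comap σ, x * x = 1 :=
    fun x hx => hB x (hE2 _ hx)
  have hAc : ∀ x ∈ (Subgroup.closure {x | x ∈ l}).comap σ,
      ∀ y ∈ (Subgroup.closure {x | x ∈ l}).comap σ, x * y = y * x := fun x hx y hy =>
    lift_comm hB x y (hE2 _ hx) (hE2 _ hy) (hEc _ hx _ hy)
  have hker : σ.ker ≤ (Subgroup.closure {x | x ∈ l}).comap σ := fun k hk => by
    rw [Subgroup.mem_comap, MonoidHom.mem_ker.1 hk]; exact one_mem _
  have hSA : ∀ x ∈ (Subgroup.closure {x | x ∈ l}).comap σ,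
      S * x * S⁻¹ ∈ (Subgroup.closure {x | x ∈ l}).comap σ := fun x hx => by
    rw [Subgroup.mem_comap, map_mul, map_mul, map_inv, hS]; exact hsE _ hx
  have hTA : ∀ x ∈ (Subgroup.closure {x | x ∈ l}).comap σ,
      T * x * T⁻¹ ∈ (Subgroup.closure {x | x ∈ l}).comap σ := fun x hx => by
    rw [Subgroup.mem_comap, map_mul, map_mul, map_inv, hT]; exact htE _ hx
  have hCA : ∀ x ∈ (Subgroup.closure {x | x ∈ l}).comap σ,
      C * x * C⁻¹ ∈ (Subgroup.closure {x | x ∈ l}).comap σ := fun x hx => by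
    rw [Subgroup.mem_comap, map_mul, map_mul, map_inv, hC]; exact hcE _ hx
  have hCA' : ∀ x ∈ (Subgroup.closure {x | x ∈ l}).comap σ,
      C⁻¹ * x * C⁻¹⁻¹ ∈ (Subgroup.closure {x | x ∈ l}).comap σ := by
    intro x hx
    have key : ∀ y : Γ, y = C * C → y * x * y⁻¹ = C * (C * x * C⁻¹) * C⁻¹ := by
      intro y hy; subst hy; group
    rw [key C⁻¹ hCinv]; exact hCA _ (hCA _ hx)
  have hAdef : ∀ x : Γ, x ∈ (Subgroup.closure {x | x ∈ l}).comap σ ↔
      σ x ∈ Subgroup.closure {x | x ∈ l} := fun x => Subgroup.mem_comap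
  generalize (Subgroup.closure {x | x ∈ l}).comap σ = A at hA2 hAc hker hSA hTA hCA hCA' hAdef
  -- the map `psi`
  have hψA : ∀ x ∈ A, psiMap C x ∈ A := fun x hx => A.mul_mem hx (hCA x hx)
  have hψmul : ∀ x ∈ A, ∀ y ∈ A, psiMap C (x * y) = psiMap C x * psiMap C y := by
    intro x hx y hy
    have h1 := hAc (C * x * C⁻¹) (hCA x hx) y hy
    unfold psiMap
    calc x * y * (C * (x * y) * C⁻¹) = x * (y * (C * x * C⁻¹)) * (C * y * C⁻¹) := by group
      _ = x * ((C * x * C⁻¹) * y) * (C * y * C⁻¹) := by rw [h1]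
      _ = x * (C * x * C⁻¹) * (y * (C * y * C⁻¹)) := by group
  have hψker : ∀ k ∈ σ.ker, psiMap C k = 1 := by
    intro k hk
    have hc : C * k = k * C := Subgroup.mem_center_iff.1 (hσ.central hk) C
    unfold psiMap
    rw [hc, mul_inv_cancel_right]; exact hσ.sq_eq_one hk
  have hψone : psiMap C (1 : Γ) = 1 := by unfold psiMap; group
  -- the image subgroup
  let E1 : Subgroup Γ :=
    { carrier := {y | ∃ x ∈ A, y = psiMap C x}
      mul_mem' := by
        rintro _ _ ⟨x, hx, rfl⟩ ⟨y, hy, rfl⟩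
        exact ⟨x * y, A.mul_mem hx hy, (hψmul x hx y hy).symm⟩
      one_mem' := ⟨1, A.one_mem, hψone.symm⟩
      inv_mem' := by
        rintro _ ⟨x, hx, rfl⟩
        exact ⟨x, hx, inv_eq_self_of_sq (hA2 _ (hψA x hx))⟩ }
  have hE1 : ∀ y, y ∈ E1 ↔ ∃ x ∈ A, y = psiMap C x := fun y => Iff.rfl
  -- conjugates of `C`
  have conjC : ∀ (Y : Γ) (y : G), σ Y = y → (y * c * y⁻¹ = c ∨ y * c * y⁻¹ = c⁻¹) →
      (Y * C * Y⁻¹ = C ∨ Y * C * Y⁻¹ = C⁻¹) := by
    intro Y y hY hy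
    have h3 : (Y * C * Y⁻¹) ^ 3 = 1 := by rw [conj_pow, hC3]; group
    rcases hy with hy | hy
    · left
      exact eq_of_cube_eq_one hσ h3 hC3 (by rw [map_mul, map_mul, map_inv, hY, hC, hy])
    · right
      exact eq_of_cube_eq_one hσ h3 (by rw [inv_pow, hC3, inv_one])
        (by rw [map_mul, map_mul, map_inv, map_inv, hY, hC, hy])
  have nrmE1 : ∀ (Y : Γ), (∀ x ∈ A, Y * x * Y⁻¹ ∈ A) →
      (Y * C * Y⁻¹ = C ∨ Y * C * Y⁻¹ = C⁻¹) → ∀ n ∈ E1, Y * n * Y⁻¹ ∈ E1 := by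
    intro Y hYA hYC n hn
    obtain ⟨x, hx, rfl⟩ := (hE1 n).1 hn
    have e : Y * psiMap C x * Y⁻¹ =
        (Y * x * Y⁻¹) * ((Y * C * Y⁻¹) * (Y * x * Y⁻¹) * (Y * C * Y⁻¹)⁻¹) := by
      unfold psiMap; group
    rcases hYC with hYC | hYC
    · rw [e, hYC]; exact (hE1 _).2 ⟨Y * x * Y⁻¹, hYA x hx, rfl⟩
    · rw [e, hYC]
      refine (hE1 _).2 ⟨C⁻¹ * (Y * x * Y⁻¹) * C⁻¹⁻¹, hCA' _ (hYA x hx), ?_⟩
      have hcomm := hAc (Y * x * Y⁻¹) (hYA x hx) (C⁻¹ * (Y * x * Y⁻¹) * C⁻¹⁻¹)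
        (hCA' _ (hYA x hx))
      unfold psiMap
      calc Y * x * Y⁻¹ * (C⁻¹ * (Y * x * Y⁻¹) * C⁻¹⁻¹)
          = C⁻¹ * (Y * x * Y⁻¹) * C⁻¹⁻¹ * (Y * x * Y⁻¹) := hcomm
        _ = C⁻¹ * (Y * x * Y⁻¹) * C⁻¹⁻¹ * (C * (C⁻¹ * (Y * x * Y⁻¹) * C⁻¹⁻¹) * C⁻¹) := by group
  -- the lifts of the dihedral group
  have hS2 : S * S = 1 := hB S (by rw [hS]; exact h.s2)
  have hT2 : T * T = 1 := hB T (by rw [hT]; exact h.t2)
  have hσU : σ ⁅S, T⁆ = ⁅s, t⁆ := by rw [map_commutatorElement, hS, hT]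
  have hU2 : ⁅S, T⁆ * ⁅S, T⁆ = 1 := hB _ (by rw [hσU]; exact h.d2)
  have hSU : S * ⁅S, T⁆ = ⁅S, T⁆ * S :=
    lift_comm hB S ⁅S, T⁆ (by rw [hS]; exact h.s2) (by rw [hσU]; exact h.d2)
      (by rw [hS, hσU]; exact h.sd)
  have hTU : T * ⁅S, T⁆ = ⁅S, T⁆ * T :=
    lift_comm hB T ⁅S, T⁆ (by rw [hT]; exact h.t2) (by rw [hσU]; exact h.d2)
      (by rw [hT, hσU]; exact h.td)
  have nS := nrmE1 S hSA (conjC S s hS h.sc)
  have nT := nrmE1 T hTA (conjC T t hT h.tc)
  have nU : ∀ n ∈ E1, ⁅S, T⁆ * n * ⁅S, T⁆⁻¹ ∈ E1 := nrm_commutator hS2 hT2 nS nT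
  have hpc : PCList 2 E1 [S, T, ⁅S, T⁆] := by
    refine ⟨?_, ?_, ?_, ?_, ?_, ?_, ?_, ?_, ?_, trivial⟩
    · rw [pow_two, hS2]; exact one_mem _
    · intro n hn; exact Subgroup.mem_sup_left (nS n hn)
    · intro x hx
      simp only [List.mem_cons, List.not_mem_nil, or_false] at hx
      rcases hx with rfl | rfl
      · rw [conj_eq_commutator_mul]
        exact mul_mem (mem_sup_closure_of_mem _ (by simp)) (mem_sup_closure_of_mem _ (by simp))
      · rw [conj_eq_of_comm hSU]; exact mem_sup_closure_of_mem _ (by simp)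
    · rw [pow_two, hT2]; exact one_mem _
    · intro n hn; exact Subgroup.mem_sup_left (nT n hn)
    · intro x hx
      simp only [List.mem_cons, List.not_mem_nil, or_false] at hx
      subst hx
      rw [conj_eq_of_comm hTU]; exact mem_sup_closure_of_mem _ (by simp)
    · rw [pow_two, hU2]; exact one_mem _
    · intro n hn; exact Subgroup.mem_sup_left (nU n hn)
    · intro x hx
      simp at hx
  have hK := card_pcList_le 2 (by norm_num) E1 _ hpc
  -- lifts of the generators of `E`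
  have hlift : ∀ g, σ (Function.surjInv hσ.surj g) = g := Function.surjInv_eq hσ.surj
  generalize Function.surjInv hσ.surj = lift at hlift
  have hliftA : ∀ e ∈ l, lift e ∈ A := fun e he => by
    rw [hAdef, hlift]; exact Subgroup.subset_closure he
  have hl1A : ∀ y ∈ l.map (fun e => psiMap C (lift e)), y ∈ A := by
    intro y hy
    obtain ⟨e, he, rfl⟩ := List.mem_map.1 hy
    exact hψA _ (hliftA e he)
  have hE1le : E1 ≤ Subgroup.closure {y | y ∈ l.map (fun e => psiMap C (lift e))} := by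
    intro y hy
    obtain ⟨x, hx, rfl⟩ := (hE1 y).1 hy
    have key1 : ∀ g ∈ Subgroup.closure {x | x ∈ l}, ∃ Y : Γ, Y ∈ A ∧ σ Y = g ∧
        psiMap C Y ∈ Subgroup.closure {y | y ∈ l.map (fun e => psiMap C (lift e))} := by
      intro g hg
      induction hg using Subgroup.closure_induction with
      | mem g hg =>
        exact ⟨lift g, hliftA g hg, hlift g,
          Subgroup.subset_closure (List.mem_map.2 ⟨g, hg, rfl⟩)⟩
      | one => exact ⟨1, A.one_mem, map_one σ, by rw [hψone]; exact one_mem _⟩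
      | mul a b _ _ iha ihb =>
        obtain ⟨Ya, hYa, ha, ha'⟩ := iha
        obtain ⟨Yb, hYb, hb, hb'⟩ := ihb
        refine ⟨Ya * Yb, A.mul_mem hYa hYb, by rw [map_mul, ha, hb], ?_⟩
        rw [hψmul Ya hYa Yb hYb]; exact mul_mem ha' hb'
      | inv a _ iha =>
        obtain ⟨Ya, hYa, ha, ha'⟩ := iha
        refine ⟨Ya⁻¹, A.inv_mem hYa, by rw [map_inv, ha], ?_⟩
        rw [inv_eq_self_of_sq (hA2 Ya hYa)]; exact ha'
    obtain ⟨Y, hYA, hY, hY'⟩ := key1 (σ x) ((hAdef x).1 hx)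
    have hk : Y⁻¹ * x ∈ σ.ker := by
      rw [MonoidHom.mem_ker, map_mul, map_inv, hY, inv_mul_cancel]
    have e : psiMap C x = psiMap C (Y * (Y⁻¹ * x)) := by rw [mul_inv_cancel_left]
    rw [e, hψmul Y hYA _ (hker hk), hψker _ hk, mul_one]
    exact hY'
  have hcardE1 : Nat.card E1 ≤ 2 ^ l.length := by
    have h1 := card_closure_comm_le 2 (by norm_num) (l.map (fun e => psiMap C (lift e)))
      (fun x hx => by rw [pow_two]; exact hA2 x (hl1A x hx))
      (fun x hx y hy => hAc x (hl1A x hx) y (hl1A y hy))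
    rw [List.length_map] at h1
    exact (Subgroup.card_le_of_le hE1le).trans h1
  have hKcard : Nat.card ↥(E1 ⊔ Subgroup.closure {x | x ∈ [S, T, ⁅S, T⁆]}) ≤
      2 ^ (l.length + 3) := by
    refine hK.trans ?_
    have h3 : [S, T, ⁅S, T⁆].length = 3 := rfl
    rw [h3, pow_add, mul_comm]
    exact Nat.mul_le_mul_right _ hcardE1
  refine pstem_false_of_bound Nat.prime_two hσ (Subgroup.closure {x | x ∈ s :: t :: l})
    (E1 ⊔ Subgroup.closure {x | x ∈ [S, T, ⁅S, T⁆]}) ?_ (2 ^ (l.length + 3)) m hKcard hcard hG hm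
  rw [Subgroup.closure_le]
  intro x hx
  change x ∈ s :: t :: l at hx
  rw [List.mem_cons, List.mem_cons] at hx
  rcases hx with rfl | rfl | hx
  · exact ⟨S, mem_sup_closure_of_mem _ (by simp), hS⟩
  · exact ⟨T, mem_sup_closure_of_mem _ (by simp), hT⟩
  · have h1 := h.fp x hx
    have h2 : Subgroup.closure {y | ∃ e ∈ l, y = e * (c * e * c⁻¹)} ≤
        (E1 ⊔ Subgroup.closure {x | x ∈ [S, T, ⁅S, T⁆]}).map σ := by
      rw [Subgroup.closure_le]
      rintro _ ⟨e, he, rfl⟩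
      refine ⟨psiMap C (lift e), Subgroup.mem_sup_left ((hE1 _).2 ⟨lift e, hliftA e he, rfl⟩), ?_⟩
      unfold psiMap
      rw [map_mul, map_mul, map_mul, map_inv, hlift, hC]
    exact h2 h1

end d8

end Cfsg.Agent.Lib.helper33
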