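/-
Stem extensions with kernel of order 2 for groups whose Sylow 2-subgroup is elementary abelian of
order 8 with an element of order 7 permuting its involutions transitively (as in the Janko group
`J1`).  (owner: helper33)
-/
import Mathlib
import Cfsg.Agent.Lib.helper33.SchurD8

set_option autoImplicit false

namespace Cfsg.Agent.Lib.helper33

open scoped commutatorElement

section singer

variable {G : Type*} [Group G]

/-- The seven involutions of an elementary abelian group of order 8 on which `s` acts as a Singer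
cycle are conjugates of the first one. -/
theorem conj_of_singer (s a b c : G) (hb : b * b = 1)
    (hab : a * b = b * a) (hac : a * c = c * a) (hbc : b * c = c * b)
    (h1 : s * a * s⁻¹ = b) (h2 : s * b * s⁻¹ = c) (h3 : s * c * s⁻¹ = a * b) :
    (∃ u : G, b = u * a * u⁻¹) ∧ (∃ u : G, c = u * a * u⁻¹) ∧ (∃ u : G, a * b = u * a * u⁻¹) ∧
    (∃ u : G, a * c = u * a * u⁻¹) ∧ (∃ u : G, b * c = u * a * u⁻¹) ∧
    (∃ u : G, a * b * c = u * a * u⁻¹) := by
  have step : ∀ g g' : G, s * g' * s⁻¹ = g → (∃ u : G, g' = u * a * u⁻¹) →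
      ∃ u : G, g = u * a * u⁻¹ := by
    rintro g g' rfl ⟨u, rfl⟩
    exact ⟨s * u, by group⟩
  have cb : ∃ u : G, b = u * a * u⁻¹ := ⟨s, h1.symm⟩
  have cc : ∃ u : G, c = u * a * u⁻¹ := step c b h2 cb
  have cab : ∃ u : G, a * b = u * a * u⁻¹ := step (a * b) c h3 cc
  have e4 : s * (a * b) * s⁻¹ = b * c := by
    have : s * (a * b) * s⁻¹ = (s * a * s⁻¹) * (s * b * s⁻¹) := by group
    rw [this, h1, h2]
  have cbc : ∃ u : G, b * c = u * a * u⁻¹ := step (b * c) (a * b) e4 cab
  have e5 : s * (b * c) * s⁻¹ = a * b * c := by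
    have : s * (b * c) * s⁻¹ = (s * b * s⁻¹) * (s * c * s⁻¹) := by group
    rw [this, h2, h3]
    calc c * (a * b) = (c * a) * b := by group
      _ = (a * c) * b := by rw [hac]
      _ = a * (c * b) := by group
      _ = a * (b * c) := by rw [hbc]
      _ = a * b * c := by group
  have cabc : ∃ u : G, a * b * c = u * a * u⁻¹ := step (a * b * c) (b * c) e5 cbc
  have e6 : s * (a * b * c) * s⁻¹ = a * c := by
    have : s * (a * b * c) * s⁻¹ = (s * a * s⁻¹) * (s * b * s⁻¹) * (s * c * s⁻¹) := by group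
    rw [this, h1, h2, h3]
    calc b * c * (a * b) = b * (c * a) * b := by group
      _ = b * (a * c) * b := by rw [hac]
      _ = (b * a) * (c * b) := by group
      _ = (a * b) * (b * c) := by rw [hab, hbc]
      _ = a * (b * b) * c := by group
      _ = a * c := by rw [hb, mul_one]
  have cac : ∃ u : G, a * c = u * a * u⁻¹ := step (a * c) (a * b * c) e6 cabc
  exact ⟨cb, cc, cab, cac, cbc, cabc⟩

end singer

section lift

variable {Γ G : Type*} [Group Γ] [Group G] {σ : Γ →* G}

/-- If the seven involutions of an elementary abelian subgroup of order 8 are conjugates of `a`,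
then the lifts of `a` in a stem extension with kernel of order 2 are involutions. -/
theorem plus_of_seven [Finite Γ] (hσ : PStem σ 2) (a b c : G)
    (ha : a * a = 1) (hb : b * b = 1) (hc : c * c = 1)
    (hab : a * b = b * a) (hac : a * c = c * a) (hbc : b * c = c * b)
    (cb : ∃ u : G, b = u * a * u⁻¹) (cc : ∃ u : G, c = u * a * u⁻¹)
    (cab : ∃ u : G, a * b = u * a * u⁻¹) (cac : ∃ u : G, a * c = u * a * u⁻¹)
    (cbc : ∃ u : G, b * c = u * a * u⁻¹) (cabc : ∃ u : G, a * b * c = u * a * u⁻¹) :
    Plus σ a := by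
  have s12 := mul_sq_of_commute ha hb hab
  have s13 := mul_sq_of_commute ha hc hac
  have s23 := mul_sq_of_commute hb hc hbc
  have c12_3 : (a * b) * c = c * (a * b) := by
    rw [mul_assoc, hbc, ← mul_assoc, hac, mul_assoc]
  have s123 := mul_sq_of_commute s12 hc c12_3
  rcases plus_or_minus hσ a with h | h
  · exact h
  · exfalso
    have hminus : ∀ g : G, (∃ u : G, g = u * a * u⁻¹) → ∀ x : Γ, σ x = g → x * x ≠ 1 := by
      rintro g ⟨y, hy⟩ x hx hxx
      have hPg : Plus σ g := plus_of_lift hσ hx hxx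
      have hPA : Plus σ (y⁻¹ * g * y⁻¹⁻¹) := hPg.conj hσ.surj y⁻¹
      have e : y⁻¹ * g * y⁻¹⁻¹ = a := by rw [hy]; group
      rw [e] at hPA
      obtain ⟨x0, hx0⟩ := hσ.surj a
      exact h x0 hx0 (hPA x0 hx0)
    obtain ⟨R, hR⟩ := hσ.surj a
    obtain ⟨S, hS⟩ := hσ.surj b
    obtain ⟨T, hT⟩ := hσ.surj c
    have h7 := seven_lifts hσ R S T (by rw [hR]; exact ha) (by rw [hS]; exact hb)
      (by rw [hT]; exact hc) (by rw [hR, hS]; exact hab) (by rw [hR, hT]; exact hac)
      (by rw [hS, hT]; exact hbc)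
    have m1 := h R hR
    have m2 := hminus b cb S hS
    have m3 := hminus c cc T hT
    have m12 := hminus (a * b) cab (R * S) (by rw [map_mul, hR, hS])
    have m13 := hminus (a * c) cac (R * T) (by rw [map_mul, hR, hT])
    have m23 := hminus (b * c) cbc (S * T) (by rw [map_mul, hS, hT])
    have m123 := hminus (a * b * c) cabc (R * S * T) (by rw [map_mul, map_mul, hR, hS, hT])
    have k : ∀ x : Γ, σ x * σ x = 1 → x * x ∈ σ.ker := fun x hx => by
      rw [MonoidHom.mem_ker, map_mul]; exact hx
    have k1 := k R (by rw [hR]; exact ha)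
    have e2 := hσ.eq_of_ne_one (k S (by rw [hS]; exact hb)) k1 m2 m1
    have e3 := hσ.eq_of_ne_one (k T (by rw [hT]; exact hc)) k1 m3 m1
    have e12 := hσ.eq_of_ne_one (k (R * S) (by rw [map_mul, hR, hS]; exact s12)) k1 m12 m1
    have e13 := hσ.eq_of_ne_one (k (R * T) (by rw [map_mul, hR, hT]; exact s13)) k1 m13 m1
    have e23 := hσ.eq_of_ne_one (k (S * T) (by rw [map_mul, hS, hT]; exact s23)) k1 m23 m1
    have e123 := hσ.eq_of_ne_one
      (k (R * S * T) (by rw [map_mul, map_mul, hR, hS, hT]; exact s123)) k1 m123 m1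
    rw [e2, e3, e12, e13, e23, e123] at h7
    have hz := hσ.sq_eq_one k1
    rw [hz, one_mul, hz, one_mul, hz, one_mul] at h7
    exact m1 h7

/-- A group whose Sylow 2-subgroup is elementary abelian of order 8, with an element acting on it
as a Singer cycle, has no stem extension with kernel of order 2. -/
theorem pstem_false_of_E8 [Finite Γ] [Finite G] (hσ : PStem σ 2) (s a b c : G)
    (ha : a * a = 1) (hb : b * b = 1) (hc : c * c = 1)
    (hab : a * b = b * a) (hac : a * c = c * a) (hbc : b * c = c * b)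
    (h1 : s * a * s⁻¹ = b) (h2 : s * b * s⁻¹ = c) (h3 : s * c * s⁻¹ = a * b)
    (hidx : Nat.Coprime (Subgroup.closure ({a, b, c} : Set G)).index 2) : False := by
  obtain ⟨cb, cc, cab, cac, cbc, cabc⟩ := conj_of_singer s a b c hb hab hac hbc h1 h2 h3
  have hA : Plus σ a := plus_of_seven hσ a b c ha hb hc hab hac hbc cb cc cab cac cbc cabc
  have hP : ∀ g : G, (∃ u : G, g = u * a * u⁻¹) → Plus σ g := by
    rintro g ⟨u, rfl⟩
    exact hA.conj hσ.surj u
  obtain ⟨R, hR⟩ := hσ.surj a
  obtain ⟨S, hS⟩ := hσ.surj b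
  obtain ⟨T, hT⟩ := hσ.surj c
  have RR : R * R = 1 := hA R hR
  have SS : S * S = 1 := hP b cb S hS
  have TT : T * T = 1 := hP c cc T hT
  have RS : R * S = S * R := comm_of_sq RR SS (hP (a * b) cab (R * S) (by rw [map_mul, hR, hS]))
  have RT : R * T = T * R := comm_of_sq RR TT (hP (a * c) cac (R * T) (by rw [map_mul, hR, hT]))
  have ST : S * T = T * S := comm_of_sq SS TT (hP (b * c) cbc (S * T) (by rw [map_mul, hS, hT]))
  have hK : Subgroup.closure ({a, b, c} : Set G) ≤ (Subgroup.closure ({R, S, T} : Set Γ)).map σ := by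
    rw [MonoidHom.map_closure, Set.image_insert_eq, Set.image_insert_eq, Set.image_singleton,
      hR, hS, hT]
  refine pstem_false_of_abelian Nat.prime_two hσ _ hidx _ hK (comm_of_mem_closure ?_)
  intro x hx y hy
  simp only [Set.mem_insert_iff, Set.mem_singleton_iff] at hx hy
  rcases hx with rfl | rfl | rfl <;> rcases hy with rfl | rfl | rfl <;>
    first | rfl | assumption | (symm; assumption)

end lift

end Cfsg.Agent.Lib.helper33
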