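/-
A criterion for simplicity of a finite group: for every prime `p` dividing the order there is a
Sylow `p`-subgroup `P` such that every normal subgroup meeting `P` non-trivially is the whole
group.  Also counting lemmas for lists of elements of a subgroup.  (owner: helper33)
-/
import Mathlib

set_option autoImplicit false

namespace Cfsg.Agent.Lib.helper33

section simple

variable {G : Type*} [Group G]

theorem isSimpleGroup_of_sylow [Finite G] (hnt : Nontrivial G)
    (h : ∀ p : ℕ, p.Prime → p ∣ Nat.card G → ∃ (P : Subgroup G) (k : ℕ), Nat.card P = p ^ k ∧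
      ¬ p ^ (k + 1) ∣ Nat.card G ∧
      ∀ N : Subgroup G, N.Normal → (∃ x ∈ N, x ∈ P ∧ x ≠ 1) → N = ⊤) :
    IsSimpleGroup G := by
  refine { exists_pair_ne := hnt.exists_pair_ne, eq_bot_or_eq_top_of_normal := ?_ }
  intro N hN
  by_cases hbot : N = ⊥
  · exact Or.inl hbot
  right
  obtain ⟨y, hy1⟩ := (Subgroup.ne_bot_iff_exists_ne_one.1 hbot)
  have hy1' : (y : G) ≠ 1 := fun h1 => hy1 (Subtype.ext h1)
  have ho : orderOf (y : G) ≠ 1 := fun h1 => hy1' (orderOf_eq_one_iff.1 h1)
  obtain ⟨p, hp, hpd⟩ := Nat.exists_prime_and_dvd ho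
  have := Fact.mk hp
  have hpG : p ∣ Nat.card G := hpd.trans (orderOf_dvd_natCard _)
  obtain ⟨P, k, hPk, hk, hP⟩ := h p hp hpG
  -- an element of order `p` in `N`
  set x : G := (y : G) ^ (orderOf (y : G) / p) with hx
  have hxo : orderOf x = p := orderOf_pow_orderOf_div (orderOf_pos _).ne' hpd
  have hxN : x ∈ N := N.pow_mem y.2 _
  have hx1 : x ≠ 1 := by
    intro h1
    rw [h1, orderOf_one] at hxo
    exact hp.one_lt.ne hxo
  -- `P` is a Sylow subgroup
  have hcard0 : Nat.card G ≠ 0 := Nat.card_pos.ne'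
  have hfac : (Nat.card G).factorization p = k := by
    have h1 : p ^ k ∣ Nat.card G := by
      rw [← hPk]; exact Subgroup.card_subgroup_dvd_card P
    have h2 := (hp.pow_dvd_iff_le_factorization hcard0).1 h1
    have h3 : ¬ k + 1 ≤ (Nat.card G).factorization p := fun h3 =>
      hk ((hp.pow_dvd_iff_le_factorization hcard0).2 h3)
    omega
  let PS : Sylow p G := Sylow.ofCard P (by rw [hPk, hfac])
  have hzp : IsPGroup p (Subgroup.zpowers x) := by
    apply IsPGroup.of_card (n := 1)
    rw [Nat.card_zpowers, hxo, pow_one]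
  obtain ⟨Q, hQ⟩ := hzp.exists_le_sylow
  obtain ⟨g, hg⟩ := MulAction.exists_smul_eq G PS Q
  have hxQ : x ∈ (Q : Subgroup G) := hQ (Subgroup.mem_zpowers x)
  rw [← hg, Sylow.coe_subgroup_smul, Subgroup.mem_pointwise_smul_iff_inv_smul_mem] at hxQ
  have hxP : g⁻¹ * x * g ∈ P := by
    have e : (MulAut.conj g)⁻¹ • x = g⁻¹ * x * g := by
      rw [← map_inv, MulAut.smul_def, MulAut.conj_apply, inv_inv]
    rw [← e]
    exact hxQ
  apply hP N hN
  refine ⟨g⁻¹ * x * g, ?_, hxP, ?_⟩
  · have := hN.conj_mem x hxN g⁻¹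
    rwa [inv_inv] at this
  · intro h1
    apply hx1
    have : x = g * (g⁻¹ * x * g) * g⁻¹ := by group
    rw [this, h1]; group

/-- In a cyclic subgroup of prime order, every non-trivial element generates. -/
theorem mem_of_mem_zpowers_prime {g x : G} {p : ℕ} (hp : p.Prime) (hg : orderOf g = p)
    (hx : x ∈ Subgroup.zpowers g) (hx1 : x ≠ 1) (N : Subgroup G) (hxN : x ∈ N) : g ∈ N := by
  have := Fact.mk hp
  have hcard : Nat.card (Subgroup.zpowers g) = p := by rw [Nat.card_zpowers, hg]
  have h1 : (⟨x, hx⟩ : Subgroup.zpowers g) ≠ 1 := fun h => hx1 (congrArg Subtype.val h)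
  have h2 := zpowers_eq_top_of_prime_card hcard h1
  have h3 : (⟨g, Subgroup.mem_zpowers g⟩ : Subgroup.zpowers g) ∈
      Subgroup.zpowers (⟨x, hx⟩ : Subgroup.zpowers g) := by
    rw [h2]; exact Subgroup.mem_top _
  obtain ⟨n, hn⟩ := Subgroup.mem_zpowers_iff.1 h3
  have h4 : x ^ n = g := by
    have := congrArg Subtype.val hn
    simpa using this
  rw [← h4]
  exact N.zpow_mem hxN n

theorem length_le_card_of_nodup [Finite G] (l : List G) (hl : l.Nodup) (H : Subgroup G)
    (h : ∀ x ∈ l, x ∈ H) : l.length ≤ Nat.card H := by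
  classical
  have h1 : (l.toFinset : Set G) ⊆ (H : Set G) := by
    intro x hx
    exact h x (by simpa using hx)
  have h2 := Set.ncard_le_ncard h1 (Set.toFinite _)
  rw [Set.ncard_coe_finset, List.toFinset_card_of_nodup hl] at h2
  exact h2

theorem mem_list_of_card_le [Finite G] (l : List G) (hl : l.Nodup) (H : Subgroup G)
    (h : ∀ x ∈ l, x ∈ H) (hc : Nat.card H ≤ l.length) : ∀ x ∈ H, x ∈ l := by
  classical
  have h1 : (l.toFinset : Set G) ⊆ (H : Set G) := by
    intro x hx
    exact h x (by simpa using hx)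
  have h2 : (H : Set G).ncard ≤ (l.toFinset : Set G).ncard := by
    rw [Set.ncard_coe_finset, List.toFinset_card_of_nodup hl]
    exact hc
  have h3 := Set.eq_of_subset_of_ncard_le h1 h2 (Set.toFinite _)
  intro x hx
  have : x ∈ (l.toFinset : Set G) := by rw [h3]; exact hx
  simpa using this

end simple

end Cfsg.Agent.Lib.helper33
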