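/-
Structure of the Janko group `J1`: order 175560, an elementary abelian Sylow 2-subgroup with an
element of order 7 acting as a Singer cycle, elements of orders 3, 11, 19, and simplicity.
Generated data with kernel-checked relations.  (owner: helper33)
-/
import Cfsg.Agent.Lib.helper33.J1Order
import Cfsg.Agent.Lib.helper33.SimpleSylow
import Cfsg.Agent.Lib.helper33.SchurE8

set_option autoImplicit false

namespace Cfsg.Agent.Lib.helper33.J1M

open Cfsg

theorem nodup_toMat (l : List ℕ) (h : (l.map normC).Nodup) : (l.map toMat).Nodup := by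
  induction l with
  | nil => simp
  | cons a l ih =>
    rw [List.map_cons, List.nodup_cons] at h ⊢
    refine ⟨?_, ih h.2⟩
    intro hmem
    rw [List.mem_map] at hmem
    obtain ⟨b, hb, hb2⟩ := hmem
    exact h.1 (List.mem_map.2 ⟨b, hb, normC_eq_of_toMat_eq hb2⟩)

/-- An involution `a`. -/
def aC : ℕ := 31780181683511616514456106636452277794053867170914717877045

theorem inJ_a : InJ aC := by
  have h : aC = wordC [1, 1, 1, 1, 0, 1, 0] := by decide +kernel
  rw [h]
  exact inJ_word _

/-- The involution `b = s a s⁻¹`. -/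
def bC : ℕ := 28333687671999760772251585201969014366186779263582328852885

theorem inJ_b : InJ bC := by
  have h : bC = wordC [0, 1, 1, 1, 1, 0, 0, 0, 1, 0, 0] := by decide +kernel
  rw [h]
  exact inJ_word _

/-- The involution `c = s b s⁻¹`. -/
def cC : ℕ := 34562396446324540869071108744363948506200446789269846067525

theorem inJ_c : InJ cC := by
  have h : cC = wordC [0, 0, 1, 1, 1, 1, 0, 0, 1] := by decide +kernel
  rw [h]
  exact inJ_word _

/-- An element `s` of order 7 normalising `⟨a, b, c⟩`. -/
def sC : ℕ := 95780971326418798851444127750698854467876715501719552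

theorem inJ_s : InJ sC := by
  have h : sC = wordC [0, 0, 0] := by decide +kernel
  rw [h]
  exact inJ_word _

/-- An element of order 3. -/
def g3C : ℕ := 8395929295083477375858479670904421868472579264008910161699

theorem inJ_g3 : InJ g3C := by
  have h : g3C = wordC [1, 0, 1, 0, 1, 0, 0, 0] := by decide +kernel
  rw [h]
  exact inJ_word _

/-- An element of order 11. -/
def g11C : ℕ := 51604490190670934254770617181985643351211543125608510431840

theorem inJ_g11 : InJ g11C := by
  have h : g11C = wordC [1, 1, 0] := by decide +kernel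
  rw [h]
  exact inJ_word _

/-- An element of order 19. -/
def g19C : ℕ := 9886243063295267931935481551822557038797479360689745332392

theorem inJ_g19 : InJ g19C := by
  have h : g19C = wordC [1, 0, 0, 0] := by decide +kernel
  rw [h]
  exact inJ_word _

theorem a_sq : elt aC inJ_a * elt aC inJ_a = 1 :=
  (elt_mul inJ_a inJ_a inJ_one (by decide +kernel)).trans (elt_one _)

theorem b_sq : elt bC inJ_b * elt bC inJ_b = 1 :=
  (elt_mul inJ_b inJ_b inJ_one (by decide +kernel)).trans (elt_one _)

theorem c_sq : elt cC inJ_c * elt cC inJ_c = 1 :=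
  (elt_mul inJ_c inJ_c inJ_one (by decide +kernel)).trans (elt_one _)

theorem ab_comm : elt aC inJ_a * elt bC inJ_b = elt bC inJ_b * elt aC inJ_a :=
  elt_mul_comm inJ_a inJ_b (by decide +kernel)

theorem ac_comm : elt aC inJ_a * elt cC inJ_c = elt cC inJ_c * elt aC inJ_a :=
  elt_mul_comm inJ_a inJ_c (by decide +kernel)

theorem bc_comm : elt bC inJ_b * elt cC inJ_c = elt cC inJ_c * elt bC inJ_b :=
  elt_mul_comm inJ_b inJ_c (by decide +kernel)

theorem conj_sa : elt sC inJ_s * elt aC inJ_a * (elt sC inJ_s)⁻¹ = elt bC inJ_b :=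
  elt_conj inJ_b inJ_s inJ_a (by decide +kernel)

theorem conj_sb : elt sC inJ_s * elt bC inJ_b * (elt sC inJ_s)⁻¹ = elt cC inJ_c :=
  elt_conj inJ_c inJ_s inJ_b (by decide +kernel)

theorem conj_sc : elt sC inJ_s * elt cC inJ_c * (elt sC inJ_s)⁻¹ = elt aC inJ_a * elt bC inJ_b := by
  rw [elt_mul inJ_a inJ_b (inJ_a.mul inJ_b) rfl]
  exact elt_conj (inJ_a.mul inJ_b) inJ_s inJ_c (by decide +kernel)

/-- The Sylow 2-subgroup `⟨a, b, c⟩`. -/
noncomputable def sylE : Subgroup ↥Spor.J1 :=
  Subgroup.closure {elt aC inJ_a, elt bC inJ_b, elt cC inJ_c}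

/-- The eight elements of `⟨a, b, c⟩`. -/
noncomputable def listE : List ↥Spor.J1 :=
  [1, elt aC inJ_a, elt bC inJ_b, elt cC inJ_c, elt aC inJ_a * elt bC inJ_b,
    elt aC inJ_a * elt cC inJ_c, elt bC inJ_b * elt cC inJ_c,
    elt aC inJ_a * elt bC inJ_b * elt cC inJ_c]

theorem listE_nodup : listE.Nodup := by
  apply List.Nodup.of_map matOf
  have h : listE.map matOf = [oneC, aC, bC, cC, mulC aC bC, mulC aC cC, mulC bC cC,
      mulC (mulC aC bC) cC].map toMat := by
    simp only [listE, List.map_cons, List.map_nil, matOf_mul, matOf_elt, matOf_one, toMat_mulC,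
      toMat_oneC]
  rw [h]
  exact nodup_toMat _ (by decide +kernel)

theorem listE_mem : ∀ x ∈ listE, x ∈ sylE := by
  have ha : elt aC inJ_a ∈ sylE := Subgroup.subset_closure (by simp)
  have hb : elt bC inJ_b ∈ sylE := Subgroup.subset_closure (by simp)
  have hc : elt cC inJ_c ∈ sylE := Subgroup.subset_closure (by simp)
  intro x hx
  simp only [listE, List.mem_cons, List.mem_nil_iff, or_false] at hx
  rcases hx with rfl | rfl | rfl | rfl | rfl | rfl | rfl | rfl
  · exact Subgroup.one_mem _
  · exact ha
  · exact hb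
  · exact hc
  · exact Subgroup.mul_mem _ ha hb
  · exact Subgroup.mul_mem _ ha hc
  · exact Subgroup.mul_mem _ hb hc
  · exact Subgroup.mul_mem _ (Subgroup.mul_mem _ ha hb) hc

theorem card_sylE : Nat.card sylE = 8 := by
  apply le_antisymm
  · have h := card_closure_comm_le 2 (by norm_num) [elt aC inJ_a, elt bC inJ_b, elt cC inJ_c]
      (by
        intro x hx
        simp only [List.mem_cons, List.mem_nil_iff, or_false] at hx
        rcases hx with rfl | rfl | rfl
        · rw [pow_two]; exact a_sq
        · rw [pow_two]; exact b_sq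
        · rw [pow_two]; exact c_sq)
      (by
        intro x hx y hy
        simp only [List.mem_cons, List.mem_nil_iff, or_false] at hx hy
        rcases hx with rfl | rfl | rfl <;> rcases hy with rfl | rfl | rfl <;>
          first | rfl | exact ab_comm | exact ac_comm | exact bc_comm | exact ab_comm.symm |
            exact ac_comm.symm | exact bc_comm.symm)
    have e : {x | x ∈ [elt aC inJ_a, elt bC inJ_b, elt cC inJ_c]} =
        ({elt aC inJ_a, elt bC inJ_b, elt cC inJ_c} : Set ↥Spor.J1) := by
      ext x; simp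
    rw [e] at h
    exact h
  · exact length_le_card_of_nodup listE listE_nodup sylE listE_mem

theorem mem_listE {x : ↥Spor.J1} (hx : x ∈ sylE) : x ∈ listE :=
  mem_list_of_card_le listE listE_nodup sylE listE_mem (by rw [card_sylE]; rfl) x hx

theorem order_g3 : orderOf (elt g3C inJ_g3) = 3 :=
  haveI : Fact (Nat.Prime 3) := ⟨by norm_num⟩
  orderOf_elt inJ_g3 3 (by decide +kernel) (by decide +kernel)

theorem order_y : orderOf (elt yC inJ_y) = 5 :=
  haveI : Fact (Nat.Prime 5) := ⟨by norm_num⟩
  orderOf_elt inJ_y 5 (by decide +kernel) (by decide +kernel)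

theorem order_x : orderOf (elt xC inJ_x) = 7 :=
  haveI : Fact (Nat.Prime 7) := ⟨by norm_num⟩
  orderOf_elt inJ_x 7 (by decide +kernel) (by decide +kernel)

theorem order_g11 : orderOf (elt g11C inJ_g11) = 11 :=
  haveI : Fact (Nat.Prime 11) := ⟨by norm_num⟩
  orderOf_elt inJ_g11 11 (by decide +kernel) (by decide +kernel)

theorem order_g19 : orderOf (elt g19C inJ_g19) = 19 :=
  haveI : Fact (Nat.Prime 19) := ⟨by norm_num⟩
  orderOf_elt inJ_g19 19 (by decide +kernel) (by decide +kernel)

end Cfsg.Agent.Lib.helper33.J1M
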