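/-
The Janko group `J1` has order 175560 and is simple (Sylow subgroups and normal closures, with
kernel-checked certificates).  (owner: helper33)
-/
import Cfsg.Agent.Lib.helper33.J1Sub

set_option autoImplicit false

namespace Cfsg.Agent.Lib.helper33.J1M

open Cfsg

/-- The order of the Janko group `J1`. -/
theorem card_J1 : Nat.card ↥Spor.J1 = 175560 := by
  have hub := card_J1_le
  have hpos : 0 < Nat.card ↥Spor.J1 := Nat.card_pos
  have h8 : 8 ∣ Nat.card ↥Spor.J1 := by
    have := Subgroup.card_subgroup_dvd_card sylE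
    rwa [card_sylE] at this
  have h3 : 3 ∣ Nat.card ↥Spor.J1 := by
    have := orderOf_dvd_natCard (elt g3C inJ_g3)
    rwa [order_g3] at this
  have h5 : 5 ∣ Nat.card ↥Spor.J1 := by
    have := orderOf_dvd_natCard (elt yC inJ_y)
    rwa [order_y] at this
  have h7 : 7 ∣ Nat.card ↥Spor.J1 := by
    have := orderOf_dvd_natCard (elt xC inJ_x)
    rwa [order_x] at this
  have h11 : 11 ∣ Nat.card ↥Spor.J1 := by
    have := orderOf_dvd_natCard (elt g11C inJ_g11)
    rwa [order_g11] at this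
  have h19 : 19 ∣ Nat.card ↥Spor.J1 := by
    have := orderOf_dvd_natCard (elt g19C inJ_g19)
    rwa [order_g19] at this
  generalize Nat.card ↥Spor.J1 = n at *
  have d1 : 8 * 3 ∣ n := Nat.Coprime.mul_dvd_of_dvd_of_dvd (by norm_num) h8 h3
  have d2 : 8 * 3 * 5 ∣ n := Nat.Coprime.mul_dvd_of_dvd_of_dvd (by norm_num) d1 h5
  have d3 : 8 * 3 * 5 * 7 ∣ n := Nat.Coprime.mul_dvd_of_dvd_of_dvd (by norm_num) d2 h7
  have d4 : 8 * 3 * 5 * 7 * 11 ∣ n := Nat.Coprime.mul_dvd_of_dvd_of_dvd (by norm_num) d3 h11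
  have d5 : 8 * 3 * 5 * 7 * 11 * 19 ∣ n := Nat.Coprime.mul_dvd_of_dvd_of_dvd (by norm_num) d4 h19
  have hle := Nat.le_of_dvd hpos d5
  norm_num at hle
  exact le_antisymm hub hle

theorem index_sylE : sylE.index = 21945 := by
  have h := sylE.index_mul_card
  rw [card_sylE, card_J1] at h
  omega

/-- Certificate that a normal subgroup containing `g` contains `t`: `t` is the product of two
conjugates of `g`. -/
theorem mem_of_cert (N : Subgroup ↥Spor.J1) (hN : N.Normal) {g u1 u2 c1 c2 t : ℕ} (hg : InJ g)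
    (hu1 : InJ u1) (hu2 : InJ u2) (ht : InJ t) (h1 : mulC c1 u1 = mulC u1 g)
    (h2 : mulC c2 u2 = mulC u2 g) (h3 : mulC c1 c2 = t) (hmem : elt g hg ∈ N) : elt t ht ∈ N := by
  have hc1 := InJ.of_conj hu1 hg h1
  have hc2 := InJ.of_conj hu2 hg h2
  rw [← elt_mul hc1 hc2 ht h3, ← elt_conj hc1 hu1 hg h1, ← elt_conj hc2 hu2 hg h2]
  exact N.mul_mem (hN.conj_mem _ hmem _) (hN.conj_mem _ hmem _)

theorem top_of_x (N : Subgroup ↥Spor.J1) (hN : N.Normal) (h : elt xC inJ_x ∈ N) : N = ⊤ := by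
  have hy : elt yC inJ_y ∈ N := mem_of_cert N hN inJ_x (inJ_word [0, 1, 0, 0, 1, 1])
    (inJ_word [1, 1, 0, 1, 0, 0, 1, 1]) inJ_y
    (c1 := 45594289313658640444437790999129351413158941381244829053706)
    (c2 := 65961137786988828697696556441113170179439046331994230518403)
    (by decide +kernel) (by decide +kernel) (by decide +kernel) h
  rw [elt_x] at h
  rw [elt_y] at hy
  rw [eq_top_iff, ← closure_xy, Subgroup.closure_le]
  intro z hz
  rcases hz with rfl | rfl
  · exact h
  · exact hy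

theorem top_of_a (N : Subgroup ↥Spor.J1) (hN : N.Normal) (h : elt aC inJ_a ∈ N) : N = ⊤ :=
  top_of_x N hN (mem_of_cert N hN inJ_a (inJ_word [1, 1, 1, 0, 0, 0])
    (inJ_word [0, 0, 0, 1, 1, 1, 0, 0, 0]) inJ_x
    (c1 := 7480991916830961398372192324378995349102127192587669541267)
    (c2 := 19262242154819654626753302114782366526719747660215751874867)
    (by decide +kernel) (by decide +kernel) (by decide +kernel) h)

theorem top_of_g3 (N : Subgroup ↥Spor.J1) (hN : N.Normal) (h : elt g3C inJ_g3 ∈ N) : N = ⊤ :=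
  top_of_x N hN (mem_of_cert N hN inJ_g3 (inJ_word [1, 0, 0, 1, 1])
    (inJ_word [0, 0, 0, 1, 0, 0, 1, 1]) inJ_x
    (c1 := 25736780344473654473632609352083407713532261850027762162071)
    (c2 := 25574616358247320285725751853117943081727999550173971822966)
    (by decide +kernel) (by decide +kernel) (by decide +kernel) h)

theorem top_of_y (N : Subgroup ↥Spor.J1) (hN : N.Normal) (h : elt yC inJ_y ∈ N) : N = ⊤ :=
  top_of_x N hN (mem_of_cert N hN inJ_y (inJ_word [1, 1, 1, 1, 0])
    (inJ_word [0, 0, 0, 1, 1, 1, 1, 0]) inJ_x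
    (c1 := 31974394252181879698592534323015361568365553421681937188672)
    (c2 := 60203466743617017096274042111081181060716469972973528643072)
    (by decide +kernel) (by decide +kernel) (by decide +kernel) h)

theorem top_of_g11 (N : Subgroup ↥Spor.J1) (hN : N.Normal) (h : elt g11C inJ_g11 ∈ N) : N = ⊤ :=
  top_of_x N hN (mem_of_cert N hN inJ_g11 (inJ_word [1, 1, 0, 0, 0, 1, 0, 0, 1])
    (inJ_word [0, 0, 1, 0, 0, 1, 0, 0, 0]) inJ_x
    (c1 := 25697676969187029496940947935816285182552724759135174072360)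
    (c2 := 12765701374808291833362846026168945184588195266838552488580)
    (by decide +kernel) (by decide +kernel) (by decide +kernel) h)

theorem top_of_g19 (N : Subgroup ↥Spor.J1) (hN : N.Normal) (h : elt g19C inJ_g19 ∈ N) : N = ⊤ :=
  top_of_x N hN (mem_of_cert N hN inJ_g19 (inJ_word [1, 0, 0])
    (inJ_word [0, 0, 0, 1, 0, 0]) inJ_x
    (c1 := 50868463698308087835842027365159691351566761221763924861491)
    (c2 := 63389388311156242573853661244291812926869934514186952480826)
    (by decide +kernel) (by decide +kernel) (by decide +kernel) h)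

theorem top_of_conj_a (N : Subgroup ↥Spor.J1) (hN : N.Normal) {x : ↥Spor.J1} (hx : x ∈ N)
    (h : ∃ u : ↥Spor.J1, x = u * elt aC inJ_a * u⁻¹) : N = ⊤ := by
  obtain ⟨u, rfl⟩ := h
  apply top_of_a N hN
  have := hN.conj_mem _ hx u⁻¹
  have e : u⁻¹ * (u * elt aC inJ_a * u⁻¹) * u⁻¹⁻¹ = elt aC inJ_a := by group
  rwa [e] at this

/-- The Janko group `J1` is simple. -/
theorem isSimple_J1 : IsSimpleGroup ↥Spor.J1 := by
  have hnt : Nontrivial ↥Spor.J1 := by
    rw [← Finite.one_lt_card_iff_nontrivial, card_J1]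
    norm_num
  apply isSimpleGroup_of_sylow hnt
  intro p hp hpd
  rw [card_J1] at hpd ⊢
  have hfac : (175560 : ℕ) = 2 ^ 3 * 3 * 5 * 7 * 11 * 19 := by norm_num
  have hcases : p = 2 ∨ p = 3 ∨ p = 5 ∨ p = 7 ∨ p = 11 ∨ p = 19 := by
    rw [hfac] at hpd
    rcases (hp.dvd_mul).1 hpd with h | h
    · rcases (hp.dvd_mul).1 h with h | h
      · rcases (hp.dvd_mul).1 h with h | h
        · rcases (hp.dvd_mul).1 h with h | h
          · rcases (hp.dvd_mul).1 h with h | h
            · exact Or.inl ((Nat.prime_dvd_prime_iff_eq hp Nat.prime_two).1 (hp.dvd_of_dvd_pow h))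
            · exact Or.inr (Or.inl ((Nat.prime_dvd_prime_iff_eq hp Nat.prime_three).1 h))
          · exact Or.inr (Or.inr (Or.inl ((Nat.prime_dvd_prime_iff_eq hp Nat.prime_five).1 h)))
        · exact Or.inr (Or.inr (Or.inr (Or.inl
            ((Nat.prime_dvd_prime_iff_eq hp (by norm_num)).1 h))))
      · exact Or.inr (Or.inr (Or.inr (Or.inr (Or.inl
          ((Nat.prime_dvd_prime_iff_eq hp (by norm_num)).1 h)))))
    · exact Or.inr (Or.inr (Or.inr (Or.inr (Or.inr
        ((Nat.prime_dvd_prime_iff_eq hp (by norm_num)).1 h)))))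
  have odd : ∀ (q : ℕ) (g : ℕ) (hg : InJ g), q.Prime → orderOf (elt g hg) = q →
      ¬ q ^ (1 + 1) ∣ 175560 →
      (∀ N : Subgroup ↥Spor.J1, N.Normal → elt g hg ∈ N → N = ⊤) →
      ∃ (P : Subgroup ↥Spor.J1) (k : ℕ), Nat.card P = q ^ k ∧ ¬ q ^ (k + 1) ∣ 175560 ∧
        ∀ N : Subgroup ↥Spor.J1, N.Normal → (∃ x ∈ N, x ∈ P ∧ x ≠ 1) → N = ⊤ := by
    intro q g hg hq ho hnd htop
    refine ⟨Subgroup.zpowers (elt g hg), 1, by rw [Nat.card_zpowers, ho, pow_one], hnd, ?_⟩
    rintro N hN ⟨x, hxN, hxP, hx1⟩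
    exact htop N hN (mem_of_mem_zpowers_prime hq ho hxP hx1 N hxN)
  rcases hcases with rfl | rfl | rfl | rfl | rfl | rfl
  · refine ⟨sylE, 3, by rw [card_sylE]; norm_num, by norm_num, ?_⟩
    rintro N hN ⟨x, hxN, hxP, hx1⟩
    obtain ⟨cb, cc, cab, cac, cbc, cabc⟩ := conj_of_singer (elt sC inJ_s) (elt aC inJ_a)
      (elt bC inJ_b) (elt cC inJ_c) b_sq ab_comm ac_comm bc_comm conj_sa conj_sb conj_sc
    have hl := mem_listE hxP
    simp only [listE, List.mem_cons, List.mem_nil_iff, or_false] at hl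
    rcases hl with rfl | rfl | rfl | rfl | rfl | rfl | rfl | rfl
    · exact absurd rfl hx1
    · exact top_of_a N hN hxN
    · exact top_of_conj_a N hN hxN cb
    · exact top_of_conj_a N hN hxN cc
    · exact top_of_conj_a N hN hxN cab
    · exact top_of_conj_a N hN hxN cac
    · exact top_of_conj_a N hN hxN cbc
    · exact top_of_conj_a N hN hxN cabc
  · exact odd 3 g3C inJ_g3 hp order_g3 (by norm_num) top_of_g3
  · exact odd 5 yC inJ_y hp order_y (by norm_num) top_of_y
  · exact odd 7 xC inJ_x hp order_x (by norm_num) top_of_x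
  · exact odd 11 g11C inJ_g11 hp order_g11 (by norm_num) top_of_g11
  · exact odd 19 g19C inJ_g19 hp order_g19 (by norm_num) top_of_g19

end Cfsg.Agent.Lib.helper33.J1M
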