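import Mathlib
import Cfsg.Agent.Lib.helper21.FixedCosets
import Cfsg.Agent.Lib.helper21.PrimeOrderCount

/-!
# S0420, piece C: fixed points on the 12 cosets of a subgroup of order 660

Generic tools (fixed-point formula on cosets for elements of prime order, a Burnside divisibility,
the kernel argument in a simple group) and the piece `m11_fix_twelve`.
-/

set_option autoImplicit false

namespace Cfsg.Agent.Lib.helper33.M11U

open Subgroup

/-- Conjugate elements have the same order. -/
theorem orderOf_of_isConj {G : Type*} [Group G] {a b : G} (h : IsConj a b) :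
    orderOf b = orderOf a := by
  obtain ⟨c, rfl⟩ := isConj_iff.mp h
  exact (MulAut.conj c).orderOf_eq a

/-- Conjugate elements have the same number of fixed points. -/
theorem card_fixedBy_of_isConj {G : Type*} [Group G] {X : Type*} [MulAction G X] {a b : G}
    (h : IsConj a b) :
    Nat.card (MulAction.fixedBy X b) = Nat.card (MulAction.fixedBy X a) := by
  obtain ⟨c, rfl⟩ := isConj_iff.mp h
  apply Nat.card_congr
  refine
    { toFun := fun x => ⟨c⁻¹ • x.1, ?_⟩
      invFun := fun y => ⟨c • y.1, ?_⟩
      left_inv := fun x => Subtype.ext (smul_inv_smul c x.1)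
      right_inv := fun y => Subtype.ext (inv_smul_smul c y.1) }
  · have hx := x.2
    rw [MulAction.mem_fixedBy] at hx ⊢
    rw [mul_smul, mul_smul] at hx
    exact eq_inv_smul_iff.mpr hx
  · have hy := y.2
    rw [MulAction.mem_fixedBy] at hy ⊢
    rw [mul_smul, mul_smul, inv_smul_smul, hy]

/-- Order of the Sylow subgroups from a factorization of the group order. -/
theorem sylow_card_of_card {G : Type*} [Group G] [Finite G] {p : ℕ} [hp : Fact p.Prime]
    (k m : ℕ) (hG : Nat.card G = p ^ k * m) (hm : ¬ p ∣ m) (P : Sylow p G) :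
    Nat.card (P : Subgroup G) = p ^ k := by
  have hm0 : m ≠ 0 := by
    rintro rfl
    exact hm (dvd_zero p)
  rw [Sylow.card_eq_multiplicity, hG,
    Nat.factorization_mul (pow_ne_zero _ hp.out.ne_zero) hm0, Nat.factorization_pow,
    Finsupp.add_apply, Finsupp.smul_apply, hp.out.factorization_self,
    Nat.factorization_eq_zero_of_not_dvd hm]
  simp

/-- Fixed-point formula on cosets for elements of prime order `p` forming a single class, when
the Sylow `p`-subgroups of the subgroup have order `p`:
`fix(x) * |H| = n_p(H) * (p - 1) * |C(x)|`. -/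
theorem fix_formula_prime {G : Type*} [Group G] [Finite G] (H : Subgroup G) (p : ℕ)
    [Fact p.Prime] (hSyl : ∀ Q : Sylow p H, Nat.card (Q : Subgroup H) = p)
    (x : G) (hx : orderOf x = p) (hconj : ∀ y : G, orderOf y = p → IsConj x y) :
    Nat.card (MulAction.fixedBy (G ⧸ H) x) * Nat.card H =
      Nat.card (Sylow p H) * (p - 1) * Nat.card (centralizer ({x} : Set G)) := by
  rw [← Cfsg.Agent.Lib.helper21.card_conj_mem_eq_fixedBy,
    Cfsg.Agent.Lib.helper21.card_conj_mem_eq_centralizer,
    ← Cfsg.Agent.Lib.helper21.card_orderOf_eq_prime_of_sylow_card hSyl]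
  congr 1
  apply Nat.card_congr
  exact
    { toFun := fun g => ⟨⟨g.1, g.2.2⟩, by rw [Subgroup.orderOf_mk, orderOf_of_isConj g.2.1, hx]⟩
      invFun := fun g => ⟨g.1.1, hconj _ (by rw [Subgroup.orderOf_coe]; exact g.2), g.1.2⟩
      left_inv := fun g => rfl
      right_inv := fun g => rfl }

/-- Burnside: if all nonidentity elements of a subgroup `R` have the same number `f` of fixed
points on `G ⧸ H`, then `|R|` divides `[G : H] + (|R| - 1) * f`. -/
theorem burnside_dvd {G : Type*} [Group G] [Finite G] (H R : Subgroup G) (f : ℕ)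
    (hf : ∀ r ∈ R, r ≠ 1 → Nat.card (MulAction.fixedBy (G ⧸ H) r) = f) :
    Nat.card R ∣ H.index + (Nat.card R - 1) * f := by
  classical
  have : Fintype G := Fintype.ofFinite G
  have : Fintype (G ⧸ H) := Fintype.ofFinite _
  have hB := MulAction.sum_card_fixedBy_eq_card_orbits_mul_card_group (↥R) (G ⧸ H)
  have h1 : ∀ a : ↥R, a ≠ 1 → Fintype.card (MulAction.fixedBy (G ⧸ H) a) = f := by
    intro a ha
    rw [← Nat.card_eq_fintype_card]
    exact hf a.1 a.2 (fun h => ha (Subtype.ext h))
  have h0 : Fintype.card (MulAction.fixedBy (G ⧸ H) (1 : ↥R)) = H.index := by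
    rw [← Nat.card_eq_fintype_card, Subgroup.index]
    apply Nat.card_congr
    exact
      { toFun := fun x => x.1
        invFun := fun x => ⟨x, by rw [MulAction.mem_fixedBy, one_smul]⟩
        left_inv := fun x => rfl
        right_inv := fun x => rfl }
  rw [← Finset.add_sum_erase Finset.univ _ (Finset.mem_univ (1 : ↥R)), h0,
    Finset.sum_congr rfl (fun a ha => h1 a (Finset.ne_of_mem_erase ha)), Finset.sum_const,
    Finset.card_erase_of_mem (Finset.mem_univ _), Finset.card_univ, smul_eq_mul,
    ← Nat.card_eq_fintype_card (α := ↥R)] at hB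
  exact ⟨_, by rw [hB, mul_comm]⟩

/-- In a simple group, a nonidentity element does not fix all cosets of a proper subgroup. -/
theorem card_fixedBy_ne_index {G : Type*} [Group G] [Finite G] [IsSimpleGroup G]
    (H : Subgroup G) (hH : H ≠ ⊤) (x : G) (hx : x ≠ 1) :
    Nat.card (MulAction.fixedBy (G ⧸ H) x) ≠ H.index := by
  intro h
  have hcore : H.normalCore = ⊥ := by
    rcases (H.normalCore_normal).eq_bot_or_eq_top with h1 | h1
    · exact h1
    · exact absurd (top_le_iff.mp (h1 ▸ H.normalCore_le)) hH
  have huniv : MulAction.fixedBy (G ⧸ H) x = Set.univ := by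
    apply Set.eq_of_subset_of_ncard_le (Set.subset_univ _) _ Set.finite_univ
    rw [Set.ncard_univ, ← Nat.card_coe_set_eq, h, Subgroup.index]
  have hmem : x ∈ H.normalCore := by
    rw [Subgroup.normalCore_eq_ker, MonoidHom.mem_ker]
    ext q
    have hq : q ∈ MulAction.fixedBy (G ⧸ H) x := by rw [huniv]; trivial
    simpa using hq
  rw [hcore, Subgroup.mem_bot] at hmem
  exact hx hmem

/-- The number of fixed cosets is at most the index. -/
theorem card_fixedBy_le_index {G : Type*} [Group G] [Finite G] (H : Subgroup G) (x : G) :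
    Nat.card (MulAction.fixedBy (G ⧸ H) x) ≤ H.index :=
  Finite.card_subtype_le _

/-- PIECE C: fixed points on the 12 cosets of a subgroup of order 660. -/
theorem m11_fix_twelve {G : Type*} [Group G] [Finite G] [IsSimpleGroup G]
    (hG : Nat.card G = 7920) (L : Subgroup G) (hL : Nat.card L = 660)
    (hcent5 : ∀ k : G, orderOf k = 5 → Nat.card (Subgroup.centralizer ({k} : Set G)) = 5)
    (hconj5 : ∀ k k' : G, orderOf k = 5 → orderOf k' = 5 → IsConj k k')
    (hcent3 : ∀ z : G, orderOf z = 3 → Nat.card (Subgroup.centralizer ({z} : Set G)) = 18)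
    (hconj3 : ∀ z z' : G, orderOf z = 3 → orderOf z' = 3 → IsConj z z') :
    (∀ k : G, orderOf k = 5 → Nat.card (MulAction.fixedBy (G ⧸ L) k) = 2) ∧
    (∀ z : G, orderOf z = 3 → Nat.card (MulAction.fixedBy (G ⧸ L) z) = 3) := by
  have hidx : L.index = 12 := by
    have := L.index_mul_card
    rw [hL, hG] at this
    omega
  have hLtop : L ≠ ⊤ := by
    intro h
    rw [h, Subgroup.index_top] at hidx
    omega
  constructor
  · intro k hk
    have : Fact (Nat.Prime 5) := ⟨by norm_num⟩
    have hSyl : ∀ Q : Sylow 5 L, Nat.card (Q : Subgroup L) = 5 := by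
      intro Q
      have := sylow_card_of_card (p := 5) 1 132 (by rw [hL]; norm_num) (by norm_num) Q
      simpa using this
    have hF := fix_formula_prime L 5 hSyl k hk (fun y hy => hconj5 k y hk hy)
    rw [hL, hcent5 k hk] at hF
    have hmod : Nat.card (Sylow 5 L) % 5 = 1 := card_sylow_modEq_one 5 L
    have hdvd := Sylow.card_dvd_index (default : Sylow 5 L)
    have hi : ((default : Sylow 5 L) : Subgroup L).index = 132 := by
      have := ((default : Sylow 5 L) : Subgroup L).index_mul_card
      rw [hSyl, hL] at this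
      omega
    rw [hi] at hdvd
    have hle := Nat.le_of_dvd (by norm_num) hdvd
    omega
  · intro z hz
    have : Fact (Nat.Prime 3) := ⟨by norm_num⟩
    have hSyl : ∀ Q : Sylow 3 L, Nat.card (Q : Subgroup L) = 3 := by
      intro Q
      have := sylow_card_of_card (p := 3) 1 220 (by rw [hL]; norm_num) (by norm_num) Q
      simpa using this
    have hF := fix_formula_prime L 3 hSyl z hz (fun y hy => hconj3 z y hz hy)
    rw [hL, hcent3 z hz] at hF
    have hmod : Nat.card (Sylow 3 L) % 3 = 1 := card_sylow_modEq_one 3 L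
    have hle := card_fixedBy_le_index L z
    rw [hidx] at hle
    have hne := card_fixedBy_ne_index L hLtop z (by
      rintro rfl
      rw [orderOf_one] at hz
      omega)
    rw [hidx] at hne
    omega

end Cfsg.Agent.Lib.helper33.M11U
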