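import Mathlib
import Cfsg.Agent.Lib.helper33.M11U_C

/-!
# S0420, piece G1: fixed points of elements of order 5 and 3 on the 11 cosets of a subgroup of
order 720
-/

set_option autoImplicit false

namespace Cfsg.Agent.Lib.helper33.M11U

open Subgroup

/-- PIECE G1: fixed points of elements of order 5 and 3 on the 11 cosets of a subgroup of
order 720. -/
theorem m11_fix_eleven_odd {G : Type*} [Group G] [Finite G] [IsSimpleGroup G]
    (hG : Nat.card G = 7920) (H : Subgroup G) (hH : Nat.card H = 720)
    (hcent5 : ∀ k : G, orderOf k = 5 → Nat.card (Subgroup.centralizer ({k} : Set G)) = 5)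
    (hconj5 : ∀ k k' : G, orderOf k = 5 → orderOf k' = 5 → IsConj k k')
    (hcent3 : ∀ z : G, orderOf z = 3 → Nat.card (Subgroup.centralizer ({z} : Set G)) = 18)
    (hconj3 : ∀ z z' : G, orderOf z = 3 → orderOf z' = 3 → IsConj z z')
    (h3 : ∀ (R : Sylow 3 G) (g : G), g ∈ (R : Subgroup G) → g ≠ 1 → orderOf g = 3) :
    (∀ k : G, orderOf k = 5 → Nat.card (MulAction.fixedBy (G ⧸ H) k) = 1) ∧
    (∀ z : G, orderOf z = 3 → Nat.card (MulAction.fixedBy (G ⧸ H) z) = 2) := by
  have hidx : H.index = 11 := by
    have := H.index_mul_card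
    rw [hH, hG] at this
    omega
  have hHtop : H ≠ ⊤ := by
    intro h
    rw [h, Subgroup.index_top] at hidx
    omega
  constructor
  · intro k hk
    have : Fact (Nat.Prime 5) := ⟨by norm_num⟩
    have hSyl : ∀ Q : Sylow 5 H, Nat.card (Q : Subgroup H) = 5 := by
      intro Q
      have := sylow_card_of_card (p := 5) 1 144 (by rw [hH]; norm_num) (by norm_num) Q
      simpa using this
    have hF := fix_formula_prime H 5 hSyl k hk (fun y hy => hconj5 k y hk hy)
    rw [hH, hcent5 k hk] at hF
    have hmod : Nat.card (Sylow 5 H) % 5 = 1 := card_sylow_modEq_one 5 H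
    have hdvd := Sylow.card_dvd_index (default : Sylow 5 H)
    have hi : ((default : Sylow 5 H) : Subgroup H).index = 144 := by
      have := ((default : Sylow 5 H) : Subgroup H).index_mul_card
      rw [hSyl, hH] at this
      omega
    rw [hi] at hdvd
    have hle := Nat.le_of_dvd (by norm_num) hdvd
    omega
  · intro z hz
    have : Fact (Nat.Prime 3) := ⟨by norm_num⟩
    let R : Sylow 3 G := default
    have hR : Nat.card (R : Subgroup G) = 9 := by
      have := sylow_card_of_card (p := 3) 2 880 (by rw [hG]; norm_num) (by norm_num) R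
      simpa using this
    have hB := burnside_dvd H (R : Subgroup G) (Nat.card (MulAction.fixedBy (G ⧸ H) z))
      (fun r hr hr1 => card_fixedBy_of_isConj (hconj3 z r hz (h3 R r hr hr1)))
    rw [hR, hidx] at hB
    have hle := card_fixedBy_le_index H z
    rw [hidx] at hle
    have hne := card_fixedBy_ne_index H hHtop z (by
      rintro rfl
      rw [orderOf_one] at hz
      omega)
    rw [hidx] at hne
    omega

end Cfsg.Agent.Lib.helper33.M11U
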