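/-
Stem extensions with kernel of order 2 for groups with a semidihedral Sylow 2-subgroup of
order 16.  (owner: helper33)
-/
import Mathlib
import Cfsg.Agent.Lib.helper33.SchurU4

set_option autoImplicit false

namespace Cfsg.Agent.Lib.helper33

open scoped commutatorElement

/-- The commutator subgroup of a subgroup generated by `T` lies in `N` as soon as `T` normalises
`N` and the commutators of elements of `T` lie in `N`. -/
theorem commutator_closure_le_of_gens {X : Type*} [Group X] (T : Set X) (N : Subgroup X)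
    (hN : ∀ t ∈ T, ∀ n ∈ N, t * n * t⁻¹ ∈ N ∧ t⁻¹ * n * t ∈ N)
    (hT : ∀ s ∈ T, ∀ t ∈ T, ⁅s, t⁆ ∈ N) :
    ⁅Subgroup.closure T, Subgroup.closure T⁆ ≤ N := by
  have h1 : ∀ x ∈ Subgroup.closure T, ∀ n ∈ N, x * n * x⁻¹ ∈ N ∧ x⁻¹ * n * x ∈ N := by
    intro x hx
    induction hx using Subgroup.closure_induction with
    | mem x hx => exact hN x hx
    | one => intro n hn; simpa using hn
    | mul a b _ _ iha ihb =>
      intro n hn
      constructor
      · have : a * b * n * (a * b)⁻¹ = a * (b * n * b⁻¹) * a⁻¹ := by group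
        rw [this]; exact (iha _ (ihb n hn).1).1
      · have : (a * b)⁻¹ * n * (a * b) = b⁻¹ * (a⁻¹ * n * a) * b := by group
        rw [this]; exact (ihb _ (iha n hn).2).2
    | inv a _ iha =>
      intro n hn
      constructor
      · have : a⁻¹ * n * a⁻¹⁻¹ = a⁻¹ * n * a := by group
        rw [this]; exact (iha n hn).2
      · have : a⁻¹⁻¹ * n * a⁻¹ = a * n * a⁻¹ := by group
        rw [this]; exact (iha n hn).1
  have h2 : ∀ x ∈ Subgroup.closure T, ∀ t ∈ T, ⁅x, t⁆ ∈ N := by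
    intro x hx
    induction hx using Subgroup.closure_induction with
    | mem x hx => exact hT x hx
    | one => intro t _; rw [commutatorElement_one_left]; exact one_mem _
    | mul a b ha _ iha ihb =>
      intro t ht
      have : ⁅a * b, t⁆ = a * ⁅b, t⁆ * a⁻¹ * ⁅a, t⁆ := by
        simp only [commutatorElement_def]; group
      rw [this]; exact mul_mem (h1 a ha _ (ihb t ht)).1 (iha t ht)
    | inv a ha iha =>
      intro t ht
      have : ⁅a⁻¹, t⁆ = a⁻¹ * (⁅a, t⁆)⁻¹ * a := by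
        simp only [commutatorElement_def]; group
      rw [this]; exact (h1 a ha _ (inv_mem (iha t ht))).2
  have h3 : ∀ y ∈ Subgroup.closure T, ∀ x ∈ Subgroup.closure T, ⁅x, y⁆ ∈ N := by
    intro y hy
    induction hy using Subgroup.closure_induction with
    | mem y hy => exact fun x hx => h2 x hx y hy
    | one => intro x _; rw [commutatorElement_one_right]; exact one_mem _
    | mul a b ha _ iha ihb =>
      intro x hx
      have : ⁅x, a * b⁆ = ⁅x, a⁆ * (a * ⁅x, b⁆ * a⁻¹) := by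
        simp only [commutatorElement_def]; group
      rw [this]; exact mul_mem (iha x hx) (h1 a ha _ (ihb x hx)).1
    | inv a ha iha =>
      intro x hx
      have : ⁅x, a⁻¹⁆ = a⁻¹ * (⁅x, a⁆)⁻¹ * a := by
        simp only [commutatorElement_def]; group
      rw [this]; exact (h1 a ha _ (inv_mem (iha x hx))).2
  rw [Subgroup.commutator_le]
  intro x hx y hy
  exact h3 y hy x hx

section sd16

variable {Γ G : Type*} [Group Γ] [Group G] {σ : Γ →* G}

/-- Relations of a semidihedral group of order 16. -/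
structure SD16Rel {X : Type*} [Group X] (u s : X) : Prop where
  u8 : u ^ 8 = 1
  u4 : u ^ 4 ≠ 1
  s2 : s * s = 1
  su : s * u * s⁻¹ = u ^ 3

theorem pstem_false_of_SD16 [Finite Γ] [Finite G] (hσ : PStem σ 2) {u s : G} (h : SD16Rel u s)
    (hcard : 16 ≤ Nat.card (Subgroup.closure ({u, s} : Set G)))
    (m : ℕ) (hm : Nat.Coprime m 2) (hG : Nat.card G = 16 * m) : False := by
  -- the order of the subgroup
  have hQle : Nat.card (Subgroup.closure ({u, s} : Set G)) ≤ 16 := by
    have e : Subgroup.closure ({u, s} : Set G) = Subgroup.zpowers u ⊔ Subgroup.zpowers s := by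
      rw [Subgroup.zpowers_eq_closure, Subgroup.zpowers_eq_closure, ← Subgroup.closure_union]
      rfl
    have h8 : Nat.card (Subgroup.zpowers u) ≤ 8 := by
      rw [Nat.card_zpowers]
      exact Nat.le_of_dvd (by norm_num) (orderOf_dvd_of_pow_eq_one h.u8)
    have h2 := card_sup_zpowers_le (Subgroup.zpowers u) s 2 (by norm_num)
      (by rw [pow_two, h.s2]; exact one_mem _) (by
        intro n hn
        obtain ⟨k, rfl⟩ := Subgroup.mem_zpowers_iff.1 hn
        rw [← conj_zpow, h.su]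
        exact zpow_mem (pow_mem (Subgroup.mem_zpowers u) 3) k)
    rw [e]; omega
  have hQ : Nat.card (Subgroup.closure ({u, s} : Set G)) = 16 := le_antisymm hQle hcard
  have hidx : (Subgroup.closure ({u, s} : Set G)).index = m := by
    have h3 := (Subgroup.closure ({u, s} : Set G)).index_mul_card
    rw [hQ, hG] at h3
    have : 16 * (Subgroup.closure ({u, s} : Set G)).index = 16 * m := by rw [mul_comm]; exact h3
    exact Nat.eq_of_mul_eq_mul_left (by norm_num) this
  obtain ⟨U, hU⟩ := hσ.surj u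
  obtain ⟨S, hS⟩ := hσ.surj s
  have hζ : S * U * S⁻¹ * (U ^ 3)⁻¹ ∈ σ.ker := by
    rw [MonoidHom.mem_ker, map_mul, map_mul, map_mul, map_inv, map_inv, map_pow, hU, hS, h.su,
      mul_inv_cancel]
  have hW : S * U * S⁻¹ = S * U * S⁻¹ * (U ^ 3)⁻¹ * U ^ 3 := by group
  generalize S * U * S⁻¹ * (U ^ 3)⁻¹ = ζ at hζ hW
  have hc : ∀ x : Γ, x * ζ = ζ * x := Subgroup.mem_center_iff.1 (hσ.central hζ)
  have hζ2 : ζ ^ 2 = 1 := by rw [pow_two]; exact hσ.sq_eq_one hζ
  have hζ3 : ζ ^ 3 = ζ := by rw [pow_succ, hζ2, one_mul]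
  have hζ4 : ζ ^ 4 = 1 := by
    rw [show (4 : ℕ) = 2 * 2 from rfl, pow_mul, hζ2, one_pow]
  have hcom : ∀ k : ℕ, Commute ζ (U ^ k) := fun k => (hc (U ^ k)).symm
  have hconj : ∀ k : ℕ, S * U ^ k * S⁻¹ = ζ ^ k * U ^ (3 * k) := by
    intro k
    rw [← conj_pow, hW, (hcom 3).mul_pow, ← pow_mul]
  have hS2 : S * S ∈ σ.ker := by rw [MonoidHom.mem_ker, map_mul, hS, h.s2]
  have hSS : ∀ x : Γ, x * (S * S) = (S * S) * x := Subgroup.mem_center_iff.1 (hσ.central hS2)
  have hU8 : U ^ 8 = 1 := by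
    have e1 : S * (S * U * S⁻¹) * S⁻¹ = U := by
      calc S * (S * U * S⁻¹) * S⁻¹ = (S * S) * U * S⁻¹ * S⁻¹ := by group
        _ = U * (S * S) * S⁻¹ * S⁻¹ := by rw [hSS U]
        _ = U := by group
    have e2 : S * (S * U * S⁻¹) * S⁻¹ = U ^ 9 := by
      rw [hW]
      calc S * (ζ * U ^ 3) * S⁻¹ = (S * ζ) * U ^ 3 * S⁻¹ := by group
        _ = ζ * S * U ^ 3 * S⁻¹ := by rw [hc S]
        _ = ζ * (S * U ^ 3 * S⁻¹) := by group
        _ = ζ * (ζ ^ 3 * U ^ 9) := by rw [hconj 3]
        _ = ζ ^ 4 * U ^ 9 := by group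
        _ = U ^ 9 := by rw [hζ4, one_mul]
    have e3 : U * 1 = U * U ^ 8 := by
      rw [mul_one, ← pow_succ']
      exact e1.symm.trans e2
    exact (mul_left_cancel e3).symm
  -- the commutator
  have hV : ⁅S, U⁆ = ζ * U ^ 2 := by
    rw [commutatorElement_def, hW]; group
  have hUV : U * ⁅S, U⁆ = ⁅S, U⁆ * U := by
    rw [hV]
    calc U * (ζ * U ^ 2) = (U * ζ) * U ^ 2 := by group
      _ = ζ * U * U ^ 2 := by rw [hc U]
      _ = ζ * U ^ 2 * U := by group
  have hV3 : S * ⁅S, U⁆ * S⁻¹ = ⁅S, U⁆ ^ 3 := by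
    rw [hV, (hcom 2).mul_pow, hζ3, ← pow_mul]
    calc S * (ζ * U ^ 2) * S⁻¹ = (S * ζ) * U ^ 2 * S⁻¹ := by group
      _ = ζ * S * U ^ 2 * S⁻¹ := by rw [hc S]
      _ = ζ * (S * U ^ 2 * S⁻¹) := by group
      _ = ζ * (ζ ^ 2 * U ^ 6) := by rw [hconj 2]
      _ = ζ * U ^ (2 * 3) := by rw [hζ2, one_mul]
  have hV4 : ⁅S, U⁆ ^ 4 = 1 := by
    rw [hV, (hcom 2).mul_pow, hζ4, one_mul, ← pow_mul, hU8]
  have hV3' : S⁻¹ * ⁅S, U⁆ * S = ⁅S, U⁆ ^ 3 := by
    calc S⁻¹ * ⁅S, U⁆ * S = (S * S)⁻¹ * (S * ⁅S, U⁆ * S⁻¹) * (S * S) := by group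
      _ = (S * S)⁻¹ * (⁅S, U⁆ ^ 3 * (S * S)) := by rw [hV3, mul_assoc]
      _ = (S * S)⁻¹ * ((S * S) * ⁅S, U⁆ ^ 3) := by rw [hSS]
      _ = ⁅S, U⁆ ^ 3 := by group
  -- the commutator subgroup of the preimage
  have hcomm : ⁅Subgroup.closure ({U, S} : Set Γ), Subgroup.closure ({U, S} : Set Γ)⁆ ≤
      Subgroup.zpowers ⁅S, U⁆ := by
    apply commutator_closure_le_of_gens
    · intro t ht n hn
      obtain ⟨k, rfl⟩ := Subgroup.mem_zpowers_iff.1 hn
      simp only [Set.mem_insert_iff, Set.mem_singleton_iff] at ht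
      rcases ht with rfl | rfl
      · have hck : Commute t (⁅S, t⁆ ^ k) := Commute.zpow_right hUV k
        constructor
        · rw [hck.eq, mul_inv_cancel_right]; exact Subgroup.zpow_mem_zpowers _ k
        · rw [mul_assoc, ← hck.eq, inv_mul_cancel_left]; exact Subgroup.zpow_mem_zpowers _ k
      · constructor
        · rw [← conj_zpow, hV3]
          exact zpow_mem (pow_mem (Subgroup.mem_zpowers _) 3) k
        · have e : t⁻¹ * ⁅t, U⁆ ^ k * t = (t⁻¹ * ⁅t, U⁆ * t) ^ k := by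
            have := conj_zpow (a := t⁻¹) (b := ⁅t, U⁆) (i := k)
            rw [inv_inv] at this
            exact this.symm
          rw [e, hV3']
          exact zpow_mem (pow_mem (Subgroup.mem_zpowers _) 3) k
    · intro a ha b hb
      simp only [Set.mem_insert_iff, Set.mem_singleton_iff] at ha hb
      rcases ha with rfl | rfl <;> rcases hb with rfl | rfl
      · rw [commutatorElement_self]; exact Subgroup.one_mem _
      · rw [show ⁅a, b⁆ = (⁅b, a⁆)⁻¹ from (commutatorElement_inv b a).symm]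
        exact Subgroup.inv_mem _ (Subgroup.mem_zpowers _)
      · exact Subgroup.mem_zpowers _
      · rw [commutatorElement_self]; exact Subgroup.one_mem _
  have hker := ker_le_commutator_of_coprime Nat.prime_two hσ
    (Subgroup.closure ({u, s} : Set G)) (by rw [hidx]; exact hm)
    (Subgroup.closure ({U, S} : Set Γ)) (by
      rw [Subgroup.closure_le]
      intro x hx
      simp only [Set.mem_insert_iff, Set.mem_singleton_iff] at hx
      rcases hx with rfl | rfl
      · exact ⟨U, Subgroup.subset_closure (by simp), hU⟩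
      · exact ⟨S, Subgroup.subset_closure (by simp), hS⟩)
  -- a nontrivial element of the kernel
  obtain ⟨z, hz1, -⟩ := (Nat.card_eq_two_iff' (1 : σ.ker)).1 hσ.card
  obtain ⟨k, hk⟩ := Subgroup.mem_zpowers_iff.1 (hcomm (hker z.2))
  have hσV : σ ⁅S, U⁆ = u ^ 2 := by
    rw [map_commutatorElement, hS, hU, commutatorElement_def, h.su]; group
  have hk1 : (u ^ 2) ^ k = 1 := by
    rw [← hσV, ← map_zpow, hk]; exact MonoidHom.mem_ker.1 z.2
  have ho8 : orderOf u = 8 := by
    have : Fact (Nat.Prime 2) := ⟨Nat.prime_two⟩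
    exact orderOf_eq_prime_pow (p := 2) (n := 2) h.u4 h.u8
  have ho4 : orderOf (u ^ 2) = 4 := by
    rw [orderOf_pow' u (by norm_num), ho8]; rfl
  have hdvd : ((4 : ℕ) : ℤ) ∣ k := by
    rw [← ho4]; exact orderOf_dvd_iff_zpow_eq_one.2 hk1
  obtain ⟨j, rfl⟩ := hdvd
  apply hz1
  apply Subtype.ext
  rw [← hk, zpow_mul, zpow_natCast, hV4, one_zpow]; rfl

end sd16

end Cfsg.Agent.Lib.helper33
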