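/-
Kernel-checkable relations between products of table permutations (helper94's `tperm`), and a
lower bound for the order of a subgroup from a list of words with pairwise distinct products.
(owner: helper33)
-/
import Mathlib
import Cfsg.Prelude.Def_Sporadic_a
import Cfsg.Agent.Lib.helper94.M24Frame

set_option autoImplicit false

namespace Cfsg.Agent.Lib.helper33

open Cfsg
open scoped commutatorElement
open Cfsg.Agent.Lib.helper94 (tperm validPerm imgAt idxPt ptIdx ptIdx_idxPt idxPt_ptIdx ptIdx_lt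
  tperm_idxPt validPerm_lt allBelow allBelow_iff)

/-- The image of the index `i` under the product of the tables of the word `w`. -/
def evalW : List ℕ → ℕ → ℕ
  | [], i => i
  | t :: w, i => imgAt t (evalW w i)

/-- The product of the table permutations of a word. -/
noncomputable def wprod (w : List ℕ) : Equiv.Perm GolayPt := (w.map tperm).prod

theorem wprod_nil : wprod [] = 1 := rfl

theorem wprod_cons (t : ℕ) (w : List ℕ) : wprod (t :: w) = tperm t * wprod w := by
  simp [wprod]

theorem wprod_append (v w : List ℕ) : wprod (v ++ w) = wprod v * wprod w := by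
  simp [wprod]

theorem wprod_idxPt (w : List ℕ) (hv : ∀ t ∈ w, validPerm t = true) (i : ℕ) (hi : i < 24) :
    evalW w i < 24 ∧ wprod w (idxPt i) = idxPt (evalW w i) := by
  induction w with
  | nil => exact ⟨hi, rfl⟩
  | cons t w ih =>
    have h1 := ih (fun s hs => hv s (List.mem_cons_of_mem _ hs))
    have ht := hv t List.mem_cons_self
    refine ⟨validPerm_lt ht _ h1.1, ?_⟩
    rw [wprod_cons, Equiv.Perm.mul_apply, h1.2, tperm_idxPt ht h1.1]
    rfl

/-- Test for the equality of the products of two words. -/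
def eqW (w1 w2 : List ℕ) : Bool := allBelow (fun i => Nat.beq (evalW w1 i) (evalW w2 i)) 24

theorem wprod_eq_of_eqW {w1 w2 : List ℕ} (hv1 : ∀ t ∈ w1, validPerm t = true)
    (hv2 : ∀ t ∈ w2, validPerm t = true) (h : eqW w1 w2 = true) : wprod w1 = wprod w2 := by
  rw [eqW, allBelow_iff] at h
  ext p
  have h1 := (wprod_idxPt w1 hv1 (ptIdx p) (ptIdx_lt p)).2
  have h2 := (wprod_idxPt w2 hv2 (ptIdx p) (ptIdx_lt p)).2
  rw [idxPt_ptIdx] at h1 h2
  rw [h1, h2, Nat.eq_of_beq_eq_true (h _ (ptIdx_lt p))]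

theorem evalW_eq_of_wprod_eq {w1 w2 : List ℕ} (hv1 : ∀ t ∈ w1, validPerm t = true)
    (hv2 : ∀ t ∈ w2, validPerm t = true) (h : wprod w1 = wprod w2) (i : ℕ) (hi : i < 24) :
    evalW w1 i = evalW w2 i := by
  have h1 := wprod_idxPt w1 hv1 i hi
  have h2 := wprod_idxPt w2 hv2 i hi
  have h3 : idxPt (evalW w1 i) = idxPt (evalW w2 i) := by rw [← h1.2, ← h2.2, h]
  have h4 := congrArg ptIdx h3
  rwa [ptIdx_idxPt h1.1, ptIdx_idxPt h2.1] at h4

/-- The packed table of the product of a word. -/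
def tblAux (w : List ℕ) : ℕ → ℕ
  | 0 => 0
  | n + 1 => Nat.lor (tblAux w n) (Nat.shiftLeft (evalW w n) (Nat.mul 5 n))

/-- The packed table of the product of a word. -/
def tblOf (w : List ℕ) : ℕ := tblAux w 24

theorem tblAux_congr {w1 w2 : List ℕ} (n : ℕ) (h : ∀ i < n, evalW w1 i = evalW w2 i) :
    tblAux w1 n = tblAux w2 n := by
  induction n with
  | zero => rfl
  | succ n ih =>
    rw [tblAux, tblAux, ih (fun i hi => h i (Nat.lt_succ_of_lt hi)), h n (Nat.lt_succ_self n)]

theorem tblOf_eq_of_wprod_eq {w1 w2 : List ℕ} (hv1 : ∀ t ∈ w1, validPerm t = true)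
    (hv2 : ∀ t ∈ w2, validPerm t = true) (h : wprod w1 = wprod w2) : tblOf w1 = tblOf w2 :=
  tblAux_congr 24 (fun i hi => evalW_eq_of_wprod_eq hv1 hv2 h i hi)

/-- Boolean membership test. -/
def memB (x : ℕ) : List ℕ → Bool
  | [] => false
  | y :: l => Nat.beq x y || memB x l

/-- Boolean test for the absence of repetitions. -/
def nodupB : List ℕ → Bool
  | [] => true
  | x :: l => !(memB x l) && nodupB l

theorem memB_iff (x : ℕ) (l : List ℕ) : memB x l = true ↔ x ∈ l := by
  induction l with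
  | nil => simp [memB]
  | cons y l ih =>
    rw [memB, Bool.or_eq_true, ih, List.mem_cons]
    constructor
    · rintro (h | h)
      · exact Or.inl (Nat.eq_of_beq_eq_true h)
      · exact Or.inr h
    · rintro (h | h)
      · exact Or.inl (by rw [h]; exact Nat.beq_refl _)
      · exact Or.inr h

theorem nodup_of_nodupB (l : List ℕ) (h : nodupB l = true) : l.Nodup := by
  induction l with
  | nil => exact List.nodup_nil
  | cons x l ih =>
    rw [nodupB, Bool.and_eq_true] at h
    rw [List.nodup_cons]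
    refine ⟨?_, ih h.2⟩
    intro hx
    have := (memB_iff x l).2 hx
    rw [this] at h
    simp at h

/-- All words `t₁^{a₁} ⋯ tₙ^{aₙ}` with `0 ≤ aᵢ < m`. -/
def pcWords (m : ℕ) : List ℕ → List (List ℕ)
  | [] => [[]]
  | t :: l => (List.range m).flatMap (fun k => (pcWords m l).map (fun w => List.replicate k t ++ w))

theorem mem_of_mem_pcWords (m : ℕ) (l : List ℕ) :
    ∀ w ∈ pcWords m l, ∀ t ∈ w, t ∈ l := by
  induction l with
  | nil =>
    intro w hw t ht
    simp only [pcWords, List.mem_singleton] at hw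
    subst hw
    simp at ht
  | cons s l ih =>
    intro w hw t ht
    simp only [pcWords, List.mem_flatMap, List.mem_range, List.mem_map] at hw
    obtain ⟨k, -, w', hw', rfl⟩ := hw
    rw [List.mem_append] at ht
    rcases ht with ht | ht
    · rw [List.mem_replicate] at ht
      rw [ht.2]; exact List.mem_cons_self
    · exact List.mem_cons_of_mem _ (ih w' hw' t ht)

/-- Lower bound for the order of a subgroup containing the table permutations of `gens`: the
number of words in `gens` with pairwise distinct products. -/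
theorem length_le_card_of_words {M : Subgroup (Equiv.Perm GolayPt)} (Q : Subgroup M)
    (gens : List ℕ) (hgv : ∀ t ∈ gens, validPerm t = true)
    (hg : ∀ t ∈ gens, ∃ q ∈ Q, (q : Equiv.Perm GolayPt) = tperm t)
    (ws : List (List ℕ)) (hws : ∀ w ∈ ws, ∀ t ∈ w, t ∈ gens)
    (hnd : nodupB (ws.map tblOf) = true) : ws.length ≤ Nat.card Q := by
  have hw : ∀ w : List ℕ, (∀ t ∈ w, t ∈ gens) → ∃ q ∈ Q, (q : Equiv.Perm GolayPt) = wprod w := by
    intro w
    induction w with
    | nil => intro _; exact ⟨1, Q.one_mem, rfl⟩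
    | cons t w ih =>
      intro h
      obtain ⟨q1, hq1, e1⟩ := hg t (h t List.mem_cons_self)
      obtain ⟨q2, hq2, e2⟩ := ih (fun s hs => h s (List.mem_cons_of_mem _ hs))
      refine ⟨q1 * q2, Q.mul_mem hq1 hq2, ?_⟩
      rw [wprod_cons, ← e1, ← e2]; rfl
  have hnodup := nodup_of_nodupB _ hnd
  have hex : ∀ i : Fin ws.length, ∃ q : Q, ((q : M) : Equiv.Perm GolayPt) = wprod (ws.get i) := by
    intro i
    obtain ⟨q, hq, e⟩ := hw (ws.get i) (hws _ (List.get_mem ws i))
    exact ⟨⟨q, hq⟩, e⟩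
  choose f hf using hex
  have hinj : Function.Injective f := by
    intro i j hij
    have h1 : wprod (ws.get i) = wprod (ws.get j) := by rw [← hf i, ← hf j, hij]
    have h2 : tblOf (ws.get i) = tblOf (ws.get j) :=
      tblOf_eq_of_wprod_eq (fun t ht => hgv t (hws _ (List.get_mem ws i) t ht))
        (fun t ht => hgv t (hws _ (List.get_mem ws j) t ht)) h1
    have hi : i.val < (ws.map tblOf).length := by rw [List.length_map]; exact i.2
    have hj : j.val < (ws.map tblOf).length := by rw [List.length_map]; exact j.2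
    have h3 : (ws.map tblOf)[i.val]'hi = (ws.map tblOf)[j.val]'hj := by
      rw [List.getElem_map, List.getElem_map]; exact h2
    exact Fin.ext ((hnodup.getElem_inj_iff).1 h3)
  have := Nat.card_le_card_of_injective f hinj
  rwa [Nat.card_fin] at this

section sub

variable (M : Subgroup (Equiv.Perm GolayPt))

theorem sub_sq {A : ℕ} (hA : tperm A ∈ M) (hv : validPerm A = true)
    (h : eqW [A, A] [] = true) : (⟨tperm A, hA⟩ : M) * ⟨tperm A, hA⟩ = 1 := by
  apply Subtype.ext
  have := wprod_eq_of_eqW (w1 := [A, A]) (w2 := []) (by simp [hv]) (by simp) h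
  simpa [wprod] using this

theorem sub_comm {A B : ℕ} (hA : tperm A ∈ M) (hB : tperm B ∈ M) (hvA : validPerm A = true)
    (hvB : validPerm B = true) (h : eqW [A, B] [B, A] = true) :
    (⟨tperm A, hA⟩ : M) * ⟨tperm B, hB⟩ = ⟨tperm B, hB⟩ * ⟨tperm A, hA⟩ := by
  apply Subtype.ext
  have := wprod_eq_of_eqW (w1 := [A, B]) (w2 := [B, A]) (by simp [hvA, hvB]) (by simp [hvA, hvB]) h
  simpa [wprod] using this

/-- `a b = c a`, i.e. `a b a⁻¹ = c`. -/
theorem sub_conj {A B C : ℕ} (hA : tperm A ∈ M) (hB : tperm B ∈ M) (hC : tperm C ∈ M)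
    (hvA : validPerm A = true) (hvB : validPerm B = true) (hvC : validPerm C = true)
    (h : eqW [A, B] [C, A] = true) :
    (⟨tperm A, hA⟩ : M) * ⟨tperm B, hB⟩ * (⟨tperm A, hA⟩ : M)⁻¹ = ⟨tperm C, hC⟩ := by
  rw [mul_inv_eq_iff_eq_mul]
  apply Subtype.ext
  have := wprod_eq_of_eqW (w1 := [A, B]) (w2 := [C, A]) (by simp [hvA, hvB])
    (by simp [hvA, hvC]) h
  simpa [wprod] using this

/-- `[a, b] = c` in the form `a b = c b a`. -/
theorem sub_commutator {A B C : ℕ} (hA : tperm A ∈ M) (hB : tperm B ∈ M) (hC : tperm C ∈ M)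
    (hvA : validPerm A = true) (hvB : validPerm B = true) (hvC : validPerm C = true)
    (h : eqW [A, B] [C, B, A] = true) :
    ⁅(⟨tperm A, hA⟩ : M), (⟨tperm B, hB⟩ : M)⁆ = (⟨tperm C, hC⟩ : M) := by
  rw [commutatorElement_def, mul_inv_eq_iff_eq_mul, mul_inv_eq_iff_eq_mul]
  apply Subtype.ext
  have := wprod_eq_of_eqW (w1 := [A, B]) (w2 := [C, B, A]) (by simp [hvA, hvB])
    (by simp [hvA, hvB, hvC]) h
  simpa [wprod, mul_assoc] using this

/-- A general relation between two words of at most... arbitrary length. -/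
theorem sub_word (w1 w2 : List ℕ) (hv1 : ∀ t ∈ w1, validPerm t = true)
    (hv2 : ∀ t ∈ w2, validPerm t = true) (h : eqW w1 w2 = true) : wprod w1 = wprod w2 :=
  wprod_eq_of_eqW hv1 hv2 h

theorem sub_cube {A : ℕ} (hA : tperm A ∈ M) (hv : validPerm A = true)
    (h : eqW [A, A, A] [] = true) : (⟨tperm A, hA⟩ : M) ^ 3 = 1 := by
  apply Subtype.ext
  have := wprod_eq_of_eqW (w1 := [A, A, A]) (w2 := []) (by simp [hv]) (by simp) h
  rw [pow_succ, pow_two]
  simpa [wprod, mul_assoc] using this

/-- An involution `g` inverting `a`. -/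
theorem sub_inverts {A B : ℕ} (hA : tperm A ∈ M) (hB : tperm B ∈ M)
    (hvA : validPerm A = true) (hvB : validPerm B = true)
    (h1 : eqW [A, A] [] = true) (h2 : eqW [A, B, A, B] [] = true) :
    (⟨tperm A, hA⟩ : M) * ⟨tperm B, hB⟩ * (⟨tperm A, hA⟩ : M)⁻¹ = (⟨tperm B, hB⟩ : M)⁻¹ := by
  have e1 : (⟨tperm A, hA⟩ : M) * ⟨tperm A, hA⟩ = 1 := sub_sq M hA hvA h1
  have e2 : (⟨tperm A, hA⟩ : M) * ⟨tperm B, hB⟩ * ⟨tperm A, hA⟩ * ⟨tperm B, hB⟩ = 1 := by
    apply Subtype.ext
    have := wprod_eq_of_eqW (w1 := [A, B, A, B]) (w2 := []) (by simp [hvA, hvB]) (by simp) h2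
    simpa [wprod, mul_assoc] using this
  have e3 : (⟨tperm A, hA⟩ : M)⁻¹ = ⟨tperm A, hA⟩ := inv_eq_of_mul_eq_one_left e1
  rw [e3]
  exact eq_inv_of_mul_eq_one_left e2

end sub

end Cfsg.Agent.Lib.helper33
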