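/-
More tools for computing with words of table permutations inside a subgroup of the permutations
of the 24 points.  (owner: helper33)
-/
import Mathlib
import Cfsg.Prelude.Def_Sporadic_a
import Cfsg.Prelude.Def_Spor_Mathieu
import Cfsg.Agent.Lib.helper33.SchurWords

set_option autoImplicit false

namespace Cfsg.Agent.Lib.helper33

open Cfsg
open scoped commutatorElement
open Cfsg.Agent.Lib.helper94 (tperm validPerm imgAt idxPt ptIdx ptIdx_idxPt idxPt_ptIdx ptIdx_lt
  tperm_idxPt allBelow allBelow_iff isM24 isM24_valid tperm_mem_M24)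

theorem wprod_ne_one (w : List ℕ) (hv : ∀ t ∈ w, validPerm t = true) (i : ℕ) (hi : i < 24)
    (h : Nat.beq (evalW w i) i = false) : wprod w ≠ 1 := by
  intro h1
  have h2 := wprod_idxPt w hv i hi
  rw [h1, Equiv.Perm.one_apply] at h2
  have h3 := congrArg ptIdx h2.2
  rw [ptIdx_idxPt hi, ptIdx_idxPt h2.1] at h3
  rw [← h3, Nat.beq_refl] at h
  exact Bool.noConfusion h

section sub

variable (M : Subgroup (Equiv.Perm GolayPt))

theorem sub_ne_one (g : M) (w : List ℕ) (hw : (g : Equiv.Perm GolayPt) = wprod w)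
    (hv : ∀ t ∈ w, validPerm t = true) (i : ℕ) (hi : i < 24)
    (h : Nat.beq (evalW w i) i = false) : g ≠ 1 := by
  intro h1
  apply wprod_ne_one w hv i hi h
  rw [← hw, h1]; rfl

/-- Products of words in elements of a subgroup `Q` lie in `Q`. -/
theorem exists_mem_wprod (Q : Subgroup M) (w : List ℕ)
    (hw : ∀ t ∈ w, ∃ q ∈ Q, (q : Equiv.Perm GolayPt) = tperm t) :
    ∃ q ∈ Q, (q : Equiv.Perm GolayPt) = wprod w := by
  induction w with
  | nil => exact ⟨1, Q.one_mem, rfl⟩
  | cons t w ih =>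
    obtain ⟨q1, hq1, e1⟩ := hw t List.mem_cons_self
    obtain ⟨q2, hq2, e2⟩ := ih (fun s hs => hw s (List.mem_cons_of_mem _ hs))
    refine ⟨q1 * q2, Q.mul_mem hq1 hq2, ?_⟩
    rw [wprod_cons, ← e1, ← e2]; rfl

/-- `a b a⁻¹` is the product of the word `w`, hence lies in a subgroup containing the letters of
`w`. -/
theorem sub_conj_mem {A B : ℕ} (hA : tperm A ∈ M) (hB : tperm B ∈ M)
    (hvA : validPerm A = true) (hvB : validPerm B = true) (w : List ℕ)
    (hvw : ∀ t ∈ w, validPerm t = true) (Q : Subgroup M)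
    (hw : ∀ t ∈ w, ∃ q ∈ Q, (q : Equiv.Perm GolayPt) = tperm t)
    (h : eqW [A, B] (w ++ [A]) = true) :
    (⟨tperm A, hA⟩ : M) * ⟨tperm B, hB⟩ * (⟨tperm A, hA⟩ : M)⁻¹ ∈ Q := by
  obtain ⟨q, hq, e⟩ := exists_mem_wprod M Q w hw
  have h1 := wprod_eq_of_eqW (w1 := [A, B]) (w2 := w ++ [A]) (by simp [hvA, hvB])
    (by
      intro t ht
      rw [List.mem_append, List.mem_singleton] at ht
      rcases ht with ht | rfl
      · exact hvw t ht
      · exact hvA) h
  rw [wprod_append] at h1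
  have h2 : (⟨tperm A, hA⟩ : M) * ⟨tperm B, hB⟩ * (⟨tperm A, hA⟩ : M)⁻¹ = q := by
    rw [mul_inv_eq_iff_eq_mul]
    apply Subtype.ext
    simp only [Subgroup.coe_mul]
    rw [e]
    simpa [wprod] using h1
  rw [h2]; exact hq

/-- An element which is the product of a word lies in a subgroup containing the letters. -/
theorem sub_mem_of_word {B : ℕ} (hB : tperm B ∈ M) (hvB : validPerm B = true) (w : List ℕ)
    (hvw : ∀ t ∈ w, validPerm t = true) (Q : Subgroup M)
    (hw : ∀ t ∈ w, ∃ q ∈ Q, (q : Equiv.Perm GolayPt) = tperm t)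
    (h : eqW [B] w = true) : (⟨tperm B, hB⟩ : M) ∈ Q := by
  obtain ⟨q, hq, e⟩ := exists_mem_wprod M Q w hw
  have h1 := wprod_eq_of_eqW (w1 := [B]) (w2 := w) (by simp [hvB]) hvw h
  have h2 : (⟨tperm B, hB⟩ : M) = q := by
    apply Subtype.ext
    rw [e]
    simpa [wprod] using h1
  rw [h2]; exact hq

/-- The value of `e * (c e c⁻¹)`. -/
theorem sub_psi_eq {E C P : ℕ} (hE : tperm E ∈ M) (hC : tperm C ∈ M)
    (hvE : validPerm E = true) (hvC : validPerm C = true) (hvP : validPerm P = true)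
    (h : eqW [E, C, E] [P, C] = true) :
    (((⟨tperm E, hE⟩ : M) * ((⟨tperm C, hC⟩ : M) * ⟨tperm E, hE⟩ * (⟨tperm C, hC⟩ : M)⁻¹) : M) :
      Equiv.Perm GolayPt) = tperm P := by
  have h1 := wprod_eq_of_eqW (w1 := [E, C, E]) (w2 := [P, C]) (by simp [hvE, hvC])
    (by simp [hvP, hvC]) h
  have h2 : tperm E * (tperm C * tperm E) = tperm P * tperm C := by simpa [wprod] using h1
  simp only [Subgroup.coe_mul, Subgroup.coe_inv]
  rw [← mul_assoc, ← mul_assoc, mul_inv_eq_iff_eq_mul, ← h2, mul_assoc]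

end sub

/-- Membership of a table permutation in `M23`. -/
theorem tperm_mem_M23 {t : ℕ} (h : isM24 t = true) (h23 : Nat.beq (imgAt t 23) 23 = true) :
    tperm t ∈ Spor.M23 := by
  refine Subgroup.mem_inf.2 ⟨tperm_mem_M24 h, MulAction.mem_stabilizer_iff.2 ?_⟩
  have h1 := tperm_idxPt (isM24_valid h) (i := 23) (by norm_num)
  rw [Nat.eq_of_beq_eq_true h23] at h1
  exact h1

/-- Boolean test for membership of a table permutation in `M23`. -/
def isM23 (t : ℕ) : Bool := isM24 t && Nat.beq (imgAt t 23) 23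

theorem isM23_valid {t : ℕ} (h : isM23 t = true) : validPerm t = true := by
  rw [isM23, Bool.and_eq_true] at h; exact isM24_valid h.1

theorem tperm_mem_M23_of_isM23 {t : ℕ} (h : isM23 t = true) : tperm t ∈ Spor.M23 := by
  rw [isM23, Bool.and_eq_true] at h; exact tperm_mem_M23 h.1 h.2

end Cfsg.Agent.Lib.helper33
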