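/-
The Schur multiplier of `M11`: a semidihedral Sylow 2-subgroup and a Sylow 3-subgroup given by
explicit elements.  (owner: helper33; data generated by computer)
-/
import Mathlib
import Cfsg.Prelude.Def_Sporadic_a
import Cfsg.Prelude.Def_Spor_Mathieu
import Cfsg.Agent.Lib.helper94.M24Elts
import Cfsg.Agent.Lib.helper9.M11Out
import Cfsg.Agent.Lib.helper33.SchurSD16
import Cfsg.Agent.Lib.helper33.SchurThree
import Cfsg.Agent.Lib.helper33.SchurWords2

set_option autoImplicit false

namespace Cfsg.Agent.Lib.helper33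

open Cfsg
open Cfsg.Agent.Lib.helper94 (tperm validPerm imgAt idxPt ptIdx ptIdx_idxPt idxPt_ptIdx ptIdx_lt
  tperm_idxPt tperm_apply allBelow allBelow_iff isM24 isM24_valid tperm_mem_M24 applyP smul_setOf)

theorem wprod_replicate (n A : ℕ) : wprod (List.replicate n A) = tperm A ^ n := by
  simp [wprod]

section sub

variable (M : Subgroup (Equiv.Perm GolayPt))

theorem sub_pow_eq_one {A : ℕ} (hA : tperm A ∈ M) (hv : validPerm A = true) (n : ℕ)
    (h : eqW (List.replicate n A) [] = true) : (⟨tperm A, hA⟩ : M) ^ n = 1 := by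
  apply Subtype.ext
  have := wprod_eq_of_eqW (w1 := List.replicate n A) (w2 := [])
    (by intro t ht; rw [List.eq_of_mem_replicate ht]; exact hv) (by simp) h
  rw [wprod_replicate] at this
  simpa [wprod] using this

theorem sub_pow_ne_one {A : ℕ} (hA : tperm A ∈ M) (hv : validPerm A = true) (n i : ℕ)
    (hi : i < 24) (h : Nat.beq (evalW (List.replicate n A) i) i = false) :
    (⟨tperm A, hA⟩ : M) ^ n ≠ 1 := by
  apply sub_ne_one M _ (List.replicate n A) _
    (by intro t ht; rw [List.eq_of_mem_replicate ht]; exact hv) i hi h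
  rw [wprod_replicate]; rfl

theorem sub_conj_pow {A B : ℕ} (hA : tperm A ∈ M) (hB : tperm B ∈ M)
    (hvA : validPerm A = true) (hvB : validPerm B = true) (n : ℕ)
    (h : eqW [A, B] (List.replicate n B ++ [A]) = true) :
    (⟨tperm A, hA⟩ : M) * ⟨tperm B, hB⟩ * (⟨tperm A, hA⟩ : M)⁻¹ = (⟨tperm B, hB⟩ : M) ^ n := by
  rw [mul_inv_eq_iff_eq_mul]
  apply Subtype.ext
  have := wprod_eq_of_eqW (w1 := [A, B]) (w2 := List.replicate n B ++ [A])
    (by simp [hvA, hvB])
    (by
      intro t ht
      rw [List.mem_append, List.mem_singleton] at ht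
      rcases ht with ht | rfl
      · rw [List.eq_of_mem_replicate ht]; exact hvB
      · exact hvA) h
  rw [wprod_append, wprod_replicate] at this
  simpa [wprod] using this

end sub

end Cfsg.Agent.Lib.helper33

namespace Cfsg.Agent.Lib.helper33.SM11

open Cfsg
open scoped Pointwise
open scoped commutatorElement
open Cfsg.Agent.Lib.helper33
open Cfsg.Agent.Lib.helper94 (tperm validPerm imgAt idxPt ptIdx ptIdx_idxPt idxPt_ptIdx ptIdx_lt
  tperm_idxPt tperm_apply allBelow allBelow_iff isM24 isM24_valid tperm_mem_M24 applyP smul_setOf)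

/-- The mask of the dodecad of squares. -/
def sqMask : ℕ := 0x5335f

theorem squareDodecad_eq : Spor.squareDodecad = Cfsg.Agent.Lib.helper94.setOf sqMask := by
  decide

/-- Boolean test for membership of a table permutation in `M11`. -/
def isM11 (t : ℕ) : Bool :=
  isM24 t && (Nat.beq (applyP t 1 sqMask) sqMask && Nat.beq (imgAt t 0) 0)

theorem isM11_valid {t : ℕ} (h : isM11 t = true) : validPerm t = true := by
  rw [isM11, Bool.and_eq_true] at h; exact isM24_valid h.1

theorem tperm_mem_M11 {t : ℕ} (h : isM11 t = true) : tperm t ∈ Spor.M11 := by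
  rw [isM11, Bool.and_eq_true, Bool.and_eq_true] at h
  obtain ⟨h1, h2, h3⟩ := h
  have hv := isM24_valid h1
  refine Subgroup.mem_inf.2 ⟨Subgroup.mem_inf.2 ⟨tperm_mem_M24 h1,
    MulAction.mem_stabilizer_iff.2 ?_⟩, MulAction.mem_stabilizer_iff.2 ?_⟩
  · rw [squareDodecad_eq, smul_setOf hv, Nat.eq_of_beq_eq_true h2]
  · have h4 := tperm_idxPt hv (i := 0) (by norm_num)
    rw [Nat.eq_of_beq_eq_true h3] at h4
    exact h4

theorem card_M11 : Nat.card ↥Spor.M11 = 7920 := by
  obtain ⟨e⟩ := Cfsg.Agent.Lib.helper9.exists_equiv_M11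
  rw [Nat.card_congr e.toEquiv, Cfsg.Agent.Lib.helper9.card_G11]

def tU : ℕ := 0x2d2e78c1e8b2926acda47096c90c20
def tS : ℕ := 0x5daae7b0e39d132ba9a8890a680820
def tA : ℕ := 0xb2eb42b4e99b870bc584521e690820
def tB : ℕ := 0x5de8e29a329d503b29a93c1ec20820
def tG : ℕ := 0x996aebc2325d1237a9a839ac460440

theorem tbl_ok : isM11 tU = true ∧ isM11 tS = true ∧ isM11 tA = true ∧ isM11 tB = true ∧ isM11 tG = true := by
  decide +kernel

theorem m_tU : tperm tU ∈ Spor.M11 := tperm_mem_M11 tbl_ok.1
theorem v_tU : validPerm tU = true := isM11_valid tbl_ok.1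
theorem m_tS : tperm tS ∈ Spor.M11 := tperm_mem_M11 tbl_ok.2.1
theorem v_tS : validPerm tS = true := isM11_valid tbl_ok.2.1
theorem m_tA : tperm tA ∈ Spor.M11 := tperm_mem_M11 tbl_ok.2.2.1
theorem v_tA : validPerm tA = true := isM11_valid tbl_ok.2.2.1
theorem m_tB : tperm tB ∈ Spor.M11 := tperm_mem_M11 tbl_ok.2.2.2.1
theorem v_tB : validPerm tB = true := isM11_valid tbl_ok.2.2.2.1
theorem m_tG : tperm tG ∈ Spor.M11 := tperm_mem_M11 tbl_ok.2.2.2.2
theorem v_tG : validPerm tG = true := isM11_valid tbl_ok.2.2.2.2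

noncomputable def gu : ↥Spor.M11 := ⟨tperm tU, m_tU⟩
noncomputable def gs : ↥Spor.M11 := ⟨tperm tS, m_tS⟩
noncomputable def ea : ↥Spor.M11 := ⟨tperm tA, m_tA⟩
noncomputable def eb : ↥Spor.M11 := ⟨tperm tB, m_tB⟩
noncomputable def eg : ↥Spor.M11 := ⟨tperm tG, m_tG⟩

theorem sd16rel : SD16Rel gu gs where
  u8 := sub_pow_eq_one Spor.M11 m_tU v_tU 8 (by decide +kernel)
  u4 := sub_pow_ne_one Spor.M11 m_tU v_tU 4 2 (by norm_num) (by decide +kernel)
  s2 := sub_sq Spor.M11 m_tS v_tS (by decide +kernel)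
  su := sub_conj_pow Spor.M11 m_tS m_tU v_tS v_tU 3 (by decide +kernel)

def gens2 : List ℕ := [tU, tS]

/-- Sixteen words with distinct products. -/
def words16 : List (List ℕ) :=
  (List.range 8).flatMap (fun k => [List.replicate k tU, List.replicate k tU ++ [tS]])

theorem nodup16 : nodupB (words16.map tblOf) = true := by decide +kernel

theorem len16 : words16.length = 16 := by decide +kernel

theorem words16_mem : ∀ w ∈ words16, ∀ t ∈ w, t ∈ gens2 := by
  intro w hw t ht
  simp only [words16, List.mem_flatMap, List.mem_range, List.mem_cons, List.not_mem_nil,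
    or_false] at hw
  obtain ⟨k, -, rfl | rfl⟩ := hw
  · rw [List.eq_of_mem_replicate ht]; simp [gens2]
  · rw [List.mem_append, List.mem_singleton] at ht
    rcases ht with ht | rfl
    · rw [List.eq_of_mem_replicate ht]; simp [gens2]
    · simp [gens2]

theorem card_Q : 16 ≤ Nat.card (Subgroup.closure ({gu, gs} : Set ↥Spor.M11)) := by
  have h := length_le_card_of_words (Subgroup.closure ({gu, gs} : Set ↥Spor.M11)) gens2
    ?_ ?_ words16 words16_mem nodup16
  · rw [len16] at h; exact h
  · intro t ht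
    simp only [gens2, List.mem_cons, List.not_mem_nil, or_false] at ht
    rcases ht with rfl | rfl
    · exact v_tU
    · exact v_tS
  · intro t ht
    simp only [gens2, List.mem_cons, List.not_mem_nil, or_false] at ht
    rcases ht with rfl | rfl
    · exact ⟨gu, Subgroup.subset_closure (by simp), rfl⟩
    · exact ⟨gs, Subgroup.subset_closure (by simp), rfl⟩

/-- `M11` has no stem extension with kernel of order 2. -/
theorem no_pstem_two {Γ : Type*} [Group Γ] [Finite Γ] (σ : Γ →* ↥Spor.M11) (hσ : PStem σ 2) :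
    False :=
  pstem_false_of_SD16 hσ sd16rel card_Q 495 (by norm_num) (by rw [card_M11])

theorem e9rel : E9Rel ea eb eg where
  a3 := sub_cube Spor.M11 m_tA v_tA (by decide +kernel)
  b3 := sub_cube Spor.M11 m_tB v_tB (by decide +kernel)
  ab := sub_comm Spor.M11 m_tA m_tB v_tA v_tB (by decide +kernel)
  ga := sub_conj Spor.M11 m_tG m_tA m_tA v_tG v_tA v_tA (by decide +kernel)
  gb := sub_inverts Spor.M11 m_tG m_tB v_tG v_tB (by decide +kernel) (by decide +kernel)

def gens3 : List ℕ := [tA, tB]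

theorem nodup9 : nodupB ((pcWords 3 gens3).map tblOf) = true := by decide +kernel

theorem len9 : (pcWords 3 gens3).length = 9 := by decide +kernel

theorem card_P : 9 ≤ Nat.card (Subgroup.closure ({ea, eb} : Set ↥Spor.M11)) := by
  have h := length_le_card_of_words (Subgroup.closure ({ea, eb} : Set ↥Spor.M11)) gens3
    ?_ ?_ (pcWords 3 gens3) (mem_of_mem_pcWords 3 gens3) nodup9
  · rw [len9] at h; exact h
  · intro t ht
    simp only [gens3, List.mem_cons, List.not_mem_nil, or_false] at ht
    rcases ht with rfl | rfl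
    · exact v_tA
    · exact v_tB
  · intro t ht
    simp only [gens3, List.mem_cons, List.not_mem_nil, or_false] at ht
    rcases ht with rfl | rfl
    · exact ⟨ea, Subgroup.subset_closure (by simp), rfl⟩
    · exact ⟨eb, Subgroup.subset_closure (by simp), rfl⟩

/-- `M11` has no stem extension with kernel of order 3. -/
theorem no_pstem_three {Γ : Type*} [Group Γ] [Finite Γ] (σ : Γ →* ↥Spor.M11) (hσ : PStem σ 3) :
    False :=
  pstem_false_of_E9 hσ e9rel card_P 880 (by norm_num) (by rw [card_M11])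

end Cfsg.Agent.Lib.helper33.SM11

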