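/-
The Schur multiplier of `M12` has order at most two: explicit Sylow subgroups, a coset table for
the Sylow 2-subgroup, and the classes of involutions.  (owner: helper33; data generated by
computer)
-/
import Mathlib
import Cfsg.Prelude.Def_Sporadic_a
import Cfsg.Prelude.Def_Spor_Mathieu
import Cfsg.Agent.Lib.helper94.M24Elts
import Cfsg.Agent.Lib.helper9.M12Out
import Cfsg.Agent.Lib.helper33.SchurM11
import Cfsg.Agent.Lib.helper33.SchurU4
import Cfsg.Agent.Lib.helper33.CosetTable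
import Cfsg.Agent.Lib.helper33.SchurQuot

set_option autoImplicit false

namespace Cfsg.Agent.Lib.helper33.SM12

open Cfsg
open scoped Pointwise
open scoped commutatorElement
open Cfsg.Agent.Lib.helper33
open Cfsg.Agent.Lib.helper94 (tperm validPerm imgAt idxPt ptIdx ptIdx_idxPt idxPt_ptIdx ptIdx_lt
  tperm_idxPt tperm_apply allBelow allBelow_iff isM24 isM24_valid tperm_mem_M24 applyP smul_setOf)

/-- Boolean test for membership of a table permutation in `M12`. -/
def isM12 (t : ℕ) : Bool := isM24 t && Nat.beq (applyP t 1 SM11.sqMask) SM11.sqMask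

theorem isM12_valid {t : ℕ} (h : isM12 t = true) : validPerm t = true := by
  rw [isM12, Bool.and_eq_true] at h; exact isM24_valid h.1

theorem tperm_mem_M12 {t : ℕ} (h : isM12 t = true) : tperm t ∈ Spor.M12 := by
  rw [isM12, Bool.and_eq_true] at h
  obtain ⟨h1, h2⟩ := h
  have hv := isM24_valid h1
  refine Subgroup.mem_inf.2 ⟨tperm_mem_M24 h1, MulAction.mem_stabilizer_iff.2 ?_⟩
  rw [SM11.squareDodecad_eq, smul_setOf hv, Nat.eq_of_beq_eq_true h2]

theorem card_M12 : Nat.card ↥Spor.M12 = 95040 := by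
  obtain ⟨e⟩ := Cfsg.Agent.Lib.helper9.exists_equiv_M12
  rw [Nat.card_congr e.toEquiv]
  exact Cfsg.Agent.Lib.helper9.card_stabMask _ Cfsg.Agent.Lib.helper9.d1_mem

/-- The element of `M12` with a given table. -/
noncomputable abbrev mk (t : ℕ) (h : isM12 t = true) : ↥Spor.M12 := ⟨tperm t, tperm_mem_M12 h⟩

def tT0 : ℕ := 0xbae6fac232a1504b292d399cc18801
def tT1 : ℕ := 0x8cceab32e6594927d109ac1cd08062
def tT2 : ℕ := 0x2d6cb3a5c4544c8a3e4c9b6f010c01
def tU : ℕ := 0x2d0eab11c95dd90abe469b62810c20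
def tS : ℕ := 0x8da6fac2f2a390c59ccd524a410c20
def tB0 : ℕ := 0xbae957b6289ba44b1cd0524ac18820
def tA0 : ℕ := 0x2d176519cc3c530acda47cae810c01
def tA1 : ℕ := 0x2d176519cc3c530acda47cae810c01
def tA2 : ℕ := 0x8cceab32e6594927d109ac1cd08062
def tA3 : ℕ := 0x729f3a40b2add063d88d5b22900443
def tH1 : ℕ := 0xbdab49ca307b9ac5a928398a418820
def tH2 : ℕ := 0x75cf19856653db0ad88ca0cb242440
def tH3 : ℕ := 0x8ba9738ac9aaa049ae4d784a861860
def tEA : ℕ := 0x8d967bb6637d40c729222c28831032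
def tEB : ℕ := 0xb9df59c228a59a9514327016618984
def tEC : ℕ := 0xba9c79c228b2c6cabd322928013426
def tEG : ℕ := 0x9da95b822679da92a9847416818832
def tF5 : ℕ := 0x5da6ea3142abcd089d0db90a990c20
def tF11 : ℕ := 0x5d8f17a0a375c50552449b2a668520

theorem tbl_ok : isM12 tT0 = true ∧
    isM12 tT1 = true ∧
    isM12 tT2 = true ∧
    isM12 tU = true ∧
    isM12 tS = true ∧
    isM12 tB0 = true ∧
    isM12 tA0 = true ∧
    isM12 tA1 = true ∧
    isM12 tA2 = true ∧
    isM12 tA3 = true ∧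
    isM12 tH1 = true ∧
    isM12 tH2 = true ∧
    isM12 tH3 = true ∧
    isM12 tEA = true ∧
    isM12 tEB = true ∧
    isM12 tEC = true ∧
    isM12 tEG = true ∧
    isM12 tF5 = true ∧
    isM12 tF11 = true := by
  decide +kernel

theorem i_tT0 : isM12 tT0 = true := tbl_ok.1
theorem m_tT0 : tperm tT0 ∈ Spor.M12 := tperm_mem_M12 i_tT0
theorem v_tT0 : validPerm tT0 = true := isM12_valid i_tT0
theorem i_tT1 : isM12 tT1 = true := tbl_ok.2.1
theorem m_tT1 : tperm tT1 ∈ Spor.M12 := tperm_mem_M12 i_tT1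
theorem v_tT1 : validPerm tT1 = true := isM12_valid i_tT1
theorem i_tT2 : isM12 tT2 = true := tbl_ok.2.2.1
theorem m_tT2 : tperm tT2 ∈ Spor.M12 := tperm_mem_M12 i_tT2
theorem v_tT2 : validPerm tT2 = true := isM12_valid i_tT2
theorem i_tU : isM12 tU = true := tbl_ok.2.2.2.1
theorem m_tU : tperm tU ∈ Spor.M12 := tperm_mem_M12 i_tU
theorem v_tU : validPerm tU = true := isM12_valid i_tU
theorem i_tS : isM12 tS = true := tbl_ok.2.2.2.2.1
theorem m_tS : tperm tS ∈ Spor.M12 := tperm_mem_M12 i_tS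
theorem v_tS : validPerm tS = true := isM12_valid i_tS
theorem i_tB0 : isM12 tB0 = true := tbl_ok.2.2.2.2.2.1
theorem m_tB0 : tperm tB0 ∈ Spor.M12 := tperm_mem_M12 i_tB0
theorem v_tB0 : validPerm tB0 = true := isM12_valid i_tB0
theorem i_tA0 : isM12 tA0 = true := tbl_ok.2.2.2.2.2.2.1
theorem m_tA0 : tperm tA0 ∈ Spor.M12 := tperm_mem_M12 i_tA0
theorem v_tA0 : validPerm tA0 = true := isM12_valid i_tA0
theorem i_tA1 : isM12 tA1 = true := tbl_ok.2.2.2.2.2.2.2.1
theorem m_tA1 : tperm tA1 ∈ Spor.M12 := tperm_mem_M12 i_tA1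
theorem v_tA1 : validPerm tA1 = true := isM12_valid i_tA1
theorem i_tA2 : isM12 tA2 = true := tbl_ok.2.2.2.2.2.2.2.2.1
theorem m_tA2 : tperm tA2 ∈ Spor.M12 := tperm_mem_M12 i_tA2
theorem v_tA2 : validPerm tA2 = true := isM12_valid i_tA2
theorem i_tA3 : isM12 tA3 = true := tbl_ok.2.2.2.2.2.2.2.2.2.1
theorem m_tA3 : tperm tA3 ∈ Spor.M12 := tperm_mem_M12 i_tA3
theorem v_tA3 : validPerm tA3 = true := isM12_valid i_tA3
theorem i_tH1 : isM12 tH1 = true := tbl_ok.2.2.2.2.2.2.2.2.2.2.1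
theorem m_tH1 : tperm tH1 ∈ Spor.M12 := tperm_mem_M12 i_tH1
theorem v_tH1 : validPerm tH1 = true := isM12_valid i_tH1
theorem i_tH2 : isM12 tH2 = true := tbl_ok.2.2.2.2.2.2.2.2.2.2.2.1
theorem m_tH2 : tperm tH2 ∈ Spor.M12 := tperm_mem_M12 i_tH2
theorem v_tH2 : validPerm tH2 = true := isM12_valid i_tH2
theorem i_tH3 : isM12 tH3 = true := tbl_ok.2.2.2.2.2.2.2.2.2.2.2.2.1
theorem m_tH3 : tperm tH3 ∈ Spor.M12 := tperm_mem_M12 i_tH3
theorem v_tH3 : validPerm tH3 = true := isM12_valid i_tH3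
theorem i_tEA : isM12 tEA = true := tbl_ok.2.2.2.2.2.2.2.2.2.2.2.2.2.1
theorem m_tEA : tperm tEA ∈ Spor.M12 := tperm_mem_M12 i_tEA
theorem v_tEA : validPerm tEA = true := isM12_valid i_tEA
theorem i_tEB : isM12 tEB = true := tbl_ok.2.2.2.2.2.2.2.2.2.2.2.2.2.2.1
theorem m_tEB : tperm tEB ∈ Spor.M12 := tperm_mem_M12 i_tEB
theorem v_tEB : validPerm tEB = true := isM12_valid i_tEB
theorem i_tEC : isM12 tEC = true := tbl_ok.2.2.2.2.2.2.2.2.2.2.2.2.2.2.2.1
theorem m_tEC : tperm tEC ∈ Spor.M12 := tperm_mem_M12 i_tEC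
theorem v_tEC : validPerm tEC = true := isM12_valid i_tEC
theorem i_tEG : isM12 tEG = true := tbl_ok.2.2.2.2.2.2.2.2.2.2.2.2.2.2.2.2.1
theorem m_tEG : tperm tEG ∈ Spor.M12 := tperm_mem_M12 i_tEG
theorem v_tEG : validPerm tEG = true := isM12_valid i_tEG
theorem i_tF5 : isM12 tF5 = true := tbl_ok.2.2.2.2.2.2.2.2.2.2.2.2.2.2.2.2.2.1
theorem m_tF5 : tperm tF5 ∈ Spor.M12 := tperm_mem_M12 i_tF5
theorem v_tF5 : validPerm tF5 = true := isM12_valid i_tF5
theorem i_tF11 : isM12 tF11 = true := tbl_ok.2.2.2.2.2.2.2.2.2.2.2.2.2.2.2.2.2.2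
theorem m_tF11 : tperm tF11 ∈ Spor.M12 := tperm_mem_M12 i_tF11
theorem v_tF11 : validPerm tF11 = true := isM12_valid i_tF11

noncomputable def g0 : ↥Spor.M12 := mk tT0 i_tT0
noncomputable def g1 : ↥Spor.M12 := mk tT1 i_tT1
noncomputable def g2 : ↥Spor.M12 := mk tT2 i_tT2
noncomputable def gu : ↥Spor.M12 := mk tU i_tU
noncomputable def gs : ↥Spor.M12 := mk tS i_tS
noncomputable def b0 : ↥Spor.M12 := mk tB0 i_tB0
noncomputable def a0 : ↥Spor.M12 := mk tA0 i_tA0
noncomputable def a1 : ↥Spor.M12 := mk tA1 i_tA1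
noncomputable def a2 : ↥Spor.M12 := mk tA2 i_tA2
noncomputable def a3 : ↥Spor.M12 := mk tA3 i_tA3
noncomputable def h1 : ↥Spor.M12 := mk tH1 i_tH1
noncomputable def h2 : ↥Spor.M12 := mk tH2 i_tH2
noncomputable def h3 : ↥Spor.M12 := mk tH3 i_tH3
noncomputable def ea : ↥Spor.M12 := mk tEA i_tEA
noncomputable def eb : ↥Spor.M12 := mk tEB i_tEB
noncomputable def ec : ↥Spor.M12 := mk tEC i_tEC
noncomputable def eg : ↥Spor.M12 := mk tEG i_tEG
noncomputable def f5 : ↥Spor.M12 := mk tF5 i_tF5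
noncomputable def f11 : ↥Spor.M12 := mk tF11 i_tF11

/-! ### The prime 3 -/

theorem hc : ⁅ea, eb⁆ = ec :=
  sub_commutator Spor.M12 m_tEA m_tEB m_tEC v_tEA v_tEB v_tEC (by decide +kernel)

theorem e27rel : E27Rel ea eb eg where
  a3 := sub_cube Spor.M12 m_tEA v_tEA (by decide +kernel)
  b3 := sub_cube Spor.M12 m_tEB v_tEB (by decide +kernel)
  ca := by rw [hc]; exact sub_comm Spor.M12 m_tEC m_tEA v_tEC v_tEA (by decide +kernel)
  cb := by rw [hc]; exact sub_comm Spor.M12 m_tEC m_tEB v_tEC v_tEB (by decide +kernel)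
  ga := sub_inverts Spor.M12 m_tEG m_tEA v_tEG v_tEA (by decide +kernel) (by decide +kernel)
  gb := sub_inverts Spor.M12 m_tEG m_tEB v_tEG v_tEB (by decide +kernel) (by decide +kernel)
  gc := by rw [hc]; exact sub_conj Spor.M12 m_tEG m_tEC m_tEC v_tEG v_tEC v_tEC (by decide +kernel)

def gens3 : List ℕ := [tEA, tEB, tEC]

theorem nodup27 : nodupB ((pcWords 3 gens3).map tblOf) = true := by decide +kernel

theorem len27 : (pcWords 3 gens3).length = 27 := by decide +kernel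

theorem card_P_ge : 27 ≤ Nat.card (Subgroup.closure ({ea, eb} : Set ↥Spor.M12)) := by
  have qa : ea ∈ Subgroup.closure ({ea, eb} : Set ↥Spor.M12) := Subgroup.subset_closure (by simp)
  have qb : eb ∈ Subgroup.closure ({ea, eb} : Set ↥Spor.M12) := Subgroup.subset_closure (by simp)
  have qc : ec ∈ Subgroup.closure ({ea, eb} : Set ↥Spor.M12) := by
    rw [← hc]; exact comm_mem_of_mem qa qb
  have h := length_le_card_of_words (Subgroup.closure ({ea, eb} : Set ↥Spor.M12)) gens3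
    ?_ ?_ (pcWords 3 gens3) (mem_of_mem_pcWords 3 gens3) nodup27
  · rw [len27] at h; exact h
  · intro t ht
    simp only [gens3, List.mem_cons, List.not_mem_nil, or_false] at ht
    rcases ht with rfl | rfl | rfl
    · exact v_tEA
    · exact v_tEB
    · exact v_tEC
  · intro t ht
    simp only [gens3, List.mem_cons, List.not_mem_nil, or_false] at ht
    rcases ht with rfl | rfl | rfl
    · exact ⟨ea, qa, rfl⟩
    · exact ⟨eb, qb, rfl⟩
    · exact ⟨ec, qc, rfl⟩

/-- `M12` has no stem extension with kernel of order 3. -/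
theorem no_pstem_three {Γ : Type*} [Group Γ] [Finite Γ] (σ : Γ →* ↥Spor.M12) (hσ : PStem σ 3) :
    False :=
  pstem_false_of_E27 hσ e27rel card_P_ge 3520 (by norm_num) (by rw [card_M12])

/-! ### The Sylow 2-subgroup -/

/-- The tables of the three generating involutions. -/
def gtab (i : ℕ) : ℕ :=
  match i with
  | 0 => tT0
  | 1 => tT1
  | _ => tT2

/-- The three generating involutions. -/
noncomputable def γG (i : ℕ) : ↥Spor.M12 :=
  match i with
  | 0 => g0
  | 1 => g1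
  | 2 => g2
  | _ => 1

theorem coe_γG : ∀ i < 3, ((γG i : ↥Spor.M12) : Equiv.Perm GolayPt) = tperm (gtab i) := by
  intro i hi
  interval_cases i <;> rfl

theorem v_gtab (i : ℕ) : validPerm (gtab i) = true := by
  unfold gtab
  split
  · exact v_tT0
  · exact v_tT1
  · exact v_tT2

theorem valid_map (v : List ℕ) : ∀ t ∈ v.map gtab, validPerm t = true := by
  intro t ht
  obtain ⟨i, -, rfl⟩ := List.mem_map.1 ht
  exact v_gtab i

theorem coe_ev (v : List ℕ) (hv : ∀ i ∈ v, i < 3) :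
    ((CT.ev γG v : ↥Spor.M12) : Equiv.Perm GolayPt) = wprod (v.map gtab) := by
  induction v with
  | nil => rfl
  | cons i v ih =>
    rw [CT.ev_cons, List.map_cons, wprod_cons, Subgroup.coe_mul, coe_γG i (hv i List.mem_cons_self),
      ih (fun j hj => hv j (List.mem_cons_of_mem _ hj))]

/-- All letters of a word are below 3. -/
def lettersOK (v : List ℕ) : Bool := v.all (fun i => decide (i < 3))

theorem lt_of_lettersOK {v : List ℕ} (h : lettersOK v = true) : ∀ i ∈ v, i < 3 := by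
  intro i hi
  rw [lettersOK, List.all_eq_true] at h
  exact of_decide_eq_true (h i hi)

/-- Representative words of the 64 elements. -/
def Wl : List (List ℕ) :=
  [[],
   [0],
   [1],
   [2],
   [0, 1],
   [0, 2],
   [1, 0],
   [1, 2],
   [2, 0],
   [0, 1, 0],
   [0, 1, 2],
   [0, 2, 0],
   [1, 0, 1],
   [1, 0, 2],
   [1, 2, 0],
   [2, 0, 1],
   [2, 0, 2],
   [0, 1, 0, 1],
   [0, 1, 0, 2],
   [0, 1, 2, 0],
   [0, 2, 0, 1],
   [0, 2, 0, 2],
   [1, 0, 1, 0],
   [1, 0, 1, 2],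
   [1, 2, 0, 1],
   [1, 2, 0, 2],
   [2, 0, 1, 2],
   [2, 0, 2, 0],
   [0, 1, 0, 1, 0],
   [0, 1, 0, 1, 2],
   [0, 1, 2, 0, 1],
   [0, 1, 2, 0, 2],
   [0, 2, 0, 1, 2],
   [0, 2, 0, 2, 0],
   [1, 0, 1, 0, 1],
   [1, 0, 1, 0, 2],
   [1, 0, 1, 2, 0],
   [1, 2, 0, 1, 2],
   [1, 2, 0, 2, 0],
   [2, 0, 1, 2, 0],
   [2, 0, 2, 0, 2],
   [0, 1, 0, 1, 0, 1],
   [0, 1, 0, 1, 0, 2],
   [0, 1, 0, 1, 2, 0],
   [0, 1, 2, 0, 1, 2],
   [0, 1, 2, 0, 2, 0],
   [0, 2, 0, 1, 2, 0],
   [0, 2, 0, 2, 0, 2],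
   [1, 0, 1, 0, 1, 0],
   [1, 0, 1, 0, 1, 2],
   [1, 0, 1, 2, 0, 1],
   [1, 0, 1, 2, 0, 2],
   [1, 2, 0, 2, 0, 2],
   [2, 0, 2, 0, 2, 0],
   [0, 1, 0, 1, 0, 1, 0],
   [0, 1, 0, 1, 0, 1, 2],
   [0, 1, 0, 1, 2, 0, 1],
   [0, 1, 0, 1, 2, 0, 2],
   [0, 1, 2, 0, 2, 0, 2],
   [0, 2, 0, 2, 0, 2, 0],
   [1, 0, 1, 0, 1, 0, 1],
   [1, 0, 1, 0, 1, 0, 2],
   [0, 1, 0, 1, 0, 1, 0, 1],
   [0, 1, 0, 1, 0, 1, 0, 2]]

/-- The multiplication table. -/
def nxl : List (List ℕ) :=
  [[1, 2, 3],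
   [0, 4, 5],
   [6, 0, 7],
   [8, 7, 0],
   [9, 1, 10],
   [11, 10, 1],
   [2, 12, 13],
   [14, 3, 2],
   [3, 15, 16],
   [4, 17, 18],
   [19, 5, 4],
   [5, 20, 21],
   [22, 6, 23],
   [20, 23, 6],
   [7, 24, 25],
   [18, 8, 26],
   [27, 26, 8],
   [28, 9, 29],
   [15, 29, 9],
   [10, 30, 31],
   [13, 11, 32],
   [33, 32, 11],
   [12, 34, 35],
   [36, 13, 12],
   [35, 14, 37],
   [38, 37, 14],
   [39, 16, 15],
   [16, 38, 40],
   [17, 41, 42],
   [43, 18, 17],
   [42, 19, 44],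
   [45, 44, 19],
   [46, 21, 20],
   [21, 45, 47],
   [48, 22, 49],
   [24, 49, 22],
   [23, 50, 51],
   [44, 25, 24],
   [25, 27, 52],
   [26, 51, 50],
   [53, 52, 27],
   [54, 28, 55],
   [30, 55, 28],
   [29, 56, 57],
   [37, 31, 30],
   [31, 33, 58],
   [32, 57, 56],
   [59, 58, 33],
   [34, 60, 61],
   [58, 35, 34],
   [61, 36, 39],
   [57, 39, 36],
   [55, 40, 38],
   [40, 61, 60],
   [41, 62, 63],
   [52, 42, 41],
   [63, 43, 46],
   [51, 46, 43],
   [49, 47, 45],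
   [47, 63, 62],
   [62, 48, 53],
   [50, 53, 48],
   [60, 54, 59],
   [56, 59, 54]]

def T : CT.Tab := ⟨3, fun c => Wl.getD c [], fun c i => (nxl.getD c []).getD i 0⟩

def tsteps : List (ℕ × ℕ) :=
  [(0, 0), (0, 1), (0, 2), (1, 1), (1, 2), (2, 0), (2, 2), (3, 0), (4, 0), (4, 2), (5, 0), (6, 1), (6, 2), (7, 0), (8, 1), (8, 2), (9, 1), (9, 2), (10, 0), (11, 1), (11, 2), (12, 0), (12, 2), (14, 1), (14, 2), (15, 2), (16, 0), (17, 0), (17, 2), (19, 1), (19, 2), (20, 2), (21, 0), (22, 1), (22, 2), (23, 0), (24, 2), (25, 0), (26, 0), (27, 2), (28, 1), (28, 2), (29, 0), (30, 2), (31, 0), (32, 0), (33, 2), (34, 0), (34, 2), (36, 1), (36, 2), (38, 2), (40, 0), (41, 0), (41, 2), (43, 1), (43, 2), (45, 2), (47, 0), (48, 1), (48, 2), (54, 1), (54, 2)]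

def rsteps : List (ℕ × List ℕ × ℕ) :=
  [(7, [2], 1),
   (10, [2], 1),
   (20, [1, 0, 2], 0),
   (23, [2], 1),
   (18, [2, 0, 1], 0),
   (26, [2], 1),
   (29, [2], 1),
   (32, [2], 1),
   (35, [2, 0, 1], 0),
   (37, [2], 1),
   (38, [0, 2, 0], 1),
   (42, [2, 0, 1], 0),
   (44, [2], 1),
   (45, [0, 2, 0], 1),
   (49, [2], 1),
   (44, [1, 2, 0, 1, 2], 0),
   (51, [2, 0, 1, 2, 0], 1),
   (50, [1], 2),
   (52, [2], 1),
   (55, [2], 1),
   (57, [2, 0, 1, 2, 0], 1),
   (56, [1], 2),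
   (58, [2], 1),
   (58, [2, 0, 1], 0),
   (61, [2, 0, 1], 0),
   (57, [1, 0, 2], 0),
   (55, [1, 0, 2], 0),
   (61, [0, 2, 0], 1),
   (60, [1], 2),
   (63, [2, 0, 1], 0),
   (63, [0, 2, 0], 1),
   (62, [1], 2),
   (62, [1, 0, 2], 0)]

/-- Conjugators (and classes) for the involutions occurring in the relators. -/
def cjL : List (ℕ × Bool) :=
  [(0xbd2cf5caac8ccc93a8812a1c26c060, true),
   (0x3d8b788142750665be019a2a96124d, false),
   (0x3d2ee885402cc72aacc2b25ed61208, false),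
   (0xa1ef170aa02bc6c52d21b1a6493608, false),
   (0x3c5f3736c32ae48bd002a855049186, false),
   (0x396b3a41487c6417598d592e049843, false),
   (0x75cf19856653db0ad88ca0cb242440, true),
   (0x75576518ac3dd28a3e449b63018820, true)]

theorem T_ok : T.check 64 tsteps rsteps = true := by decide +kernel

theorem rel_G_chk : rsteps.all (fun s => lettersOK (s.2.1 ++ [s.2.2]) &&
    eqW ((s.2.1 ++ [s.2.2]).map gtab ++ (s.2.1 ++ [s.2.2]).map gtab) []) = true := by
  decide +kernel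

theorem inv_G : ∀ i < 3, γG i * γG i = 1 := by
  intro i hi
  interval_cases i
  · exact sub_sq Spor.M12 m_tT0 v_tT0 (by decide +kernel)
  · exact sub_sq Spor.M12 m_tT1 v_tT1 (by decide +kernel)
  · exact sub_sq Spor.M12 m_tT2 v_tT2 (by decide +kernel)

theorem rel_G : ∀ s ∈ rsteps,
    CT.ev γG (s.2.1 ++ [s.2.2]) * CT.ev γG (s.2.1 ++ [s.2.2]) = 1 := by
  intro s hs
  have h := List.all_eq_true.1 rel_G_chk s hs
  rw [Bool.and_eq_true] at h
  have hl := lt_of_lettersOK h.1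
  apply Subtype.ext
  rw [Subgroup.coe_mul, coe_ev _ hl, ← wprod_append]
  have h5 := wprod_eq_of_eqW (by
    intro t ht
    rcases List.mem_append.1 ht with ht | ht <;> exact valid_map _ t ht) (by simp) h.2
  rw [h5]; rfl

/-- The Sylow 2-subgroup. -/
noncomputable def S2 : Subgroup ↥Spor.M12 := Subgroup.closure {x | ∃ i < 3, x = γG i}

theorem card_S2_le : Nat.card S2 ≤ 64 :=
  CT.card_closure_le T γG 64 tsteps rsteps inv_G rel_G T_ok

/-- The 64 words in the tables. -/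
def words64 : List (List ℕ) := Wl.map (fun v => v.map gtab)

theorem nodup64 : nodupB (words64.map tblOf) = true := by decide +kernel

theorem len64 : words64.length = 64 := by decide +kernel

theorem words64_mem : ∀ w ∈ words64, ∀ t ∈ w, t ∈ [tT0, tT1, tT2] := by
  intro w hw t ht
  obtain ⟨v, -, rfl⟩ := List.mem_map.1 hw
  obtain ⟨i, -, rfl⟩ := List.mem_map.1 ht
  unfold gtab
  split <;> simp

theorem γG_mem (i : ℕ) : γG i ∈ S2 := by
  by_cases hi : i < 3
  · exact Subgroup.subset_closure ⟨i, hi, rfl⟩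
  · have : γG i = 1 := by
      unfold γG
      split <;> first | omega | rfl
    rw [this]; exact one_mem _

theorem card_S2_ge : 64 ≤ Nat.card S2 := by
  have h := length_le_card_of_words S2 [tT0, tT1, tT2] ?_ ?_ words64 words64_mem nodup64
  · rw [len64] at h; exact h
  · intro t ht
    simp only [List.mem_cons, List.not_mem_nil, or_false] at ht
    rcases ht with rfl | rfl | rfl
    · exact v_tT0
    · exact v_tT1
    · exact v_tT2
  · intro t ht
    simp only [List.mem_cons, List.not_mem_nil, or_false] at ht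
    rcases ht with rfl | rfl | rfl
    · exact ⟨γG 0, γG_mem 0, rfl⟩
    · exact ⟨γG 1, γG_mem 1, rfl⟩
    · exact ⟨γG 2, γG_mem 2, rfl⟩

theorem card_S2 : Nat.card S2 = 64 := le_antisymm card_S2_le card_S2_ge

/-! ### Involutions -/

theorem hs2 : gs * gs = 1 := sub_sq Spor.M12 m_tS v_tS (by decide +kernel)

theorem hsu : gs * gu * gs⁻¹ = gu ^ 3 :=
  sub_conj_pow Spor.M12 m_tS m_tU v_tS v_tU 3 (by decide +kernel)

theorem b0_eq : gu ^ 4 = b0 := by
  apply Subtype.ext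
  have h := wprod_eq_of_eqW (w1 := List.replicate 4 tU) (w2 := [tB0])
    (by intro t ht; rw [List.eq_of_mem_replicate ht]; exact v_tU) (by simp [v_tB0])
    (by decide +kernel)
  rw [wprod_replicate] at h
  have h' : tperm tU ^ 4 = tperm tB0 := by simpa [wprod] using h
  rw [Subgroup.coe_pow]
  exact h'

/-- The table of the class representative. -/
def rtab (b : Bool) : ℕ :=
  match b with
  | true => tA0
  | false => tB0

/-- The class representative. -/
noncomputable def relt (b : Bool) : ↥Spor.M12 :=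
  match b with
  | true => a0
  | false => b0

theorem coe_relt (b : Bool) : ((relt b : ↥Spor.M12) : Equiv.Perm GolayPt) = tperm (rtab b) := by
  cases b <;> rfl

theorem v_rtab (b : Bool) : validPerm (rtab b) = true := by
  cases b
  · exact v_tB0
  · exact v_tA0

theorem cj_ok : cjL.all (fun e => isM12 e.1) = true := by decide +kernel

/-- The value of the word is conjugate to a class representative (by a listed conjugator). -/
def chkV (v : List ℕ) : Bool :=
  lettersOK v && cjL.any (fun e => eqW (v.map gtab ++ [e.1]) [e.1, rtab e.2])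

theorem chk_all : rsteps.all (fun s => chkV (s.2.1 ++ [s.2.2])) = true := by decide +kernel

theorem chk_gens : chkV [0] = true ∧ chkV [1] = true ∧ chkV [2] = true := by decide +kernel

section ext

variable {Γ : Type*} [Group Γ] [Finite Γ] {σ : Γ →* ↥Spor.M12}

theorem plus_word (hσ : PStem σ 2) (hA : Plus σ a0) (hB : Plus σ b0) (v : List ℕ)
    (h : chkV v = true) : Plus σ (CT.ev γG v) := by
  rw [chkV, Bool.and_eq_true, List.any_eq_true] at h
  obtain ⟨hl, e, he, hw⟩ := h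
  have hm : isM12 e.1 = true := List.all_eq_true.1 cj_ok e he
  have hl' := lt_of_lettersOK hl
  have hr : Plus σ (relt e.2) := by
    cases e.2
    · exact hB
    · exact hA
  have hconj : CT.ev γG v = mk e.1 hm * relt e.2 * (mk e.1 hm)⁻¹ := by
    rw [eq_mul_inv_iff_mul_eq]
    apply Subtype.ext
    rw [Subgroup.coe_mul, Subgroup.coe_mul, coe_ev _ hl', coe_relt]
    have h5 := wprod_eq_of_eqW (w1 := v.map gtab ++ [e.1]) (w2 := [e.1, rtab e.2]) (by
      intro t ht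
      rcases List.mem_append.1 ht with ht | ht
      · exact valid_map _ t ht
      · rw [List.mem_singleton.1 ht]; exact isM12_valid hm) (by
      intro t ht
      simp only [List.mem_cons, List.not_mem_nil, or_false] at ht
      rcases ht with rfl | rfl
      · exact isM12_valid hm
      · exact v_rtab _) hw
    rw [wprod_append] at h5
    simpa [wprod] using h5
  rw [hconj]
  exact hr.conj hσ.surj _

/-- In a stem extension of `M12` with kernel of order two, the fixed-point-free involutions do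
not lift to involutions. -/
theorem no_plus_a0 (hσ : PStem σ 2) (hA : Plus σ a0) : False := by
  have hB : Plus σ b0 := by
    have h := plus_of_order_eight hσ (u := gu) (s := gs) hs2 hsu
    rwa [b0_eq] at h
  obtain ⟨X0, hX0⟩ := hσ.surj g0
  obtain ⟨X1, hX1⟩ := hσ.surj g1
  obtain ⟨X2, hX2⟩ := hσ.surj g2
  let γΓ : ℕ → Γ := fun i =>
    match i with
    | 0 => X0
    | 1 => X1
    | 2 => X2
    | _ => 1
  have hγ : ∀ i, σ (γΓ i) = γG i := by
    intro i
    match i with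
    | 0 => exact hX0
    | 1 => exact hX1
    | 2 => exact hX2
    | (n + 3) => exact map_one σ
  have hev : ∀ v, σ (CT.ev γΓ v) = CT.ev γG v := by
    intro v
    rw [CT.map_ev]
    congr 1
    funext i
    exact hγ i
  have hrel : ∀ s ∈ rsteps,
      CT.ev γΓ (s.2.1 ++ [s.2.2]) * CT.ev γΓ (s.2.1 ++ [s.2.2]) = 1 := fun s hs =>
    plus_word hσ hA hB _ (List.all_eq_true.1 chk_all s hs) _ (hev _)
  have hinv : ∀ i < T.k, γΓ i * γΓ i = 1 := by
    intro i hi
    have hi3 : i < 3 := hi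
    have hp : Plus σ (CT.ev γG [i]) := by
      interval_cases i
      · exact plus_word hσ hA hB _ chk_gens.1
      · exact plus_word hσ hA hB _ chk_gens.2.1
      · exact plus_word hσ hA hB _ chk_gens.2.2
    rw [CT.ev_singleton] at hp
    exact hp _ (hγ i)
  have hK := CT.card_closure_le T γΓ 64 tsteps rsteps hinv hrel T_ok
  refine pstem_false_of_bound Nat.prime_two hσ S2
    (Subgroup.closure {x | ∃ i < T.k, x = γΓ i}) ?_ 64 1485 hK card_S2_ge
    (by rw [card_M12]) (by norm_num)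
  unfold S2
  rw [Subgroup.closure_le]
  rintro x ⟨i, hi, rfl⟩
  exact ⟨γΓ i, Subgroup.subset_closure ⟨i, hi, rfl⟩, hγ i⟩

end ext

/-! ### A four-group of fixed-point-free involutions -/

theorem ha1 : a1 * a1 = 1 := sub_sq Spor.M12 m_tA1 v_tA1 (by decide +kernel)

theorem ha2 : a2 * a2 = 1 := sub_sq Spor.M12 m_tA2 v_tA2 (by decide +kernel)

theorem ha12 : a1 * a2 = a2 * a1 :=
  sub_comm Spor.M12 m_tA1 m_tA2 v_tA1 v_tA2 (by decide +kernel)

theorem ha3 : a1 * a2 = a3 := by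
  apply Subtype.ext
  have h := wprod_eq_of_eqW (w1 := [tA1, tA2]) (w2 := [tA3]) (by simp [v_tA1, v_tA2])
    (by simp [v_tA3]) (by decide +kernel)
  have h' : tperm tA1 * tperm tA2 = tperm tA3 := by simpa [wprod] using h
  exact h'

theorem conj1 : h1 * a0 * h1⁻¹ = a1 :=
  sub_conj Spor.M12 m_tH1 m_tA0 m_tA1 v_tH1 v_tA0 v_tA1 (by decide +kernel)

theorem conj2 : h2 * a0 * h2⁻¹ = a2 :=
  sub_conj Spor.M12 m_tH2 m_tA0 m_tA2 v_tH2 v_tA0 v_tA2 (by decide +kernel)

theorem conj3 : h3 * a0 * h3⁻¹ = a3 :=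
  sub_conj Spor.M12 m_tH3 m_tA0 m_tA3 v_tH3 v_tA0 v_tA3 (by decide +kernel)

theorem minus_2A {Γ : Type*} [Group Γ] [Finite Γ] (σ : Γ →* ↥Spor.M12) (hσ : PStem σ 2)
    (t : ↥Spor.M12) (ht : t = a1 ∨ t = a2 ∨ t = a1 * a2) (x : Γ) (hx : σ x = t) :
    x * x ≠ 1 := by
  intro hxx
  have hP : Plus σ t := plus_of_lift hσ hx hxx
  obtain ⟨h, rfl⟩ : ∃ h : ↥Spor.M12, t = h * a0 * h⁻¹ := by
    rcases ht with rfl | rfl | rfl
    · exact ⟨h1, conj1.symm⟩
    · exact ⟨h2, conj2.symm⟩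
    · exact ⟨h3, by rw [ha3, conj3]⟩
  have h5 := hP.conj hσ.surj h⁻¹
  have e : h⁻¹ * (h * a0 * h⁻¹) * h⁻¹⁻¹ = a0 := by group
  rw [e] at h5
  exact no_plus_a0 hσ h5

/-- Every finite stem extension of `M12` has kernel of order at most two. -/
theorem card_ker_le_two_M12 (Γ : Type) [Group Γ] [Finite Γ] (σ : Γ →* ↥Spor.M12)
    (hσ : Cfsg.IsStemExtension σ) : Nat.card σ.ker ≤ 2 := by
  refine card_ker_le_two ?_ ?_ Γ σ hσ
  · intro p hp h2 Γ _ _ σ hσ
    by_cases h3 : p = 3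
    · subst h3; exact no_pstem_three σ hσ
    apply pstem_false_of_sq_not_dvd hp hσ
    rw [card_M12]
    intro hdvd
    have hcop : Nat.Coprime (p ^ 2) (2 ^ 6 * 3 ^ 3) := by
      apply Nat.Coprime.pow_left
      apply Nat.Coprime.mul_right
      · apply Nat.Coprime.pow_right; exact (Nat.coprime_primes hp Nat.prime_two).2 h2
      · apply Nat.Coprime.pow_right; exact (Nat.coprime_primes hp Nat.prime_three).2 h3
    have h1 : p ^ 2 ∣ 55 := by
      have : (95040 : ℕ) = (2 ^ 6 * 3 ^ 3) * 55 := by norm_num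
      rw [this] at hdvd
      exact hcop.dvd_of_dvd_mul_left hdvd
    have hle := Nat.le_of_dvd (by norm_num) h1
    have hlt : p < 8 := by nlinarith
    interval_cases p <;> first | omega | (norm_num at hp)
  · intro Γ _ _ σ hσ h4
    exact no_ker_four a1 a2 ha1 ha2 ha12 (fun Γ _ _ σ hσ t ht x hx => minus_2A σ hσ t ht x hx)
      Γ σ hσ h4

/-! ### Generation -/

theorem f5_pow : f5 ^ 5 = 1 := sub_pow_eq_one Spor.M12 m_tF5 v_tF5 5 (by decide +kernel)

theorem f5_ne : f5 ≠ 1 := by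
  have h := sub_pow_ne_one Spor.M12 m_tF5 v_tF5 1 2 (by norm_num) (by decide +kernel)
  rwa [pow_one] at h

theorem f11_pow : f11 ^ 11 = 1 := sub_pow_eq_one Spor.M12 m_tF11 v_tF11 11 (by decide +kernel)

theorem f11_ne : f11 ≠ 1 := by
  have h := sub_pow_ne_one Spor.M12 m_tF11 v_tF11 1 1 (by norm_num) (by decide +kernel)
  rwa [pow_one] at h

end Cfsg.Agent.Lib.helper33.SM12
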