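/-
An explicit double cover of `M12`: signed permutations of the twelve points of the dodecad of
squares which preserve the signed hexads (the words of weight six of a ternary Golay code on the
dodecad), together with the permutation of `M12` they cover.  The 24 signed coordinates are
labelled by the points of `GolayPt`: index `k < 12` is the positive and `k + 12` the negative
copy of the `k`-th point of the dodecad.  (owner: helper33; data generated by computer)
-/
import Mathlib
import Cfsg.Prelude.Def_Sporadic_a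
import Cfsg.Prelude.Def_Spor_Mathieu
import Cfsg.Agent.Lib.helper33.SchurM12

set_option autoImplicit false

namespace Cfsg.Agent.Lib.helper33.M12C

open Cfsg
open scoped Pointwise
open scoped commutatorElement
open Cfsg.Agent.Lib.helper33
open Cfsg.Agent.Lib.helper33.SM12
open Cfsg.Agent.Lib.helper94 (tperm validPerm imgAt idxPt ptIdx ptIdx_idxPt idxPt_ptIdx ptIdx_lt
  tperm_idxPt tperm_apply allBelow allBelow_iff applyP smul_setOf setOf mem_setOf setOf_and
  setOf_or setOf_zero setOf_injOn validPerm_lt)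

/-- The table of the sign change. -/
def tNu : ℕ := 0x5a928398a418820bdab49ca307b9ac

/-- The table sending a signed coordinate to the index of its point of the dodecad. -/
def tBlk : ℕ := 0x941ac4a0c418820941ac4a0c418820

/-- The masks of the 264 signed hexads. -/
def X6 : List ℕ :=
  [0xaf, 0x179, 0x4d3, 0x536, 0x5cc, 0x8f4, 0x947, 0x99a,
   0xc1d, 0xc6a, 0xda1, 0x32c4, 0x5a0a, 0x6321, 0x9234, 0xaaa0,
   0xb850, 0xc681, 0xed00, 0x11648, 0x12780, 0x1310c, 0x14e20, 0x15062,
   0x16881, 0x18b01, 0x1a421, 0x1c1a0, 0x21388, 0x2260c, 0x23540, 0x24292,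
   0x25910, 0x28243, 0x2c450, 0x30344, 0x31484, 0x320c8, 0x38806, 0x41312,
   0x42e01, 0x44b80, 0x45098, 0x464a0, 0x48720, 0x49406, 0x4a181, 0x4c821,
   0x502a1, 0x52920, 0x54501, 0x58c80, 0x5e200, 0x60a18, 0x61882, 0x62015,
   0x6410a, 0x81622, 0x82219, 0x84268, 0x85c40, 0x86150, 0x88306, 0x89510,
   0x90a42, 0x91828, 0x9440a, 0x98045, 0xa0a05, 0xa2c10, 0xa8940, 0xaf000,
   0xb0103, 0xc0614, 0xc1124, 0xc280c, 0xc8032, 0xe0409, 0x101a60, 0x102a14,
   0x1030b0, 0x104642, 0x105428, 0x1082d0, 0x109884, 0x10a064, 0x10c013, 0x11022a,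
   0x111c02, 0x114848, 0x120611, 0x122809, 0x1240c1, 0x128482, 0x14020d, 0x142418,
   0x150086, 0x160c04, 0x179000, 0x180e08, 0x18104a, 0x182405, 0x184822, 0x190460,
   0x195200, 0x1a001c, 0x1c0811, 0x1e2200, 0x20005e, 0x200195, 0x2001e2, 0x200465,
   0x2004b8, 0x20050b, 0x200833, 0x2008c9, 0x20092c, 0x200c86, 0x200d50, 0x207410,
   0x20d140, 0x219082, 0x226840, 0x229c00, 0x22a110, 0x234009, 0x243028, 0x251804,
   0x268084, 0x270402, 0x283900, 0x28a440, 0x28c810, 0x292024, 0x2a1050, 0x2a4500,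
   0x2c4003, 0x2d0108, 0x306088, 0x312041, 0x318404, 0x321006, 0x330880, 0x341480,
   0x344030, 0x348802, 0x388021, 0x401a90, 0x402270, 0x403824, 0x404318, 0x405182,
   0x406049, 0x408a44, 0x4090e0, 0x40a094, 0x410207, 0x418142, 0x420b02, 0x42101a,
   0x424888, 0x428105, 0x430841, 0x44028a, 0x441908, 0x444812, 0x45002c, 0x460190,
   0x465200, 0x480341, 0x482128, 0x484031, 0x488803, 0x490904, 0x4a0046, 0x4b8200,
   0x4d3000, 0x5002a4, 0x501054, 0x5028c0, 0x508830, 0x50b200, 0x510089, 0x536000,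
   0x540023, 0x5cc000, 0x60c022, 0x611120, 0x612808, 0x6140c0, 0x622081, 0x642104,
   0x648011, 0x68100c, 0x6c0820, 0x704801, 0x720048, 0x780012, 0x801704, 0x802348,
   0x803488, 0x804251, 0x806038, 0x808612, 0x809122, 0x80c0c2, 0x81028c, 0x8111c0,
   0x812444, 0x8206c0, 0x82104c, 0x822184, 0x824403, 0x828091, 0x830508, 0x833200,
   0x840226, 0x841430, 0x848114, 0x85000b, 0x880330, 0x881016, 0x882061, 0x884109,
   0x888424, 0x8c0502, 0x8c9200, 0x8f4000, 0x900283, 0x904490, 0x908441, 0x910025,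
   0x920052, 0x92c200, 0x9400a8, 0x947000, 0x99a000, 0xa050a0, 0xa0a005, 0xa14102,
   0xa18060, 0xa42090, 0xa44408, 0xa60101, 0xa90401, 0xaa000a, 0xb01018, 0xb02420,
   0xb80044, 0xc00229, 0xc02111, 0xc04160, 0xc100a2, 0xc1d000, 0xc40085, 0xc6a000,
   0xc80058, 0xc86200, 0xd0000e, 0xd50200, 0xda1000, 0xe01042, 0xe08180, 0xe20014]

def tLT0 : ℕ := 0xb5cd03a4b41880152e449d6287b98d
def tIT0 : ℕ := 0xb5cd03a4b41880152e449d6287b98d
def tLT1 : ℕ := 0xa448b91d550b1e24161734ec96806e
def tIT1 : ℕ := 0x4161734ec96806ea448b91d550b1e2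
def tLT2 : ℕ := 0x9c2265d12a70d81390b2ba2b613c0d
def tIT2 : ℕ := 0x390b2ba2b613c0d9c2265d12a70d81
def tLEA : ℕ := 0xabc083bac62c03748d9498952891ab
def tIEA : ℕ := 0x646e83906eb4829015749c1e2519b5
def tLEB : ℕ := 0xb49336ad851891051aa70dc117ba84
def tIEB : ℕ := 0x35d21a588c18a7192ead42a007b8e5
def tLF5 : ℕ := 0xa0a36324875bdac438aa95613b8c20
def tIF5 : ℕ := 0x1d0d721ea5729ac7a24b84d3115820
def tLF11 : ℕ := 0x90dd65c105ab66c33c4ab9291484e0
def tIF11 : ℕ := 0x3d1e56dc92555cc9a0710ae06b2440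
def tLA1 : ℕ := 0x8a2764917270d812d0eaac2e613c0d
def tIA1 : ℕ := 0x2d0eaac2e613c0d8a2764917270d81
def tLA2 : ℕ := 0xa448b91d550b1e24161734ec96806e
def tIA2 : ℕ := 0x4161734ec96806ea448b91d550b1e2

def hex1 : ℕ := 0xaf
def hex2 : ℕ := 0x179
def hex3 : ℕ := 0x14e20

/-! ### Basic facts about the tables -/

theorem v_tNu : validPerm tNu = true := by decide +kernel

theorem blk_lt : ∀ i < 24, imgAt tBlk i < 24 := by decide +kernel

theorem nu_facts : ∀ i < 24, imgAt tNu i ≠ i ∧ imgAt tNu (imgAt tNu i) = i ∧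
    imgAt tBlk (imgAt tNu i) = imgAt tBlk i := by decide +kernel

theorem blk_fiber_idx : ∀ i < 24, ∀ j < 24, imgAt tBlk j = imgAt tBlk i →
    j = i ∨ j = imgAt tNu i := by decide +kernel

/-- The sign change. -/
noncomputable def nu : Equiv.Perm GolayPt := tperm tNu

/-- The point of the dodecad under a signed coordinate. -/
def blk (p : GolayPt) : GolayPt := idxPt (imgAt tBlk (ptIdx p))

theorem idxPt_inj {i j : ℕ} (hi : i < 24) (hj : j < 24) (h : idxPt i = idxPt j) : i = j := by
  have h1 := congrArg ptIdx h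
  rwa [ptIdx_idxPt hi, ptIdx_idxPt hj] at h1

theorem nu_apply (p : GolayPt) : nu p = idxPt (imgAt tNu (ptIdx p)) := by
  have h := tperm_idxPt v_tNu (ptIdx_lt p)
  rwa [idxPt_ptIdx] at h

theorem nu_lt (p : GolayPt) : imgAt tNu (ptIdx p) < 24 := validPerm_lt v_tNu _ (ptIdx_lt p)

theorem nu_ne (p : GolayPt) : nu p ≠ p := by
  intro h
  rw [nu_apply] at h
  have h1 := congrArg ptIdx h
  rw [ptIdx_idxPt (nu_lt p)] at h1
  exact (nu_facts _ (ptIdx_lt p)).1 h1

theorem nu_nu (p : GolayPt) : nu (nu p) = p := by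
  rw [nu_apply (nu p), nu_apply p, ptIdx_idxPt (nu_lt p), (nu_facts _ (ptIdx_lt p)).2.1,
    idxPt_ptIdx]

theorem blk_nu (p : GolayPt) : blk (nu p) = blk p := by
  unfold blk
  rw [nu_apply p, ptIdx_idxPt (nu_lt p), (nu_facts _ (ptIdx_lt p)).2.2]

theorem blk_fiber (p q : GolayPt) (h : blk q = blk p) : q = p ∨ q = nu p := by
  unfold blk at h
  have h1 := idxPt_inj (blk_lt _ (ptIdx_lt q)) (blk_lt _ (ptIdx_lt p)) h
  rcases blk_fiber_idx _ (ptIdx_lt p) _ (ptIdx_lt q) h1 with h2 | h2
  · left; rw [← idxPt_ptIdx q, h2, idxPt_ptIdx]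
  · right; rw [nu_apply, ← h2, idxPt_ptIdx]

/-! ### The cover -/

/-- `s` maps signed hexads to signed hexads. -/
def Good (s : Equiv.Perm GolayPt) : Prop := ∀ m ∈ X6, ∃ m' ∈ X6, s • setOf m = setOf m'

/-- `s` covers `g`. -/
def Compat (s g : Equiv.Perm GolayPt) : Prop := ∀ p, blk (s p) = g (blk p)

theorem good_one : Good 1 := fun m hm => ⟨m, hm, one_smul _ _⟩

theorem good_mul {s t : Equiv.Perm GolayPt} (hs : Good s) (ht : Good t) : Good (s * t) := by
  intro m hm
  obtain ⟨m1, hm1, e1⟩ := ht m hm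
  obtain ⟨m2, hm2, e2⟩ := hs m1 hm1
  exact ⟨m2, hm2, by rw [mul_smul, e1, e2]⟩

theorem compat_one : Compat 1 1 := fun _ => rfl

theorem compat_mul {s t g h : Equiv.Perm GolayPt} (hs : Compat s g) (ht : Compat t h) :
    Compat (s * t) (g * h) := by
  intro p
  rw [Equiv.Perm.mul_apply, Equiv.Perm.mul_apply, hs, ht]

theorem compat_inv {s g : Equiv.Perm GolayPt} (hs : Compat s g) : Compat s⁻¹ g⁻¹ := by
  intro p
  have h := hs (s⁻¹ p)
  have e1 : s (s⁻¹ p) = p := by
    rw [← Equiv.Perm.mul_apply, mul_inv_cancel, Equiv.Perm.one_apply]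
  rw [e1] at h
  rw [h, ← Equiv.Perm.mul_apply, inv_mul_cancel, Equiv.Perm.one_apply]

/-- The double cover, as a subgroup of `Perm GolayPt × M12`. -/
def cover : Subgroup (Equiv.Perm GolayPt × ↥Spor.M12) where
  carrier := {x | Good x.1 ∧ Good x.1⁻¹ ∧ Compat x.1 x.2.1}
  mul_mem' := by
    rintro x y ⟨h1, h2, h3⟩ ⟨k1, k2, k3⟩
    refine ⟨good_mul h1 k1, ?_, compat_mul h3 k3⟩
    rw [Prod.fst_mul, mul_inv_rev]
    exact good_mul k2 h2
  one_mem' := ⟨good_one, by rw [Prod.fst_one, inv_one]; exact good_one, compat_one⟩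
  inv_mem' := by
    rintro x ⟨h1, h2, h3⟩
    refine ⟨h2, ?_, compat_inv h3⟩
    rw [Prod.fst_inv, inv_inv]; exact h1

/-- The covering map. -/
def σ0 : cover →* ↥Spor.M12 :=
  (MonoidHom.snd (Equiv.Perm GolayPt) ↥Spor.M12).comp cover.subtype

theorem σ0_apply (x : cover) : σ0 x = x.1.2 := rfl

/-! ### Table criteria -/

/-- The table maps signed hexads to signed hexads. -/
def goodT (t : ℕ) : Bool := X6.all (fun m => memB (applyP t 1 m) X6)

theorem good_of_goodT {t : ℕ} (hv : validPerm t = true) (h : goodT t = true) :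
    Good (tperm t) := by
  intro m hm
  rw [goodT, List.all_eq_true] at h
  exact ⟨applyP t 1 m, (memB_iff _ _).1 (h m hm), smul_setOf hv m⟩

/-- The table `ts` covers the table `tg`. -/
def compatT (ts tg : ℕ) : Bool :=
  allBelow (fun i => Nat.beq (imgAt tBlk (imgAt ts i)) (imgAt tg (imgAt tBlk i))) 24

theorem compat_of_compatT {ts tg : ℕ} (hs : validPerm ts = true) (hg : validPerm tg = true)
    (h : compatT ts tg = true) : Compat (tperm ts) (tperm tg) := by
  intro p
  rw [compatT, allBelow_iff] at h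
  have h1 := Nat.eq_of_beq_eq_true (h _ (ptIdx_lt p))
  have e1 : tperm ts p = idxPt (imgAt ts (ptIdx p)) := by
    have h2 := tperm_idxPt hs (ptIdx_lt p)
    rwa [idxPt_ptIdx] at h2
  unfold blk
  rw [e1, ptIdx_idxPt (validPerm_lt hs _ (ptIdx_lt p)), h1,
    tperm_idxPt hg (blk_lt _ (ptIdx_lt p))]

/-- The complete test for a lift `ts` (with inverse `ts'`) of `tg`. -/
def liftT (ts ts' tg : ℕ) : Bool :=
  validPerm ts && (validPerm ts' && (eqW [ts, ts'] [] && (goodT ts && (goodT ts' &&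
    compatT ts tg))))

theorem tperm_inv {ts ts' : ℕ} (hv : validPerm ts = true) (hv' : validPerm ts' = true)
    (h : eqW [ts, ts'] [] = true) : (tperm ts)⁻¹ = tperm ts' := by
  have h1 := wprod_eq_of_eqW (w1 := [ts, ts']) (w2 := []) (by simp [hv, hv']) (by simp) h
  have h2 : tperm ts * tperm ts' = 1 := by simpa [wprod] using h1
  exact inv_eq_of_mul_eq_one_right h2

theorem mem_cover {ts ts' tg : ℕ} (hg : isM12 tg = true) (h : liftT ts ts' tg = true) :
    ((tperm ts, mk tg hg) : Equiv.Perm GolayPt × ↥Spor.M12) ∈ cover := by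
  simp only [liftT, Bool.and_eq_true] at h
  obtain ⟨hv, hv', he, hg1, hg2, hc⟩ := h
  refine ⟨good_of_goodT hv hg1, ?_, compat_of_compatT hv (isM12_valid hg) hc⟩
  show Good (tperm ts)⁻¹
  rw [tperm_inv hv hv' he]
  exact good_of_goodT hv' hg2

theorem lift_okT0 : liftT tLT0 tIT0 tT0 = true := by decide +kernel
theorem lift_okT1 : liftT tLT1 tIT1 tT1 = true := by decide +kernel
theorem lift_okT2 : liftT tLT2 tIT2 tT2 = true := by decide +kernel
theorem lift_okEA : liftT tLEA tIEA tEA = true := by decide +kernel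
theorem lift_okEB : liftT tLEB tIEB tEB = true := by decide +kernel
theorem lift_okF5 : liftT tLF5 tIF5 tF5 = true := by decide +kernel
theorem lift_okF11 : liftT tLF11 tIF11 tF11 = true := by decide +kernel
theorem lift_okA1 : liftT tLA1 tIA1 tA1 = true := by decide +kernel
theorem lift_okA2 : liftT tLA2 tIA2 tA2 = true := by decide +kernel

theorem lift_ok : liftT tLT0 tIT0 tT0 = true ∧
    liftT tLT1 tIT1 tT1 = true ∧
    liftT tLT2 tIT2 tT2 = true ∧
    liftT tLEA tIEA tEA = true ∧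
    liftT tLEB tIEB tEB = true ∧
    liftT tLF5 tIF5 tF5 = true ∧
    liftT tLF11 tIF11 tF11 = true ∧
    liftT tLA1 tIA1 tA1 = true ∧
    liftT tLA2 tIA2 tA2 = true :=
  ⟨lift_okT0, lift_okT1, lift_okT2, lift_okEA, lift_okEB, lift_okF5, lift_okF11, lift_okA1,
    lift_okA2⟩

noncomputable def cT0 : cover := ⟨(tperm tLT0, mk tT0 i_tT0), mem_cover i_tT0 lift_ok.1⟩
noncomputable def cT1 : cover := ⟨(tperm tLT1, mk tT1 i_tT1), mem_cover i_tT1 lift_ok.2.1⟩
noncomputable def cT2 : cover := ⟨(tperm tLT2, mk tT2 i_tT2), mem_cover i_tT2 lift_ok.2.2.1⟩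
noncomputable def cEA : cover := ⟨(tperm tLEA, mk tEA i_tEA), mem_cover i_tEA lift_ok.2.2.2.1⟩
noncomputable def cEB : cover := ⟨(tperm tLEB, mk tEB i_tEB), mem_cover i_tEB lift_ok.2.2.2.2.1⟩
noncomputable def cF5 : cover := ⟨(tperm tLF5, mk tF5 i_tF5), mem_cover i_tF5 lift_ok.2.2.2.2.2.1⟩
noncomputable def cF11 : cover := ⟨(tperm tLF11, mk tF11 i_tF11), mem_cover i_tF11 lift_ok.2.2.2.2.2.2.1⟩
noncomputable def cA1 : cover := ⟨(tperm tLA1, mk tA1 i_tA1), mem_cover i_tA1 lift_ok.2.2.2.2.2.2.2.1⟩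
noncomputable def cA2 : cover := ⟨(tperm tLA2, mk tA2 i_tA2), mem_cover i_tA2 lift_ok.2.2.2.2.2.2.2.2⟩

theorem VA1 : validPerm tLA1 = true := by
  have h := lift_ok.2.2.2.2.2.2.2.1
  simp only [liftT, Bool.and_eq_true] at h
  exact h.1

theorem VA2 : validPerm tLA2 = true := by
  have h := lift_ok.2.2.2.2.2.2.2.2
  simp only [liftT, Bool.and_eq_true] at h
  exact h.1

/-! ### The kernel -/

theorem nu_good : goodT tNu = true ∧ eqW [tNu, tNu] [] = true := by decide +kernel

theorem nu_inv : nu⁻¹ = nu := tperm_inv v_tNu v_tNu nu_good.2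

theorem nu_mem : ((nu, 1) : Equiv.Perm GolayPt × ↥Spor.M12) ∈ cover := by
  refine ⟨good_of_goodT v_tNu nu_good.1, ?_, fun p => blk_nu p⟩
  show Good nu⁻¹
  rw [nu_inv]
  exact good_of_goodT v_tNu nu_good.1

/-- The central involution of the cover. -/
noncomputable def nuC : cover := ⟨(nu, 1), nu_mem⟩

theorem subset_land {a b : ℕ} (ha : a < 2 ^ 24) (h : setOf a ⊆ setOf b) : Nat.land a b = a := by
  have h1 : setOf (a &&& b) = setOf a := by
    rw [setOf_and]
    exact Finset.inter_eq_left.mpr h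
  exact setOf_injOn (lt_of_le_of_lt Nat.and_le_left ha) ha h1

/-- The image of a mask under the sign change. -/
def nuM (m : ℕ) : ℕ := applyP tNu 1 m

theorem smul_nu (m : ℕ) : nu • setOf m = setOf (nuM m) := smul_setOf v_tNu m

/-- The signed hexad `m` and its negative are the only signed hexads on their six points, and
they are disjoint. -/
def hexOK (m : ℕ) : Bool :=
  memB m X6 && (Nat.beq (Nat.land m (nuM m)) 0 && X6.all (fun m' =>
    !(Nat.beq (Nat.land m' (Nat.lor m (nuM m))) m') || (Nat.beq m' m || Nat.beq m' (nuM m))))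

theorem hex_ok : hexOK hex1 = true ∧ hexOK hex2 = true ∧ hexOK hex3 = true := by decide +kernel

theorem X6_lt : X6.all (fun m => decide (m < 2 ^ 24)) = true := by decide +kernel

theorem hex_alt (s : Equiv.Perm GolayPt) (hs : Good s) (hb : ∀ p, s p = p ∨ s p = nu p) (m : ℕ)
    (hm : hexOK m = true) :
    (∀ p ∈ setOf m, s p = p) ∨ (∀ p ∈ setOf m, s p = nu p) := by
  simp only [hexOK, Bool.and_eq_true] at hm
  obtain ⟨hm1, hm2, hm3⟩ := hm
  have hmX := (memB_iff _ _).1 hm1
  obtain ⟨m', hm', e⟩ := hs m hmX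
  have hlt : m' < 2 ^ 24 := of_decide_eq_true (List.all_eq_true.1 X6_lt m' hm')
  have hU : setOf (Nat.lor m (nuM m)) = setOf m ∪ nu • setOf m := by
    rw [smul_nu]
    exact setOf_or m (nuM m)
  have hsmul : ∀ p ∈ setOf m, s p ∈ setOf m' := by
    intro p hp
    rw [← e]
    exact Finset.smul_mem_smul_finset (a := s) hp
  have hsub : setOf m' ⊆ setOf (Nat.lor m (nuM m)) := by
    intro q hq
    rw [← e, Finset.mem_smul_finset] at hq
    obtain ⟨p, hp, rfl⟩ := hq
    rw [hU, Finset.mem_union]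
    rcases hb p with h | h
    · left
      show s p ∈ setOf m
      rw [h]; exact hp
    · right
      show s p ∈ nu • setOf m
      rw [h]; exact Finset.smul_mem_smul_finset (a := nu) hp
  have hland := subset_land hlt hsub
  have h3 := List.all_eq_true.1 hm3 m' hm'
  rw [hland, Nat.beq_refl] at h3
  have hdisj : setOf m ∩ (nu • setOf m) = ∅ := by
    rw [smul_nu, ← setOf_and]
    have h0 : m &&& nuM m = 0 := Nat.eq_of_beq_eq_true hm2
    rw [h0, setOf_zero]
  rw [Bool.not_true, Bool.false_or, Bool.or_eq_true] at h3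
  rcases h3 with h3 | h3
  · left
    have hmm : m' = m := Nat.eq_of_beq_eq_true h3
    rw [hmm] at hsmul
    intro p hp
    rcases hb p with h | h
    · exact h
    · exfalso
      have h5 := hsmul p hp
      rw [h] at h5
      have h6 : nu p ∈ nu • setOf m := Finset.smul_mem_smul_finset (a := nu) hp
      have h7 : nu p ∈ setOf m ∩ nu • setOf m := Finset.mem_inter.2 ⟨h5, h6⟩
      rw [hdisj] at h7
      exact absurd h7 (Finset.notMem_empty _)
  · right
    have hmm : m' = nuM m := Nat.eq_of_beq_eq_true h3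
    rw [hmm, ← smul_nu] at hsmul
    intro p hp
    rcases hb p with h | h
    · exfalso
      have h5 := hsmul p hp
      rw [h] at h5
      have h7 : p ∈ setOf m ∩ nu • setOf m := Finset.mem_inter.2 ⟨hp, h5⟩
      rw [hdisj] at h7
      exact absurd h7 (Finset.notMem_empty _)
    · exact h

theorem cover_facts : (hex1.testBit 0 = true ∧ hex2.testBit 0 = true) ∧
    (hex2.testBit 5 = true ∧ hex3.testBit 5 = true) ∧
    ∀ i < 24, ((Nat.lor (Nat.lor hex1 hex2) hex3).testBit i ||
      (Nat.lor (Nat.lor hex1 hex2) hex3).testBit (imgAt tNu i)) = true := by decide +kernel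

theorem ker_elt (s : Equiv.Perm GolayPt) (hs : Good s) (hc : ∀ p, blk (s p) = blk p) :
    s = 1 ∨ s = nu := by
  have hb : ∀ p, s p = p ∨ s p = nu p := fun p => blk_fiber p (s p) (hc p)
  have A1 := hex_alt s hs hb hex1 hex_ok.1
  have A2 := hex_alt s hs hb hex2 hex_ok.2.1
  have A3 := hex_alt s hs hb hex3 hex_ok.2.2
  have p12a : idxPt 0 ∈ setOf hex1 := by
    rw [mem_setOf, ptIdx_idxPt (by norm_num)]; exact cover_facts.1.1
  have p12b : idxPt 0 ∈ setOf hex2 := by
    rw [mem_setOf, ptIdx_idxPt (by norm_num)]; exact cover_facts.1.2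
  have p23a : idxPt 5 ∈ setOf hex2 := by
    rw [mem_setOf, ptIdx_idxPt (by norm_num)]; exact cover_facts.2.1.1
  have p23b : idxPt 5 ∈ setOf hex3 := by
    rw [mem_setOf, ptIdx_idxPt (by norm_num)]; exact cover_facts.2.1.2
  have hU : (∀ p ∈ setOf (Nat.lor (Nat.lor hex1 hex2) hex3), s p = p) ∨
      (∀ p ∈ setOf (Nat.lor (Nat.lor hex1 hex2) hex3), s p = nu p) := by
    have hmem : ∀ p ∈ setOf (Nat.lor (Nat.lor hex1 hex2) hex3),
        p ∈ setOf hex1 ∨ p ∈ setOf hex2 ∨ p ∈ setOf hex3 := by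
      intro p hp
      have h1 : setOf (Nat.lor (Nat.lor hex1 hex2) hex3) = setOf hex1 ∪ setOf hex2 ∪ setOf hex3 := by
        rw [← setOf_or, ← setOf_or]; rfl
      rw [h1, Finset.mem_union, Finset.mem_union] at hp
      tauto
    rcases A2 with a2 | a2
    · left
      have a1 : ∀ p ∈ setOf hex1, s p = p := by
        rcases A1 with a1 | a1
        · exact a1
        · exfalso
          have h1 := a1 _ p12a
          rw [a2 _ p12b] at h1
          exact nu_ne _ h1.symm
      have a3 : ∀ p ∈ setOf hex3, s p = p := by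
        rcases A3 with a3 | a3
        · exact a3
        · exfalso
          have h1 := a3 _ p23b
          rw [a2 _ p23a] at h1
          exact nu_ne _ h1.symm
      intro p hp
      rcases hmem p hp with h | h | h
      · exact a1 p h
      · exact a2 p h
      · exact a3 p h
    · right
      have a1 : ∀ p ∈ setOf hex1, s p = nu p := by
        rcases A1 with a1 | a1
        · exfalso
          have h1 := a1 _ p12a
          rw [a2 _ p12b] at h1
          exact nu_ne _ h1
        · exact a1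
      have a3 : ∀ p ∈ setOf hex3, s p = nu p := by
        rcases A3 with a3 | a3
        · exfalso
          have h1 := a3 _ p23b
          rw [a2 _ p23a] at h1
          exact nu_ne _ h1
        · exact a3
      intro p hp
      rcases hmem p hp with h | h | h
      · exact a1 p h
      · exact a2 p h
      · exact a3 p h
  have hcov : ∀ p, p ∈ setOf (Nat.lor (Nat.lor hex1 hex2) hex3) ∨
      nu p ∈ setOf (Nat.lor (Nat.lor hex1 hex2) hex3) := by
    intro p
    have h1 := cover_facts.2.2 (ptIdx p) (ptIdx_lt p)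
    rw [Bool.or_eq_true] at h1
    rw [mem_setOf, mem_setOf, nu_apply, ptIdx_idxPt (nu_lt p)]
    exact h1
  rcases hU with h | h
  · left
    refine Equiv.ext (fun p => ?_)
    show s p = p
    rcases hcov p with hp | hp
    · exact h p hp
    · rcases hb p with h1 | h1
      · exact h1
      · exfalso
        have h2 := h _ hp
        have h3 : s p = s (nu p) := h1.trans h2.symm
        exact nu_ne p (s.injective h3).symm
  · right
    refine Equiv.ext (fun p => ?_)
    rcases hcov p with hp | hp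
    · exact h p hp
    · rcases hb p with h1 | h1
      · exfalso
        have h2 := h _ hp
        rw [nu_nu] at h2
        have h3 : s p = s (nu p) := h1.trans h2.symm
        exact nu_ne p (s.injective h3).symm
      · exact h1

theorem ker_eq (x : cover) (hx : x ∈ σ0.ker) : x = 1 ∨ x = nuC := by
  have h2 : x.1.2 = 1 := hx
  obtain ⟨hg, -, hc⟩ := x.2
  have hc' : ∀ p, blk (x.1.1 p) = blk p := by
    intro p
    have h3 := hc p
    rw [h2] at h3
    exact h3
  rcases ker_elt x.1.1 hg hc' with h | h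
  · left
    apply Subtype.ext
    exact Prod.ext h h2
  · right
    apply Subtype.ext
    exact Prod.ext h h2

theorem nuC_mem_ker : nuC ∈ σ0.ker := by
  rw [MonoidHom.mem_ker]; rfl

theorem nu_ne_one : nu ≠ 1 := by
  intro h
  have h1 := nu_ne (idxPt 0)
  rw [h] at h1
  exact h1 rfl

theorem nuC_ne_one : nuC ≠ 1 := by
  intro h
  have h1 : nu = 1 := congrArg (fun x : cover => x.1.1) h
  exact nu_ne_one h1

theorem nu_sq : nu * nu = 1 :=
  Equiv.ext (fun p => nu_nu p)

theorem nuC_sq : nuC * nuC = 1 := by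
  apply Subtype.ext
  exact Prod.ext nu_sq (mul_one 1)

theorem nuC_central (y : cover) : y * nuC = nuC * y := by
  apply Subtype.ext
  refine Prod.ext ?_ ?_
  · show y.1.1 * nu = nu * y.1.1
    refine Equiv.ext (fun p => ?_)
    show y.1.1 (nu p) = nu (y.1.1 p)
    obtain ⟨-, -, hc⟩ := y.2
    have h1 : blk (y.1.1 (nu p)) = blk (y.1.1 p) := by rw [hc, hc, blk_nu]
    rcases blk_fiber _ _ h1 with h2 | h2
    · exact absurd (y.1.1.injective h2) (nu_ne p)
    · exact h2
  · show y.1.2 * 1 = 1 * y.1.2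
    rw [mul_one, one_mul]

theorem ker_le_center : σ0.ker ≤ Subgroup.center cover := by
  intro x hx
  rw [Subgroup.mem_center_iff]
  intro y
  rcases ker_eq x hx with rfl | rfl
  · rw [mul_one, one_mul]
  · exact nuC_central y

theorem comm_lift : eqW [tLA1, tLA2] [tNu, tLA2, tLA1] = true := by decide +kernel

theorem nuC_comm : nuC = ⁅cA1, cA2⁆ := by
  apply Subtype.ext
  refine Prod.ext ?_ ?_
  · show nu = ⁅tperm tLA1, tperm tLA2⁆
    symm
    rw [commutatorElement_def, mul_inv_eq_iff_eq_mul, mul_inv_eq_iff_eq_mul]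
    have h := wprod_eq_of_eqW (w1 := [tLA1, tLA2]) (w2 := [tNu, tLA2, tLA1])
      (by
        intro t ht
        simp only [List.mem_cons, List.not_mem_nil, or_false] at ht
        rcases ht with rfl | rfl
        · exact VA1
        · exact VA2)
      (by
        intro t ht
        simp only [List.mem_cons, List.not_mem_nil, or_false] at ht
        rcases ht with rfl | rfl | rfl
        · exact v_tNu
        · exact VA2
        · exact VA1) comm_lift
    have h' : tperm tLA1 * tperm tLA2 = tperm tNu * tperm tLA2 * tperm tLA1 := by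
      simpa [wprod, mul_assoc] using h
    exact h'
  · show (1 : ↥Spor.M12) = ⁅a1, a2⁆
    symm
    rw [commutatorElement_eq_one_iff_mul_comm]
    exact ha12

theorem ker_le_comm : σ0.ker ≤ commutator cover := by
  intro x hx
  rcases ker_eq x hx with rfl | rfl
  · exact one_mem _
  · rw [nuC_comm, commutator_def]
    exact Subgroup.commutator_mem_commutator (Subgroup.mem_top _) (Subgroup.mem_top _)

theorem card_ker : Nat.card σ0.ker = 2 := by
  have := Fact.mk Nat.prime_two
  have h1 : σ0.ker = Subgroup.zpowers nuC := by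
    apply le_antisymm
    · intro x hx
      rcases ker_eq x hx with rfl | rfl
      · exact one_mem _
      · exact Subgroup.mem_zpowers _
    · rw [Subgroup.zpowers_le]; exact nuC_mem_ker
  rw [h1, Nat.card_zpowers]
  exact orderOf_eq_prime (by rw [pow_two]; exact nuC_sq) nuC_ne_one

/-! ### Surjectivity -/

theorem card_closure_le_of_E27 {X : Type*} [Group X] [Finite X] {a b g : X} (h : E27Rel a b g) :
    Nat.card (Subgroup.closure ({a, b} : Set X)) ≤ 27 := by
  have hAC : a * ⁅a, b⁆ = ⁅a, b⁆ * a := h.ca.symm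
  have hBC : b * ⁅a, b⁆ = ⁅a, b⁆ * b := h.cb.symm
  have hpow : ∀ n : ℕ, ⁅a ^ n, b⁆ = ⁅a, b⁆ ^ n := by
    intro n
    induction n with
    | zero => simp
    | succ n ih =>
      have hcomm : a * ⁅a, b⁆ ^ n = ⁅a, b⁆ ^ n * a := (Commute.pow_right hAC n)
      calc ⁅a ^ (n + 1), b⁆ = a * ⁅a ^ n, b⁆ * a⁻¹ * ⁅a, b⁆ := by
            rw [pow_succ', commutatorElement_def, commutatorElement_def, commutatorElement_def]
            group
        _ = a * ⁅a, b⁆ ^ n * a⁻¹ * ⁅a, b⁆ := by rw [ih]
        _ = ⁅a, b⁆ ^ n * a * a⁻¹ * ⁅a, b⁆ := by rw [hcomm]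
        _ = ⁅a, b⁆ ^ (n + 1) := by rw [mul_inv_cancel_right, pow_succ]
  have hC3 : ⁅a, b⁆ ^ 3 = 1 := by
    rw [← hpow 3, h.a3]
    simp
  have hpc : PCList 3 (⊥ : Subgroup X) [a, b, ⁅a, b⁆] := by
    refine ⟨?_, ?_, ?_, ?_, ?_, ?_, ?_, ?_, ?_, trivial⟩
    · rw [h.a3]; exact one_mem _
    · intro n hn
      rw [Subgroup.mem_bot] at hn; subst hn; simp
    · intro x hx
      simp only [List.mem_cons, List.not_mem_nil, or_false] at hx
      rcases hx with rfl | rfl
      · rw [conj_eq_commutator_mul]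
        exact mul_mem (mem_sup_closure_of_mem _ (by simp)) (mem_sup_closure_of_mem _ (by simp))
      · rw [conj_eq_of_comm hAC]; exact mem_sup_closure_of_mem _ (by simp)
    · rw [h.b3]; exact one_mem _
    · intro n hn
      rw [Subgroup.mem_bot] at hn; subst hn; simp
    · intro x hx
      simp only [List.mem_cons, List.not_mem_nil, or_false] at hx
      subst hx
      rw [conj_eq_of_comm hBC]; exact mem_sup_closure_of_mem _ (by simp)
    · rw [hC3]; exact one_mem _
    · intro n hn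
      rw [Subgroup.mem_bot] at hn; subst hn
      rw [mul_one, mul_inv_cancel]; exact one_mem _
    · intro x hx
      simp at hx
  have hK := card_pcList_le 3 (by norm_num) ⊥ _ hpc
  rw [Subgroup.card_bot, mul_one] at hK
  refine le_trans (Subgroup.card_le_of_le ?_) hK
  rw [Subgroup.closure_le]
  intro x hx
  simp only [Set.mem_insert_iff, Set.mem_singleton_iff] at hx
  rcases hx with rfl | rfl
  · exact mem_sup_closure_of_mem _ (by simp)
  · exact mem_sup_closure_of_mem _ (by simp)

theorem card_P : Nat.card (Subgroup.closure ({ea, eb} : Set ↥Spor.M12)) = 27 :=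
  le_antisymm (card_closure_le_of_E27 e27rel) card_P_ge

theorem σ0_mk (x : Equiv.Perm GolayPt × ↥Spor.M12) (hx : x ∈ cover) : σ0 ⟨x, hx⟩ = x.2 := rfl

theorem γG_range (i : ℕ) : γG i ∈ σ0.range := by
  unfold γG
  split
  · exact ⟨cT0, σ0_mk _ _⟩
  · exact ⟨cT1, σ0_mk _ _⟩
  · exact ⟨cT2, σ0_mk _ _⟩
  · exact one_mem _

theorem S2_le_range : S2 ≤ σ0.range := by
  unfold S2
  rw [Subgroup.closure_le]
  rintro x ⟨i, hi, rfl⟩
  exact γG_range i

theorem P_le_range : Subgroup.closure ({ea, eb} : Set ↥Spor.M12) ≤ σ0.range := by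
  rw [Subgroup.closure_le]
  intro x hx
  simp only [Set.mem_insert_iff, Set.mem_singleton_iff] at hx
  rcases hx with rfl | rfl
  · exact ⟨cEA, σ0_mk _ _⟩
  · exact ⟨cEB, σ0_mk _ _⟩

theorem f5_range : f5 ∈ σ0.range := ⟨cF5, σ0_mk _ _⟩

theorem f11_range : f11 ∈ σ0.range := ⟨cF11, σ0_mk _ _⟩

theorem dvd64 : 64 ∣ Nat.card σ0.range := by
  have h := Subgroup.card_dvd_of_le S2_le_range
  rwa [card_S2] at h

theorem dvd27 : 27 ∣ Nat.card σ0.range := by
  have h := Subgroup.card_dvd_of_le P_le_range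
  rwa [card_P] at h

theorem dvd5 : 5 ∣ Nat.card σ0.range := by
  have := Fact.mk (by norm_num : Nat.Prime 5)
  have h := Subgroup.orderOf_dvd_natCard σ0.range f5_range
  rwa [orderOf_eq_prime f5_pow f5_ne] at h

theorem dvd11 : 11 ∣ Nat.card σ0.range := by
  have := Fact.mk (by norm_num : Nat.Prime 11)
  have h := Subgroup.orderOf_dvd_natCard σ0.range f11_range
  rwa [orderOf_eq_prime f11_pow f11_ne] at h

theorem dvd_card_range : 95040 ∣ Nat.card σ0.range := by
  have h1 := (by norm_num : Nat.Coprime 64 27).mul_dvd_of_dvd_of_dvd dvd64 dvd27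
  have h2 := (by norm_num : Nat.Coprime (64 * 27) 5).mul_dvd_of_dvd_of_dvd h1 dvd5
  have h3 := (by norm_num : Nat.Coprime (64 * 27 * 5) 11).mul_dvd_of_dvd_of_dvd h2 dvd11
  exact h3

theorem range_top : σ0.range = ⊤ := by
  apply Subgroup.eq_top_of_card_eq
  have hle := Subgroup.card_le_card_group σ0.range
  have hge := Nat.le_of_dvd Nat.card_pos dvd_card_range
  rw [card_M12] at hle ⊢
  omega

/-- The covering map is a stem extension with kernel of order two. -/
theorem stem : Cfsg.IsStemExtension σ0 :=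
  ⟨MonoidHom.range_eq_top.1 range_top, ker_le_center, ker_le_comm⟩

end Cfsg.Agent.Lib.helper33.M12C
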