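/-
Tools for the automorphism groups of the large Mathieu groups: stabilisers of five points,
fixed points of elements of prime order, orbit lengths modulo primes, and permutations
normalising large subgroups of the group of the length-24 code.
-/
import Mathlib
import Cfsg.Prelude.Def_Spor_Mathieu
import Cfsg.Agent.Lib.helper9.M24Pack
import Cfsg.Agent.Lib.helper9.M24OctStab
import Cfsg.Agent.Lib.helper9.M24Simple
import Cfsg.Agent.Lib.helper33.OctadStab
import Cfsg.Agent.Lib.helper33.KSets
import Cfsg.Agent.Lib.helper33.AutPerm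

set_option autoImplicit false

namespace Cfsg.Agent.Lib.helper33

open Cfsg Cfsg.Agent.Lib.helper9
open scoped Pointwise

/-! ### The stabiliser of five points -/

theorem card_stabL5 : Nat.card (stabL M24 5) = 48 := by
  have hc := orbF_card
  simp only [List.range, List.range.loop, List.map_cons, List.map_nil, List.cons.injEq,
    and_true] at hc
  obtain ⟨c0, c1, c2, c3, c4, c5, c6⟩ := hc
  apply le_antisymm
  · have h5 := upper_step 5 (by norm_num) 16 (le_of_eq card_stab6)
    rw [c5] at h5
    exact h5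
  · by_contra hlt
    have hlt' : Nat.card (stabL M24 (4 + 1)) ≤ 47 := by
      have : Nat.card (stabL M24 5) ≤ 47 := by omega
      exact this
    have h4 := upper_step 4 (by norm_num) 47 hlt'
    have h3 := upper_step 3 (by norm_num) _ h4
    have h2 := upper_step 2 (by norm_num) _ h3
    have h1 := upper_step 1 (by norm_num) _ h2
    have h0 := upper_step 0 (by norm_num) _ h1
    rw [c0, c1, c2, c3, c4] at h0
    have h : Nat.card (stabL M24 0) = 244823040 := card_M24
    omega

/-- The first five base points. -/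
def base5 : Finset GolayPt := (Finset.range 5).image bp

theorem mem_base5 {q : GolayPt} : q ∈ base5 ↔ ∃ j < 5, bp j = q := by
  simp [base5]

theorem card_base5 : base5.card = 5 := by
  rw [base5, Finset.card_image_of_injOn, Finset.card_range]
  intro i hi j hj h
  simp only [Finset.coe_range, Set.mem_Iio] at hi hj
  by_contra hne
  exact bp_ne i hi j hj hne h

theorem fixOct_base5 : fixOct base5 = stabL M24 5 := by
  ext g
  rw [mem_fixOct, mem_stabL]
  constructor
  · rintro ⟨hg, h⟩
    exact ⟨hg, fun j hj => h _ (mem_base5.2 ⟨j, hj, rfl⟩)⟩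
  · rintro ⟨hg, h⟩
    refine ⟨hg, fun x hx => ?_⟩
    obtain ⟨j, hj, rfl⟩ := mem_base5.1 hx
    exact h j hj

/-- The pointwise stabiliser of five points has order 48. -/
theorem card_fixOct_five {A : Finset GolayPt} (hA : A.card = 5) : Nat.card (fixOct A) = 48 := by
  have hmem : A ∈ MulAction.orbit M24 base5 := by
    rw [orbit_eq_card base5 (by rw [card_base5])]
    show A.card = base5.card
    rw [hA, card_base5]
  obtain ⟨g, rfl⟩ := hmem
  show Nat.card (fixOct ((g : Equiv.Perm GolayPt) • base5)) = 48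
  rw [fixOct_smul g.1 g.2, Subgroup.card_map_of_injective (MulAut.conj g.1).injective,
    fixOct_base5, card_stabL5]

/-- The pointwise stabiliser of an octad is normalised by the stabiliser of five of its points. -/
theorem fixOct_five_normal {A O : Finset GolayPt} (hA : A.card = 5) (hO : O ∈ octads)
    (hAO : A ⊆ O) : ∀ g ∈ fixOct A, ∀ n ∈ fixOct O, g * n * g⁻¹ ∈ fixOct O := by
  intro g hg n hn
  rw [mem_fixOct] at hg
  have hgO : g • O = O := by
    refine octad_unique (Cfsg.Agent.Lib.helper9.smul_mem_octads g hg.1 O hO) hO hA ?_ hAO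
    intro a ha
    have h : g a ∈ g • O := Finset.smul_mem_smul_finset (hAO ha)
    rwa [hg.2 a ha] at h
  have h := fixOct_smul g hg.1 O
  rw [hgO] at h
  rw [h]
  exact Subgroup.mem_map.2 ⟨n, hn, rfl⟩

/-- An element of order dividing 16 fixing five points fixes the octad through them pointwise. -/
theorem mem_fixOct_of_pow {A O : Finset GolayPt} (hA : A.card = 5) (hO : O ∈ octads)
    (hAO : A ⊆ O) {x : Equiv.Perm GolayPt} (hx : x ∈ fixOct A) (hx16 : x ^ 16 = 1) :
    x ∈ fixOct O := by
  refine mem_of_pow_sixteen (fixOct A) (fixOct O) ?_ (fixOct_five_normal hA hO hAO)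
    (card_fixOct_five hA) (card_fixOct hO) x hx hx16
  intro g hg
  rw [mem_fixOct] at hg ⊢
  exact ⟨hg.1, fun a ha => hg.2 a (hAO ha)⟩

/-! ### Fixed points -/

/-- The set of fixed points of a permutation. -/
def fixF (g : Equiv.Perm GolayPt) : Finset GolayPt := Finset.univ.filter fun x => g x = x

theorem mem_fixF {g : Equiv.Perm GolayPt} {x : GolayPt} : x ∈ fixF g ↔ g x = x := by
  simp [fixF]

/-- An element of the group whose order does not divide 48 fixes at most four points. -/
theorem card_fixF_lt_five {g : Equiv.Perm GolayPt} (hg : g ∈ M24) (hord : ¬ orderOf g ∣ 48) :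
    (fixF g).card < 5 := by
  by_contra h
  rw [not_lt] at h
  obtain ⟨A, hAsub, hA⟩ := Finset.exists_subset_card_eq h
  have hmem : g ∈ fixOct A := mem_fixOct.2 ⟨hg, fun x hx => mem_fixF.1 (hAsub hx)⟩
  apply hord
  have h2 := orderOf_dvd_natCard (⟨g, hmem⟩ : ↥(fixOct A))
  rw [card_fixOct_five hA, ← Subgroup.orderOf_coe] at h2
  exact h2

/-- The number of fixed points of an element of prime order at least 5. -/
theorem card_fixF_prime {g : Equiv.Perm GolayPt} (hg : g ∈ M24) {p : ℕ} [hp : Fact p.Prime]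
    (hord : orderOf g = p) (hp5 : 5 ≤ p) : (fixF g).card = 24 % p := by
  have hp48 : ¬ p ∣ 48 := by
    intro h
    have h2 : p ∣ 2 ^ 4 * 3 := by norm_num; exact h
    rcases (Nat.Prime.dvd_mul hp.out).1 h2 with h3 | h3
    · have := (Nat.prime_dvd_prime_iff_eq hp.out Nat.prime_two).1 (hp.out.dvd_of_dvd_pow h3)
      omega
    · have := (Nat.prime_dvd_prime_iff_eq hp.out Nat.prime_three).1 h3
      omega
  have h1 : (fixF g).card < 5 := card_fixF_lt_five hg (by rw [hord]; exact hp48)
  have h2 := card_modEq_card_fixed g p 1 (by rw [pow_one, ← hord]; exact pow_orderOf_eq_one g)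
    Finset.univ (fun b => by simp)
  rw [Finset.card_univ, golayPt_card] at h2
  have h3 : (Finset.univ.filter fun b => g b = b) = fixF g := rfl
  rw [h3] at h2
  unfold Nat.ModEq at h2
  rw [h2, Nat.mod_eq_of_lt (by omega)]

/-! ### Orbits of subgroups -/

open Classical in
/-- The orbit of a point under a subgroup, as a finset. -/
noncomputable def orbFin (H : Subgroup (Equiv.Perm GolayPt)) (x : GolayPt) : Finset GolayPt :=
  Finset.univ.filter fun b => ∃ g ∈ H, g x = b

theorem mem_orbFin {H : Subgroup (Equiv.Perm GolayPt)} {x b : GolayPt} :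
    b ∈ orbFin H x ↔ ∃ g ∈ H, g x = b := by
  classical
  simp [orbFin]

theorem self_mem_orbFin (H : Subgroup (Equiv.Perm GolayPt)) (x : GolayPt) : x ∈ orbFin H x :=
  mem_orbFin.2 ⟨1, one_mem _, rfl⟩

theorem card_orbit_eq (H : Subgroup (Equiv.Perm GolayPt)) (x : GolayPt) :
    Nat.card (MulAction.orbit H x) = (orbFin H x).card := by
  have : MulAction.orbit H x = ((orbFin H x : Finset GolayPt) : Set GolayPt) := by
    ext b
    rw [mem_orbit_subgroup_iff, Finset.mem_coe, mem_orbFin]
  rw [this, Nat.card_coe_set_eq, Set.ncard_coe_finset]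

/-- Orbit-stabiliser with the orbit as a finset. -/
theorem card_eq_orbFin_mul (H : Subgroup (Equiv.Perm GolayPt)) (x : GolayPt) :
    Nat.card H = (orbFin H x).card *
      Nat.card ↥(H ⊓ MulAction.stabilizer (Equiv.Perm GolayPt) x) := by
  rw [← card_orbit_eq]
  exact card_eq_orbit_mul_stab H x

theorem orbFin_invariant {H : Subgroup (Equiv.Perm GolayPt)} (x : GolayPt)
    {y : Equiv.Perm GolayPt} (hy : y ∈ H) (b : GolayPt) : y b ∈ orbFin H x ↔ b ∈ orbFin H x := by
  rw [mem_orbFin, mem_orbFin]
  constructor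
  · rintro ⟨g, hg, h⟩
    refine ⟨y⁻¹ * g, mul_mem (inv_mem hy) hg, ?_⟩
    show y⁻¹ (g x) = b
    rw [h, perm_inv_apply]
  · rintro ⟨g, hg, h⟩
    exact ⟨y * g, mul_mem hy hg, by show y (g x) = y b; rw [h]⟩

/-- Orbit length modulo `p` from the fixed points of an element of order `p`. -/
theorem orbFin_card_modEq (H : Subgroup (Equiv.Perm GolayPt)) (x : GolayPt)
    {y : Equiv.Perm GolayPt} (hy : y ∈ H) {p : ℕ} [Fact p.Prime] (hord : orderOf y = p) :
    (orbFin H x).card ≡ ((orbFin H x).filter fun b => y b = b).card [MOD p] :=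
  card_modEq_card_fixed y p 1 (by rw [pow_one, ← hord]; exact pow_orderOf_eq_one y) _
    (orbFin_invariant x hy)

/-- Cauchy's theorem for subgroups of permutations. -/
theorem exists_orderOf_eq (H : Subgroup (Equiv.Perm GolayPt)) (p : ℕ) [Fact p.Prime]
    (h : p ∣ Nat.card H) : ∃ y ∈ H, orderOf y = p := by
  obtain ⟨y, hy⟩ := exists_prime_orderOf_dvd_card' p h
  exact ⟨y.1, y.2, by rw [Subgroup.orderOf_coe]; exact hy⟩

/-! ### Point stabilisers -/

theorem card_M24_stab (x : GolayPt) :
    Nat.card ↥(M24 ⊓ MulAction.stabilizer (Equiv.Perm GolayPt) x) = 10200960 := by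
  rw [card_inf_stabilizer M24 x]
  exact card_stab_point x

theorem mem_M23 {g : Equiv.Perm GolayPt} : g ∈ Spor.M23 ↔ g ∈ M24 ∧ g none = none := by
  rw [Spor.M23, Subgroup.mem_inf, MulAction.mem_stabilizer_iff]
  rfl

theorem card_M23 : Nat.card Spor.M23 = 10200960 := card_M24_stab (none : GolayPt)

theorem orbFin_M23 {f : GolayPt} (hf : f ≠ none) :
    orbFin Spor.M23 f = Finset.univ.erase none := by
  ext b
  rw [mem_orbFin, Finset.mem_erase]
  constructor
  · rintro ⟨g, hg, rfl⟩
    refine ⟨fun h => hf ?_, Finset.mem_univ _⟩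
    exact g.injective (h.trans (mem_M23.1 hg).2.symm)
  · rintro ⟨hb, -⟩
    obtain ⟨g, hg, h1, h2⟩ := m24_two_trans none f none b (Ne.symm hf) (Ne.symm hb)
    exact ⟨g, mem_M23.2 ⟨hg, h1⟩, h2⟩

theorem card_M23_stab {f : GolayPt} (hf : f ≠ none) :
    Nat.card ↥(Spor.M23 ⊓ MulAction.stabilizer (Equiv.Perm GolayPt) f) = 443520 := by
  have h := card_eq_orbFin_mul Spor.M23 f
  rw [orbFin_M23 hf, card_M23, Finset.card_erase_of_mem (Finset.mem_univ _), Finset.card_univ,
    golayPt_card] at h
  omega

/-- A subgroup of index 23 of the stabiliser of the point `none` is the stabiliser of a second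
point. -/
theorem index23_M23 (K : Subgroup (Equiv.Perm GolayPt)) (hK : K ≤ Spor.M23)
    (hc : Nat.card K = 443520) :
    ∃ f : GolayPt, f ≠ none ∧ K = Spor.M23 ⊓ MulAction.stabilizer (Equiv.Perm GolayPt) f := by
  have hK24 : K ≤ M24 := fun g hg => (mem_M23.1 (hK hg)).1
  have hnone : ∀ g ∈ K, g none = none := fun g hg => (mem_M23.1 (hK hg)).2
  have : Fact (Nat.Prime 11) := ⟨by norm_num⟩
  have : Fact (Nat.Prime 7) := ⟨by norm_num⟩
  obtain ⟨y, hy, hy11⟩ := exists_orderOf_eq K 11 (by rw [hc]; norm_num)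
  obtain ⟨z, hz, hz7⟩ := exists_orderOf_eq K 7 (by rw [hc]; norm_num)
  have cy : (fixF y).card = 2 := card_fixF_prime (hK24 hy) hy11 (by norm_num)
  have cz : (fixF z).card = 3 := card_fixF_prime (hK24 hz) hz7 (by norm_num)
  have hny : none ∈ fixF y := mem_fixF.2 (hnone y hy)
  have hnz : none ∈ fixF z := mem_fixF.2 (hnone z hz)
  obtain ⟨f, hf⟩ : ∃ f, (fixF y).erase none = {f} :=
    Finset.card_eq_one.1 (by rw [Finset.card_erase_of_mem hny, cy])
  have hfmem : f ∈ (fixF y).erase none := by rw [hf]; exact Finset.mem_singleton_self f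
  have hfne : f ≠ none := (Finset.mem_erase.1 hfmem).1
  have hfy : y f = f := mem_fixF.1 (Finset.mem_erase.1 hfmem).2
  refine ⟨f, hfne, ?_⟩
  have horb_sub : ∀ b ∈ orbFin K f, b ≠ none := by
    intro b hb
    obtain ⟨g, hg, rfl⟩ := mem_orbFin.1 hb
    intro h
    exact hfne (g.injective (h.trans (hnone g hg).symm))
  have hle23 : (orbFin K f).card ≤ 23 := by
    have h1 : orbFin K f ⊆ Finset.univ.erase none := fun b hb =>
      Finset.mem_erase.2 ⟨horb_sub b hb, Finset.mem_univ _⟩
    have h2 := Finset.card_le_card h1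
    rwa [Finset.card_erase_of_mem (Finset.mem_univ _), Finset.card_univ, golayPt_card] at h2
  have m11 := orbFin_card_modEq K f hy hy11
  have hfilt : ((orbFin K f).filter fun b => y b = b) = {f} := by
    ext b
    rw [Finset.mem_filter, Finset.mem_singleton]
    constructor
    · rintro ⟨hb, hyb⟩
      have h1 : b ∈ (fixF y).erase none := Finset.mem_erase.2 ⟨horb_sub b hb, mem_fixF.2 hyb⟩
      rw [hf] at h1
      exact Finset.mem_singleton.1 h1
    · rintro rfl
      exact ⟨self_mem_orbFin K b, hfy⟩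
  rw [hfilt, Finset.card_singleton] at m11
  have m7 := orbFin_card_modEq K f hz hz7
  have hfilt7 : ((orbFin K f).filter fun b => z b = b).card ≤ 2 := by
    have h1 : ((orbFin K f).filter fun b => z b = b) ⊆ (fixF z).erase none := by
      intro b hb
      rw [Finset.mem_filter] at hb
      exact Finset.mem_erase.2 ⟨horb_sub b hb.1, mem_fixF.2 hb.2⟩
    have h2 := Finset.card_le_card h1
    rwa [Finset.card_erase_of_mem hnz, cz] at h2
  have hos := card_eq_orbFin_mul K f
  rw [hc] at hos
  have hpos : 0 < (orbFin K f).card := Finset.card_pos.2 ⟨f, self_mem_orbFin K f⟩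
  have hone : (orbFin K f).card = 1 := by
    unfold Nat.ModEq at m11 m7
    have h1 : (orbFin K f).card = 1 ∨ (orbFin K f).card = 12 ∨ (orbFin K f).card = 23 := by
      omega
    rcases h1 with h1 | h1 | h1
    · exact h1
    · exfalso
      rw [h1] at m7
      omega
    · exfalso
      rw [h1] at hos
      omega
  have hKf : ∀ g ∈ K, g f = f := by
    intro g hg
    have h1 : g f ∈ orbFin K f := mem_orbFin.2 ⟨g, hg, rfl⟩
    rw [Finset.card_eq_one] at hone
    obtain ⟨a, ha⟩ := hone
    rw [ha, Finset.mem_singleton] at h1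
    have h2 := self_mem_orbFin K f
    rw [ha, Finset.mem_singleton] at h2
    rw [h1, h2]
  apply Subgroup.eq_of_le_of_card_ge
  · intro g hg
    exact Subgroup.mem_inf.2 ⟨hK hg, MulAction.mem_stabilizer_iff.2 (hKf g hg)⟩
  · rw [card_M23_stab hfne, hc]

/-! ### Permutations normalising the pointwise stabiliser of an octad -/

/-- A permutation conjugating the pointwise stabiliser of an octad into the group maps the octad
to an octad. -/
theorem smul_octad_of_conj {π : Equiv.Perm GolayPt} {O : Finset GolayPt} (hO : O ∈ octads)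
    (h : ∀ e ∈ fixOct O, π * e * π⁻¹ ∈ M24) : π • O ∈ octads := by
  have hcard : (π • O).card = 8 := by rw [Finset.card_smul_finset]; exact hO.2
  obtain ⟨A, hAsub, hA⟩ := Finset.exists_subset_card_eq
    (show 5 ≤ (π • O).card by rw [hcard]; norm_num)
  obtain ⟨O', hO', hAO'⟩ := exists_octad_supset A (le_of_eq hA)
  have hE' : ∀ e ∈ fixOct O, π * e * π⁻¹ ∈ fixOct O' := by
    intro e he
    apply mem_fixOct_of_pow hA hO' hAO'
    · rw [mem_fixOct]
      refine ⟨h e he, fun a ha => ?_⟩
      have ha' : π⁻¹ a ∈ O := Finset.inv_smul_mem_iff.2 (hAsub ha)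
      show π (e (π⁻¹ a)) = a
      rw [(mem_fixOct.1 he).2 _ ha', perm_apply_inv]
    · have he16 : e ^ 16 = 1 := by
        have h1 := pow_card_eq_one' (G := ↥(fixOct O)) (x := ⟨e, he⟩)
        rw [card_fixOct hO] at h1
        exact congrArg Subtype.val h1
      rw [conj_pow, he16, mul_one, mul_inv_cancel]
  have hmap : (fixOct O).map (MulAut.conj π).toMonoidHom = fixOct O' := by
    apply Subgroup.eq_of_le_of_card_ge
    · rintro _ ⟨e, he, rfl⟩
      exact hE' e he
    · rw [Subgroup.card_map_of_injective (MulAut.conj π).injective, card_fixOct hO,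
        card_fixOct hO']
  have hsub : π • O ⊆ O' := by
    intro x hx
    by_contra hxO'
    have hex : ∃ y, y ∉ O' ∧ y ≠ x := by
      by_contra hne
      have h1 : (O'ᶜ : Finset GolayPt) ⊆ {x} := by
        intro y hy
        rw [Finset.mem_singleton]
        by_contra hyx
        exact hne ⟨y, Finset.mem_compl.1 hy, hyx⟩
      have h2 := Finset.card_le_card h1
      rw [Finset.card_compl, golayPt_card, hO'.2, Finset.card_singleton] at h2
      omega
    obtain ⟨y, hy, hyx⟩ := hex
    obtain ⟨k, hk, hkx⟩ := fixOct_trans hO' hxO' hy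
    rw [← hmap] at hk
    obtain ⟨e, he, rfl⟩ := hk
    have hx' : π⁻¹ x ∈ O := Finset.inv_smul_mem_iff.2 hx
    have h1 : π (e (π⁻¹ x)) = x := by
      rw [(mem_fixOct.1 he).2 _ hx', perm_apply_inv]
    have h2 : π (e (π⁻¹ x)) = y := hkx
    exact hyx (h2.symm.trans h1)
  have h1 : π • O = O' := Finset.eq_of_subset_of_card_le hsub (by rw [hcard, hO'.2])
  rw [h1]
  exact hO'

end Cfsg.Agent.Lib.helper33
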