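/-
Subgroups of index 24 in the group of the length-24 code are point stabilisers.
-/
import Mathlib
import Cfsg.Agent.Lib.helper33.M24Aut

set_option autoImplicit false

namespace Cfsg.Agent.Lib.helper33

open Cfsg Cfsg.Agent.Lib.helper9
open scoped Pointwise

/-- One step down a chain of point stabilisers: if the subgroup `H` fixes `F` pointwise and its
order is divisible by suitable primes `p1`, `p2`, then some point outside `F` has an orbit
consisting of all points outside `F`. -/
theorem level_step (H : Subgroup (Equiv.Perm GolayPt)) (hH : H ≤ M24) (F : Finset GolayPt)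
    (hfix : ∀ h ∈ H, ∀ x ∈ F, h x = x) (p1 p2 : ℕ) [Fact p1.Prime] [Fact p2.Prime]
    (h15 : 5 ≤ p1) (h25 : 5 ≤ p2) (hd1 : p1 ∣ Nat.card H) (hd2 : p2 ∣ Nat.card H)
    (hm1 : 24 % p1 = F.card) (hm2 : 24 % p2 = F.card + 1)
    (harith : ∀ n, 0 < n → n ≤ 24 - F.card → p1 ∣ n → n % p2 = 1 → n = 24 - F.card) :
    ∃ x, x ∉ F ∧ Nat.card H =
      (24 - F.card) * Nat.card ↥(H ⊓ MulAction.stabilizer (Equiv.Perm GolayPt) x) := by
  obtain ⟨y1, hy1, ho1⟩ := exists_orderOf_eq H p1 hd1
  obtain ⟨y2, hy2, ho2⟩ := exists_orderOf_eq H p2 hd2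
  have c1 : (fixF y1).card = F.card := by rw [card_fixF_prime (hH hy1) ho1 h15, hm1]
  have c2 : (fixF y2).card = F.card + 1 := by rw [card_fixF_prime (hH hy2) ho2 h25, hm2]
  have hF1 : F ⊆ fixF y1 := fun x hx => mem_fixF.2 (hfix y1 hy1 x hx)
  have hF2 : F ⊆ fixF y2 := fun x hx => mem_fixF.2 (hfix y2 hy2 x hx)
  have e1 : fixF y1 = F := (Finset.eq_of_subset_of_card_le hF1 (le_of_eq c1)).symm
  obtain ⟨x, hx⟩ : ∃ x, fixF y2 \ F = {x} :=
    Finset.card_eq_one.1 (by rw [Finset.card_sdiff_of_subset hF2, c2]; omega)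
  have hxm : x ∈ fixF y2 \ F := by rw [hx]; exact Finset.mem_singleton_self x
  have hxF : x ∉ F := (Finset.mem_sdiff.1 hxm).2
  have hxy2 : y2 x = x := mem_fixF.1 (Finset.mem_sdiff.1 hxm).1
  refine ⟨x, hxF, ?_⟩
  have hdisj : ∀ b ∈ orbFin H x, b ∉ F := by
    intro b hb hbF
    obtain ⟨g, hg, rfl⟩ := mem_orbFin.1 hb
    have h1 := hfix g⁻¹ (inv_mem hg) _ hbF
    rw [perm_inv_apply] at h1
    exact hxF (h1 ▸ hbF)
  have hle : (orbFin H x).card ≤ 24 - F.card := by
    have h1 : orbFin H x ⊆ Finset.univ \ F := fun b hb =>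
      Finset.mem_sdiff.2 ⟨Finset.mem_univ _, hdisj b hb⟩
    have h2 := Finset.card_le_card h1
    rwa [Finset.card_sdiff_of_subset (Finset.subset_univ _), Finset.card_univ,
      golayPt_card] at h2
  have hpos : 0 < (orbFin H x).card := Finset.card_pos.2 ⟨x, self_mem_orbFin H x⟩
  have m1 := orbFin_card_modEq H x hy1 ho1
  have f1 : ((orbFin H x).filter fun b => y1 b = b) = ∅ := by
    rw [Finset.filter_eq_empty_iff]
    intro b hb hyb
    exact hdisj b hb (e1 ▸ mem_fixF.2 hyb)
  rw [f1, Finset.card_empty] at m1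
  have m2 := orbFin_card_modEq H x hy2 ho2
  have f2 : ((orbFin H x).filter fun b => y2 b = b) = {x} := by
    ext b
    rw [Finset.mem_filter, Finset.mem_singleton]
    constructor
    · rintro ⟨hb, hyb⟩
      have h1 : b ∈ fixF y2 \ F := Finset.mem_sdiff.2 ⟨mem_fixF.2 hyb, hdisj b hb⟩
      rw [hx] at h1
      exact Finset.mem_singleton.1 h1
    · rintro rfl
      exact ⟨self_mem_orbFin H b, hxy2⟩
  rw [f2, Finset.card_singleton] at m2
  have hcard : (orbFin H x).card = 24 - F.card := by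
    apply harith _ hpos hle
    · exact (Nat.modEq_zero_iff_dvd).1 m1
    · unfold Nat.ModEq at m2
      rw [m2, Nat.mod_eq_of_lt (by omega)]
  rw [← hcard]
  exact card_eq_orbFin_mul H x

theorem fix_insert {H : Subgroup (Equiv.Perm GolayPt)} {F : Finset GolayPt} {x : GolayPt}
    (hfix : ∀ h ∈ H, ∀ a ∈ F, h a = a) :
    ∀ h ∈ H ⊓ MulAction.stabilizer (Equiv.Perm GolayPt) x, ∀ a ∈ insert x F, h a = a := by
  intro h hh a ha
  rw [Subgroup.mem_inf] at hh
  rcases Finset.mem_insert.1 ha with rfl | ha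
  · exact MulAction.mem_stabilizer_iff.1 hh.2
  · exact hfix h hh.1 a ha

/-! ### Involutions fixing exactly four points -/

/-- Kernel check on a packed table: it is not an involution, or it fixes a point of index at
least 4. -/
def chkInv4 (t : ℕ) : Bool :=
  (List.range 24).any (fun i => !Nat.beq (getN t (getN t i)) i) ||
  (List.range 24).any (fun i => Nat.ble 4 i && Nat.beq (getN t i) i)

theorem chkInv4_ok : ((orbL.getD 4 []).all fun c4 => (orbL.getD 5 []).all fun c5 =>
    (orbL.getD 6 []).all fun c6 => chkInv4 (t4N c4 c5 c6)) = true := by decide +kernel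

/-- The first four base points. -/
def base4 : Finset GolayPt := (Finset.range 4).image bp

theorem mem_base4 {q : GolayPt} : q ∈ base4 ↔ ∃ j < 4, bp j = q := by
  simp [base4]

theorem card_base4 : base4.card = 4 := by
  rw [base4, Finset.card_image_of_injOn, Finset.card_range]
  intro i hi j hj h
  simp only [Finset.coe_range, Set.mem_Iio] at hi hj
  by_contra hne
  exact bp_ne i (by omega) j (by omega) hne h

theorem base_lt4 : ∀ j < 4, base.getD j 0 = j := by decide

/-- No involution of the group has exactly four fixed points. -/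
theorem no_invol_four {n : Equiv.Perm GolayPt} (hn : n ∈ M24) (hnn : n * n = 1)
    (F : Finset GolayPt) (hF : F.card = 4) (hfix : fixF n = F) : False := by
  have hmem : base4 ∈ MulAction.orbit M24 F := by
    rw [orbit_eq_card F (by omega)]
    show base4.card = F.card
    rw [hF, card_base4]
  obtain ⟨g, hgF⟩ := hmem
  have hgF' : (g : Equiv.Perm GolayPt) • F = base4 := hgF
  have hinv : ∀ q, q ∈ base4 ↔ (g : Equiv.Perm GolayPt)⁻¹ q ∈ F := by
    intro q
    rw [← hgF']
    exact Finset.inv_smul_mem_iff.symm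
  have hn'4 : (g : Equiv.Perm GolayPt) * n * (g : Equiv.Perm GolayPt)⁻¹ ∈ stabL M24 4 := by
    rw [mem_stabL]
    refine ⟨mul_mem (mul_mem g.2 hn) (inv_mem g.2), fun j hj => ?_⟩
    have h1 : (g : Equiv.Perm GolayPt)⁻¹ (bp j) ∈ F := (hinv _).1 (mem_base4.2 ⟨j, hj, rfl⟩)
    rw [← hfix, mem_fixF] at h1
    show (g : Equiv.Perm GolayPt) (n ((g : Equiv.Perm GolayPt)⁻¹ (bp j))) = bp j
    rw [h1, perm_apply_inv]
  obtain ⟨c4, c5, c6, hok, heq⟩ := nf4N _ hn'4
  have htab := (E4_spec hok).2
  rw [← heq] at htab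
  have hchk : chkInv4 (t4N c4 c5 c6) = true := by
    simp only [ok4, Bool.and_eq_true, List.contains_iff_mem] at hok
    have h1 := chkInv4_ok
    rw [List.all_eq_true] at h1
    have h2 := h1 c4 hok.1.1
    rw [List.all_eq_true] at h2
    have h3 := h2 c5 hok.1.2
    rw [List.all_eq_true] at h3
    exact h3 c6 hok.2
  have hsq : ∀ p, ((g : Equiv.Perm GolayPt) * n * (g : Equiv.Perm GolayPt)⁻¹)
      (((g : Equiv.Perm GolayPt) * n * (g : Equiv.Perm GolayPt)⁻¹) p) = p := by
    intro p
    have h1 : ((g : Equiv.Perm GolayPt) * n * (g : Equiv.Perm GolayPt)⁻¹) *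
        ((g : Equiv.Perm GolayPt) * n * (g : Equiv.Perm GolayPt)⁻¹) = 1 := by
      have : ((g : Equiv.Perm GolayPt) * n * (g : Equiv.Perm GolayPt)⁻¹) *
        ((g : Equiv.Perm GolayPt) * n * (g : Equiv.Perm GolayPt)⁻¹) =
          (g : Equiv.Perm GolayPt) * (n * n) * (g : Equiv.Perm GolayPt)⁻¹ := by group
      rw [this, hnn, mul_one, mul_inv_cancel]
    exact congrArg (fun σ : Equiv.Perm GolayPt => σ p) h1
  rw [chkInv4, Bool.or_eq_true, List.any_eq_true, List.any_eq_true] at hchk
  rcases hchk with ⟨i, hi, hne⟩ | ⟨i, hi, hfx⟩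
  · rw [List.mem_range] at hi
    have h1 := htab (((g : Equiv.Perm GolayPt) * n * (g : Equiv.Perm GolayPt)⁻¹) (pt i))
    rw [hsq, htab, idx_pt hi] at h1
    rw [← h1, Nat.beq_refl] at hne
    exact Bool.noConfusion hne
  · rw [List.mem_range] at hi
    rw [Bool.and_eq_true] at hfx
    have h4 : 4 ≤ i := Nat.le_of_ble_eq_true hfx.1
    have h5 : getN (t4N c4 c5 c6) i = i := Nat.eq_of_beq_eq_true hfx.2
    have h6 : ((g : Equiv.Perm GolayPt) * n * (g : Equiv.Perm GolayPt)⁻¹) (pt i) = pt i := by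
      apply idx_injective
      rw [htab, idx_pt hi, h5]
    have h7 : n ((g : Equiv.Perm GolayPt)⁻¹ (pt i)) = (g : Equiv.Perm GolayPt)⁻¹ (pt i) := by
      have h8 : (g : Equiv.Perm GolayPt) (n ((g : Equiv.Perm GolayPt)⁻¹ (pt i))) = pt i := h6
      exact Equiv.Perm.eq_inv_iff_eq.2 h8
    have h9 : pt i ∈ base4 := by
      rw [hinv, ← hfix, mem_fixF]
      exact h7
    obtain ⟨j, hj, hbj⟩ := mem_base4.1 h9
    have h10 := congrArg idx hbj
    rw [idx_bp j (by omega), base_lt4 j hj, idx_pt hi] at h10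
    omega

/-- No subgroup of order 40 of the group fixes four points. -/
theorem no_order40 (Q : Subgroup (Equiv.Perm GolayPt)) (hQ : Q ≤ M24) (F : Finset GolayPt)
    (hF : F.card = 4) (hfix : ∀ h ∈ Q, ∀ x ∈ F, h x = x) (hc : Nat.card Q = 40) : False := by
  have hp5 : Fact (Nat.Prime 5) := ⟨by norm_num⟩
  have hp2 : Fact (Nat.Prime 2) := ⟨by norm_num⟩
  obtain ⟨w, hw, hw5⟩ := exists_orderOf_eq Q 5 (by rw [hc]; norm_num)
  have cw : (fixF w).card = 4 := card_fixF_prime (hQ hw) hw5 (by norm_num)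
  have hFw : fixF w = F :=
    (Finset.eq_of_subset_of_card_le (fun x hx => mem_fixF.2 (hfix w hw x hx))
      (by rw [cw, hF])).symm
  obtain ⟨n', hn'2, hn'w⟩ := exists_invol_comm (G := ↥Q) hc ⟨w, hw⟩
    (by rw [← Subgroup.orderOf_coe]; exact hw5)
  have hnQ : (n' : Equiv.Perm GolayPt) ∈ Q := n'.2
  have hn2 : orderOf (n' : Equiv.Perm GolayPt) = 2 := by
    rw [Subgroup.orderOf_coe]; exact hn'2
  have hnw : (n' : Equiv.Perm GolayPt) * w = w * (n' : Equiv.Perm GolayPt) :=
    congrArg Subtype.val hn'w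
  generalize (n' : Equiv.Perm GolayPt) = n at hnQ hn2 hnw
  have hnn : n * n = 1 := by rw [← pow_two, ← hn2]; exact pow_orderOf_eq_one n
  have hn1 : n ≠ 1 := by
    intro h
    rw [h, orderOf_one] at hn2
    omega
  have hFn : F ⊆ fixF n := fun x hx => mem_fixF.2 (hfix n hnQ x hx)
  have hB : ∀ b, w b ∈ fixF n ↔ b ∈ fixF n := by
    intro b
    rw [mem_fixF, mem_fixF]
    have e : n (w b) = w (n b) := congrArg (fun σ : Equiv.Perm GolayPt => σ b) hnw
    rw [e]
    exact ⟨fun h => w.injective h, fun h => by rw [h]⟩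
  have m5 := card_modEq_card_fixed w 5 1 (by rw [pow_one, ← hw5]; exact pow_orderOf_eq_one w)
    (fixF n) hB
  have f5 : ((fixF n).filter fun b => w b = b) = F := by
    ext b
    rw [Finset.mem_filter]
    constructor
    · rintro ⟨-, h⟩
      rw [← hFw]
      exact mem_fixF.2 h
    · intro hb
      exact ⟨hFn hb, mem_fixF.1 (hFw ▸ hb)⟩
  rw [f5, hF] at m5
  have m2 := card_modEq_card_fixed n 2 1 (by rw [pow_one, pow_two]; exact hnn) Finset.univ
    (fun b => by simp)
  rw [Finset.card_univ, golayPt_card] at m2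
  have f2 : (Finset.univ.filter fun b => n b = b) = fixF n := rfl
  rw [f2] at m2
  have hle4 := Finset.card_le_card hFn
  rw [hF] at hle4
  unfold Nat.ModEq at m5 m2
  by_cases h5 : 5 ≤ (fixF n).card
  · obtain ⟨A, hAsub, hA⟩ := Finset.exists_subset_card_eq h5
    obtain ⟨O, hO, hAO⟩ := exists_octad_supset A (le_of_eq hA)
    have hnA : n ∈ fixOct A := mem_fixOct.2 ⟨hQ hnQ, fun x hx => mem_fixF.1 (hAsub hx)⟩
    have hnO : n ∈ fixOct O := mem_fixOct_of_pow hA hO hAO hnA (by
      have h16 : n ^ 16 = (n * n) ^ 8 := by rw [← pow_two, ← pow_mul]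
      rw [h16, hnn, one_pow])
    have hsub : fixF n ⊆ O := by
      intro x hx
      by_contra hxO
      exact hn1 (fixOct_stab_trivial hO hxO n hnO (mem_fixF.1 hx))
    have h8 := Finset.card_le_card hsub
    rw [hO.2] at h8
    omega
  · have h4 : (fixF n).card = 4 := by omega
    exact no_invol_four (hQ hnQ) hnn F hF
      (Finset.eq_of_subset_of_card_le hFn (by rw [h4, hF])).symm

/-- A subgroup of index 24 in the group of the code is a point stabiliser. -/
theorem index24_M24 (K : Subgroup (Equiv.Perm GolayPt)) (hK : K ≤ M24)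
    (hc : Nat.card K = 10200960) :
    ∃ f : GolayPt, K = M24 ⊓ MulAction.stabilizer (Equiv.Perm GolayPt) f := by
  have hp23 : Fact (Nat.Prime 23) := ⟨by norm_num⟩
  have hp11 : Fact (Nat.Prime 11) := ⟨by norm_num⟩
  have hp7 : Fact (Nat.Prime 7) := ⟨by norm_num⟩
  have hp5 : Fact (Nat.Prime 5) := ⟨by norm_num⟩
  obtain ⟨y, hy, hy23⟩ := exists_orderOf_eq K 23 (by rw [hc]; norm_num)
  have cy : (fixF y).card = 1 := card_fixF_prime (hK hy) hy23 (by norm_num)
  obtain ⟨x0, hx0⟩ := Finset.card_eq_one.1 cy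
  have hyx0 : y x0 = x0 := mem_fixF.1 (by rw [hx0]; exact Finset.mem_singleton_self x0)
  have m23 := orbFin_card_modEq K x0 hy hy23
  have f23 : ((orbFin K x0).filter fun b => y b = b) = {x0} := by
    ext b
    rw [Finset.mem_filter, Finset.mem_singleton]
    constructor
    · rintro ⟨-, hyb⟩
      have h1 : b ∈ fixF y := mem_fixF.2 hyb
      rw [hx0] at h1
      exact Finset.mem_singleton.1 h1
    · rintro rfl
      exact ⟨self_mem_orbFin K b, hyx0⟩
  rw [f23, Finset.card_singleton] at m23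
  have hle : (orbFin K x0).card ≤ 24 := by
    have h1 := Finset.card_le_univ (orbFin K x0)
    rwa [golayPt_card] at h1
  have hpos : 0 < (orbFin K x0).card := Finset.card_pos.2 ⟨x0, self_mem_orbFin K x0⟩
  have hcases : (orbFin K x0).card = 1 ∨ (orbFin K x0).card = 24 := by
    unfold Nat.ModEq at m23
    omega
  rcases hcases with h1 | h24
  · refine ⟨x0, ?_⟩
    have hKf : ∀ g ∈ K, g x0 = x0 := by
      intro g hg
      have h2 : g x0 ∈ orbFin K x0 := mem_orbFin.2 ⟨g, hg, rfl⟩
      obtain ⟨a, ha⟩ := Finset.card_eq_one.1 h1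
      rw [ha, Finset.mem_singleton] at h2
      have h3 := self_mem_orbFin K x0
      rw [ha, Finset.mem_singleton] at h3
      rw [h2, h3]
    apply Subgroup.eq_of_le_of_card_ge
    · intro g hg
      exact Subgroup.mem_inf.2 ⟨hK hg, MulAction.mem_stabilizer_iff.2 (hKf g hg)⟩
    · rw [card_M24_stab, hc]
  · exfalso
    have hos := card_eq_orbFin_mul K x0
    rw [hc, h24] at hos
    have c1 : Nat.card ↥(K ⊓ MulAction.stabilizer (Equiv.Perm GolayPt) x0) = 425040 := by omega
    have hH1 : K ⊓ MulAction.stabilizer (Equiv.Perm GolayPt) x0 ≤ M24 :=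
      fun g hg => hK (Subgroup.mem_inf.1 hg).1
    have fix1 : ∀ h ∈ K ⊓ MulAction.stabilizer (Equiv.Perm GolayPt) x0,
        ∀ x ∈ ({x0} : Finset GolayPt), h x = x := by
      intro h hh x hx
      rw [Finset.mem_singleton] at hx
      rw [hx]
      exact MulAction.mem_stabilizer_iff.1 (Subgroup.mem_inf.1 hh).2
    obtain ⟨x1, hx1, e1⟩ := level_step _ hH1 {x0} fix1 23 11 (by norm_num) (by norm_num)
      (by rw [c1]; norm_num) (by rw [c1]; norm_num) (by simp) (by simp) (by
        intro n hn hle hd _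
        simp only [Finset.card_singleton] at hle ⊢
        obtain ⟨k, rfl⟩ := hd
        omega)
    rw [c1, Finset.card_singleton] at e1
    simp only [show (24:ℕ) - 1 = 23 from rfl] at e1
    have c2 : Nat.card ↥(K ⊓ MulAction.stabilizer (Equiv.Perm GolayPt) x0 ⊓
        MulAction.stabilizer (Equiv.Perm GolayPt) x1) = 18480 := by omega
    have cF2 : (insert x1 ({x0} : Finset GolayPt)).card = 2 := by
      rw [Finset.card_insert_of_notMem hx1, Finset.card_singleton]
    obtain ⟨x2, hx2, e2⟩ := level_step _ (le_trans inf_le_left hH1) _ (fix_insert (x := x1) fix1)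
      11 7 (by norm_num) (by norm_num)
      (by rw [c2]; norm_num) (by rw [c2]; norm_num) (by rw [cF2]) (by rw [cF2]) (by
        intro n hn hle hd hm
        rw [cF2] at hle ⊢
        obtain ⟨k, rfl⟩ := hd
        omega)
    rw [c2, cF2] at e2
    simp only [show (24:ℕ) - 2 = 22 from rfl] at e2
    have c3 : Nat.card ↥(K ⊓ MulAction.stabilizer (Equiv.Perm GolayPt) x0 ⊓
        MulAction.stabilizer (Equiv.Perm GolayPt) x1 ⊓
        MulAction.stabilizer (Equiv.Perm GolayPt) x2) = 840 := by omega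
    have cF3 : (insert x2 (insert x1 ({x0} : Finset GolayPt))).card = 3 := by
      rw [Finset.card_insert_of_notMem hx2, cF2]
    obtain ⟨x3, hx3, e3⟩ := level_step _ (le_trans inf_le_left (le_trans inf_le_left hH1)) _
      (fix_insert (x := x2) (fix_insert (x := x1) fix1))
      7 5 (by norm_num) (by norm_num)
      (by rw [c3]; norm_num) (by rw [c3]; norm_num) (by rw [cF3]) (by rw [cF3]) (by
        intro n hn hle hd hm
        rw [cF3] at hle ⊢
        obtain ⟨k, rfl⟩ := hd
        omega)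
    rw [c3, cF3] at e3
    simp only [show (24:ℕ) - 3 = 21 from rfl] at e3
    have c4 : Nat.card ↥(K ⊓ MulAction.stabilizer (Equiv.Perm GolayPt) x0 ⊓
        MulAction.stabilizer (Equiv.Perm GolayPt) x1 ⊓
        MulAction.stabilizer (Equiv.Perm GolayPt) x2 ⊓
        MulAction.stabilizer (Equiv.Perm GolayPt) x3) = 40 := by omega
    have cF4 : (insert x3 (insert x2 (insert x1 ({x0} : Finset GolayPt)))).card = 4 := by
      rw [Finset.card_insert_of_notMem hx3, cF3]
    exact no_order40 _ (le_trans inf_le_left (le_trans inf_le_left (le_trans inf_le_left hH1)))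
      _ cF4 (fix_insert (x := x3) (fix_insert (x := x2) (fix_insert (x := x1) fix1))) c4

end Cfsg.Agent.Lib.helper33
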