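/-
The stabiliser of two points in the group of the length-24 code: elements with many fixed points,
faithful actions, and subgroups of index 22.
-/
import Mathlib
import Cfsg.Agent.Lib.helper33.M24Aut
import Cfsg.Agent.Lib.helper33.M24Aut2

set_option autoImplicit false

namespace Cfsg.Agent.Lib.helper33

open Cfsg Cfsg.Agent.Lib.helper9
open scoped Pointwise

/-! ### Elements with many fixed points -/

/-- Number of fixed indices of a packed table. -/
def fixCnt (t : ℕ) : ℕ := ((List.range 24).filter fun i => Nat.beq (getN t i) i).length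

/-- Kernel check on a packed table: at most eight fixed indices, or the identity. -/
def chkFix4 (t : ℕ) : Bool :=
  Nat.ble (fixCnt t) 8 || (List.range 24).all fun i => Nat.beq (getN t i) i

theorem chkFix4_ok : ((orbL.getD 4 []).all fun c4 => (orbL.getD 5 []).all fun c5 =>
    (orbL.getD 6 []).all fun c6 => chkFix4 (t4N c4 c5 c6)) = true := by decide +kernel

theorem card_fixF_le_of_table {g : Equiv.Perm GolayPt} {t : ℕ} (ht : IsTableN g t) :
    (fixF g).card ≤ fixCnt t := by
  have h1 : (fixF g).card ≤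
      (((List.range 24).filter fun i => Nat.beq (getN t i) i).toFinset).card := by
    apply Finset.card_le_card_of_injOn idx
    · intro p hp
      have hp' : g p = p := mem_fixF.1 hp
      show idx p ∈ ((List.range 24).filter fun i => Nat.beq (getN t i) i).toFinset
      rw [List.mem_toFinset, List.mem_filter, List.mem_range]
      refine ⟨idx_lt p, ?_⟩
      rw [← ht p, hp']
      exact Nat.beq_refl _
    · exact fun a _ b _ h => idx_injective h
  exact le_trans h1 (List.toFinset_card_le _)

/-- An element of the group fixing at least nine points is the identity. -/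
theorem eq_one_of_nine_fixed {g : Equiv.Perm GolayPt} (hg : g ∈ M24) (h : 9 ≤ (fixF g).card) :
    g = 1 := by
  obtain ⟨F, hFsub, hF⟩ := Finset.exists_subset_card_eq (show 4 ≤ (fixF g).card by omega)
  have hmem : base4 ∈ MulAction.orbit M24 F := by
    rw [orbit_eq_card F (by omega)]
    show base4.card = F.card
    rw [hF, card_base4]
  obtain ⟨k, hkF⟩ := hmem
  have hkF' : (k : Equiv.Perm GolayPt) • F = base4 := hkF
  have hinv : ∀ q, q ∈ base4 ↔ (k : Equiv.Perm GolayPt)⁻¹ q ∈ F := by
    intro q
    rw [← hkF']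
    exact Finset.inv_smul_mem_iff.symm
  have hg'4 : (k : Equiv.Perm GolayPt) * g * (k : Equiv.Perm GolayPt)⁻¹ ∈ stabL M24 4 := by
    rw [mem_stabL]
    refine ⟨mul_mem (mul_mem k.2 hg) (inv_mem k.2), fun j hj => ?_⟩
    have h1 : (k : Equiv.Perm GolayPt)⁻¹ (bp j) ∈ F := (hinv _).1 (mem_base4.2 ⟨j, hj, rfl⟩)
    have h2 := mem_fixF.1 (hFsub h1)
    show (k : Equiv.Perm GolayPt) (g ((k : Equiv.Perm GolayPt)⁻¹ (bp j))) = bp j
    rw [h2, perm_apply_inv]
  obtain ⟨c4, c5, c6, hok, heq⟩ := nf4N _ hg'4
  have htab := (E4_spec hok).2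
  rw [← heq] at htab
  have hchk : chkFix4 (t4N c4 c5 c6) = true := by
    simp only [ok4, Bool.and_eq_true, List.contains_iff_mem] at hok
    have h1 := chkFix4_ok
    rw [List.all_eq_true] at h1
    have h2 := h1 c4 hok.1.1
    rw [List.all_eq_true] at h2
    have h3 := h2 c5 hok.1.2
    rw [List.all_eq_true] at h3
    exact h3 c6 hok.2
  have hcard : (fixF g).card ≤
      (fixF ((k : Equiv.Perm GolayPt) * g * (k : Equiv.Perm GolayPt)⁻¹)).card := by
    apply Finset.card_le_card_of_injOn (fun p => (k : Equiv.Perm GolayPt) p)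
    · intro p hp
      have hp' : g p = p := mem_fixF.1 hp
      show (k : Equiv.Perm GolayPt) p ∈
        fixF ((k : Equiv.Perm GolayPt) * g * (k : Equiv.Perm GolayPt)⁻¹)
      rw [mem_fixF]
      show (k : Equiv.Perm GolayPt) (g ((k : Equiv.Perm GolayPt)⁻¹ ((k : Equiv.Perm GolayPt) p)))
        = (k : Equiv.Perm GolayPt) p
      rw [perm_inv_apply, hp']
    · exact fun a _ b _ h => (k : Equiv.Perm GolayPt).injective h
  have hle := card_fixF_le_of_table htab
  rw [chkFix4, Bool.or_eq_true] at hchk
  rcases hchk with h1 | h1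
  · have := Nat.le_of_ble_eq_true h1
    omega
  · have hg'1 : (k : Equiv.Perm GolayPt) * g * (k : Equiv.Perm GolayPt)⁻¹ = 1 := by
      apply Equiv.ext
      intro p
      apply idx_injective
      rw [htab]
      rw [List.all_eq_true] at h1
      exact Nat.eq_of_beq_eq_true (h1 (idx p) (List.mem_range.2 (idx_lt p)))
    have h2 : g = (k : Equiv.Perm GolayPt)⁻¹ *
        ((k : Equiv.Perm GolayPt) * g * (k : Equiv.Perm GolayPt)⁻¹) * (k : Equiv.Perm GolayPt) := by
      group
    rw [h2, hg'1]
    group

/-! ### Faithful actions -/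

/-- A group of permutations acting faithfully on an invariant set of `n` points has order at most
`n!`. -/
theorem card_le_factorial (n : ℕ) : ∀ (H : Subgroup (Equiv.Perm GolayPt)) (B : Finset GolayPt),
    B.card = n → (∀ h ∈ H, ∀ b ∈ B, h b ∈ B) → (∀ h ∈ H, (∀ b ∈ B, h b = b) → h = 1) →
    Nat.card H ≤ n.factorial := by
  induction n with
  | zero =>
    intro H B hB hinv hfaith
    have hB' : B = ∅ := Finset.card_eq_zero.1 hB
    have hH : H = ⊥ := by
      rw [eq_bot_iff]
      intro h hh
      rw [Subgroup.mem_bot]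
      exact hfaith h hh (fun b hb => by rw [hB'] at hb; exact absurd hb (Finset.notMem_empty b))
    rw [hH, Subgroup.card_bot]
    exact le_of_eq rfl
  | succ n ih =>
    intro H B hB hinv hfaith
    obtain ⟨b, hb⟩ : B.Nonempty := Finset.card_pos.1 (by omega)
    have hos := card_eq_orbFin_mul H b
    have horb : (orbFin H b).card ≤ n + 1 := by
      rw [← hB]
      apply Finset.card_le_card
      intro c hc
      obtain ⟨g, hg, rfl⟩ := mem_orbFin.1 hc
      exact hinv g hg b hb
    have hstab : Nat.card ↥(H ⊓ MulAction.stabilizer (Equiv.Perm GolayPt) b) ≤ n.factorial := by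
      apply ih _ (B.erase b) (by rw [Finset.card_erase_of_mem hb, hB]; rfl)
      · intro h hh c hc
        obtain ⟨hh1, hh2⟩ := Subgroup.mem_inf.1 hh
        have hh2' : h b = b := MulAction.mem_stabilizer_iff.1 hh2
        rw [Finset.mem_erase] at hc ⊢
        exact ⟨fun e => hc.1 (h.injective (e.trans hh2'.symm)), hinv h hh1 c hc.2⟩
      · intro h hh hfix
        obtain ⟨hh1, hh2⟩ := Subgroup.mem_inf.1 hh
        have hh2' : h b = b := MulAction.mem_stabilizer_iff.1 hh2
        apply hfaith h hh1
        intro c hc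
        by_cases hcb : c = b
        · rw [hcb]; exact hh2'
        · exact hfix c (Finset.mem_erase.2 ⟨hcb, hc⟩)
    rw [hos, Nat.factorial_succ]
    exact Nat.mul_le_mul horb hstab

/-! ### The stabiliser of two points -/

theorem mem_M22 {g : Equiv.Perm GolayPt} :
    g ∈ Spor.M22 ↔ g ∈ M24 ∧ g none = none ∧ g (some 0) = some 0 := by
  rw [Spor.M22, Subgroup.mem_inf, MulAction.mem_stabilizer_iff, mem_M23]
  constructor
  · rintro ⟨⟨h1, h2⟩, h3⟩; exact ⟨h1, h2, h3⟩
  · rintro ⟨h1, h2, h3⟩; exact ⟨⟨h1, h2⟩, h3⟩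

theorem card_M22 : Nat.card Spor.M22 = 443520 :=
  card_M23_stab (f := (some 0 : GolayPt)) (by simp)

/-- The 22 points moved by the stabiliser of two points. -/
def pts22 : Finset GolayPt := (Finset.univ.erase none).erase (some 0)

theorem mem_pts22 {x : GolayPt} : x ∈ pts22 ↔ x ≠ none ∧ x ≠ some 0 := by
  rw [pts22, Finset.mem_erase, Finset.mem_erase]
  constructor
  · rintro ⟨h1, h2, -⟩; exact ⟨h2, h1⟩
  · rintro ⟨h1, h2⟩; exact ⟨h2, h1, Finset.mem_univ _⟩

theorem card_pts22 : pts22.card = 22 := by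
  rw [pts22, Finset.card_erase_of_mem, Finset.card_erase_of_mem (Finset.mem_univ _),
    Finset.card_univ, golayPt_card]
  exact Finset.mem_erase.2 ⟨by simp, Finset.mem_univ _⟩

theorem injOn_update_point {A : Finset GolayPt} {a c : GolayPt} (hc : c ∉ A) :
    Set.InjOn (fun x => if x = a then c else x) (A : Set GolayPt) := by
  intro x hx y hy hxy
  have hx' : x ∈ A := hx
  have hy' : y ∈ A := hy
  simp only at hxy
  by_cases h1 : x = a <;> by_cases h2 : y = a
  · rw [h1, h2]
  · rw [if_pos h1, if_neg h2] at hxy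
    exact absurd (by rw [hxy]; exact hy') hc
  · rw [if_neg h1, if_pos h2] at hxy
    exact absurd (by rw [← hxy]; exact hx') hc
  · rw [if_neg h1, if_neg h2] at hxy
    exact hxy

theorem M22_trans {f b : GolayPt} (hf : f ∈ pts22) (hb : b ∈ pts22) :
    ∃ g ∈ Spor.M22, g f = b := by
  rw [mem_pts22] at hf hb
  by_cases hfb : b = f
  · exact ⟨1, one_mem _, by rw [hfb]; rfl⟩
  · have hbA : b ∉ ({none, some 0, f} : Finset GolayPt) := by
      simp only [Finset.mem_insert, Finset.mem_singleton, not_or]
      exact ⟨hb.1, hb.2, hfb⟩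
    obtain ⟨g, hg, hgA⟩ := exists_mem_M24_of_injOn ({none, some 0, f} : Finset GolayPt)
      (le_trans Finset.card_le_three (by norm_num))
      (fun x => if x = f then b else x) (injOn_update_point hbA)
    refine ⟨g, mem_M22.2 ⟨hg, ?_, ?_⟩, ?_⟩
    · rw [hgA none (by simp), if_neg (Ne.symm hf.1)]
    · rw [hgA (some 0) (by simp), if_neg (Ne.symm hf.2)]
    · rw [hgA f (by simp), if_pos rfl]

theorem M22_dist {q q' : GolayPt} (hq : q ∈ pts22) (hq' : q' ∈ pts22) (hne : q ≠ q') :
    ∃ g ∈ Spor.M22, g q = q ∧ g q' ≠ q' := by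
  rw [mem_pts22] at hq hq'
  obtain ⟨q'', hq''⟩ : ∃ q'' : GolayPt, q'' ∉ ({none, some 0, q, q'} : Finset GolayPt) := by
    by_contra h
    have h1 : (Finset.univ : Finset GolayPt) ⊆ {none, some 0, q, q'} := by
      intro x _
      by_contra hx
      exact h ⟨x, hx⟩
    have h2 := Finset.card_le_card h1
    rw [Finset.card_univ, golayPt_card] at h2
    have h3 : ({none, some 0, q, q'} : Finset GolayPt).card ≤ 4 := Finset.card_le_four
    omega
  obtain ⟨g, hg, hgA⟩ := exists_mem_M24_of_injOn ({none, some 0, q, q'} : Finset GolayPt)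
    (le_trans Finset.card_le_four (by norm_num))
    (fun x => if x = q' then q'' else x) (injOn_update_point hq'')
  simp only [Finset.mem_insert, Finset.mem_singleton, not_or] at hq''
  refine ⟨g, mem_M22.2 ⟨hg, ?_, ?_⟩, ?_, ?_⟩
  · rw [hgA none (by simp), if_neg (Ne.symm hq'.1)]
  · rw [hgA (some 0) (by simp), if_neg (Ne.symm hq'.2)]
  · rw [hgA q (by simp), if_neg hne]
  · rw [hgA q' (by simp), if_pos rfl]
    exact hq''.2.2.2

theorem orbFin_M22 {f : GolayPt} (hf : f ∈ pts22) : orbFin Spor.M22 f = pts22 := by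
  ext b
  rw [mem_orbFin]
  constructor
  · rintro ⟨g, hg, rfl⟩
    obtain ⟨-, h1, h2⟩ := mem_M22.1 hg
    rw [mem_pts22] at hf ⊢
    exact ⟨fun h => hf.1 (g.injective (h.trans h1.symm)),
      fun h => hf.2 (g.injective (h.trans h2.symm))⟩
  · intro hb
    exact M22_trans hf hb

theorem card_M22_stab {f : GolayPt} (hf : f ∈ pts22) :
    Nat.card ↥(Spor.M22 ⊓ MulAction.stabilizer (Equiv.Perm GolayPt) f) = 20160 := by
  have h := card_eq_orbFin_mul Spor.M22 f
  rw [orbFin_M22 hf, card_M22, card_pts22] at h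
  omega

/-- A subgroup of index 22 of the stabiliser of two points is the stabiliser of a third point. -/
theorem index22_M22 (K : Subgroup (Equiv.Perm GolayPt)) (hK : K ≤ Spor.M22)
    (hc : Nat.card K = 20160) :
    ∃ f ∈ pts22, K = Spor.M22 ⊓ MulAction.stabilizer (Equiv.Perm GolayPt) f := by
  have hK24 : K ≤ M24 := fun g hg => (mem_M22.1 (hK hg)).1
  have hnone : ∀ g ∈ K, g none = none := fun g hg => (mem_M22.1 (hK hg)).2.1
  have hzero : ∀ g ∈ K, g (some 0) = some 0 := fun g hg => (mem_M22.1 (hK hg)).2.2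
  have hp7 : Fact (Nat.Prime 7) := ⟨by norm_num⟩
  have hp5 : Fact (Nat.Prime 5) := ⟨by norm_num⟩
  obtain ⟨y, hy, hy7⟩ := exists_orderOf_eq K 7 (by rw [hc]; norm_num)
  obtain ⟨z, hz, hz5⟩ := exists_orderOf_eq K 5 (by rw [hc]; norm_num)
  have cy : (fixF y).card = 3 := card_fixF_prime (hK24 hy) hy7 (by norm_num)
  have cz : (fixF z).card = 4 := card_fixF_prime (hK24 hz) hz5 (by norm_num)
  have hR : ∀ w ∈ K, (((fixF w).erase none).erase (some 0)).card = (fixF w).card - 2 := by
    intro w hw
    rw [Finset.card_erase_of_mem, Finset.card_erase_of_mem (mem_fixF.2 (hnone w hw))]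
    · rfl
    · exact Finset.mem_erase.2 ⟨by simp, mem_fixF.2 (hzero w hw)⟩
  obtain ⟨f, hf⟩ : ∃ f, ((fixF y).erase none).erase (some 0) = {f} :=
    Finset.card_eq_one.1 (by rw [hR y hy, cy])
  have hfmem : f ∈ ((fixF y).erase none).erase (some 0) := by
    rw [hf]; exact Finset.mem_singleton_self f
  have hf0 : f ≠ some 0 := (Finset.mem_erase.1 hfmem).1
  have hfn : f ≠ none := (Finset.mem_erase.1 (Finset.mem_erase.1 hfmem).2).1
  have hfy : y f = f := mem_fixF.1 (Finset.mem_erase.1 (Finset.mem_erase.1 hfmem).2).2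
  have hf22 : f ∈ pts22 := mem_pts22.2 ⟨hfn, hf0⟩
  refine ⟨f, hf22, ?_⟩
  have hinv22 : ∀ g ∈ K, ∀ b ∈ pts22, g b ∈ pts22 := by
    intro g hg b hb
    rw [mem_pts22] at hb ⊢
    exact ⟨fun h => hb.1 (g.injective (h.trans (hnone g hg).symm)),
      fun h => hb.2 (g.injective (h.trans (hzero g hg).symm))⟩
  have horb_sub : orbFin K f ⊆ pts22 := by
    intro b hb
    obtain ⟨g, hg, rfl⟩ := mem_orbFin.1 hb
    exact hinv22 g hg f hf22
  have hle22 : (orbFin K f).card ≤ 22 := by
    have h2 := Finset.card_le_card horb_sub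
    rwa [card_pts22] at h2
  have m7 := orbFin_card_modEq K f hy hy7
  have hfilt : ((orbFin K f).filter fun b => y b = b) = {f} := by
    ext b
    rw [Finset.mem_filter, Finset.mem_singleton]
    constructor
    · rintro ⟨hb, hyb⟩
      have hb22 := mem_pts22.1 (horb_sub hb)
      have h1 : b ∈ ((fixF y).erase none).erase (some 0) :=
        Finset.mem_erase.2 ⟨hb22.2, Finset.mem_erase.2 ⟨hb22.1, mem_fixF.2 hyb⟩⟩
      rw [hf] at h1
      exact Finset.mem_singleton.1 h1
    · rintro rfl
      exact ⟨self_mem_orbFin K b, hfy⟩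
  rw [hfilt, Finset.card_singleton] at m7
  have m5 := orbFin_card_modEq K f hz hz5
  have hfilt5 : ((orbFin K f).filter fun b => z b = b).card ≤ 2 := by
    have h1 : ((orbFin K f).filter fun b => z b = b) ⊆ ((fixF z).erase none).erase (some 0) := by
      intro b hb
      rw [Finset.mem_filter] at hb
      have hb22 := mem_pts22.1 (horb_sub hb.1)
      exact Finset.mem_erase.2 ⟨hb22.2, Finset.mem_erase.2 ⟨hb22.1, mem_fixF.2 hb.2⟩⟩
    have h2 := Finset.card_le_card h1
    rwa [hR z hz, cz] at h2
  have hos := card_eq_orbFin_mul K f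
  rw [hc] at hos
  have hpos : 0 < (orbFin K f).card := Finset.card_pos.2 ⟨f, self_mem_orbFin K f⟩
  have hone : (orbFin K f).card = 1 := by
    unfold Nat.ModEq at m7 m5
    have h1 : (orbFin K f).card = 1 ∨ (orbFin K f).card = 8 ∨ (orbFin K f).card = 15 ∨
        (orbFin K f).card = 22 := by omega
    rcases h1 with h1 | h1 | h1 | h1
    · exact h1
    · exfalso
      rw [h1] at m5
      omega
    · exfalso
      have hB : (pts22 \ orbFin K f).card = 7 := by
        rw [Finset.card_sdiff_of_subset horb_sub, card_pts22, h1]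
      have hBinv : ∀ h ∈ K, ∀ b ∈ pts22 \ orbFin K f, h b ∈ pts22 \ orbFin K f := by
        intro h hh b hb
        rw [Finset.mem_sdiff] at hb ⊢
        exact ⟨hinv22 h hh b hb.1, fun hc' => hb.2 ((orbFin_invariant f hh b).1 hc')⟩
      have hfaith : ∀ h ∈ K, (∀ b ∈ pts22 \ orbFin K f, h b = b) → h = 1 := by
        intro h hh hfixB
        apply eq_one_of_nine_fixed (hK24 hh)
        have hsub : insert none (insert (some 0) (pts22 \ orbFin K f)) ⊆ fixF h := by
          intro x hx
          rw [Finset.mem_insert, Finset.mem_insert] at hx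
          rw [mem_fixF]
          rcases hx with rfl | rfl | hx
          · exact hnone h hh
          · exact hzero h hh
          · exact hfixB x hx
        have hcard : (insert none (insert (some 0) (pts22 \ orbFin K f))).card = 9 := by
          rw [Finset.card_insert_of_notMem, Finset.card_insert_of_notMem, hB]
          · intro hx
            exact (mem_pts22.1 (Finset.mem_sdiff.1 hx).1).2 rfl
          · intro hx
            rw [Finset.mem_insert] at hx
            rcases hx with hx | hx
            · exact absurd hx (by simp)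
            · exact (mem_pts22.1 (Finset.mem_sdiff.1 hx).1).1 rfl
        have := Finset.card_le_card hsub
        omega
      have h7 := card_le_factorial 7 K _ hB hBinv hfaith
      rw [hc] at h7
      have : Nat.factorial 7 = 5040 := rfl
      omega
    · exfalso
      rw [h1] at hos
      omega
  have hKf : ∀ g ∈ K, g f = f := by
    intro g hg
    have h1 : g f ∈ orbFin K f := mem_orbFin.2 ⟨g, hg, rfl⟩
    rw [Finset.card_eq_one] at hone
    obtain ⟨a, ha⟩ := hone
    rw [ha, Finset.mem_singleton] at h1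
    have h2 := self_mem_orbFin K f
    rw [ha, Finset.mem_singleton] at h2
    rw [h1, h2]
  apply Subgroup.eq_of_le_of_card_ge
  · intro g hg
    exact Subgroup.mem_inf.2 ⟨hK hg, MulAction.mem_stabilizer_iff.2 (hKf g hg)⟩
  · rw [card_M22_stab hf22, hc]

end Cfsg.Agent.Lib.helper33
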