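/-
Membership in the group of the length-24 code for permutations mapping octads to octads.
-/
import Mathlib
import Cfsg.Agent.Lib.helper94.M24Perm

set_option autoImplicit false

namespace Cfsg.Agent.Lib.helper33

open Cfsg Cfsg.Agent.Lib.helper94
open scoped Pointwise

theorem gMask_octad_chk : ∀ j < 12, isCode (gMask j) = true ∧ popc (gMask j) = 8 := by
  decide +kernel

theorem setOf_mem_octads {m : ℕ} (h1 : isCode m = true) (h2 : popc m = 8) : setOf m ∈ octads :=
  ⟨(setOf_mem_supports_iff m).2 h1, by rw [card_setOf, h2]⟩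

/-- A permutation mapping all octads to octads is in the group of the code. -/
theorem mem_M24_of_octads {π : Equiv.Perm GolayPt} (h : ∀ O ∈ octads, π • O ∈ octads) :
    π ∈ M24 := by
  apply mem_M24_of_gens
  intro j hj
  exact (h _ (setOf_mem_octads (gMask_octad_chk j hj).1 (gMask_octad_chk j hj).2)).1

theorem symmDiff_mem_supports_golay {s t : Finset GolayPt}
    (hs : s ∈ supports (golayCode : Set (GolayPt → ZMod 2)))
    (ht : t ∈ supports (golayCode : Set (GolayPt → ZMod 2))) :
    symmDiff s t ∈ supports (golayCode : Set (GolayPt → ZMod 2)) := by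
  have hs' : setOf (maskOf s) ∈ supports (golayCode : Set (GolayPt → ZMod 2)) := by
    rw [setOf_maskOf]; exact hs
  have ht' : setOf (maskOf t) ∈ supports (golayCode : Set (GolayPt → ZMod 2)) := by
    rw [setOf_maskOf]; exact ht
  have h : symmDiff s t = setOf (maskOf s ^^^ maskOf t) := by
    rw [setOf_xor, setOf_maskOf, setOf_maskOf]
  rw [h, setOf_mem_supports_iff, ← wordOf_mem_golayCode_iff, wordOf_xor]
  rw [setOf_mem_supports_iff, ← wordOf_mem_golayCode_iff] at hs' ht'
  exact add_mem hs' ht'

theorem smul_symmDiff (π : Equiv.Perm GolayPt) (s t : Finset GolayPt) :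
    π • symmDiff s t = symmDiff (π • s) (π • t) := by
  rw [symmDiff_def, symmDiff_def, Finset.sup_eq_union, Finset.sup_eq_union,
    Finset.smul_finset_union, Finset.smul_finset_sdiff, Finset.smul_finset_sdiff]

/-- Decompositions of the generators into octads through the point `none` (bit 23). -/
def gDecNone : List (ℕ × ℕ) :=
  [(13062145, 13062145), (8436754, 13192208), (13938692, 13938692), (8581192, 15515712),
   (10170384, 10170384), (11952160, 11952160), (15515712, 15515712), (8541360, 10257456),
   (8499969, 12325377), (8611330, 16262146), (11654144, 11654144), (14919680, 14919680)]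

/-- Kernel check of a decomposition. -/
def gDecOK (j : ℕ) (e : ℕ × ℕ) : Bool :=
  isCode e.1 && Nat.beq (popc e.1) 8 && e.1.testBit 23 &&
  isCode e.2 && Nat.beq (popc e.2) 8 && e.2.testBit 23 &&
  (Nat.beq (gMask j) e.1 || Nat.beq (gMask j) (e.1 ^^^ e.2))

theorem gDecNone_ok : ∀ j < 12, gDecOK j (gDecNone.getD j (0, 0)) = true := by decide +kernel

theorem ptIdx_none : ptIdx (none : GolayPt) = 23 := rfl

/-- A permutation mapping the octads through the point `none` to octads is in the group of the
code. -/
theorem mem_M24_of_octads_none {π : Equiv.Perm GolayPt}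
    (h : ∀ O ∈ octads, (none : GolayPt) ∈ O → π • O ∈ octads) : π ∈ M24 := by
  apply mem_M24_of_gens
  intro j hj
  have hk := gDecNone_ok j hj
  generalize gDecNone.getD j (0, 0) = e at hk
  obtain ⟨a, b⟩ := e
  simp only [gDecOK, Bool.and_eq_true, Bool.or_eq_true] at hk
  obtain ⟨⟨⟨⟨⟨⟨a1, a2⟩, a3⟩, b1⟩, b2⟩, b3⟩, hab⟩ := hk
  have ha : π • setOf a ∈ octads :=
    h _ (setOf_mem_octads a1 (Nat.eq_of_beq_eq_true a2)) (by rw [mem_setOf, ptIdx_none]; exact a3)
  have hb : π • setOf b ∈ octads :=
    h _ (setOf_mem_octads b1 (Nat.eq_of_beq_eq_true b2)) (by rw [mem_setOf, ptIdx_none]; exact b3)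
  rcases hab with hab | hab
  · rw [Nat.eq_of_beq_eq_true hab]
    exact ha.1
  · rw [Nat.eq_of_beq_eq_true hab, setOf_xor, smul_symmDiff]
    exact symmDiff_mem_supports_golay ha.1 hb.1

end Cfsg.Agent.Lib.helper33
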