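/-
The octads through two points span a subcode of codimension one: a permutation preserving these
octads preserves the length-24 code up to the transposition of the two points.
-/
import Mathlib
import Cfsg.Agent.Lib.helper33.M24AutGens

set_option autoImplicit false

namespace Cfsg.Agent.Lib.helper33

open Cfsg Cfsg.Agent.Lib.helper94
open scoped Pointwise

/-- Twelve octads forming a basis of the code: the first eleven contain the points of index 23 and
0, the last one contains the point of index 23 but not the point of index 0. -/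
def m22Basis : List ℕ :=
  [13062145, 9347075, 11100169, 8966165, 10846245, 9506893, 14254209, 11731203, 12325377,
   10630149, 15747077, 13938692]

/-- The `k`-th basis octad, as a mask. -/
def bMask (k : ℕ) : ℕ := m22Basis.getD k 0

/-- The sum of the basis masks selected by the bits of `sel` below `n`. -/
def xorSel (sel : ℕ) : ℕ → ℕ
  | 0 => 0
  | k + 1 => if sel.testBit k then Nat.xor (bMask k) (xorSel sel k) else xorSel sel k

/-- The systematic generators in terms of the basis. -/
def decG : List ℕ := [1, 3, 2048, 5, 2057, 2065, 2084, 65, 130, 257, 2561, 3073]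

/-- The parity checks in terms of the basis. -/
def decC : List ℕ := [2638, 1181, 2934, 1764, 3976, 3421, 2290, 489, 987, 1971, 3363, 1597]

theorem bMask_chk : ∀ k < 12, isCode (bMask k) = true ∧ popc (bMask k) = 8 ∧
    (bMask k).testBit 23 = true ∧ (bMask k).testBit 0 = decide (k < 11) := by decide +kernel

theorem decG_ok : ∀ j < 12, gMask j = xorSel (decG.getD j 0) 12 := by decide +kernel

theorem decC_ok : ∀ i < 12, cMask i = xorSel (decC.getD i 0) 12 := by decide +kernel

theorem empty_mem_supports_golay :
    (∅ : Finset GolayPt) ∈ supports (golayCode : Set (GolayPt → ZMod 2)) := by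
  have h : isCode 0 = true := by decide +kernel
  have h2 := (setOf_mem_supports_iff 0).2 h
  rwa [setOf_zero] at h2

theorem smul_xorSel_mem {ρ : Equiv.Perm GolayPt}
    (h : ∀ k < 12, ρ • setOf (bMask k) ∈ supports (golayCode : Set (GolayPt → ZMod 2)))
    (sel : ℕ) : ∀ n ≤ 12, ρ • setOf (xorSel sel n) ∈
      supports (golayCode : Set (GolayPt → ZMod 2)) := by
  intro n
  induction n with
  | zero =>
    intro _
    rw [xorSel, setOf_zero, Finset.smul_finset_empty]
    exact empty_mem_supports_golay
  | succ n ih =>
    intro hn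
    rw [xorSel]
    split_ifs
    · have h1 : Nat.xor (bMask n) (xorSel sel n) = bMask n ^^^ xorSel sel n := rfl
      rw [h1, setOf_xor, smul_symmDiff]
      exact symmDiff_mem_supports_golay (h n (by omega)) (ih (by omega))
    · exact ih (by omega)

/-- A permutation mapping the twelve basis octads to supports of code words is in the group. -/
theorem mem_M24_of_basis {ρ : Equiv.Perm GolayPt}
    (h : ∀ k < 12, ρ • setOf (bMask k) ∈ supports (golayCode : Set (GolayPt → ZMod 2))) :
    ρ ∈ M24 := by
  apply mem_M24_of_gens
  intro j hj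
  rw [decG_ok j hj]
  exact smul_xorSel_mem h _ 12 le_rfl

theorem dot_add_right' (w u v : GolayPt → ZMod 2) : dot w (u + v) = dot w u + dot w v := by
  rw [dot_comm, dot_add_left, dot_comm u, dot_comm v]

theorem dot_xorSel {w : GolayPt → ZMod 2} (h : ∀ k < 12, dot w (wordOf (bMask k)) = 0)
    (sel : ℕ) : ∀ n ≤ 12, dot w (wordOf (xorSel sel n)) = 0 := by
  intro n
  induction n with
  | zero =>
    intro _
    rw [xorSel, wordOf_zero, dot_comm, dot_zero_left]
  | succ n ih =>
    intro hn
    rw [xorSel]
    split_ifs
    · have h1 : Nat.xor (bMask n) (xorSel sel n) = bMask n ^^^ xorSel sel n := rfl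
      rw [h1, wordOf_xor, dot_add_right', h n (by omega), ih (by omega), add_zero]
    · exact ih (by omega)

theorem dot_bword_wordOf (S : Finset GolayPt) (m : ℕ) :
    dot (bword S) (wordOf m) = (((S ∩ setOf m).card : ℕ) : ZMod 2) := by
  rw [dot, dot_eq_card_inter, bsupp_bword, bsupp_wordOf]

/-- A set meeting each of the twelve basis octads evenly is the support of a code word. -/
theorem mem_supports_of_even {S : Finset GolayPt}
    (h : ∀ k < 12, Even (S ∩ setOf (bMask k)).card) :
    S ∈ supports (golayCode : Set (GolayPt → ZMod 2)) := by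
  rw [mem_supports_iff, mem_golayCode_iff]
  intro i hi
  rw [decC_ok i hi]
  apply dot_xorSel _ _ 12 le_rfl
  intro k hk
  rw [dot_bword_wordOf]
  exact (ZMod.natCast_eq_zero_iff_even).2 (h k hk)

/-- Supports of code words meet evenly. -/
theorem even_inter_of_supports {s t : Finset GolayPt}
    (hs : s ∈ supports (golayCode : Set (GolayPt → ZMod 2)))
    (ht : t ∈ supports (golayCode : Set (GolayPt → ZMod 2))) : Even (s ∩ t).card := by
  rw [mem_supports_iff] at hs ht
  have h := even_card_inter_of_dot (golay_orth _ hs _ ht)
  rwa [bsupp_bword, bsupp_bword] at h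

theorem swap_smul_eq_self {a b : GolayPt} {s : Finset GolayPt} (ha : a ∈ s) (hb : b ∈ s) :
    Equiv.swap a b • s = s := by
  ext p
  rw [← Finset.inv_smul_mem_iff, Equiv.swap_inv]
  show Equiv.swap a b p ∈ s ↔ p ∈ s
  by_cases h1 : p = a
  · rw [h1, Equiv.swap_apply_left]; exact ⟨fun _ => ha, fun _ => hb⟩
  · by_cases h2 : p = b
    · rw [h2, Equiv.swap_apply_right]; exact ⟨fun _ => hb, fun _ => ha⟩
    · rw [Equiv.swap_apply_of_ne_of_ne h1 h2]

theorem ptIdx_zero : ptIdx (some 0 : GolayPt) = 0 := rfl

/-- A permutation fixing the two points `none` and `some 0` which, together with its inverse, maps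
the octads through both points to octads is in the group of the code, or becomes so after
multiplication by the transposition of the two points. -/
theorem mem_M24_or_swap {π : Equiv.Perm GolayPt} (h0 : π none = none)
    (h1 : π (some 0) = some 0)
    (h : ∀ O ∈ octads, (none : GolayPt) ∈ O → (some 0 : GolayPt) ∈ O → π • O ∈ octads)
    (h' : ∀ O ∈ octads, (none : GolayPt) ∈ O → (some 0 : GolayPt) ∈ O → π⁻¹ • O ∈ octads) :
    π ∈ M24 ∨ Equiv.swap (none : GolayPt) (some 0) * π ∈ M24 := by
  have hA : ∀ k < 11, setOf (bMask k) ∈ octads ∧ (none : GolayPt) ∈ setOf (bMask k) ∧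
      (some 0 : GolayPt) ∈ setOf (bMask k) := by
    intro k hk
    obtain ⟨c1, c2, c3, c4⟩ := bMask_chk k (by omega)
    refine ⟨setOf_mem_octads c1 c2, ?_, ?_⟩
    · rw [mem_setOf, ptIdx_none]; exact c3
    · rw [mem_setOf, ptIdx_zero, c4]; exact decide_eq_true hk
  obtain ⟨w1, w2, w3, w4⟩ := bMask_chk 11 (by norm_num)
  have hOw : setOf (bMask 11) ∈ octads := setOf_mem_octads w1 w2
  have hOwn : (none : GolayPt) ∈ setOf (bMask 11) := by rw [mem_setOf, ptIdx_none]; exact w3
  have hOw0 : (some 0 : GolayPt) ∉ setOf (bMask 11) := by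
    rw [mem_setOf, ptIdx_zero, w4]; decide
  have hTn : (none : GolayPt) ∈ π • setOf (bMask 11) := by
    have := Finset.smul_mem_smul_finset (a := π) hOwn
    rwa [Equiv.Perm.smul_def, h0] at this
  have hT0 : (some 0 : GolayPt) ∉ π • setOf (bMask 11) := by
    intro hc
    rw [← Finset.inv_smul_mem_iff] at hc
    have h2 : π⁻¹ • (some 0 : GolayPt) = some 0 := by
      rw [Equiv.Perm.smul_def, Equiv.Perm.inv_eq_iff_eq, h1]
    rw [h2] at hc
    exact hOw0 hc
  have hEven : ∀ k < 11, Even (π • setOf (bMask 11) ∩ setOf (bMask k)).card := by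
    intro k hk
    obtain ⟨a1, a2, a3⟩ := hA k hk
    have e1 : π • setOf (bMask 11) ∩ setOf (bMask k) =
        π • (setOf (bMask 11) ∩ π⁻¹ • setOf (bMask k)) := by
      rw [Finset.smul_finset_inter, smul_inv_smul]
    rw [e1, Finset.card_smul_finset]
    exact even_inter_of_supports hOw.1 (h' _ a1 a2 a3).1
  by_cases hpar : Even (π • setOf (bMask 11) ∩ setOf (bMask 11)).card
  · left
    have hT : π • setOf (bMask 11) ∈ supports (golayCode : Set (GolayPt → ZMod 2)) := by
      apply mem_supports_of_even
      intro k hk
      rcases Nat.lt_or_ge k 11 with hk' | hk'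
      · exact hEven k hk'
      · have : k = 11 := by omega
        rw [this]; exact hpar
    apply mem_M24_of_basis
    intro k hk
    rcases Nat.lt_or_ge k 11 with hk' | hk'
    · obtain ⟨a1, a2, a3⟩ := hA k hk'
      exact (h _ a1 a2 a3).1
    · have : k = 11 := by omega
      rw [this]; exact hT
  · right
    have hT : Equiv.swap (none : GolayPt) (some 0) • π • setOf (bMask 11) ∈
        supports (golayCode : Set (GolayPt → ZMod 2)) := by
      apply mem_supports_of_even
      intro k hk
      rcases Nat.lt_or_ge k 11 with hk' | hk'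
      · obtain ⟨a1, a2, a3⟩ := hA k hk'
        have e1 : Equiv.swap (none : GolayPt) (some 0) • π • setOf (bMask 11) ∩ setOf (bMask k) =
            Equiv.swap (none : GolayPt) (some 0) • (π • setOf (bMask 11) ∩ setOf (bMask k)) := by
          rw [Finset.smul_finset_inter, swap_smul_eq_self a2 a3]
        rw [e1, Finset.card_smul_finset]
        exact hEven k hk'
      · have hk11 : k = 11 := by omega
        rw [hk11]
        have e1 : Equiv.swap (none : GolayPt) (some 0) • π • setOf (bMask 11) ∩ setOf (bMask 11) =
            (π • setOf (bMask 11) ∩ setOf (bMask 11)).erase none := by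
          ext p
          rw [Finset.mem_inter, Finset.mem_erase, Finset.mem_inter, ← Finset.inv_smul_mem_iff,
            Equiv.swap_inv]
          show (Equiv.swap (none : GolayPt) (some 0) p ∈ π • setOf (bMask 11) ∧ _) ↔ _
          by_cases p1 : p = none
          · rw [p1, Equiv.swap_apply_left]
            exact ⟨fun hh => absurd hh.1 hT0, fun hh => absurd rfl hh.1⟩
          · by_cases p2 : p = some 0
            · rw [p2, Equiv.swap_apply_right]
              exact ⟨fun hh => absurd hh.2 hOw0, fun hh => absurd hh.2.2 hOw0⟩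
            · rw [Equiv.swap_apply_of_ne_of_ne p1 p2]
              exact ⟨fun hh => ⟨p1, hh⟩, fun hh => hh.2⟩
        rw [e1, Finset.card_erase_of_mem (Finset.mem_inter.2 ⟨hTn, hOwn⟩)]
        rw [Nat.not_even_iff_odd] at hpar
        obtain ⟨r, hr⟩ := hpar
        rw [hr]
        exact ⟨r, by omega⟩
    apply mem_M24_of_basis
    intro k hk
    rw [mul_smul]
    rcases Nat.lt_or_ge k 11 with hk' | hk'
    · obtain ⟨a1, a2, a3⟩ := hA k hk'
      have b1 : (none : GolayPt) ∈ π • setOf (bMask k) := by
        have := Finset.smul_mem_smul_finset (a := π) a2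
        rwa [Equiv.Perm.smul_def, h0] at this
      have b2 : (some 0 : GolayPt) ∈ π • setOf (bMask k) := by
        have := Finset.smul_mem_smul_finset (a := π) a3
        rwa [Equiv.Perm.smul_def, h1] at this
      rw [swap_smul_eq_self b1 b2]
      exact (h _ a1 a2 a3).1
    · have : k = 11 := by omega
      rw [this]; exact hT

end Cfsg.Agent.Lib.helper33
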