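/-
Subgroups of index 253 of a point stabiliser in the group of the length-24 code: they are the
stabilisers of a pair of points and the stabilisers of an octad through the point.
-/
import Mathlib
import Cfsg.Agent.Lib.helper33.M22Aut

set_option autoImplicit false

namespace Cfsg.Agent.Lib.helper33

open Cfsg Cfsg.Agent.Lib.helper9
open scoped Pointwise

/-! ### Fixed points forming an octad -/

/-- A non-identity element of 2-power order fixing at least five points fixes exactly the points
of an octad. -/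
theorem fixF_mem_octads {g : Equiv.Perm GolayPt} (hg : g ∈ M24) (h16 : g ^ 16 = 1) (hne : g ≠ 1)
    (h5 : 5 ≤ (fixF g).card) : fixF g ∈ octads := by
  obtain ⟨A, hAsub, hA⟩ := Finset.exists_subset_card_eq h5
  obtain ⟨O, hO, hAO⟩ := exists_octad_supset A (le_of_eq hA)
  have hmem : g ∈ fixOct A := mem_fixOct.2 ⟨hg, fun x hx => mem_fixF.1 (hAsub hx)⟩
  have hgO := mem_fixOct_of_pow hA hO hAO hmem h16
  have hsub : O ⊆ fixF g := fun x hx => mem_fixF.2 ((mem_fixOct.1 hgO).2 x hx)
  have hle : (fixF g).card ≤ 8 := by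
    by_contra hc
    exact hne (eq_one_of_nine_fixed hg (by omega))
  have hOeq : O = fixF g := Finset.eq_of_subset_of_card_le hsub (by rw [hO.2]; exact hle)
  rw [← hOeq]
  exact hO

/-- Eight points fixed by a non-identity element of the group form an octad. -/
theorem octad_of_fixed_eight {k : Equiv.Perm GolayPt} (hk : k ∈ M24) (hne : k ≠ 1)
    {S : Finset GolayPt} (hS : S.card = 8) (hfix : ∀ s ∈ S, k s = s) : S ∈ octads := by
  have hsub : S ⊆ fixF k := fun s hs => mem_fixF.2 (hfix s hs)
  have hge : 8 ≤ (fixF k).card := by rw [← hS]; exact Finset.card_le_card hsub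
  have hle : (fixF k).card ≤ 8 := by
    by_contra hc
    exact hne (eq_one_of_nine_fixed hk (by omega))
  obtain ⟨A, hAsub, hA⟩ := Finset.exists_subset_card_eq (show 5 ≤ S.card by omega)
  have hmem : k ∈ fixOct A := mem_fixOct.2 ⟨hk, fun a ha => hfix a (hAsub ha)⟩
  have h48 : k ^ 48 = 1 := by
    have h1 : (⟨k, hmem⟩ : ↥(fixOct A)) ^ Nat.card ↥(fixOct A) = 1 := pow_card_eq_one'
    rw [card_fixOct_five hA] at h1
    exact congrArg Subtype.val h1
  by_cases h3 : k ^ 3 = 1
  · exfalso
    have hp3 : Fact (Nat.Prime 3) := ⟨by norm_num⟩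
    have h2 := card_modEq_card_fixed k 3 1 (by rw [pow_one]; exact h3) Finset.univ
      (fun b => by simp)
    rw [Finset.card_univ, golayPt_card] at h2
    have h4 : (Finset.univ.filter fun b => k b = b) = fixF k := rfl
    rw [h4] at h2
    unfold Nat.ModEq at h2
    omega
  · have h16 : (k ^ 3) ^ 16 = 1 := by rw [← pow_mul]; exact h48
    have hfix3 : ∀ s ∈ S, (k ^ 3) s = s := by
      intro s hs
      have h := hfix s hs
      have e : k ^ 3 = k * k * k := by rw [pow_succ, pow_two]
      rw [e]
      show k (k (k s)) = s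
      rw [h, h, h]
    have hsub3 : S ⊆ fixF (k ^ 3) := fun s hs => mem_fixF.2 (hfix3 s hs)
    have h5 : 5 ≤ (fixF (k ^ 3)).card := by
      have := Finset.card_le_card hsub3
      omega
    have hoct := fixF_mem_octads (pow_mem hk 3) h16 h3 h5
    have hSeq : S = fixF (k ^ 3) :=
      Finset.eq_of_subset_of_card_le hsub3 (by rw [hS, hoct.2])
    rw [hSeq]
    exact hoct

/-! ### Orbits -/

theorem orbFin_symm {K : Subgroup (Equiv.Perm GolayPt)} {a b : GolayPt} (h : b ∈ orbFin K a) :
    a ∈ orbFin K b := by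
  obtain ⟨g, hg, rfl⟩ := mem_orbFin.1 h
  exact mem_orbFin.2 ⟨g⁻¹, inv_mem hg, perm_inv_apply g a⟩

theorem orbFin_disjoint {K : Subgroup (Equiv.Perm GolayPt)} {a b : GolayPt}
    (h : b ∉ orbFin K a) : Disjoint (orbFin K a) (orbFin K b) := by
  rw [Finset.disjoint_left]
  intro c hc1 hc2
  obtain ⟨g, hg, rfl⟩ := mem_orbFin.1 hc1
  obtain ⟨g', hg', h2⟩ := mem_orbFin.1 hc2
  apply h
  refine mem_orbFin.2 ⟨g'⁻¹ * g, mul_mem (inv_mem hg') hg, ?_⟩
  show g'⁻¹ (g a) = b
  rw [← h2, perm_inv_apply]

theorem orbFin_smul {K : Subgroup (Equiv.Perm GolayPt)} (a : GolayPt) {g : Equiv.Perm GolayPt}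
    (hg : g ∈ K) : g • orbFin K a = orbFin K a := by
  ext b
  rw [← Finset.inv_smul_mem_iff]
  exact orbFin_invariant a (inv_mem hg) b

theorem card_orbFin_dvd (K : Subgroup (Equiv.Perm GolayPt)) (a : GolayPt) :
    (orbFin K a).card ∣ Nat.card K :=
  ⟨_, card_eq_orbFin_mul K a⟩

/-! ### Orders of stabilisers -/

theorem orbFin_stab1 {x a : GolayPt} (hax : a ≠ x) :
    orbFin (M24 ⊓ MulAction.stabilizer (Equiv.Perm GolayPt) x) a = Finset.univ.erase x := by
  ext c
  rw [mem_orbFin, Finset.mem_erase]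
  constructor
  · rintro ⟨g, hg, rfl⟩
    have hgx : g x = x := MulAction.mem_stabilizer_iff.1 (Subgroup.mem_inf.1 hg).2
    exact ⟨fun h => hax (g.injective (h.trans hgx.symm)), Finset.mem_univ _⟩
  · rintro ⟨hc, -⟩
    obtain ⟨g, hg, h1, h2⟩ := m24_two_trans x a x c (Ne.symm hax) (Ne.symm hc)
    exact ⟨g, Subgroup.mem_inf.2 ⟨hg, MulAction.mem_stabilizer_iff.2 h1⟩, h2⟩

theorem card_stab2 {x a : GolayPt} (hax : a ≠ x) :
    Nat.card ↥(M24 ⊓ MulAction.stabilizer (Equiv.Perm GolayPt) x ⊓
      MulAction.stabilizer (Equiv.Perm GolayPt) a) = 443520 := by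
  have h := card_eq_orbFin_mul (M24 ⊓ MulAction.stabilizer (Equiv.Perm GolayPt) x) a
  rw [orbFin_stab1 hax, card_M24_stab, Finset.card_erase_of_mem (Finset.mem_univ _),
    Finset.card_univ, golayPt_card] at h
  omega

theorem orbFin_stab2 {x a b : GolayPt} (hax : a ≠ x) (hbx : b ≠ x) (hab : a ≠ b) :
    orbFin (M24 ⊓ MulAction.stabilizer (Equiv.Perm GolayPt) x ⊓
      MulAction.stabilizer (Equiv.Perm GolayPt) a) b = (Finset.univ.erase x).erase a := by
  ext c
  rw [mem_orbFin, Finset.mem_erase, Finset.mem_erase]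
  constructor
  · rintro ⟨g, hg, rfl⟩
    have hga : g a = a := MulAction.mem_stabilizer_iff.1 (Subgroup.mem_inf.1 hg).2
    have hgx : g x = x :=
      MulAction.mem_stabilizer_iff.1 (Subgroup.mem_inf.1 (Subgroup.mem_inf.1 hg).1).2
    exact ⟨fun h => hab (g.injective (hga.trans h.symm)),
      fun h => hbx (g.injective (h.trans hgx.symm)), Finset.mem_univ _⟩
  · rintro ⟨hca, hcx, -⟩
    by_cases hcb : c = b
    · exact ⟨1, one_mem _, by rw [hcb]; rfl⟩
    · have hcA : c ∉ ({x, a, b} : Finset GolayPt) := by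
        simp only [Finset.mem_insert, Finset.mem_singleton, not_or]
        exact ⟨hcx, hca, hcb⟩
      obtain ⟨g, hg, hgA⟩ := exists_mem_M24_of_injOn ({x, a, b} : Finset GolayPt)
        (le_trans Finset.card_le_three (by norm_num))
        (fun p => if p = b then c else p) (injOn_update_point hcA)
      refine ⟨g, Subgroup.mem_inf.2 ⟨Subgroup.mem_inf.2 ⟨hg, ?_⟩, ?_⟩, ?_⟩
      · rw [MulAction.mem_stabilizer_iff]
        show g x = x
        rw [hgA x (by simp), if_neg (Ne.symm hbx)]
      · rw [MulAction.mem_stabilizer_iff]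
        show g a = a
        rw [hgA a (by simp), if_neg hab]
      · rw [hgA b (by simp), if_pos rfl]

theorem card_stab3 {x a b : GolayPt} (hax : a ≠ x) (hbx : b ≠ x) (hab : a ≠ b) :
    Nat.card ↥(M24 ⊓ MulAction.stabilizer (Equiv.Perm GolayPt) x ⊓
      MulAction.stabilizer (Equiv.Perm GolayPt) a ⊓
      MulAction.stabilizer (Equiv.Perm GolayPt) b) = 20160 := by
  have h := card_eq_orbFin_mul (M24 ⊓ MulAction.stabilizer (Equiv.Perm GolayPt) x ⊓
      MulAction.stabilizer (Equiv.Perm GolayPt) a) b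
  rw [orbFin_stab2 hax hbx hab, card_stab2 hax, Finset.card_erase_of_mem
    (Finset.mem_erase.2 ⟨hax, Finset.mem_univ _⟩),
    Finset.card_erase_of_mem (Finset.mem_univ _), Finset.card_univ, golayPt_card] at h
  omega

/-- A subgroup fixing three points has order at most 20160. -/
theorem card_le_of_fix3 {x a b : GolayPt} (hax : a ≠ x) (hbx : b ≠ x) (hab : a ≠ b)
    (K : Subgroup (Equiv.Perm GolayPt)) (hK : K ≤ M24)
    (h : ∀ g ∈ K, g x = x ∧ g a = a ∧ g b = b) : Nat.card K ≤ 20160 := by
  rw [← card_stab3 hax hbx hab]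
  apply Subgroup.card_le_of_le
  intro g hg
  obtain ⟨h1, h2, h3⟩ := h g hg
  exact Subgroup.mem_inf.2 ⟨Subgroup.mem_inf.2 ⟨Subgroup.mem_inf.2 ⟨hK hg,
    MulAction.mem_stabilizer_iff.2 h1⟩, MulAction.mem_stabilizer_iff.2 h2⟩,
    MulAction.mem_stabilizer_iff.2 h3⟩

/-- A subgroup fixing a point and a pair of points has order at most 40320. -/
theorem card_le_of_fix_duad {x : GolayPt} {s : Finset GolayPt} (hs : s.card = 2) (hxs : x ∉ s)
    (K : Subgroup (Equiv.Perm GolayPt)) (hK : K ≤ M24)
    (h : ∀ g ∈ K, g x = x ∧ g • s = s) : Nat.card K ≤ 40320 := by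
  obtain ⟨a, b, hab, rfl⟩ := Finset.card_eq_two.1 hs
  have hax : a ≠ x := fun e => hxs (by rw [← e]; simp)
  have hbx : b ≠ x := fun e => hxs (by rw [← e]; simp)
  have hos := card_eq_orbFin_mul K a
  have horb : (orbFin K a).card ≤ 2 := by
    have hsub : orbFin K a ⊆ ({a, b} : Finset GolayPt) := by
      intro c hc
      obtain ⟨g, hg, rfl⟩ := mem_orbFin.1 hc
      exact (mem_iff_of_smul_eq (h g hg).2 a).2 (by simp)
    exact le_trans (Finset.card_le_card hsub) Finset.card_le_two
  have hst : Nat.card ↥(K ⊓ MulAction.stabilizer (Equiv.Perm GolayPt) a) ≤ 20160 := by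
    apply card_le_of_fix3 hax hbx hab _ (le_trans inf_le_left hK)
    intro g hg
    obtain ⟨hg1, hg2⟩ := Subgroup.mem_inf.1 hg
    have hga : g a = a := MulAction.mem_stabilizer_iff.1 hg2
    refine ⟨(h g hg1).1, hga, ?_⟩
    have hgb : g b ∈ ({a, b} : Finset GolayPt) := (mem_iff_of_smul_eq (h g hg1).2 b).2 (by simp)
    rw [Finset.mem_insert, Finset.mem_singleton] at hgb
    rcases hgb with hgb | hgb
    · exact absurd (g.injective (hgb.trans hga.symm)) (Ne.symm hab)
    · exact hgb
  rw [hos]
  calc (orbFin K a).card * Nat.card ↥(K ⊓ MulAction.stabilizer (Equiv.Perm GolayPt) a)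
      ≤ 2 * 20160 := Nat.mul_le_mul horb hst
    _ = 40320 := by norm_num

theorem orbFin_stabOct {O : Finset GolayPt} (hO : O ∈ octads) {x : GolayPt} (hx : x ∈ O) :
    orbFin (stabOct O) x = O := by
  ext c
  rw [mem_orbFin]
  constructor
  · rintro ⟨g, hg, rfl⟩
    exact (mem_iff_of_smul_eq (mem_stabOct.1 hg).2 x).2 hx
  · intro hc
    by_cases hcx : c = x
    · exact ⟨1, one_mem _, by rw [hcx]; rfl⟩
    · have h6 : 4 ≤ ((O.erase x).erase c).card := by
        rw [Finset.card_erase_of_mem (Finset.mem_erase.2 ⟨hcx, hc⟩), Finset.card_erase_of_mem hx,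
          hO.2]
        norm_num
      obtain ⟨A4, hA4sub, hA4⟩ := Finset.exists_subset_card_eq h6
      have hA4O : A4 ⊆ O := fun p hp =>
        Finset.mem_of_mem_erase (Finset.mem_of_mem_erase (hA4sub hp))
      have hxA4 : x ∉ A4 := fun hp =>
        (Finset.mem_erase.1 (Finset.mem_of_mem_erase (hA4sub hp))).1 rfl
      have hcA4 : c ∉ A4 := fun hp => (Finset.mem_erase.1 (hA4sub hp)).1 rfl
      have hcA : c ∉ insert x A4 := by
        rw [Finset.mem_insert, not_or]
        exact ⟨hcx, hcA4⟩
      obtain ⟨g, hg, hgA⟩ := exists_mem_M24_of_injOn (insert x A4)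
        (by rw [Finset.card_insert_of_notMem hxA4, hA4])
        (fun p => if p = x then c else p) (injOn_update_point hcA)
      have hgx : g x = c := by rw [hgA x (Finset.mem_insert_self _ _), if_pos rfl]
      have hgO : g • O = O := by
        refine octad_unique (Cfsg.Agent.Lib.helper9.smul_mem_octads g hg O hO) hO
          (s := insert c A4) (by rw [Finset.card_insert_of_notMem hcA4, hA4]) ?_ ?_
        · intro p hp
          rw [Finset.mem_insert] at hp
          rcases hp with rfl | hp
          · rw [← hgx]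
            exact Finset.smul_mem_smul_finset hx
          · have h1 : g p = p := by
              rw [hgA p (Finset.mem_insert_of_mem hp), if_neg (fun e => hxA4 (by rw [← e]; exact hp))]
            rw [← h1]
            exact Finset.smul_mem_smul_finset (hA4O hp)
        · intro p hp
          rw [Finset.mem_insert] at hp
          rcases hp with rfl | hp
          · exact hc
          · exact hA4O hp
      exact ⟨g, mem_stabOct.2 ⟨hg, hgO⟩, hgx⟩

theorem card_stab_pt_octad {O : Finset GolayPt} (hO : O ∈ octads) {x : GolayPt} (hx : x ∈ O) :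
    Nat.card ↥(stabOct O ⊓ MulAction.stabilizer (Equiv.Perm GolayPt) x) = 40320 := by
  have h := card_eq_orbFin_mul (stabOct O) x
  rw [orbFin_stabOct hO hx, card_stabOct hO, hO.2] at h
  omega

/-! ### A group inducing all permutations of eight points -/

/-- No subgroup of order 40320 fixing a point acts on an invariant set of eight further points. -/
theorem no_sym_eight (K : Subgroup (Equiv.Perm GolayPt)) (hK : K ≤ M24) (x : GolayPt)
    (hKx : ∀ g ∈ K, g x = x) (B : Finset GolayPt) (hB : B.card = 8) (hxB : x ∉ B)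
    (hinv : ∀ g ∈ K, ∀ b ∈ B, g b ∈ B) (hc : Nat.card K = 40320) : False := by
  classical
  have hsmul : ∀ g ∈ K, g • B = B := by
    intro g hg
    apply Finset.eq_of_subset_of_card_le
    · intro b hb
      obtain ⟨b', hb', rfl⟩ := Finset.mem_smul_finset.1 hb
      exact hinv g hg b' hb'
    · rw [Finset.card_smul_finset]
  have hmem : ∀ g ∈ K, g ∈ stabOct B := fun g hg => mem_stabOct.2 ⟨hK hg, hsmul g hg⟩
  have hfaith : ∀ g ∈ K, (∀ b ∈ B, g b = b) → g = 1 := by
    intro g hg hfix
    apply eq_one_of_nine_fixed (hK hg)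
    have hsub : insert x B ⊆ fixF g := by
      intro p hp
      rw [Finset.mem_insert] at hp
      rw [mem_fixF]
      rcases hp with rfl | hp
      · exact hKx g hg
      · exact hfix p hp
    have := Finset.card_le_card hsub
    rw [Finset.card_insert_of_notMem hxB, hB] at this
    exact this
  have hinj : Function.Injective (fun g : ↥K => restrOct B ⟨g.1, hmem g.1 g.2⟩) := by
    intro g g' hgg
    have h1 : ∀ b ∈ B, (g : Equiv.Perm GolayPt) b = (g' : Equiv.Perm GolayPt) b := by
      intro b hb
      have := congrArg (fun e : Equiv.Perm ↥B => ((e ⟨b, hb⟩ : ↥B) : GolayPt)) hgg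
      exact this
    have h2 : (g : Equiv.Perm GolayPt)⁻¹ * (g' : Equiv.Perm GolayPt) = 1 := by
      apply hfaith _ (mul_mem (inv_mem g.2) g'.2)
      intro b hb
      show (g : Equiv.Perm GolayPt)⁻¹ ((g' : Equiv.Perm GolayPt) b) = b
      rw [← h1 b hb, perm_inv_apply]
    apply Subtype.ext
    exact inv_mul_eq_one.1 h2
  have hcard : Nat.card (Equiv.Perm ↥B) = 40320 := by
    rw [Nat.card_perm, Nat.card_eq_fintype_card, Fintype.card_coe, hB]
    rfl
  have hbij := hinj.bijective_of_nat_card_le (by rw [hcard, hc])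
  obtain ⟨T, hTsub, hT⟩ := Finset.exists_subset_card_eq (show 3 ≤ B.card by omega)
  obtain ⟨a, b, c, hab, hac, hbc, rfl⟩ := Finset.card_eq_three.1 hT
  have haB : a ∈ B := hTsub (by simp)
  have hbB : b ∈ B := hTsub (by simp)
  have hcB : c ∈ B := hTsub (by simp)
  -- elements inducing transpositions
  have key : ∀ u ∈ B, u ≠ a → ∃ t ∈ K, t a = u ∧ t u = a ∧ ∀ d ∈ B, d ≠ a → d ≠ u → t d = d := by
    intro u huB hua
    obtain ⟨t, ht⟩ := hbij.2 (Equiv.swap (⟨a, haB⟩ : ↥B) ⟨u, huB⟩)
    have happ : ∀ d (hd : d ∈ B), (t : Equiv.Perm GolayPt) d =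
        ((Equiv.swap (⟨a, haB⟩ : ↥B) ⟨u, huB⟩ ⟨d, hd⟩ : ↥B) : GolayPt) := by
      intro d hd
      have := congrArg (fun e : Equiv.Perm ↥B => ((e ⟨d, hd⟩ : ↥B) : GolayPt)) ht
      exact this
    refine ⟨t.1, t.2, ?_, ?_, ?_⟩
    · rw [happ a haB, Equiv.swap_apply_left]
    · rw [happ u huB, Equiv.swap_apply_right]
    · intro d hd hda hdu
      rw [happ d hd, Equiv.swap_apply_of_ne_of_ne (fun e => hda (congrArg Subtype.val e))
        (fun e => hdu (congrArg Subtype.val e))]
  have invol : ∀ u ∈ B, u ≠ a → ∀ t ∈ K, t a = u → t u = a →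
      (∀ d ∈ B, d ≠ a → d ≠ u → t d = d) → fixF t ∈ octads ∧ u ∉ fixF t ∧
        ∀ d ∈ insert x B, d ≠ a → d ≠ u → d ∈ fixF t := by
    intro u huB hua t ht h1 h2 h3
    have hsq : t * t = 1 := by
      apply hfaith _ (mul_mem ht ht)
      intro d hd
      show t (t d) = d
      by_cases hda : d = a
      · rw [hda, h1, h2]
      · by_cases hdu : d = u
        · rw [hdu, h2, h1]
        · rw [h3 d hd hda hdu, h3 d hd hda hdu]
    have h16 : t ^ 16 = 1 := by
      have e : t ^ 16 = (t * t) ^ 8 := by rw [← pow_two, ← pow_mul]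
      rw [e, hsq, one_pow]
    have hne : t ≠ 1 := by
      intro e
      rw [e] at h1
      exact hua h1.symm
    have hfixed : ∀ d ∈ insert x B, d ≠ a → d ≠ u → d ∈ fixF t := by
      intro d hd hda hdu
      rw [Finset.mem_insert] at hd
      rw [mem_fixF]
      rcases hd with rfl | hd
      · exact hKx t ht
      · exact h3 d hd hda hdu
    have h5 : 5 ≤ (fixF t).card := by
      have hsub : ((insert x B).erase a).erase u ⊆ fixF t := by
        intro d hd
        rw [Finset.mem_erase, Finset.mem_erase] at hd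
        exact hfixed d hd.2.2 hd.2.1 hd.1
      have h4 := Finset.card_le_card hsub
      rw [Finset.card_erase_of_mem (Finset.mem_erase.2 ⟨hua, Finset.mem_insert_of_mem huB⟩),
        Finset.card_erase_of_mem (Finset.mem_insert_of_mem haB),
        Finset.card_insert_of_notMem hxB, hB] at h4
      omega
    refine ⟨fixF_mem_octads (hK ht) h16 hne h5, ?_, hfixed⟩
    rw [mem_fixF, h2]
    exact Ne.symm hua
  obtain ⟨t1, ht1, p1, p2, p3⟩ := key b hbB (Ne.symm hab)
  obtain ⟨t2, ht2, q1, q2, q3⟩ := key c hcB (Ne.symm hac)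
  obtain ⟨o1, n1, f1⟩ := invol b hbB (Ne.symm hab) t1 ht1 p1 p2 p3
  obtain ⟨o2, n2, f2⟩ := invol c hcB (Ne.symm hac) t2 ht2 q1 q2 q3
  -- the two octads share at least five points
  have c1 : ((insert x B).erase a).card = 8 := by
    rw [Finset.card_erase_of_mem (Finset.mem_insert_of_mem haB),
      Finset.card_insert_of_notMem hxB, hB]
  have c2 : (((insert x B).erase a).erase b).card = 7 := by
    rw [Finset.card_erase_of_mem (Finset.mem_erase.2
      ⟨Ne.symm hab, Finset.mem_insert_of_mem hbB⟩), c1]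
  have c3 : ((((insert x B).erase a).erase b).erase c).card = 6 := by
    rw [Finset.card_erase_of_mem (Finset.mem_erase.2 ⟨Ne.symm hbc, Finset.mem_erase.2
      ⟨Ne.symm hac, Finset.mem_insert_of_mem hcB⟩⟩), c2]
  have h5 : 5 ≤ ((((insert x B).erase a).erase b).erase c).card := by
    rw [c3]
    norm_num
  obtain ⟨s, hssub, hs⟩ := Finset.exists_subset_card_eq h5
  have hs1 : s ⊆ fixF t1 := by
    intro d hd
    have hd' := hssub hd
    rw [Finset.mem_erase, Finset.mem_erase, Finset.mem_erase] at hd'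
    exact f1 d hd'.2.2.2 hd'.2.2.1 hd'.2.1
  have hs2 : s ⊆ fixF t2 := by
    intro d hd
    have hd' := hssub hd
    rw [Finset.mem_erase, Finset.mem_erase, Finset.mem_erase] at hd'
    exact f2 d hd'.2.2.2 hd'.2.2.1 hd'.1
  have heq := octad_unique o1 o2 hs hs1 hs2
  apply n1
  rw [heq]
  exact f2 b (Finset.mem_insert_of_mem hbB) (Ne.symm hab) hbc

/-! ### Subgroups of index 253 -/

theorem fix_of_card_orbFin_one {K : Subgroup (Equiv.Perm GolayPt)} {a : GolayPt}
    (h : (orbFin K a).card = 1) : ∀ g ∈ K, g a = a := by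
  intro g hg
  have h1 : g a ∈ orbFin K a := mem_orbFin.2 ⟨g, hg, rfl⟩
  rw [Finset.card_eq_one] at h
  obtain ⟨b, hb⟩ := h
  rw [hb, Finset.mem_singleton] at h1
  have h2 := self_mem_orbFin K a
  rw [hb, Finset.mem_singleton] at h2
  rw [h1, h2]

/-- No subgroup of order 40320 fixes two points and has an orbit of length 15. -/
theorem no_fix_fifteen (K : Subgroup (Equiv.Perm GolayPt)) (hK : K ≤ M24) (x : GolayPt)
    (hKx : ∀ g ∈ K, g x = x) (hc : Nat.card K = 40320) {a a' : GolayPt} (hax : a ≠ x)
    (ha'x : a' ≠ x) (hfix : ∀ g ∈ K, g a = a) (hne : a' ≠ a) (h15 : (orbFin K a').card = 15) :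
    False := by
  have hsub : orbFin K a' ⊆ (Finset.univ.erase x).erase a := by
    intro c hc'
    obtain ⟨g, hg, rfl⟩ := mem_orbFin.1 hc'
    refine Finset.mem_erase.2 ⟨?_, Finset.mem_erase.2 ⟨?_, Finset.mem_univ _⟩⟩
    · exact fun h => hne (g.injective (h.trans (hfix g hg).symm))
    · exact fun h => ha'x (g.injective (h.trans (hKx g hg).symm))
  have c22 : ((Finset.univ.erase x).erase a : Finset GolayPt).card = 22 := by
    rw [Finset.card_erase_of_mem (Finset.mem_erase.2 ⟨hax, Finset.mem_univ _⟩),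
      Finset.card_erase_of_mem (Finset.mem_univ _), Finset.card_univ, golayPt_card]
  have hB : (((Finset.univ.erase x).erase a) \ orbFin K a').card = 7 := by
    rw [Finset.card_sdiff_of_subset hsub, c22, h15]
  have hBinv : ∀ g ∈ K, ∀ b ∈ ((Finset.univ.erase x).erase a) \ orbFin K a',
      g b ∈ ((Finset.univ.erase x).erase a) \ orbFin K a' := by
    intro g hg b hb
    rw [Finset.mem_sdiff, Finset.mem_erase, Finset.mem_erase] at hb ⊢
    refine ⟨⟨?_, ?_, Finset.mem_univ _⟩, fun h => hb.2 ((orbFin_invariant a' hg b).1 h)⟩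
    · exact fun h => hb.1.1 (g.injective (h.trans (hfix g hg).symm))
    · exact fun h => hb.1.2.1 (g.injective (h.trans (hKx g hg).symm))
  have hfaith : ∀ g ∈ K, (∀ b ∈ ((Finset.univ.erase x).erase a) \ orbFin K a', g b = b) →
      g = 1 := by
    intro g hg hfixB
    apply eq_one_of_nine_fixed (hK hg)
    have hsub9 : insert x (insert a (((Finset.univ.erase x).erase a) \ orbFin K a')) ⊆
        fixF g := by
      intro p hp
      rw [Finset.mem_insert, Finset.mem_insert] at hp
      rw [mem_fixF]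
      rcases hp with rfl | rfl | hp
      · exact hKx g hg
      · exact hfix g hg
      · exact hfixB p hp
    have hcard : (insert x (insert a (((Finset.univ.erase x).erase a) \ orbFin K a'))).card
        = 9 := by
      rw [Finset.card_insert_of_notMem, Finset.card_insert_of_notMem, hB]
      · intro h
        exact (Finset.mem_erase.1 (Finset.mem_sdiff.1 h).1).1 rfl
      · intro h
        rw [Finset.mem_insert] at h
        rcases h with h | h
        · exact hax h.symm
        · exact (Finset.mem_erase.1 (Finset.mem_erase.1 (Finset.mem_sdiff.1 h).1).2).1 rfl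
    have := Finset.card_le_card hsub9
    omega
  have h7 := card_le_factorial 7 K _ hB hBinv hfaith
  rw [hc] at h7
  have : Nat.factorial 7 = 5040 := rfl
  omega

/-- Subgroups of order 40320 of a point stabiliser: each is the stabiliser of a pair of points or
of an octad through the point. -/
theorem index253_stab (x : GolayPt) (K : Subgroup (Equiv.Perm GolayPt)) (hK : K ≤ M24)
    (hKx : ∀ g ∈ K, g x = x) (hc : Nat.card K = 40320) :
    (∃ s : Finset GolayPt, s.card = 2 ∧ x ∉ s ∧
      ∀ g, g ∈ K ↔ (g ∈ M24 ∧ g x = x ∧ g • s = s)) ∨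
    (∃ o ∈ octads, x ∈ o ∧ ∀ g, g ∈ K ↔ (g ∈ M24 ∧ g x = x ∧ g • o = o)) := by
  classical
  have hp7 : Fact (Nat.Prime 7) := ⟨by norm_num⟩
  have hp5 : Fact (Nat.Prime 5) := ⟨by norm_num⟩
  obtain ⟨y, hy, hy7⟩ := exists_orderOf_eq K 7 (by rw [hc]; norm_num)
  obtain ⟨z, hz, hz5⟩ := exists_orderOf_eq K 5 (by rw [hc]; norm_num)
  have cy : (fixF y).card = 3 := card_fixF_prime (hK hy) hy7 (by norm_num)
  have cz : (fixF z).card = 4 := card_fixF_prime (hK hz) hz5 (by norm_num)
  have hxy : x ∈ fixF y := mem_fixF.2 (hKx y hy)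
  have hxz : x ∈ fixF z := mem_fixF.2 (hKx z hz)
  obtain ⟨a1, a2, ha12, hya⟩ := Finset.card_eq_two.1
    (show ((fixF y).erase x).card = 2 by rw [Finset.card_erase_of_mem hxy, cy])
  have ha1 : a1 ∈ (fixF y).erase x := by rw [hya]; simp
  have ha2 : a2 ∈ (fixF y).erase x := by rw [hya]; simp
  have ha1x : a1 ≠ x := (Finset.mem_erase.1 ha1).1
  have ha2x : a2 ≠ x := (Finset.mem_erase.1 ha2).1
  have hya1 : y a1 = a1 := mem_fixF.1 (Finset.mem_erase.1 ha1).2
  have hya2 : y a2 = a2 := mem_fixF.1 (Finset.mem_erase.1 ha2).2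
  have czx : ((fixF z).erase x).card = 3 := by rw [Finset.card_erase_of_mem hxz, cz]
  have hinvX : ∀ g ∈ K, ∀ b, b ≠ x → g b ≠ x :=
    fun g hg b hb h => hb (g.injective (h.trans (hKx g hg).symm))
  have horb_sub : ∀ b, b ≠ x → orbFin K b ⊆ Finset.univ.erase x := by
    intro b hb c hc'
    obtain ⟨g, hg, rfl⟩ := mem_orbFin.1 hc'
    exact Finset.mem_erase.2 ⟨hinvX g hg b hb, Finset.mem_univ _⟩
  have cX : (Finset.univ.erase x : Finset GolayPt).card = 23 := by
    rw [Finset.card_erase_of_mem (Finset.mem_univ _), Finset.card_univ, golayPt_card]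
  have hyfix : ∀ b, b ≠ x → y b = b → b = a1 ∨ b = a2 := by
    intro b hb hyb
    have h1 : b ∈ (fixF y).erase x := Finset.mem_erase.2 ⟨hb, mem_fixF.2 hyb⟩
    rw [hya, Finset.mem_insert, Finset.mem_singleton] at h1
    exact h1
  have hzsub : ∀ b, b ≠ x → ((orbFin K b).filter fun c => z c = c) ⊆ (fixF z).erase x := by
    intro b hb c hc'
    rw [Finset.mem_filter] at hc'
    exact Finset.mem_erase.2 ⟨(Finset.mem_erase.1 (horb_sub b hb hc'.1)).1, mem_fixF.2 hc'.2⟩
  by_cases hsame : a2 ∈ orbFin K a1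
  · have hfilt : ((orbFin K a1).filter fun b => y b = b) = {a1, a2} := by
      ext b
      rw [Finset.mem_filter, Finset.mem_insert, Finset.mem_singleton]
      constructor
      · rintro ⟨hb, hyb⟩
        exact hyfix b (Finset.mem_erase.1 (horb_sub a1 ha1x hb)).1 hyb
      · rintro (rfl | rfl)
        · exact ⟨self_mem_orbFin K _, hya1⟩
        · exact ⟨hsame, hya2⟩
    have m7 := orbFin_card_modEq K a1 hy hy7
    rw [hfilt, Finset.card_pair ha12] at m7
    have m5 := orbFin_card_modEq K a1 hz hz5
    have hf5 : ((orbFin K a1).filter fun b => z b = b).card ≤ 3 := by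
      rw [← czx]
      exact Finset.card_le_card (hzsub a1 ha1x)
    have hle : (orbFin K a1).card ≤ 23 := by
      rw [← cX]
      exact Finset.card_le_card (horb_sub a1 ha1x)
    have hdvd := card_orbFin_dvd K a1
    rw [hc] at hdvd
    unfold Nat.ModEq at m7 m5
    have hcases : (orbFin K a1).card = 2 ∨ (orbFin K a1).card = 16 := by
      have h1 : (orbFin K a1).card = 2 ∨ (orbFin K a1).card = 9 ∨ (orbFin K a1).card = 16 ∨
          (orbFin K a1).card = 23 := by omega
      rcases h1 with h1 | h1 | h1 | h1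
      · exact Or.inl h1
      · exfalso
        rw [h1] at m5
        omega
      · exact Or.inr h1
      · exfalso
        rw [h1] at hdvd
        norm_num at hdvd
    rcases hcases with h2 | h16
    · left
      have hxs : x ∉ orbFin K a1 := fun hx => (Finset.mem_erase.1 (horb_sub a1 ha1x hx)).1 rfl
      refine ⟨orbFin K a1, h2, hxs, ?_⟩
      have hG : ∀ g, g ∈ M24 ⊓ MulAction.stabilizer (Equiv.Perm GolayPt) x ⊓
          MulAction.stabilizer (Equiv.Perm GolayPt) (orbFin K a1) ↔
          (g ∈ M24 ∧ g x = x ∧ g • orbFin K a1 = orbFin K a1) := by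
        intro g
        constructor
        · intro h
          exact ⟨(Subgroup.mem_inf.1 (Subgroup.mem_inf.1 h).1).1,
            MulAction.mem_stabilizer_iff.1 (Subgroup.mem_inf.1 (Subgroup.mem_inf.1 h).1).2,
            MulAction.mem_stabilizer_iff.1 (Subgroup.mem_inf.1 h).2⟩
        · rintro ⟨h1, h2, h3⟩
          exact Subgroup.mem_inf.2 ⟨Subgroup.mem_inf.2 ⟨h1, MulAction.mem_stabilizer_iff.2 h2⟩,
            MulAction.mem_stabilizer_iff.2 h3⟩
      have hKG : K ≤ M24 ⊓ MulAction.stabilizer (Equiv.Perm GolayPt) x ⊓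
          MulAction.stabilizer (Equiv.Perm GolayPt) (orbFin K a1) :=
        fun g hg => (hG g).2 ⟨hK hg, hKx g hg, orbFin_smul a1 hg⟩
      have hcard : Nat.card ↥(M24 ⊓ MulAction.stabilizer (Equiv.Perm GolayPt) x ⊓
          MulAction.stabilizer (Equiv.Perm GolayPt) (orbFin K a1)) ≤ Nat.card K := by
        rw [hc]
        exact card_le_of_fix_duad h2 hxs _ (fun g hg => ((hG g).1 hg).1)
          (fun g hg => ((hG g).1 hg).2)
      have heq := Subgroup.eq_of_le_of_card_ge hKG hcard
      have hle2 := le_of_eq heq.symm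
      intro g
      exact ⟨fun hg => (hG g).1 (hKG hg), fun hg => hle2 ((hG g).2 hg)⟩
    · right
      have hBcard : ((Finset.univ.erase x) \ orbFin K a1).card = 7 := by
        rw [Finset.card_sdiff_of_subset (horb_sub a1 ha1x), cX, h16]
      have hBinv : ∀ g ∈ K, ∀ b ∈ (Finset.univ.erase x) \ orbFin K a1,
          g b ∈ (Finset.univ.erase x) \ orbFin K a1 := by
        intro g hg b hb
        rw [Finset.mem_sdiff, Finset.mem_erase] at hb ⊢
        exact ⟨⟨hinvX g hg b hb.1.1, Finset.mem_univ _⟩,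
          fun h => hb.2 ((orbFin_invariant a1 hg b).1 h)⟩
      have hxB : x ∉ (Finset.univ.erase x) \ orbFin K a1 :=
        fun h => (Finset.mem_erase.1 (Finset.mem_sdiff.1 h).1).1 rfl
      obtain ⟨k, hk, hkne, hkfix⟩ : ∃ k ∈ K, k ≠ 1 ∧
          ∀ b ∈ (Finset.univ.erase x) \ orbFin K a1, k b = b := by
        by_contra hcon
        have h7 := card_le_factorial 7 K _ hBcard hBinv (by
          intro h hh hfix
          by_contra hne
          exact hcon ⟨h, hh, hne, hfix⟩)
        rw [hc] at h7
        have : Nat.factorial 7 = 5040 := rfl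
        omega
      have hS : (insert x ((Finset.univ.erase x) \ orbFin K a1)).card = 8 := by
        rw [Finset.card_insert_of_notMem hxB, hBcard]
      have hO : insert x ((Finset.univ.erase x) \ orbFin K a1) ∈ octads :=
        octad_of_fixed_eight (hK hk) hkne hS (by
          intro s hs
          rw [Finset.mem_insert] at hs
          rcases hs with rfl | hs
          · exact hKx k hk
          · exact hkfix s hs)
      refine ⟨_, hO, Finset.mem_insert_self _ _, ?_⟩
      have hsm : ∀ g ∈ K, g • insert x ((Finset.univ.erase x) \ orbFin K a1) =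
          insert x ((Finset.univ.erase x) \ orbFin K a1) := by
        intro g hg
        apply Finset.eq_of_subset_of_card_le
        · intro p hp
          obtain ⟨q, hq, rfl⟩ := Finset.mem_smul_finset.1 hp
          rw [Finset.mem_insert] at hq ⊢
          rcases hq with rfl | hq
          · left
            exact hKx g hg
          · right
            exact hBinv g hg q hq
        · rw [Finset.card_smul_finset]
      have hG : ∀ g, g ∈ stabOct (insert x ((Finset.univ.erase x) \ orbFin K a1)) ⊓
          MulAction.stabilizer (Equiv.Perm GolayPt) x ↔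
          (g ∈ M24 ∧ g x = x ∧ g • insert x ((Finset.univ.erase x) \ orbFin K a1) =
            insert x ((Finset.univ.erase x) \ orbFin K a1)) := by
        intro g
        constructor
        · intro h
          exact ⟨(mem_stabOct.1 (Subgroup.mem_inf.1 h).1).1,
            MulAction.mem_stabilizer_iff.1 (Subgroup.mem_inf.1 h).2,
            (mem_stabOct.1 (Subgroup.mem_inf.1 h).1).2⟩
        · rintro ⟨h1, h2, h3⟩
          exact Subgroup.mem_inf.2 ⟨mem_stabOct.2 ⟨h1, h3⟩, MulAction.mem_stabilizer_iff.2 h2⟩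
      have hKG : K ≤ stabOct (insert x ((Finset.univ.erase x) \ orbFin K a1)) ⊓
          MulAction.stabilizer (Equiv.Perm GolayPt) x :=
        fun g hg => (hG g).2 ⟨hK hg, hKx g hg, hsm g hg⟩
      have heq := Subgroup.eq_of_le_of_card_ge hKG (by
        rw [hc, card_stab_pt_octad hO (Finset.mem_insert_self _ _)])
      have hle2 := le_of_eq heq.symm
      intro g
      exact ⟨fun hg => (hG g).1 (hKG hg), fun hg => hle2 ((hG g).2 hg)⟩
  · exfalso
    have hsame' : a1 ∉ orbFin K a2 := fun h => hsame (orbFin_symm h)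
    have hdisj := orbFin_disjoint hsame
    have hfilt1 : ((orbFin K a1).filter fun b => y b = b) = {a1} := by
      ext b
      rw [Finset.mem_filter, Finset.mem_singleton]
      constructor
      · rintro ⟨hb, hyb⟩
        rcases hyfix b (Finset.mem_erase.1 (horb_sub a1 ha1x hb)).1 hyb with h | h
        · exact h
        · rw [h] at hb
          exact absurd hb hsame
      · rintro rfl
        exact ⟨self_mem_orbFin K _, hya1⟩
    have hfilt2 : ((orbFin K a2).filter fun b => y b = b) = {a2} := by
      ext b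
      rw [Finset.mem_filter, Finset.mem_singleton]
      constructor
      · rintro ⟨hb, hyb⟩
        rcases hyfix b (Finset.mem_erase.1 (horb_sub a2 ha2x hb)).1 hyb with h | h
        · rw [h] at hb
          exact absurd hb hsame'
        · exact h
      · rintro rfl
        exact ⟨self_mem_orbFin K _, hya2⟩
    have m71 := orbFin_card_modEq K a1 hy hy7
    rw [hfilt1, Finset.card_singleton] at m71
    have m72 := orbFin_card_modEq K a2 hy hy7
    rw [hfilt2, Finset.card_singleton] at m72
    have hsum : (orbFin K a1).card + (orbFin K a2).card ≤ 23 := by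
      rw [← cX, ← Finset.card_union_of_disjoint hdisj]
      exact Finset.card_le_card (Finset.union_subset (horb_sub a1 ha1x) (horb_sub a2 ha2x))
    have hd1 := card_orbFin_dvd K a1
    rw [hc] at hd1
    have hd2 := card_orbFin_dvd K a2
    rw [hc] at hd2
    have hpos1 : 0 < (orbFin K a1).card := Finset.card_pos.2 ⟨a1, self_mem_orbFin K a1⟩
    have hpos2 : 0 < (orbFin K a2).card := Finset.card_pos.2 ⟨a2, self_mem_orbFin K a2⟩
    unfold Nat.ModEq at m71 m72
    have hn1 : (orbFin K a1).card = 1 ∨ (orbFin K a1).card = 8 ∨ (orbFin K a1).card = 15 := by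
      have h1 : (orbFin K a1).card = 1 ∨ (orbFin K a1).card = 8 ∨ (orbFin K a1).card = 15 ∨
          (orbFin K a1).card = 22 := by omega
      rcases h1 with h1 | h1 | h1 | h1
      · exact Or.inl h1
      · exact Or.inr (Or.inl h1)
      · exact Or.inr (Or.inr h1)
      · exfalso
        rw [h1] at hd1
        norm_num at hd1
    have hn2 : (orbFin K a2).card = 1 ∨ (orbFin K a2).card = 8 ∨ (orbFin K a2).card = 15 := by
      have h1 : (orbFin K a2).card = 1 ∨ (orbFin K a2).card = 8 ∨ (orbFin K a2).card = 15 ∨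
          (orbFin K a2).card = 22 := by omega
      rcases h1 with h1 | h1 | h1 | h1
      · exact Or.inl h1
      · exact Or.inr (Or.inl h1)
      · exact Or.inr (Or.inr h1)
      · exfalso
        rw [h1] at hd2
        norm_num at hd2
    have case8 : ∀ a, a ≠ x → (orbFin K a).card = 8 → False := by
      intro a hax h8
      exact no_sym_eight K hK x hKx (orbFin K a) h8
        (fun hx => (Finset.mem_erase.1 (horb_sub a hax hx)).1 rfl)
        (fun g hg b hb => (orbFin_invariant a hg b).2 hb) hc
    rcases hn1 with h1 | h1 | h1 <;> rcases hn2 with h2 | h2 | h2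
    · have h3 := card_le_of_fix3 ha1x ha2x ha12 K hK
        (fun g hg => ⟨hKx g hg, fix_of_card_orbFin_one h1 g hg, fix_of_card_orbFin_one h2 g hg⟩)
      omega
    · exact case8 a2 ha2x h2
    · exact no_fix_fifteen K hK x hKx hc ha1x ha2x (fix_of_card_orbFin_one h1) (Ne.symm ha12) h2
    · exact case8 a1 ha1x h1
    · exact case8 a1 ha1x h1
    · exact case8 a1 ha1x h1
    · exact no_fix_fifteen K hK x hKx hc ha2x ha1x (fix_of_card_orbFin_one h2) ha12 h1
    · exact case8 a2 ha2x h2
    · omega

end Cfsg.Agent.Lib.helper33
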