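/-
Transitivity of the group of the length-24 code on dodecads, and the orbits of a dodecad stabiliser
on dodecads.
-/
import Mathlib
import Cfsg.Agent.Lib.helper9.M24Order
import Cfsg.Agent.Lib.helper33.M24Octads
import Cfsg.Agent.Lib.helper33.M24DodecadsData

set_option autoImplicit false

namespace Cfsg.Agent.Lib.helper33

open Cfsg Cfsg.Agent.Lib.helper9
open scoped Pointwise

/-- Splitting an orbit certificate check into two chunks. -/
theorem checkOrbit_takeDrop33 (gens : List (List ℕ)) (rootOf : ℕ → ℕ) (n : ℕ) :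
    ∀ (l : List ℕ) (c : List (List ℕ)),
      checkOrbit gens rootOf (l.take n) (c.take n) = true →
      checkOrbit gens rootOf (l.drop n) (c.drop n) = true →
      checkOrbit gens rootOf l c = true := by
  induction n with
  | zero => intro l c _ h; simpa using h
  | succ n ih =>
    intro l c h1 h2
    cases l with
    | nil => simp [checkOrbit]
    | cons m ms =>
      cases c with
      | nil => simp [checkOrbit] at h1
      | cons w ws =>
        simp only [List.take_succ_cons, List.drop_succ_cons, checkOrbit, Bool.and_eq_true]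
          at h1 h2 ⊢
        exact ⟨h1.1, ih ms ws h1.2 h2⟩

set_option maxRecDepth 100000 in
theorem certsD24_c0 : checkOrbit gens24 (fun _ => 28637) (dodL.take 860) (certsD24.take 860)
    = true := by decide +kernel

set_option maxRecDepth 100000 in
theorem certsD24_c1 : checkOrbit gens24 (fun _ => 28637) ((dodL.drop 860).take 860)
    ((certsD24.drop 860).take 860) = true := by decide +kernel

set_option maxRecDepth 100000 in
theorem certsD24_c2 : checkOrbit gens24 (fun _ => 28637) ((dodL.drop 860).drop 860)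
    ((certsD24.drop 860).drop 860) = true := by decide +kernel

theorem certsD24_ok : checkOrbit gens24 (fun _ => 28637) dodL certsD24 = true :=
  checkOrbit_takeDrop33 _ _ 860 _ _ certsD24_c0
    (checkOrbit_takeDrop33 _ _ 860 _ _ certsD24_c1 certsD24_c2)

/-- The base dodecad. -/
def dod0 : Finset GolayPt := decSet 28637

theorem dod0_mem : dod0 ∈ dodecads := (mem_dodecads_dodL _).2 ⟨28637, by decide +kernel, rfl⟩

/-- Every dodecad is the image of the base dodecad under an element of the group. -/
theorem exists_smul_dod0 {d : Finset GolayPt} (hd : d ∈ dodecads) : ∃ σ ∈ M24, σ • dod0 = d := by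
  obtain ⟨n, hn, rfl⟩ := (mem_dodecads_dodL d).1 hd
  exact checkOrbit_spec gensIn_gens24 _ dodL certsD24 certsD24_ok n hn

/-- The group of the code is transitive on dodecads. -/
theorem dodecads_transitive {d d' : Finset GolayPt} (hd : d ∈ dodecads) (hd' : d' ∈ dodecads) :
    ∃ σ ∈ M24, σ • d = d' := by
  obtain ⟨a, ha, rfl⟩ := exists_smul_dod0 hd
  obtain ⟨b, hb, rfl⟩ := exists_smul_dod0 hd'
  exact ⟨b * a⁻¹, mul_mem hb (inv_mem ha), by rw [mul_smul, inv_smul_smul]⟩

/-- The stabiliser of the base dodecad, as a subgroup of the symmetric group. -/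
def stabDod0 : Subgroup (Equiv.Perm GolayPt) :=
  M24 ⊓ MulAction.stabilizer (Equiv.Perm GolayPt) dod0

theorem mem_stabDod0 {σ : Equiv.Perm GolayPt} : σ ∈ stabDod0 ↔ σ ∈ M24 ∧ σ • dod0 = dod0 := by
  rw [stabDod0, Subgroup.mem_inf]
  exact and_congr Iff.rfl MulAction.mem_stabilizer_iff

theorem gensIn_gensD : GensIn stabDod0 gensD := by
  intro t ht
  simp only [gensD, List.mem_cons, List.not_mem_nil, or_false] at ht
  rcases ht with rfl | rfl | rfl | rfl
  · exact exists_mem_stab_of_tbl sD1 sD1i 28637 (by decide +kernel) (by decide +kernel)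
      (by decide +kernel)
  · exact exists_mem_stab_of_tbl sD1i sD1 28637 (by decide +kernel) (by decide +kernel)
      (by decide +kernel)
  · exact exists_mem_stab_of_tbl sD2 sD2i 28637 (by decide +kernel) (by decide +kernel)
      (by decide +kernel)
  · exact exists_mem_stab_of_tbl sD2i sD2 28637 (by decide +kernel) (by decide +kernel)
      (by decide +kernel)

set_option maxRecDepth 100000 in
theorem certsD_c0 : checkOrbit gensD repD (dodL.take 860) (certsD.take 860) = true := by
  decide +kernel

set_option maxRecDepth 100000 in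
theorem certsD_c1 : checkOrbit gensD repD ((dodL.drop 860).take 860)
    ((certsD.drop 860).take 860) = true := by decide +kernel

set_option maxRecDepth 100000 in
theorem certsD_c2 : checkOrbit gensD repD ((dodL.drop 860).drop 860)
    ((certsD.drop 860).drop 860) = true := by decide +kernel

theorem certsD_ok : checkOrbit gensD repD dodL certsD = true :=
  checkOrbit_takeDrop33 _ _ 860 _ _ certsD_c0
    (checkOrbit_takeDrop33 _ _ 860 _ _ certsD_c1 certsD_c2)

theorem repD_congr {m m' : ℕ} (h : pc (28637 &&& m) = pc (28637 &&& m')) : repD m = repD m' := by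
  have e : ∀ x : ℕ, Nat.land 28637 x = 28637 &&& x := fun _ => rfl
  simp only [repD, e, h]

theorem card_dod0_inter (m : ℕ) : (dod0 ∩ decSet m).card = pc (28637 &&& m) := by
  rw [dod0, ← decSet_land, card_decSet]

/-- Two dodecads meeting the base dodecad in equally many points are conjugate under its
stabiliser. -/
theorem stabDod0_orbits {d' d'' : Finset GolayPt} (hd' : d' ∈ dodecads) (hd'' : d'' ∈ dodecads)
    (h : (dod0 ∩ d').card = (dod0 ∩ d'').card) : ∃ σ ∈ stabDod0, σ • d' = d'' := by
  obtain ⟨m', hm', rfl⟩ := (mem_dodecads_dodL d').1 hd'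
  obtain ⟨m'', hm'', rfl⟩ := (mem_dodecads_dodL d'').1 hd''
  rw [card_dod0_inter, card_dod0_inter] at h
  obtain ⟨a, ha, ha'⟩ := checkOrbit_spec gensIn_gensD repD dodL certsD certsD_ok m' hm'
  obtain ⟨b, hb, hb'⟩ := checkOrbit_spec gensIn_gensD repD dodL certsD certsD_ok m'' hm''
  rw [repD_congr h] at ha'
  refine ⟨b * a⁻¹, mul_mem hb (inv_mem ha), ?_⟩
  rw [← ha', mul_smul, inv_smul_smul, hb']

/-- Two dodecads meeting a dodecad in equally many points are conjugate under its stabiliser. -/
theorem dodecad_stab_orbits (d d' d'' : Finset GolayPt) (hd : d ∈ dodecads) (hd' : d' ∈ dodecads)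
    (hd'' : d'' ∈ dodecads) (h : (d ∩ d').card = (d ∩ d'').card) :
    ∃ g : Equiv.Perm GolayPt, g ∈ M24 ∧ g • d = d ∧ g • d' = d'' := by
  obtain ⟨a, ha, rfl⟩ := exists_smul_dod0 hd
  have hx' : a⁻¹ • d' ∈ dodecads := smul_mem_dodecads _ (inv_mem ha) _ hd'
  have hx'' : a⁻¹ • d'' ∈ dodecads := smul_mem_dodecads _ (inv_mem ha) _ hd''
  have hc : ∀ s : Finset GolayPt, (dod0 ∩ a⁻¹ • s).card = (a • dod0 ∩ s).card := by
    intro s
    have : a • (dod0 ∩ a⁻¹ • s) = a • dod0 ∩ s := by
      rw [Finset.smul_finset_inter, smul_inv_smul]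
    rw [← this, Finset.card_smul_finset]
  obtain ⟨σ, hσ, hσ'⟩ := stabDod0_orbits hx' hx'' (by rw [hc, hc, h])
  obtain ⟨hσM, hσo⟩ := mem_stabDod0.1 hσ
  refine ⟨a * σ * a⁻¹, mul_mem (mul_mem ha hσM) (inv_mem ha), ?_, ?_⟩
  · rw [mul_smul, mul_smul, inv_smul_smul, hσo]
  · rw [mul_smul, mul_smul, hσ', smul_inv_smul]

end Cfsg.Agent.Lib.helper33
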