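/-
Subgroups of small index in the group of the length-24 code: tools.  A subgroup whose order is
divisible by 1024 contains the pointwise stabiliser of an octad; orbit lengths of such subgroups
and of their point stabilisers; block systems from the short orbits of point stabilisers.
-/
import Mathlib
import Cfsg.Agent.Lib.helper33.M23Sub

set_option autoImplicit false

namespace Cfsg.Agent.Lib.helper33

open Cfsg Cfsg.Agent.Lib.helper9
open scoped Pointwise

/-! ### Point stabilisers in subgroups -/

/-- The stabiliser of a point in a subgroup. -/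
abbrev pst (K : Subgroup (Equiv.Perm GolayPt)) (p : GolayPt) : Subgroup (Equiv.Perm GolayPt) :=
  K ⊓ MulAction.stabilizer (Equiv.Perm GolayPt) p

theorem mem_pst {K : Subgroup (Equiv.Perm GolayPt)} {p : GolayPt} {g : Equiv.Perm GolayPt} :
    g ∈ pst K p ↔ g ∈ K ∧ g p = p := by
  rw [Subgroup.mem_inf, MulAction.mem_stabilizer_iff]
  rfl

theorem orbFin_eq_of_mem {H : Subgroup (Equiv.Perm GolayPt)} {a b : GolayPt}
    (h : b ∈ orbFin H a) : orbFin H b = orbFin H a := by
  obtain ⟨g, hg, rfl⟩ := mem_orbFin.1 h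
  ext c
  rw [mem_orbFin, mem_orbFin]
  constructor
  · rintro ⟨k, hk, rfl⟩
    exact ⟨k * g, mul_mem hk hg, rfl⟩
  · rintro ⟨k, hk, rfl⟩
    refine ⟨k * g⁻¹, mul_mem hk (inv_mem hg), ?_⟩
    show k (g⁻¹ (g a)) = k a
    rw [perm_inv_apply]

theorem orbFin_pst_self (K : Subgroup (Equiv.Perm GolayPt)) (p : GolayPt) :
    orbFin (pst K p) p = {p} := by
  ext c
  rw [mem_orbFin, Finset.mem_singleton]
  constructor
  · rintro ⟨g, hg, rfl⟩
    exact (mem_pst.1 hg).2
  · rintro rfl
    exact ⟨1, one_mem _, rfl⟩

theorem notMem_orbFin_pst {K : Subgroup (Equiv.Perm GolayPt)} {p q : GolayPt} (h : q ≠ p) :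
    p ∉ orbFin (pst K p) q := by
  intro hp
  obtain ⟨g, hg, hgq⟩ := mem_orbFin.1 hp
  have := (mem_pst.1 hg).2
  exact h (g.injective (hgq.trans this.symm))

/-- Conjugation of point stabilisers transports orbits. -/
theorem card_orbFin_conj {K : Subgroup (Equiv.Perm GolayPt)} {g : Equiv.Perm GolayPt}
    (hg : g ∈ K) (p q : GolayPt) :
    (orbFin (pst K (g p)) (g q)).card = (orbFin (pst K p) q).card := by
  classical
  have : orbFin (pst K (g p)) (g q) = (orbFin (pst K p) q).image g := by
    ext b
    rw [mem_orbFin, Finset.mem_image]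
    constructor
    · rintro ⟨h, hh, rfl⟩
      obtain ⟨hh1, hh2⟩ := mem_pst.1 hh
      refine ⟨g⁻¹ (h (g q)), mem_orbFin.2 ⟨g⁻¹ * h * g,
        mem_pst.2 ⟨mul_mem (mul_mem (inv_mem hg) hh1) hg, ?_⟩, rfl⟩, perm_apply_inv g _⟩
      show g⁻¹ (h (g p)) = p
      rw [hh2, perm_inv_apply]
    · rintro ⟨c, hc, rfl⟩
      obtain ⟨h, hh, rfl⟩ := mem_orbFin.1 hc
      obtain ⟨hh1, hh2⟩ := mem_pst.1 hh
      refine ⟨g * h * g⁻¹, mem_pst.2 ⟨mul_mem (mul_mem hg hh1) (inv_mem hg), ?_⟩, ?_⟩
      · show g (h (g⁻¹ (g p))) = g p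
        rw [perm_inv_apply, hh2]
      · show g (h (g⁻¹ (g q))) = g (h q)
        rw [perm_inv_apply]
  rw [this, Finset.card_image_of_injective _ g.injective]

theorem card_pst_of_trans {K : Subgroup (Equiv.Perm GolayPt)}
    (hT : ∀ p q : GolayPt, ∃ g ∈ K, g p = q) (p : GolayPt) :
    Nat.card K = 24 * Nat.card (pst K p) := by
  have h := card_eq_orbFin_mul K p
  have h2 : orbFin K p = Finset.univ := by
    ext q
    simp only [Finset.mem_univ, iff_true]
    exact mem_orbFin.2 (hT p q)
  rw [h2, Finset.card_univ, golayPt_card] at h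
  exact h

theorem trans_of_card_orbFin {K : Subgroup (Equiv.Perm GolayPt)} {p0 : GolayPt}
    (h : (orbFin K p0).card = 24) : ∀ p q : GolayPt, ∃ g ∈ K, g p = q := by
  have h2 : orbFin K p0 = Finset.univ := Finset.eq_univ_of_card _ (by rw [h, golayPt_card])
  intro p q
  have hp : p ∈ orbFin K p0 := by rw [h2]; exact Finset.mem_univ _
  have hq : q ∈ orbFin K p0 := by rw [h2]; exact Finset.mem_univ _
  obtain ⟨g1, hg1, rfl⟩ := mem_orbFin.1 hp
  obtain ⟨g2, hg2, rfl⟩ := mem_orbFin.1 hq
  refine ⟨g2 * g1⁻¹, mul_mem hg2 (inv_mem hg1), ?_⟩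
  show g2 (g1⁻¹ (g1 p0)) = g2 p0
  rw [perm_inv_apply]

/-! ### A subgroup of order divisible by 1024 contains the pointwise stabiliser of an octad -/

theorem conj_mem_fixOct {O : Finset GolayPt} {g h : Equiv.Perm GolayPt} (hg : g ∈ stabOct O)
    (hh : h ∈ fixOct O) : g * h * g⁻¹ ∈ fixOct O := by
  obtain ⟨hg1, hg2⟩ := mem_stabOct.1 hg
  obtain ⟨hh1, hh2⟩ := mem_fixOct.1 hh
  refine mem_fixOct.2 ⟨mul_mem (mul_mem hg1 hh1) (inv_mem hg1), fun x hx => ?_⟩
  show g (h (g⁻¹ x)) = x
  have h1 : g⁻¹ x ∈ O := by
    have : g (g⁻¹ x) ∈ O := by rw [perm_apply_inv]; exact hx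
    exact (mem_iff_of_smul_eq hg2 _).1 this
  rw [hh2 _ h1, perm_apply_inv]

theorem stabOct_le_normalizer (O : Finset GolayPt) :
    stabOct O ≤ Subgroup.normalizer (fixOct O : Set (Equiv.Perm GolayPt)) := by
  intro g hg
  rw [Subgroup.mem_normalizer_iff]
  intro h
  constructor
  · intro hh
    exact conj_mem_fixOct hg hh
  · intro hh
    have h2 := conj_mem_fixOct (inv_mem hg) hh
    have e : g⁻¹ * (g * h * g⁻¹) * g⁻¹⁻¹ = h := by group
    rw [e] at h2
    exact h2

theorem exists_fixOct_le (K : Subgroup (Equiv.Perm GolayPt)) (hK : K ≤ M24)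
    (h : 1024 ∣ Nat.card K) : ∃ O ∈ octads, fixOct O ≤ K := by
  classical
  have : Fact (Nat.Prime 2) := ⟨Nat.prime_two⟩
  obtain ⟨P0, hP0⟩ := Sylow.exists_subgroup_card_pow_prime (G := ↥K) 2 (n := 10)
    (by rw [show (2 : ℕ) ^ 10 = 1024 by norm_num]; exact h)
  set P : Subgroup (Equiv.Perm GolayPt) := P0.map K.subtype with hPdef
  have hPc : Nat.card P = 2 ^ 10 := by
    rw [hPdef, Subgroup.card_map_of_injective (Subgroup.subtype_injective _), hP0]
  have hPK : P ≤ K := by
    intro g hg
    obtain ⟨k, _, rfl⟩ := Subgroup.mem_map.1 hg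
    exact k.2
  have hPM : P ≤ M24 := hPK.trans hK
  have hP2 : IsPGroup 2 P := IsPGroup.of_card hPc
  let act : MulAction ↥P ↥octads :=
    { smul := fun g o => ⟨(g : Equiv.Perm GolayPt) • (o : Finset GolayPt),
        smul_mem_octads _ (hPM g.2) _ o.2⟩
      one_smul := fun o => Subtype.ext (one_smul _ _)
      mul_smul := fun g h o => Subtype.ext (mul_smul _ _ _) }
  have hodd : ¬ 2 ∣ Nat.card ↥octads := by
    rw [Nat.card_coe_set_eq, ncard_octads]
    norm_num
  obtain ⟨o, ho⟩ := hP2.nonempty_fixed_point_of_prime_not_dvd_card ↥octads hodd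
  have hfix : ∀ g ∈ P, g • (o : Finset GolayPt) = o := by
    intro g hg
    have := ho ⟨g, hg⟩
    exact congrArg Subtype.val this
  have hPst : P ≤ stabOct (o : Finset GolayPt) := fun g hg =>
    mem_stabOct.2 ⟨hPM hg, hfix g hg⟩
  have hE2 : IsPGroup 2 (fixOct (o : Finset GolayPt)) :=
    IsPGroup.of_card (n := 4) (by rw [card_fixOct o.2]; norm_num)
  have hsup : IsPGroup 2 (P ⊔ fixOct (o : Finset GolayPt) : Subgroup (Equiv.Perm GolayPt)) :=
    IsPGroup.to_sup_of_normal_right' hP2 hE2 (hPst.trans (stabOct_le_normalizer _))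
  have hsle : P ⊔ fixOct (o : Finset GolayPt) ≤ stabOct (o : Finset GolayPt) :=
    sup_le hPst (fixOct_le_stabOct _)
  obtain ⟨n, hn⟩ := hsup.exists_card_eq
  have hdvd := Subgroup.card_dvd_of_le hsle
  rw [hn, card_stabOct o.2] at hdvd
  have hn10 : n ≤ 10 := by
    by_contra hc
    have h11 : (2 : ℕ) ^ 11 ∣ 322560 := (Nat.pow_dvd_pow 2 (by omega : 11 ≤ n)).trans hdvd
    norm_num at h11
  have hle : Nat.card ↥(P ⊔ fixOct (o : Finset GolayPt)) ≤ Nat.card P := by
    rw [hn, hPc]
    exact Nat.pow_le_pow_right (by norm_num) hn10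
  have heq := Subgroup.eq_of_le_of_card_ge (le_sup_left : P ≤ P ⊔ fixOct (o : Finset GolayPt)) hle
  refine ⟨o, o.2, ?_⟩
  have : fixOct (o : Finset GolayPt) ≤ P := by
    rw [heq]
    exact le_sup_right
  exact this.trans hPK

/-! ### Orbits of subgroups containing the pointwise stabiliser of an octad -/

theorem card_compl_octad {O : Finset GolayPt} (hO : O ∈ octads) :
    (Finset.univ \ O).card = 16 := by
  rw [Finset.card_sdiff_of_subset (Finset.subset_univ _), Finset.card_univ, golayPt_card, hO.2]

theorem compl_subset_orbFin {L : Subgroup (Equiv.Perm GolayPt)} {O : Finset GolayPt}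
    (hO : O ∈ octads) (hE : fixOct O ≤ L) {p0 : GolayPt} (hp0 : p0 ∉ O) :
    Finset.univ \ O ⊆ orbFin L p0 := by
  intro q hq
  rw [Finset.mem_sdiff] at hq
  obtain ⟨k, hk, hkp⟩ := fixOct_trans hO hp0 hq.2
  exact mem_orbFin.2 ⟨k, hE hk, hkp⟩

theorem sixteen_le_card_orbFin {L : Subgroup (Equiv.Perm GolayPt)} {O : Finset GolayPt}
    (hO : O ∈ octads) (hE : fixOct O ≤ L) {p0 : GolayPt} (hp0 : p0 ∉ O) :
    16 ≤ (orbFin L p0).card := by
  rw [← card_compl_octad hO]
  exact Finset.card_le_card (compl_subset_orbFin hO hE hp0)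

theorem orbFin_subset_compl {L : Subgroup (Equiv.Perm GolayPt)} {O : Finset GolayPt}
    (hL : L ≤ stabOct O) {p0 : GolayPt} (hp0 : p0 ∉ O) : orbFin L p0 ⊆ Finset.univ \ O := by
  intro q hq
  obtain ⟨g, hg, rfl⟩ := mem_orbFin.1 hq
  rw [Finset.mem_sdiff]
  exact ⟨Finset.mem_univ _,
    fun h => hp0 ((mem_iff_of_smul_eq (mem_stabOct.1 (hL hg)).2 p0).1 h)⟩

/-- If the orbit of an outside point leaves at least five points, the subgroup stabilises the
octad. -/
theorem le_stabOct_of_card_le {L : Subgroup (Equiv.Perm GolayPt)} (hL : L ≤ M24)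
    {O : Finset GolayPt} (hO : O ∈ octads) (hE : fixOct O ≤ L) {p0 : GolayPt} (hp0 : p0 ∉ O)
    (h19 : (orbFin L p0).card ≤ 19) : L ≤ stabOct O := by
  classical
  intro g hg
  refine mem_stabOct.2 ⟨hL hg, ?_⟩
  have hCsub : Finset.univ \ orbFin L p0 ⊆ O := by
    intro q hq
    rw [Finset.mem_sdiff] at hq
    by_contra hqO
    exact hq.2 (compl_subset_orbFin hO hE hp0 (Finset.mem_sdiff.2 ⟨Finset.mem_univ _, hqO⟩))
  have hC5 : 5 ≤ (Finset.univ \ orbFin L p0).card := by
    rw [Finset.card_sdiff_of_subset (Finset.subset_univ _), Finset.card_univ, golayPt_card]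
    omega
  obtain ⟨A, hAsub, hA⟩ := Finset.exists_subset_card_eq hC5
  refine octad_unique (smul_mem_octads g (hL hg) O hO) hO (s := g • A)
    (by rw [Finset.card_smul_finset, hA]) ?_ ?_
  · intro x hx
    obtain ⟨a, ha, rfl⟩ := Finset.mem_smul_finset.1 hx
    exact Finset.smul_mem_smul_finset (hCsub (hAsub ha))
  · intro x hx
    obtain ⟨a, ha, rfl⟩ := Finset.mem_smul_finset.1 hx
    apply hCsub
    have ha' := Finset.mem_sdiff.1 (hAsub ha)
    rw [Finset.mem_sdiff]
    exact ⟨Finset.mem_univ _, fun h => ha'.2 ((orbFin_invariant p0 hg a).1 h)⟩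

theorem card_orbFin_eq_sixteen {L : Subgroup (Equiv.Perm GolayPt)} {O : Finset GolayPt}
    (hO : O ∈ octads) (hE : fixOct O ≤ L) (hL : L ≤ stabOct O) {p0 : GolayPt} (hp0 : p0 ∉ O) :
    (orbFin L p0).card = 16 := by
  have h1 := sixteen_le_card_orbFin hO hE hp0
  have h2 := Finset.card_le_card (orbFin_subset_compl hL hp0)
  rw [card_compl_octad hO] at h2
  omega

/-! ### Bounds for subgroups with an invariant set -/

/-- A subgroup fixing four points has order at most 960. -/
theorem card_le_of_fix4 (K : Subgroup (Equiv.Perm GolayPt)) (hK : K ≤ M24) (T : Finset GolayPt)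
    (hT : T.card = 4) (h : ∀ g ∈ K, ∀ t ∈ T, g t = t) : Nat.card K ≤ 960 := by
  classical
  obtain ⟨e, -, he⟩ := Finset.exists_mem_notMem_of_card_lt_card
    (show T.card < (Finset.univ : Finset GolayPt).card by
      rw [hT, Finset.card_univ, golayPt_card]; norm_num)
  have hos := card_eq_orbFin_mul K e
  have horb : (orbFin K e).card ≤ 20 := by
    have hsub : orbFin K e ⊆ Finset.univ \ T := by
      intro c hc
      obtain ⟨g, hg, rfl⟩ := mem_orbFin.1 hc
      rw [Finset.mem_sdiff]
      refine ⟨Finset.mem_univ _, fun hmem => he ?_⟩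
      have e1 : g e = e := g.injective (h g hg _ hmem)
      rw [e1] at hmem
      exact hmem
    have := Finset.card_le_card hsub
    rw [Finset.card_sdiff_of_subset (Finset.subset_univ _), Finset.card_univ, golayPt_card, hT]
      at this
    exact this
  have hst : Nat.card ↥(K ⊓ MulAction.stabilizer (Equiv.Perm GolayPt) e) ≤ 48 := by
    rw [← card_fixOct_five (A := insert e T) (by rw [Finset.card_insert_of_notMem he, hT])]
    apply Subgroup.card_le_of_le
    intro g hg
    obtain ⟨hg1, hg2⟩ := Subgroup.mem_inf.1 hg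
    refine mem_fixOct.2 ⟨hK hg1, fun x hx => ?_⟩
    rw [Finset.mem_insert] at hx
    rcases hx with rfl | hx
    · exact MulAction.mem_stabilizer_iff.1 hg2
    · exact h g hg1 x hx
  rw [hos]
  calc (orbFin K e).card * Nat.card ↥(K ⊓ MulAction.stabilizer (Equiv.Perm GolayPt) e)
      ≤ 20 * 48 := Nat.mul_le_mul horb hst
    _ = 960 := by norm_num

/-- A group of permutations with an invariant set of `n` points has order at most `n!` times a
bound for the orders of its subgroups fixing the set pointwise. -/
theorem card_le_factorial_mul (N : ℕ) (n : ℕ) : ∀ (H : Subgroup (Equiv.Perm GolayPt))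
    (B : Finset GolayPt), B.card = n → (∀ h ∈ H, ∀ b ∈ B, h b ∈ B) →
    (∀ H' : Subgroup (Equiv.Perm GolayPt), H' ≤ H → (∀ h ∈ H', ∀ b ∈ B, h b = b) →
      Nat.card H' ≤ N) → Nat.card H ≤ n.factorial * N := by
  induction n with
  | zero =>
    intro H B hB hinv hker
    have hB' : B = ∅ := Finset.card_eq_zero.1 hB
    have := hker H le_rfl (fun h _ b hb => by rw [hB'] at hb; exact absurd hb (Finset.notMem_empty b))
    simpa using this
  | succ n ih =>
    intro H B hB hinv hker
    obtain ⟨b, hb⟩ : B.Nonempty := Finset.card_pos.1 (by omega)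
    have hos := card_eq_orbFin_mul H b
    have horb : (orbFin H b).card ≤ n + 1 := by
      rw [← hB]
      apply Finset.card_le_card
      intro c hc
      obtain ⟨g, hg, rfl⟩ := mem_orbFin.1 hc
      exact hinv g hg b hb
    have hstab : Nat.card ↥(H ⊓ MulAction.stabilizer (Equiv.Perm GolayPt) b) ≤
        n.factorial * N := by
      apply ih _ (B.erase b) (by rw [Finset.card_erase_of_mem hb, hB]; rfl)
      · intro h hh c hc
        obtain ⟨hh1, hh2⟩ := Subgroup.mem_inf.1 hh
        have hh2' : h b = b := MulAction.mem_stabilizer_iff.1 hh2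
        rw [Finset.mem_erase] at hc ⊢
        exact ⟨fun e => hc.1 (h.injective (e.trans hh2'.symm)), hinv h hh1 c hc.2⟩
      · intro H' hH' hfix
        apply hker H' (hH'.trans inf_le_left)
        intro h hh c hc
        by_cases hcb : c = b
        · rw [hcb]
          exact MulAction.mem_stabilizer_iff.1 (Subgroup.mem_inf.1 (hH' hh)).2
        · exact hfix h hh c (Finset.mem_erase.2 ⟨hcb, hc⟩)
    rw [hos, Nat.factorial_succ, mul_assoc]
    exact Nat.mul_le_mul horb hstab

/-- A subgroup with an invariant set of three points has order at most 120960. -/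
theorem card_le_of_inv3 (K : Subgroup (Equiv.Perm GolayPt)) (hK : K ≤ M24) (C : Finset GolayPt)
    (hC : C.card = 3) (hinv : ∀ g ∈ K, ∀ b ∈ C, g b ∈ C) : Nat.card K ≤ 120960 := by
  have h := card_le_factorial_mul 20160 3 K C hC hinv (by
    intro H' hH' hfix
    obtain ⟨x, y, z, hxy, hxz, hyz, rfl⟩ := Finset.card_eq_three.1 hC
    exact card_le_of_fix3 (x := x) (a := y) (b := z) (Ne.symm hxy) (Ne.symm hxz) hyz H'
      (hH'.trans hK) (fun g hg => ⟨hfix g hg x (by simp), hfix g hg y (by simp),
        hfix g hg z (by simp)⟩))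
  have e : Nat.factorial 3 * 20160 = 120960 := by decide
  rw [e] at h
  exact h

/-- A subgroup with an invariant set of four points has order at most 23040. -/
theorem card_le_of_inv4 (K : Subgroup (Equiv.Perm GolayPt)) (hK : K ≤ M24) (C : Finset GolayPt)
    (hC : C.card = 4) (hinv : ∀ g ∈ K, ∀ b ∈ C, g b ∈ C) : Nat.card K ≤ 23040 := by
  have h := card_le_factorial_mul 960 4 K C hC hinv (by
    intro H' hH' hfix
    exact card_le_of_fix4 H' (hH'.trans hK) C hC hfix)
  have e : Nat.factorial 4 * 960 = 23040 := by decide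
  rw [e] at h
  exact h

/-! ### The octad type is impossible -/

/-- A transitive subgroup of order divisible by 5 in which a point stabiliser stabilises an octad
through the point and contains its pointwise stabiliser does not exist. -/
theorem no_octad_type (K : Subgroup (Equiv.Perm GolayPt)) (hK : K ≤ M24)
    (hT : ∀ p q : GolayPt, ∃ g ∈ K, g p = q) (h5 : 5 ∣ Nat.card K) (a : GolayPt)
    (O : Finset GolayPt) (hO : O ∈ octads) (haO : a ∈ O) (hE : fixOct O ≤ K)
    (hst : pst K a ≤ stabOct O) : False := by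
  classical
  have key : ∀ p, ∃ o ∈ octads, p ∈ o ∧ fixOct o ≤ K ∧ pst K p ≤ stabOct o := by
    intro p
    obtain ⟨g, hg, rfl⟩ := hT a p
    refine ⟨g • O, smul_mem_octads g (hK hg) O hO, Finset.smul_mem_smul_finset haO, ?_, ?_⟩
    · rw [fixOct_smul g (hK hg)]
      intro x hx
      obtain ⟨k, hk, rfl⟩ := Subgroup.mem_map.1 hx
      show g * k * g⁻¹ ∈ K
      exact mul_mem (mul_mem hg (hE hk)) (inv_mem hg)
    · intro h hh
      obtain ⟨hh1, hh2⟩ := mem_pst.1 hh
      have h1 : g⁻¹ * h * g ∈ pst K a := by
        refine mem_pst.2 ⟨mul_mem (mul_mem (inv_mem hg) hh1) hg, ?_⟩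
        show g⁻¹ (h (g a)) = a
        rw [hh2, perm_inv_apply]
      have h2 := (mem_stabOct.1 (hst h1)).2
      refine mem_stabOct.2 ⟨hK hh1, ?_⟩
      have e : h • g • O = g • ((g⁻¹ * h * g) • O) := by
        rw [← mul_smul, ← mul_smul]
        congr 1
        group
      rw [e, h2]
  choose o ho hpo hEo hsto using key
  have blk : ∀ p q, q ∈ o p → o q = o p := by
    intro p q hq
    have h1 : ∀ k ∈ fixOct (o p), k • o q = o q := fun k hk =>
      (mem_stabOct.1 (hsto q (mem_pst.2 ⟨hEo p hk, (mem_fixOct.1 hk).2 q hq⟩))).2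
    have hsub : o q ⊆ o p := by
      by_contra hns
      obtain ⟨r, hr, hrp⟩ := Finset.not_subset.1 hns
      have h16 : Finset.univ \ o p ⊆ o q := by
        intro r' hr'
        obtain ⟨k, hk, hkr⟩ := fixOct_trans (ho p) hrp (Finset.mem_sdiff.1 hr').2
        rw [← hkr]
        exact (mem_iff_of_smul_eq (h1 k hk) r).2 hr
      have := Finset.card_le_card h16
      rw [card_compl_octad (ho p), (ho q).2] at this
      omega
    exact Finset.eq_of_subset_of_card_le hsub (by rw [(ho p).2, (ho q).2])
  have hp5 : Fact (Nat.Prime 5) := ⟨by norm_num⟩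
  obtain ⟨z, hz, hz5⟩ := exists_orderOf_eq K 5 h5
  have cz : (fixF z).card = 4 := card_fixF_prime (hK hz) hz5 (by norm_num)
  have h3 : ∀ p, z p = p → ((o p).filter fun b => z b = b).card = 3 := by
    intro p hp
    have hzs : z • o p = o p := (mem_stabOct.1 (hsto p (mem_pst.2 ⟨hz, hp⟩))).2
    have m := card_modEq_card_fixed z 5 1 (by rw [pow_one, ← hz5]; exact pow_orderOf_eq_one z)
      (o p) (mem_iff_of_smul_eq hzs)
    rw [(ho p).2] at m
    have hle : ((o p).filter fun b => z b = b).card ≤ 4 := by
      rw [← cz]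
      apply Finset.card_le_card
      intro b hb
      exact mem_fixF.2 (Finset.mem_filter.1 hb).2
    unfold Nat.ModEq at m
    omega
  obtain ⟨p, hp⟩ : (fixF z).Nonempty := Finset.card_pos.1 (by omega)
  have hzp := mem_fixF.1 hp
  have hlt : ((o p).filter fun b => z b = b).card < (fixF z).card := by
    rw [h3 p hzp, cz]
    norm_num
  obtain ⟨p', hp', hp'n⟩ := Finset.exists_mem_notMem_of_card_lt_card hlt
  have hzp' := mem_fixF.1 hp'
  have hp'o : p' ∉ o p := fun h => hp'n (Finset.mem_filter.2 ⟨h, hzp'⟩)
  have hdisj : Disjoint ((o p).filter fun b => z b = b) ((o p').filter fun b => z b = b) := by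
    rw [Finset.disjoint_left]
    intro r hr1 hr2
    have e1 := blk p r (Finset.mem_filter.1 hr1).1
    have e2 := blk p' r (Finset.mem_filter.1 hr2).1
    exact hp'o (by rw [← e1, e2]; exact hpo p')
  have hsub1 : ((o p).filter fun b => z b = b) ⊆ fixF z :=
    fun b hb => mem_fixF.2 (Finset.mem_filter.1 hb).2
  have hsub2 : ((o p').filter fun b => z b = b) ⊆ fixF z :=
    fun b hb => mem_fixF.2 (Finset.mem_filter.1 hb).2
  have := Finset.card_le_card (Finset.union_subset hsub1 hsub2)
  rw [Finset.card_union_of_disjoint hdisj, h3 p hzp, h3 p' hzp', cz] at this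
  omega

/-! ### Short orbits of point stabilisers -/

open Classical in
/-- The points lying in short orbits of the stabiliser of `p`. -/
noncomputable def smallSet (K : Subgroup (Equiv.Perm GolayPt)) (p : GolayPt) : Finset GolayPt :=
  Finset.univ.filter fun q => (orbFin (pst K p) q).card < 16

theorem mem_smallSet {K : Subgroup (Equiv.Perm GolayPt)} {p q : GolayPt} :
    q ∈ smallSet K p ↔ (orbFin (pst K p) q).card < 16 := by
  classical
  simp [smallSet]

theorem self_mem_smallSet (K : Subgroup (Equiv.Perm GolayPt)) (p : GolayPt) :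
    p ∈ smallSet K p := by
  rw [mem_smallSet, orbFin_pst_self, Finset.card_singleton]
  norm_num

theorem smallSet_eq_compl {K : Subgroup (Equiv.Perm GolayPt)} {p r : GolayPt}
    (hN : 16 ≤ (orbFin (pst K p) r).card) :
    smallSet K p = Finset.univ \ orbFin (pst K p) r := by
  classical
  ext q
  rw [mem_smallSet, Finset.mem_sdiff]
  constructor
  · intro hq
    refine ⟨Finset.mem_univ _, fun hmem => ?_⟩
    rw [orbFin_eq_of_mem hmem] at hq
    omega
  · rintro ⟨-, hq⟩
    have hd := orbFin_disjoint hq
    have := Finset.card_le_card (Finset.subset_univ (orbFin (pst K p) r ∪ orbFin (pst K p) q))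
    rw [Finset.card_union_of_disjoint hd, Finset.card_univ, golayPt_card] at this
    omega

theorem smallSet_invariant {K : Subgroup (Equiv.Perm GolayPt)} {p : GolayPt}
    {h : Equiv.Perm GolayPt} (hh : h ∈ pst K p) (b : GolayPt) :
    h b ∈ smallSet K p ↔ b ∈ smallSet K p := by
  rw [mem_smallSet, mem_smallSet,
    orbFin_eq_of_mem (show h b ∈ orbFin (pst K p) b from mem_orbFin.2 ⟨h, hh, rfl⟩)]

theorem smallSet_conj {K : Subgroup (Equiv.Perm GolayPt)} {g : Equiv.Perm GolayPt} (hg : g ∈ K)
    (p q : GolayPt) : g q ∈ smallSet K (g p) ↔ q ∈ smallSet K p := by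
  rw [mem_smallSet, mem_smallSet, card_orbFin_conj hg]

theorem smallSet_smul {K : Subgroup (Equiv.Perm GolayPt)} {g : Equiv.Perm GolayPt} (hg : g ∈ K)
    (p : GolayPt) : smallSet K (g p) = g • smallSet K p := by
  ext q
  rw [← Finset.inv_smul_mem_iff, ← smallSet_conj hg p (g⁻¹ • q)]
  have e : g (g⁻¹ • q) = q := perm_apply_inv g q
  rw [e]

/-- If the point stabilisers have an orbit of length `N` on the complement of a set of `c`
points with `c * c < N`, the short orbits form a system of blocks. -/
theorem smallSet_block (K : Subgroup (Equiv.Perm GolayPt)) (c N : ℕ) (hc : c * c < N)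
    (hN : 16 ≤ N) (hcN : c + N = 24)
    (h : ∀ p, ∃ r, (orbFin (pst K p) r).card = N) :
    (∀ p, (smallSet K p).card = c) ∧ ∀ p q, q ∈ smallSet K p → smallSet K q = smallSet K p := by
  classical
  have hcard : ∀ p, (smallSet K p).card = c := by
    intro p
    obtain ⟨r, hr⟩ := h p
    rw [smallSet_eq_compl (by rw [hr]; exact hN),
      Finset.card_sdiff_of_subset (Finset.subset_univ _), Finset.card_univ, golayPt_card, hr]
    omega
  refine ⟨hcard, ?_⟩
  intro p q hq
  obtain ⟨r, hr⟩ := h p
  have e1 := smallSet_eq_compl (K := K) (p := p) (r := r) (by rw [hr]; exact hN)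
  have hsub : smallSet K q ⊆ smallSet K p := by
    by_contra hns
    obtain ⟨t, ht, htp⟩ := Finset.not_subset.1 hns
    have htr : t ∈ orbFin (pst K p) r := by
      by_contra hc'
      exact htp (by rw [e1]; exact Finset.mem_sdiff.2 ⟨Finset.mem_univ _, hc'⟩)
    have hNt : (orbFin (pst K p) t).card = N := by rw [orbFin_eq_of_mem htr, hr]
    have hm1 := card_eq_orbFin_mul (pst K p) q
    have hm2 := card_eq_orbFin_mul (pst K p ⊓ MulAction.stabilizer (Equiv.Perm GolayPt) q) t
    have hm3 := card_eq_orbFin_mul (pst K p) t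
    rw [hNt] at hm3
    have ho1 : (orbFin (pst K p) q).card ≤ c := by
      rw [← hcard p]
      apply Finset.card_le_card
      intro x hx
      obtain ⟨g, hg, rfl⟩ := mem_orbFin.1 hx
      exact (smallSet_invariant hg q).2 hq
    have ho2 : (orbFin (pst K p ⊓ MulAction.stabilizer (Equiv.Perm GolayPt) q) t).card ≤ c := by
      rw [← hcard q]
      apply Finset.card_le_card
      intro x hx
      obtain ⟨g, hg, rfl⟩ := mem_orbFin.1 hx
      obtain ⟨hg1, hg2⟩ := Subgroup.mem_inf.1 hg
      have hgq : g ∈ pst K q := mem_pst.2 ⟨(mem_pst.1 hg1).1, MulAction.mem_stabilizer_iff.1 hg2⟩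
      exact (smallSet_invariant hgq t).2 ht
    have hc3 : Nat.card ↥(pst K p ⊓ MulAction.stabilizer (Equiv.Perm GolayPt) q ⊓
        MulAction.stabilizer (Equiv.Perm GolayPt) t) ≤
        Nat.card ↥(pst K p ⊓ MulAction.stabilizer (Equiv.Perm GolayPt) t) := by
      apply Subgroup.card_le_of_le
      intro g hg
      obtain ⟨hg1, hg2⟩ := Subgroup.mem_inf.1 hg
      exact Subgroup.mem_inf.2 ⟨(Subgroup.mem_inf.1 hg1).1, hg2⟩
    have hpos : 0 < Nat.card ↥(pst K p ⊓ MulAction.stabilizer (Equiv.Perm GolayPt) t) :=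
      Nat.card_pos
    have hA : (orbFin (pst K p) q).card *
        ((orbFin (pst K p ⊓ MulAction.stabilizer (Equiv.Perm GolayPt) q) t).card *
          Nat.card ↥(pst K p ⊓ MulAction.stabilizer (Equiv.Perm GolayPt) q ⊓
            MulAction.stabilizer (Equiv.Perm GolayPt) t)) ≤
        c * (c * Nat.card ↥(pst K p ⊓ MulAction.stabilizer (Equiv.Perm GolayPt) t)) :=
      Nat.mul_le_mul ho1 (Nat.mul_le_mul ho2 hc3)
    have hB : c * (c * Nat.card ↥(pst K p ⊓ MulAction.stabilizer (Equiv.Perm GolayPt) t)) <
        N * Nat.card ↥(pst K p ⊓ MulAction.stabilizer (Equiv.Perm GolayPt) t) := by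
      rw [← mul_assoc]
      exact Nat.mul_lt_mul_of_pos_right hc hpos
    rw [hm2] at hm1
    rw [hm1] at hm3
    omega
  exact Finset.eq_of_subset_of_card_le hsub (by rw [hcard p, hcard q])

/-- Point stabilisers with an orbit of length 21 are impossible in a transitive subgroup of
order divisible by 5. -/
theorem no_three_type (K : Subgroup (Equiv.Perm GolayPt)) (hK : K ≤ M24) (h5 : 5 ∣ Nat.card K)
    (h : ∀ p, ∃ r, (orbFin (pst K p) r).card = 21) : False := by
  classical
  obtain ⟨hcard, blk⟩ := smallSet_block K 3 21 (by norm_num) (by norm_num) (by norm_num) h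
  have hp5 : Fact (Nat.Prime 5) := ⟨by norm_num⟩
  obtain ⟨z, hz, hz5⟩ := exists_orderOf_eq K 5 h5
  have cz : (fixF z).card = 4 := card_fixF_prime (hK hz) hz5 (by norm_num)
  have hsubF : ∀ p, z p = p → smallSet K p ⊆ fixF z := by
    intro p hp
    have hzp : z ∈ pst K p := mem_pst.2 ⟨hz, hp⟩
    have m := card_modEq_card_fixed z 5 1 (by rw [pow_one, ← hz5]; exact pow_orderOf_eq_one z)
      (smallSet K p) (smallSet_invariant hzp)
    rw [hcard p] at m
    have hle : ((smallSet K p).filter fun b => z b = b).card ≤ 3 := by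
      rw [← hcard p]
      exact Finset.card_le_card (Finset.filter_subset _ _)
    have h3 : ((smallSet K p).filter fun b => z b = b).card = 3 := by
      unfold Nat.ModEq at m
      omega
    have heq : (smallSet K p).filter (fun b => z b = b) = smallSet K p :=
      Finset.eq_of_subset_of_card_le (Finset.filter_subset _ _) (by rw [h3, hcard p])
    intro b hb
    rw [← heq] at hb
    exact mem_fixF.2 (Finset.mem_filter.1 hb).2
  obtain ⟨p, hp⟩ : (fixF z).Nonempty := Finset.card_pos.1 (by omega)
  have hzp := mem_fixF.1 hp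
  have hlt : (smallSet K p).card < (fixF z).card := by
    rw [hcard p, cz]
    norm_num
  obtain ⟨p', hp', hp'n⟩ := Finset.exists_mem_notMem_of_card_lt_card hlt
  have hzp' := mem_fixF.1 hp'
  have hdisj : Disjoint (smallSet K p) (smallSet K p') := by
    rw [Finset.disjoint_left]
    intro r hr1 hr2
    have e1 := blk p r hr1
    have e2 := blk p' r hr2
    exact hp'n (by rw [← e1, e2]; exact self_mem_smallSet K p')
  have := Finset.card_le_card (Finset.union_subset (hsubF p hzp) (hsubF p' hzp'))
  rw [Finset.card_union_of_disjoint hdisj, hcard p, hcard p', cz] at this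
  omega

/-! ### Subgroups of order divisible by 7 -/

theorem exists_mem_octad {O : Finset GolayPt} (hO : O ∈ octads) : ∃ a, a ∈ O :=
  Finset.card_pos.1 (by rw [hO.2]; norm_num)

theorem exists_notMem_octad {O : Finset GolayPt} (hO : O ∈ octads) : ∃ p0 : GolayPt, p0 ∉ O := by
  obtain ⟨e, -, he⟩ := Finset.exists_mem_notMem_of_card_lt_card
    (show O.card < (Finset.univ : Finset GolayPt).card by
      rw [hO.2, Finset.card_univ, golayPt_card]; norm_num)
  exact ⟨e, he⟩

theorem fixOct_le_pst {K : Subgroup (Equiv.Perm GolayPt)} {O : Finset GolayPt}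
    (hE : fixOct O ≤ K) {a : GolayPt} (ha : a ∈ O) : fixOct O ≤ pst K a :=
  fun k hk => mem_pst.2 ⟨hE hk, (mem_fixOct.1 hk).2 a ha⟩

/-- A transitive subgroup containing the pointwise stabiliser of an octad, of order divisible by
5 and 168 but not by 11 or 23, does not exist. -/
theorem no_trans_seven (K : Subgroup (Equiv.Perm GolayPt)) (hK : K ≤ M24)
    (hT : ∀ p q : GolayPt, ∃ g ∈ K, g p = q) (O : Finset GolayPt) (hO : O ∈ octads)
    (hE : fixOct O ≤ K) (h168 : 168 ∣ Nat.card K) (h5 : 5 ∣ Nat.card K)
    (h11 : ¬ 11 ∣ Nat.card K) (h23 : ¬ 23 ∣ Nat.card K) : False := by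
  classical
  obtain ⟨a, ha⟩ := exists_mem_octad hO
  obtain ⟨p0, hp0⟩ := exists_notMem_octad hO
  have hm := card_pst_of_trans hT a
  have h7 : 7 ∣ Nat.card (pst K a) := by
    obtain ⟨k, hk⟩ := h168
    refine ⟨k, ?_⟩
    omega
  have hp7 : Fact (Nat.Prime 7) := ⟨by norm_num⟩
  obtain ⟨y, hy, hy7⟩ := exists_orderOf_eq (pst K a) 7 h7
  obtain ⟨hyK, hya⟩ := mem_pst.1 hy
  have cy : (fixF y).card = 3 := card_fixF_prime (hK hyK) hy7 (by norm_num)
  have hEa := fixOct_le_pst hE ha
  have hLM : pst K a ≤ M24 := inf_le_left.trans hK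
  have h16 := sixteen_le_card_orbFin hO hEa hp0
  have hane : p0 ≠ a := fun e => hp0 (by rw [e]; exact ha)
  have hanot : a ∉ orbFin (pst K a) p0 := notMem_orbFin_pst hane
  have h23' : (orbFin (pst K a) p0).card ≤ 23 := by
    have hsub : orbFin (pst K a) p0 ⊆ Finset.univ.erase a := by
      intro c hc
      refine Finset.mem_erase.2 ⟨fun e => ?_, Finset.mem_univ _⟩
      rw [e] at hc
      exact hanot hc
    have := Finset.card_le_card hsub
    rw [Finset.card_erase_of_mem (Finset.mem_univ _), Finset.card_univ, golayPt_card] at this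
    exact this
  have m7 := orbFin_card_modEq (pst K a) p0 hy hy7
  have hf2 : ((orbFin (pst K a) p0).filter fun b => y b = b).card ≤ 2 := by
    have hsub : ((orbFin (pst K a) p0).filter fun b => y b = b) ⊆ (fixF y).erase a := by
      intro b hb
      rw [Finset.mem_filter] at hb
      refine Finset.mem_erase.2 ⟨fun e => ?_, mem_fixF.2 hb.2⟩
      have hb1 := hb.1
      rw [e] at hb1
      exact hanot hb1
    have := Finset.card_le_card hsub
    rw [Finset.card_erase_of_mem (mem_fixF.2 hya), cy] at this
    exact this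
  have hdvd : (orbFin (pst K a) p0).card ∣ Nat.card K := by
    rw [hm]
    exact (card_orbFin_dvd (pst K a) p0).trans (dvd_mul_left _ _)
  unfold Nat.ModEq at m7
  have hcases : (orbFin (pst K a) p0).card = 16 ∨ (orbFin (pst K a) p0).card = 21 := by
    have h1 : (orbFin (pst K a) p0).card = 16 ∨ (orbFin (pst K a) p0).card = 21 ∨
        (orbFin (pst K a) p0).card = 22 ∨ (orbFin (pst K a) p0).card = 23 := by omega
    rcases h1 with h1 | h1 | h1 | h1
    · exact Or.inl h1
    · exact Or.inr h1
    · exfalso
      rw [h1] at hdvd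
      exact h11 ((show 11 ∣ 22 by norm_num).trans hdvd)
    · exfalso
      rw [h1] at hdvd
      exact h23 hdvd
  rcases hcases with h | h
  · exact no_octad_type K hK hT h5 a O hO ha hE
      (le_stabOct_of_card_le hLM hO hEa hp0 (by omega))
  · apply no_three_type K hK h5
    intro p
    obtain ⟨g, hg, rfl⟩ := hT a p
    exact ⟨g p0, by rw [card_orbFin_conj hg, h]⟩

/-- A subgroup containing the pointwise stabiliser of an octad, of order divisible by 5 and 168
but not by 11, 17 or 23, stabilises the octad or has order at most 120960. -/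
theorem core_seven (K : Subgroup (Equiv.Perm GolayPt)) (hK : K ≤ M24) (O : Finset GolayPt)
    (hO : O ∈ octads) (hE : fixOct O ≤ K) (h168 : 168 ∣ Nat.card K) (h5 : 5 ∣ Nat.card K)
    (h11 : ¬ 11 ∣ Nat.card K) (h17 : ¬ 17 ∣ Nat.card K) (h23 : ¬ 23 ∣ Nat.card K) :
    K ≤ stabOct O ∨ Nat.card K ≤ 120960 := by
  classical
  obtain ⟨p0, hp0⟩ := exists_notMem_octad hO
  have h7 : 7 ∣ Nat.card K := (show 7 ∣ 168 by norm_num).trans h168
  have hp7 : Fact (Nat.Prime 7) := ⟨by norm_num⟩
  obtain ⟨y, hy, hy7⟩ := exists_orderOf_eq K 7 h7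
  have cy : (fixF y).card = 3 := card_fixF_prime (hK hy) hy7 (by norm_num)
  have h16 := sixteen_le_card_orbFin hO hE hp0
  have h24 : (orbFin K p0).card ≤ 24 := by
    have := Finset.card_le_card (Finset.subset_univ (orbFin K p0))
    rw [Finset.card_univ, golayPt_card] at this
    exact this
  have m7 := orbFin_card_modEq K p0 hy hy7
  have hf3 : ((orbFin K p0).filter fun b => y b = b).card ≤ 3 := by
    rw [← cy]
    apply Finset.card_le_card
    intro b hb
    exact mem_fixF.2 (Finset.mem_filter.1 hb).2
  have hdvd := card_orbFin_dvd K p0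
  unfold Nat.ModEq at m7
  have hcases : (orbFin K p0).card = 16 ∨ (orbFin K p0).card = 21 ∨ (orbFin K p0).card = 24 := by
    have h1 : (orbFin K p0).card = 16 ∨ (orbFin K p0).card = 17 ∨ (orbFin K p0).card = 21 ∨
        (orbFin K p0).card = 22 ∨ (orbFin K p0).card = 23 ∨ (orbFin K p0).card = 24 := by omega
    rcases h1 with h1 | h1 | h1 | h1 | h1 | h1
    · exact Or.inl h1
    · exfalso
      rw [h1] at hdvd
      exact h17 hdvd
    · exact Or.inr (Or.inl h1)
    · exfalso
      rw [h1] at hdvd
      exact h11 ((show 11 ∣ 22 by norm_num).trans hdvd)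
    · exfalso
      rw [h1] at hdvd
      exact h23 hdvd
    · exact Or.inr (Or.inr h1)
  rcases hcases with h | h | h
  · left
    exact le_stabOct_of_card_le hK hO hE hp0 (by omega)
  · right
    apply card_le_of_inv3 K hK (Finset.univ \ orbFin K p0)
    · rw [Finset.card_sdiff_of_subset (Finset.subset_univ _), Finset.card_univ, golayPt_card, h]
    · intro g hg b hb
      rw [Finset.mem_sdiff] at hb ⊢
      exact ⟨Finset.mem_univ _, fun hmem => hb.2 ((orbFin_invariant p0 hg b).1 hmem)⟩
  · exfalso
    exact no_trans_seven K hK (trans_of_card_orbFin h) O hO hE h168 h5 h11 h23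

/-- Subgroups of order 322560 stabilise an octad. -/
theorem index759_stab (K : Subgroup (Equiv.Perm GolayPt)) (hK : K ≤ M24)
    (hc : Nat.card K = 322560) : ∃ o ∈ octads, ∀ g ∈ K, g • o = o := by
  obtain ⟨O, hO, hE⟩ := exists_fixOct_le K hK (by rw [hc]; norm_num)
  rcases core_seven K hK O hO hE (by rw [hc]; norm_num) (by rw [hc]; norm_num)
    (by rw [hc]; norm_num) (by rw [hc]; norm_num) (by rw [hc]; norm_num) with h | h
  · exact ⟨O, hO, fun g hg => (mem_stabOct.1 (h hg)).2⟩
  · omega

/-- There is no subgroup of order 967680. -/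
theorem index253_none (K : Subgroup (Equiv.Perm GolayPt)) (hK : K ≤ M24)
    (hc : Nat.card K = 967680) : False := by
  obtain ⟨O, hO, hE⟩ := exists_fixOct_le K hK (by rw [hc]; norm_num)
  rcases core_seven K hK O hO hE (by rw [hc]; norm_num) (by rw [hc]; norm_num)
    (by rw [hc]; norm_num) (by rw [hc]; norm_num) (by rw [hc]; norm_num) with h | h
  · have := Subgroup.card_le_of_le h
    rw [hc, card_stabOct hO] at this
    omega
  · omega

/-! ### Subgroups of order 138240 -/

/-- A transitive subgroup of order 138240 containing the pointwise stabiliser of an octad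
stabilises a sextet. -/
theorem sextet_of_trans (K : Subgroup (Equiv.Perm GolayPt)) (hK : K ≤ M24)
    (hT : ∀ p q : GolayPt, ∃ g ∈ K, g p = q) (O : Finset GolayPt) (hO : O ∈ octads)
    (hE : fixOct O ≤ K) (hc : Nat.card K = 138240) : ∃ S ∈ sextets, ∀ g ∈ K, g • S = S := by
  classical
  obtain ⟨a, ha⟩ := exists_mem_octad hO
  obtain ⟨p0, hp0⟩ := exists_notMem_octad hO
  have hm : Nat.card (pst K a) = 5760 := by
    have := card_pst_of_trans hT a
    rw [hc] at this
    omega
  have hEa := fixOct_le_pst hE ha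
  have hLM : pst K a ≤ M24 := inf_le_left.trans hK
  have h16 := sixteen_le_card_orbFin hO hEa hp0
  have hane : p0 ≠ a := fun e => hp0 (by rw [e]; exact ha)
  have hanot : a ∉ orbFin (pst K a) p0 := notMem_orbFin_pst hane
  have h23' : (orbFin (pst K a) p0).card ≤ 23 := by
    have hsub : orbFin (pst K a) p0 ⊆ Finset.univ.erase a := by
      intro c hc'
      refine Finset.mem_erase.2 ⟨fun e => ?_, Finset.mem_univ _⟩
      rw [e] at hc'
      exact hanot hc'
    have := Finset.card_le_card hsub
    rw [Finset.card_erase_of_mem (Finset.mem_univ _), Finset.card_univ, golayPt_card] at this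
    exact this
  have hdvd := card_orbFin_dvd (pst K a) p0
  rw [hm] at hdvd
  have hcases : (orbFin (pst K a) p0).card ≤ 19 ∨ (orbFin (pst K a) p0).card = 20 := by
    obtain ⟨n, hn⟩ : ∃ n, n = (orbFin (pst K a) p0).card := ⟨_, rfl⟩
    rw [← hn] at hdvd h16 h23' ⊢
    interval_cases n
    · exact Or.inl (by norm_num)
    · exact Or.inl (by norm_num)
    · exact Or.inl (by norm_num)
    · exact Or.inl (by norm_num)
    · exact Or.inr rfl
    · exfalso; norm_num at hdvd
    · exfalso; norm_num at hdvd
    · exfalso; norm_num at hdvd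
  rcases hcases with h | h
  · exfalso
    exact no_octad_type K hK hT (by rw [hc]; norm_num) a O hO ha hE
      (le_stabOct_of_card_le hLM hO hEa hp0 h)
  have h20 : ∀ p, ∃ r, (orbFin (pst K p) r).card = 20 := by
    intro p
    obtain ⟨g, hg, rfl⟩ := hT a p
    exact ⟨g p0, by rw [card_orbFin_conj hg, h]⟩
  obtain ⟨hcard4, blk⟩ := smallSet_block K 4 20 (by norm_num) (by norm_num) (by norm_num) h20
  have hdj : ∀ p q, smallSet K p ≠ smallSet K q → Disjoint (smallSet K p) (smallSet K q) := by
    intro p q hne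
    rw [Finset.disjoint_left]
    intro r h1 h2
    exact hne ((blk p r h1).symm.trans (blk q r h2))
  have hsubO : ∀ a' ∈ O, smallSet K a' ⊆ O := by
    intro a' ha' x hx
    by_contra hxO
    have hx2 : x ∈ orbFin (pst K a') p0 := compl_subset_orbFin hO (fixOct_le_pst hE ha') hp0
      (Finset.mem_sdiff.2 ⟨Finset.mem_univ _, hxO⟩)
    rw [mem_smallSet, orbFin_eq_of_mem hx2] at hx
    have := sixteen_le_card_orbFin hO (fixOct_le_pst hE ha') hp0
    omega
  obtain ⟨a', ha'O, ha'n⟩ := Finset.exists_mem_notMem_of_card_lt_card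
    (show (smallSet K a).card < O.card by rw [hcard4 a, hO.2]; norm_num)
  have hne : smallSet K a ≠ smallSet K a' := fun e =>
    ha'n (by rw [e]; exact self_mem_smallSet K a')
  have hU : smallSet K a ∪ smallSet K a' = O :=
    Finset.eq_of_subset_of_card_le (Finset.union_subset (hsubO a ha) (hsubO a' ha'O))
      (by rw [Finset.card_union_of_disjoint (hdj a a' hne), hcard4, hcard4, hO.2])
  obtain ⟨r, hr⟩ := h20 a
  have e1 := smallSet_eq_compl (K := K) (p := a) (r := r) (by rw [hr]; norm_num)
  have ha'r : a' ∈ orbFin (pst K a) r := by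
    by_contra hc'
    exact ha'n (by rw [e1]; exact Finset.mem_sdiff.2 ⟨Finset.mem_univ _, hc'⟩)
  have hS : Finset.univ.image (smallSet K) ∈ sextets := by
    refine ⟨?_, ?_, ?_⟩
    · have hbU : (Finset.univ.image (smallSet K)).biUnion id = Finset.univ := by
        ext p
        simp only [Finset.mem_biUnion, Finset.mem_univ, iff_true]
        exact ⟨smallSet K p, Finset.mem_image_of_mem _ (Finset.mem_univ p), self_mem_smallSet K p⟩
      have hcb := Finset.card_biUnion (s := Finset.univ.image (smallSet K)) (t := id) (by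
        intro x hx y hy hxy
        obtain ⟨p, -, rfl⟩ := Finset.mem_image.1 (Finset.mem_coe.1 hx)
        obtain ⟨q, -, rfl⟩ := Finset.mem_image.1 (Finset.mem_coe.1 hy)
        exact hdj p q hxy)
      rw [hbU, Finset.card_univ, golayPt_card] at hcb
      have hsum : ∑ u ∈ Finset.univ.image (smallSet K), (id u).card =
          (Finset.univ.image (smallSet K)).card * 4 := by
        rw [Finset.sum_const_nat]
        intro x hx
        obtain ⟨p, -, rfl⟩ := Finset.mem_image.1 hx
        exact hcard4 p
      omega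
    · intro t ht
      obtain ⟨p, -, rfl⟩ := Finset.mem_image.1 ht
      exact hcard4 p
    · intro t ht u hu htu
      obtain ⟨p, -, rfl⟩ := Finset.mem_image.1 ht
      obtain ⟨q, -, rfl⟩ := Finset.mem_image.1 hu
      have hqp : q ∉ smallSet K p := fun h' => htu (blk p q h').symm
      obtain ⟨g1, hg1, rfl⟩ := hT a p
      have hq1 : g1⁻¹ q ∉ smallSet K a := by
        intro h'
        apply hqp
        have := (smallSet_conj hg1 a (g1⁻¹ q)).2 h'
        rwa [perm_apply_inv] at this
      have hq1r : g1⁻¹ q ∈ orbFin (pst K a) r := by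
        by_contra hc'
        exact hq1 (by rw [e1]; exact Finset.mem_sdiff.2 ⟨Finset.mem_univ _, hc'⟩)
      rw [← orbFin_eq_of_mem ha'r] at hq1r
      obtain ⟨h', hh, hhq⟩ := mem_orbFin.1 hq1r
      obtain ⟨hhK, hha⟩ := mem_pst.1 hh
      have hgK : g1 * h' ∈ K := mul_mem hg1 hhK
      have ega : (g1 * h') a = g1 a := by
        show g1 (h' a) = g1 a
        rw [hha]
      have egq : (g1 * h') a' = q := by
        show g1 (h' a') = q
        rw [hhq, perm_apply_inv]
      have e3 : smallSet K (g1 a) ∪ smallSet K q = (g1 * h') • O := by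
        rw [← hU, Finset.smul_finset_union, ← smallSet_smul hgK, ← smallSet_smul hgK, ega, egq]
      rw [e3]
      exact smul_mem_octads _ (hK hgK) O hO
  refine ⟨_, hS, ?_⟩
  intro g hg
  apply Finset.eq_of_subset_of_card_le
  · intro x hx
    obtain ⟨t, ht, rfl⟩ := Finset.mem_smul_finset.1 hx
    obtain ⟨p, -, rfl⟩ := Finset.mem_image.1 ht
    rw [← smallSet_smul hg]
    exact Finset.mem_image_of_mem _ (Finset.mem_univ _)
  · rw [Finset.card_smul_finset]

/-- Subgroups of order 138240 stabilise a sextet. -/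
theorem index1771_stab (K : Subgroup (Equiv.Perm GolayPt)) (hK : K ≤ M24)
    (hc : Nat.card K = 138240) : ∃ S ∈ sextets, ∀ g ∈ K, g • S = S := by
  classical
  obtain ⟨O, hO, hE⟩ := exists_fixOct_le K hK (by rw [hc]; norm_num)
  obtain ⟨p0, hp0⟩ := exists_notMem_octad hO
  have h16 := sixteen_le_card_orbFin hO hE hp0
  have h24 : (orbFin K p0).card ≤ 24 := by
    have := Finset.card_le_card (Finset.subset_univ (orbFin K p0))
    rw [Finset.card_univ, golayPt_card] at this
    exact this
  have hdvd := card_orbFin_dvd K p0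
  rw [hc] at hdvd
  have hcases : (orbFin K p0).card ≤ 19 ∨ (orbFin K p0).card = 20 ∨
      (orbFin K p0).card = 24 := by
    obtain ⟨n, hn⟩ : ∃ n, n = (orbFin K p0).card := ⟨_, rfl⟩
    rw [← hn] at hdvd h16 h24 ⊢
    interval_cases n
    · exact Or.inl (by norm_num)
    · exact Or.inl (by norm_num)
    · exact Or.inl (by norm_num)
    · exact Or.inl (by norm_num)
    · exact Or.inr (Or.inl rfl)
    · exfalso; norm_num at hdvd
    · exfalso; norm_num at hdvd
    · exfalso; norm_num at hdvd
    · exact Or.inr (Or.inr rfl)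
  rcases hcases with h | h | h
  · exfalso
    have h1 := Subgroup.card_dvd_of_le (le_stabOct_of_card_le hK hO hE hp0 h)
    rw [hc, card_stabOct hO] at h1
    norm_num at h1
  · exfalso
    have h1 := card_le_of_inv4 K hK (Finset.univ \ orbFin K p0)
      (by rw [Finset.card_sdiff_of_subset (Finset.subset_univ _), Finset.card_univ, golayPt_card,
        h])
      (by
        intro g hg b hb
        rw [Finset.mem_sdiff] at hb ⊢
        exact ⟨Finset.mem_univ _, fun hmem => hb.2 ((orbFin_invariant p0 hg b).1 hmem)⟩)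
    omega
  · exact sextet_of_trans K hK (trans_of_card_orbFin h) O hO hE hc

/-! ### Subgroups of order 887040 -/

/-- Subgroups of order 887040 stabilise a pair of points. -/
theorem index276_stab (K : Subgroup (Equiv.Perm GolayPt)) (hK : K ≤ M24)
    (hc : Nat.card K = 887040) : ∃ s : Finset GolayPt, s.card = 2 ∧ ∀ g ∈ K, g • s = s := by
  classical
  have hp11 : Fact (Nat.Prime 11) := ⟨by norm_num⟩
  have hp7 : Fact (Nat.Prime 7) := ⟨by norm_num⟩
  obtain ⟨x, hx, hx11⟩ := exists_orderOf_eq K 11 (by rw [hc]; norm_num)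
  obtain ⟨y, hy, hy7⟩ := exists_orderOf_eq K 7 (by rw [hc]; norm_num)
  have cx : (fixF x).card = 2 := card_fixF_prime (hK hx) hx11 (by norm_num)
  have cy : (fixF y).card = 3 := card_fixF_prime (hK hy) hy7 (by norm_num)
  obtain ⟨a1, a2, ha12, hxa⟩ := Finset.card_eq_two.1 cx
  have hxa1 : x a1 = a1 := mem_fixF.1 (by rw [hxa]; simp)
  have hxa2 : x a2 = a2 := mem_fixF.1 (by rw [hxa]; simp)
  have hxfix : ∀ b, x b = b → b = a1 ∨ b = a2 := by
    intro b hb
    have h1 : b ∈ fixF x := mem_fixF.2 hb
    rw [hxa, Finset.mem_insert, Finset.mem_singleton] at h1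
    exact h1
  have h24 : ∀ b, (orbFin K b).card ≤ 24 := by
    intro b
    have := Finset.card_le_card (Finset.subset_univ (orbFin K b))
    rw [Finset.card_univ, golayPt_card] at this
    exact this
  have hy3 : ∀ b, ((orbFin K b).filter fun c => y c = c).card ≤ 3 := by
    intro b
    rw [← cy]
    apply Finset.card_le_card
    intro c hc'
    exact mem_fixF.2 (Finset.mem_filter.1 hc').2
  by_cases hsame : a2 ∈ orbFin K a1
  · have hfilt : ((orbFin K a1).filter fun b => x b = b) = {a1, a2} := by
      ext b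
      rw [Finset.mem_filter, Finset.mem_insert, Finset.mem_singleton]
      constructor
      · rintro ⟨-, hxb⟩
        exact hxfix b hxb
      · rintro (rfl | rfl)
        · exact ⟨self_mem_orbFin K _, hxa1⟩
        · exact ⟨hsame, hxa2⟩
    have m11 := orbFin_card_modEq K a1 hx hx11
    rw [hfilt, Finset.card_pair ha12] at m11
    have hdvd := card_orbFin_dvd K a1
    rw [hc] at hdvd
    have h24' := h24 a1
    unfold Nat.ModEq at m11
    have hcases : (orbFin K a1).card = 2 ∨ (orbFin K a1).card = 24 := by
      have h1 : (orbFin K a1).card = 2 ∨ (orbFin K a1).card = 13 ∨ (orbFin K a1).card = 24 := by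
        omega
      rcases h1 with h1 | h1 | h1
      · exact Or.inl h1
      · exfalso
        rw [h1] at hdvd
        norm_num at hdvd
      · exact Or.inr h1
    rcases hcases with h2 | h24''
    · exact ⟨orbFin K a1, h2, fun g hg => orbFin_smul a1 hg⟩
    · exfalso
      have hT := trans_of_card_orbFin h24''
      have hm : ∀ p, Nat.card (pst K p) = 36960 := by
        intro p
        have := card_pst_of_trans hT p
        rw [hc] at this
        omega
      have claim : ∀ p, ∃ p', p' ≠ p ∧ ∀ g ∈ pst K p, g p' = p' := by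
        intro p
        obtain ⟨x', hx', hx'11⟩ := exists_orderOf_eq (pst K p) 11 (by rw [hm p]; norm_num)
        obtain ⟨y', hy', hy'7⟩ := exists_orderOf_eq (pst K p) 7 (by rw [hm p]; norm_num)
        obtain ⟨hx'K, hx'p⟩ := mem_pst.1 hx'
        obtain ⟨hy'K, hy'p⟩ := mem_pst.1 hy'
        have cx' : (fixF x').card = 2 := card_fixF_prime (hK hx'K) hx'11 (by norm_num)
        have cy' : (fixF y').card = 3 := card_fixF_prime (hK hy'K) hy'7 (by norm_num)
        obtain ⟨p', hp'⟩ := Finset.card_eq_one.1 (show ((fixF x').erase p).card = 1 by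
          rw [Finset.card_erase_of_mem (mem_fixF.2 hx'p), cx'])
        have hp'mem : p' ∈ (fixF x').erase p := by
          rw [hp']
          exact Finset.mem_singleton_self _
        have hp'ne : p' ≠ p := (Finset.mem_erase.1 hp'mem).1
        have hx'p' : x' p' = p' := mem_fixF.1 (Finset.mem_erase.1 hp'mem).2
        refine ⟨p', hp'ne, ?_⟩
        have hpnot : p ∉ orbFin (pst K p) p' := notMem_orbFin_pst hp'ne
        have hfilt : ((orbFin (pst K p) p').filter fun b => x' b = b) = {p'} := by
          ext b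
          rw [Finset.mem_filter, Finset.mem_singleton]
          constructor
          · rintro ⟨hb, hxb⟩
            have hbp : b ≠ p := by
              intro e
              rw [e] at hb
              exact hpnot hb
            have hb2 : b ∈ (fixF x').erase p := Finset.mem_erase.2 ⟨hbp, mem_fixF.2 hxb⟩
            rw [hp', Finset.mem_singleton] at hb2
            exact hb2
          · rintro rfl
            exact ⟨self_mem_orbFin _ _, hx'p'⟩
        have m11' := orbFin_card_modEq (pst K p) p' hx' hx'11
        rw [hfilt, Finset.card_singleton] at m11'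
        have m7 := orbFin_card_modEq (pst K p) p' hy' hy'7
        have hf2 : ((orbFin (pst K p) p').filter fun b => y' b = b).card ≤ 2 := by
          have hsub : ((orbFin (pst K p) p').filter fun b => y' b = b) ⊆ (fixF y').erase p := by
            intro b hb
            rw [Finset.mem_filter] at hb
            refine Finset.mem_erase.2 ⟨fun e => ?_, mem_fixF.2 hb.2⟩
            have hb1 := hb.1
            rw [e] at hb1
            exact hpnot hb1
          have := Finset.card_le_card hsub
          rw [Finset.card_erase_of_mem (mem_fixF.2 hy'p), cy'] at this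
          exact this
        have hdvd' := card_orbFin_dvd (pst K p) p'
        rw [hm p] at hdvd'
        have hle : (orbFin (pst K p) p').card ≤ 23 := by
          have hsub : orbFin (pst K p) p' ⊆ Finset.univ.erase p := by
            intro c hc'
            refine Finset.mem_erase.2 ⟨fun e => ?_, Finset.mem_univ _⟩
            rw [e] at hc'
            exact hpnot hc'
          have := Finset.card_le_card hsub
          rw [Finset.card_erase_of_mem (Finset.mem_univ _), Finset.card_univ, golayPt_card]
            at this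
          exact this
        unfold Nat.ModEq at m11' m7
        have h1 : (orbFin (pst K p) p').card = 1 := by
          have h2 : (orbFin (pst K p) p').card = 1 ∨ (orbFin (pst K p) p').card = 12 ∨
              (orbFin (pst K p) p').card = 23 := by omega
          rcases h2 with h2 | h2 | h2
          · exact h2
          · exfalso
            rw [h2] at m7
            omega
          · exfalso
            rw [h2] at hdvd'
            norm_num at hdvd'
        exact fix_of_card_orbFin_one h1
      choose f hf1 hf2 using claim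
      have heq : ∀ p, pst K p = pst K (f p) := by
        intro p
        apply Subgroup.eq_of_le_of_card_ge
        · intro g hg
          exact mem_pst.2 ⟨(mem_pst.1 hg).1, hf2 p g hg⟩
        · rw [hm, hm]
      obtain ⟨c1, hc1⟩ : (fixF y).Nonempty := Finset.card_pos.1 (by omega)
      have hyc1 := mem_fixF.1 hc1
      have hyf : y (f c1) = f c1 := hf2 c1 y (mem_pst.2 ⟨hy, hyc1⟩)
      obtain ⟨c3, hc3, hc3n⟩ := Finset.exists_mem_notMem_of_card_lt_card
        (show ({c1, f c1} : Finset GolayPt).card < (fixF y).card by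
          rw [Finset.card_pair (Ne.symm (hf1 c1)), cy]; norm_num)
      have hyc3 := mem_fixF.1 hc3
      have hc3c1 : c3 ≠ c1 := fun e => hc3n (by rw [e]; simp)
      have hc3f : c3 ≠ f c1 := fun e => hc3n (by rw [e]; simp)
      have hyf3 : y (f c3) = f c3 := hf2 c3 y (mem_pst.2 ⟨hy, hyc3⟩)
      have hF : ({c1, f c1, c3} : Finset GolayPt) = fixF y := by
        apply Finset.eq_of_subset_of_card_le
        · intro b hb
          simp only [Finset.mem_insert, Finset.mem_singleton] at hb
          rcases hb with rfl | rfl | rfl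
          · exact hc1
          · exact mem_fixF.2 hyf
          · exact hc3
        · rw [cy, Finset.card_insert_of_notMem, Finset.card_pair (Ne.symm hc3f)]
          simp only [Finset.mem_insert, Finset.mem_singleton, not_or]
          exact ⟨Ne.symm (hf1 c1), Ne.symm hc3c1⟩
      have hfc3 : f c3 = c1 ∨ f c3 = f c1 := by
        have h1 : f c3 ∈ fixF y := mem_fixF.2 hyf3
        rw [← hF] at h1
        simp only [Finset.mem_insert, Finset.mem_singleton] at h1
        rcases h1 with h1 | h1 | h1
        · exact Or.inl h1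
        · exact Or.inr h1
        · exact absurd h1 (hf1 c3)
      have hst : pst K c3 = pst K c1 := by
        rcases hfc3 with h1 | h1
        · rw [heq c3, h1]
        · rw [heq c3, h1, ← heq c1]
      obtain ⟨x', hx', hx'11⟩ := exists_orderOf_eq (pst K c1) 11 (by rw [hm c1]; norm_num)
      have cx' : (fixF x').card = 2 := card_fixF_prime (hK (mem_pst.1 hx').1) hx'11 (by norm_num)
      have h1 : x' c1 = c1 := (mem_pst.1 hx').2
      have h2 : x' (f c1) = f c1 := hf2 c1 x' hx'
      have h3 : x' c3 = c3 := by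
        have h4 : x' ∈ pst K c3 := by
          rw [hst]
          exact hx'
        exact (mem_pst.1 h4).2
      have hsub : ({c1, f c1, c3} : Finset GolayPt) ⊆ fixF x' := by
        intro b hb
        simp only [Finset.mem_insert, Finset.mem_singleton] at hb
        rcases hb with rfl | rfl | rfl
        · exact mem_fixF.2 h1
        · exact mem_fixF.2 h2
        · exact mem_fixF.2 h3
      have h5 := Finset.card_le_card hsub
      rw [hF, cy, cx'] at h5
      omega
  · exfalso
    have hsame' : a1 ∉ orbFin K a2 := fun h => hsame (orbFin_symm h)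
    have key : ∀ a, x a = a → (∀ b ∈ orbFin K a, x b = b → b = a) →
        (orbFin K a).card = 1 := by
      intro a hxa' hun
      have hfilt : ((orbFin K a).filter fun b => x b = b) = {a} := by
        ext b
        rw [Finset.mem_filter, Finset.mem_singleton]
        constructor
        · rintro ⟨hb, hxb⟩
          exact hun b hb hxb
        · rintro rfl
          exact ⟨self_mem_orbFin K _, hxa'⟩
      have m11 := orbFin_card_modEq K a hx hx11
      rw [hfilt, Finset.card_singleton] at m11
      have m7 := orbFin_card_modEq K a hy hy7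
      have hdvd := card_orbFin_dvd K a
      rw [hc] at hdvd
      have h24' := h24 a
      have hy3' := hy3 a
      unfold Nat.ModEq at m11 m7
      have h2 : (orbFin K a).card = 1 ∨ (orbFin K a).card = 12 ∨ (orbFin K a).card = 23 := by
        omega
      rcases h2 with h2 | h2 | h2
      · exact h2
      · exfalso
        rw [h2] at m7
        omega
      · exfalso
        rw [h2] at hdvd
        norm_num at hdvd
    have k1 := key a1 hxa1 (by
      intro b hb hxb
      rcases hxfix b hxb with h | h
      · exact h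
      · rw [h] at hb
        exact absurd hb hsame)
    have k2 := key a2 hxa2 (by
      intro b hb hxb
      rcases hxfix b hxb with h | h
      · rw [h] at hb
        exact absurd hb hsame'
      · exact h)
    have hle : Nat.card K ≤ 443520 := by
      rw [← card_stab2 (x := a1) (a := a2) (Ne.symm ha12)]
      apply Subgroup.card_le_of_le
      intro g hg
      exact Subgroup.mem_inf.2 ⟨Subgroup.mem_inf.2 ⟨hK hg,
        MulAction.mem_stabilizer_iff.2 (fix_of_card_orbFin_one k1 g hg)⟩,
        MulAction.mem_stabilizer_iff.2 (fix_of_card_orbFin_one k2 g hg)⟩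
    omega

end Cfsg.Agent.Lib.helper33
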