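/-
First cohomology of the commutator subgroup `Ω` of an orthogonal group over the field with two
elements on its natural module: a crossed homomorphism is principal, provided the orthogonal
transvections form one generating class and a small certificate (a basis of non-singular vectors
with its dual basis, generating all non-singular vectors under "third point of a line").
Method: `Ω` is generated by the products `t_{u₀} t_u`; the value of the cocycle on such a product
with `u` not orthogonal to `u₀` lies in `⟨u₀, u⟩` (it has order 3), two such values are tied by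
the commutation of `t_u, t_v` for orthogonal `u, v`; this determines a vector `w` on a basis, and
the kernel of the normalised cocycle is closed under lines.  (owner: helper33)
-/
import Mathlib
import Cfsg.Prelude.Def_Classical
import Cfsg.Prelude.Def_SporadicB
import Cfsg.Agent.Lib.helper10.OrthTwo

set_option autoImplicit false
set_option linter.unusedSectionVars false

namespace Cfsg.Agent.Lib.helper33.OrthH1

open Cfsg Matrix
open Cfsg.Agent.Lib.helper10
open Cfsg.Agent.Lib.helper17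
open scoped commutatorElement

section Glue

variable {ι : Type} [Fintype ι] [DecidableEq ι]
variable (Q : QuadraticForm (ZMod 2) (ι → ZMod 2))

/-- The product of the transvection along `u₀` with the transvection along `u`. -/
noncomputable def sE (u₀ u : ι → ZMod 2) : isometryGroup (ZMod 2) ⇑Q := otv Q u₀ * otv Q u

/-- The subgroup generated by the products of pairs of transvections `t_{u₀} t_u`. -/
noncomputable def pairSubgroup (u₀ : ι → ZMod 2) : Subgroup (isometryGroup (ZMod 2) ⇑Q) :=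
  Subgroup.closure {s | ∃ u, Q u = 1 ∧ s = sE Q u₀ u}

variable {Q}

theorem sE_self {u₀ : ι → ZMod 2} (hu₀ : Q u₀ = 1) : sE Q u₀ u₀ = 1 := otv_mul_self Q u₀ hu₀

theorem sE_inv {u₀ u : ι → ZMod 2} (hu₀ : Q u₀ = 1) (hu : Q u = 1) :
    (sE Q u₀ u)⁻¹ = otv Q u * otv Q u₀ := by
  rw [sE, _root_.mul_inv_rev, otv_inv Q u hu, otv_inv Q u₀ hu₀]

/-- A product of two transvections lies in the pair subgroup. -/
theorem otv_mul_otv_mem {u₀ a b : ι → ZMod 2} (hu₀ : Q u₀ = 1) (ha : Q a = 1) (hb : Q b = 1) :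
    otv Q a * otv Q b ∈ pairSubgroup Q u₀ := by
  have h : otv Q a * otv Q b = (sE Q u₀ a)⁻¹ * sE Q u₀ b := by
    rw [sE_inv hu₀ ha, sE, mul_assoc, ← mul_assoc (otv Q u₀), otv_mul_self Q u₀ hu₀, one_mul]
  rw [h]
  exact Subgroup.mul_mem _ (Subgroup.inv_mem _ (Subgroup.subset_closure ⟨a, ha, rfl⟩))
    (Subgroup.subset_closure ⟨b, hb, rfl⟩)

theorem pairSubgroup_normal {u₀ : ι → ZMod 2} (hu₀ : Q u₀ = 1) : (pairSubgroup Q u₀).Normal := by
  constructor
  intro n hn g
  unfold pairSubgroup at hn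
  induction hn using Subgroup.closure_induction with
  | mem x hx =>
    obtain ⟨u, hu, rfl⟩ := hx
    have h : g * sE Q u₀ u * g⁻¹ = (g * otv Q u₀ * g⁻¹) * (g * otv Q u * g⁻¹) := by
      rw [sE]; group
    rw [h, otv_conj Q g u₀ hu₀, otv_conj Q g u hu]
    exact otv_mul_otv_mem hu₀ ((iso_apply g u₀).trans hu₀) ((iso_apply g u).trans hu)
  | one => simp
  | mul x y _ _ ihx ihy =>
    have h : g * (x * y) * g⁻¹ = (g * x * g⁻¹) * (g * y * g⁻¹) := by group
    rw [h]; exact Subgroup.mul_mem _ ihx ihy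
  | inv x _ ih =>
    have h : g * x⁻¹ * g⁻¹ = (g * x * g⁻¹)⁻¹ := by group
    rw [h]; exact Subgroup.inv_mem _ ih

variable (hnd : PolarNondeg Q)
  (hD : IsThreeTranspositionClass {g : isometryGroup (ZMod 2) ⇑Q | (imat g - 1).rank = 1})

include hnd hD

/-- Any two transvections are conjugate. -/
theorem exists_conj_otv {u v : ι → ZMod 2} (hu : Q u = 1) (hv : Q v = 1) :
    ∃ g : isometryGroup (ZMod 2) ⇑Q, g * otv Q u * g⁻¹ = otv Q v := by
  obtain ⟨d, _, hd⟩ := hD.2.1
  have h1 : IsConj d (otv Q u) := by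
    have h : otv Q u ∈ conjugatesOf d := by rw [← hd]; exact otv_rank hnd u hu
    exact h
  have h2 : IsConj d (otv Q v) := by
    have h : otv Q v ∈ conjugatesOf d := by rw [← hd]; exact otv_rank hnd v hv
    exact h
  exact isConj_iff.1 (h1.symm.trans h2)

/-- The products `t_{u₀} t_u` are commutators. -/
theorem sE_mem_commutator {u₀ u : ι → ZMod 2} (hu₀ : Q u₀ = 1) (hu : Q u = 1) :
    sE Q u₀ u ∈ commutator (isometryGroup (ZMod 2) ⇑Q) := by
  obtain ⟨g, hg⟩ := exists_conj_otv hnd hD hu₀ hu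
  have h : sE Q u₀ u = ⁅otv Q u₀, g⁆ := by
    rw [sE, ← hg, commutatorElement_def, otv_inv Q u₀ hu₀]; group
  rw [h]
  exact Subgroup.commutator_mem_commutator (Subgroup.mem_top _) (Subgroup.mem_top _)

/-- The commutator subgroup is contained in the pair subgroup. -/
theorem commutator_le_pairSubgroup {u₀ : ι → ZMod 2} (hu₀ : Q u₀ = 1) :
    commutator (isometryGroup (ZMod 2) ⇑Q) ≤ pairSubgroup Q u₀ := by
  have := pairSubgroup_normal (Q := Q) hu₀
  have hcyc : ∀ x : isometryGroup (ZMod 2) ⇑Q ⧸ pairSubgroup Q u₀,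
      x ∈ Subgroup.zpowers (QuotientGroup.mk (otv Q u₀) :
        isometryGroup (ZMod 2) ⇑Q ⧸ pairSubgroup Q u₀) := by
    intro x
    obtain ⟨g, rfl⟩ := QuotientGroup.mk_surjective x
    have hg : g ∈ Subgroup.closure
        {g : isometryGroup (ZMod 2) ⇑Q | (imat g - 1).rank = 1} := by
      rw [hD.2.2]; exact Subgroup.mem_top g
    induction hg using Subgroup.closure_induction with
    | mem y hy =>
      obtain ⟨v, hv, rfl⟩ := exists_otv_of_rank hnd hy
      have h : (QuotientGroup.mk (otv Q v) : isometryGroup (ZMod 2) ⇑Q ⧸ pairSubgroup Q u₀)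
          = QuotientGroup.mk (otv Q u₀) := by
        rw [QuotientGroup.eq, otv_inv Q v hv]
        exact otv_mul_otv_mem hu₀ hv hu₀
      rw [h]; exact Subgroup.mem_zpowers _
    | one => exact Subgroup.one_mem _
    | mul y z _ _ ihy ihz => exact Subgroup.mul_mem _ ihy ihz
    | inv y _ ih => exact Subgroup.inv_mem _ ih
  have : IsCyclic (isometryGroup (ZMod 2) ⇑Q ⧸ pairSubgroup Q u₀) :=
    ⟨⟨_, fun x => Subgroup.mem_zpowers_iff.1 (hcyc x)⟩⟩
  let _ : CommGroup (isometryGroup (ZMod 2) ⇑Q ⧸ pairSubgroup Q u₀) := IsCyclic.commGroup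
  have h := Abelianization.commutator_subset_ker (QuotientGroup.mk' (pairSubgroup Q u₀))
  rwa [QuotientGroup.ker_mk'] at h

end Glue

section Cocycle

variable {ι : Type} [Fintype ι] [DecidableEq ι]
variable {Q : QuadraticForm (ZMod 2) (ι → ZMod 2)}

theorem vec_add_self (a : ι → ZMod 2) : a + a = 0 := by
  funext i; exact zmod2_add_self _

theorem vec_eq_of_add_eq_zero {a b : ι → ZMod 2} (h : a + b = 0) : a = b := by
  have h2 : a + b + b = b := by rw [h, zero_add]
  rwa [add_assoc, vec_add_self, add_zero] at h2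

/-- The action of `t_{u₀} t_u` on a vector. -/
theorem sE_mulVec {u₀ u : ι → ZMod 2} (hu₀ : Q u₀ = 1) (hu : Q u = 1) (y : ι → ZMod 2) :
    imat (sE Q u₀ u) *ᵥ y = y + QuadraticMap.polar ⇑Q u y • u
      + (QuadraticMap.polar ⇑Q u₀ y + QuadraticMap.polar ⇑Q u y * QuadraticMap.polar ⇑Q u₀ u)
        • u₀ := by
  rw [sE, imat_mul_mulVec, otv_mulVec Q u hu, otv_mulVec Q u₀ hu₀, QuadraticMap.polar_add_right,
    QuadraticMap.polar_smul_right, smul_eq_mul]

/-- A crossed homomorphism on the subgroup `Om` (values outside `Om` are irrelevant). -/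
def IsCoc (Om : Subgroup (isometryGroup (ZMod 2) ⇑Q))
    (F : isometryGroup (ZMod 2) ⇑Q → ι → ZMod 2) : Prop :=
  ∀ g ∈ Om, ∀ h ∈ Om, F (g * h) = F g + imat g *ᵥ F h

variable {Om : Subgroup (isometryGroup (ZMod 2) ⇑Q)}
  {F : isometryGroup (ZMod 2) ⇑Q → ι → ZMod 2}

theorem coc_one (hF : IsCoc Om F) : F 1 = 0 := by
  have h := hF 1 Om.one_mem 1 Om.one_mem
  rw [mul_one, imat_one, Matrix.one_mulVec] at h
  have h2 := vec_add_self (F 1)
  rw [← h] at h2
  exact h2

theorem coc_inv (hF : IsCoc Om F) {g : isometryGroup (ZMod 2) ⇑Q} (hg : g ∈ Om) :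
    F g⁻¹ = imat g⁻¹ *ᵥ F g := by
  have h := hF g⁻¹ (Om.inv_mem hg) g hg
  rw [inv_mul_cancel, coc_one hF] at h
  exact vec_eq_of_add_eq_zero h.symm

/-- The kernel of a crossed homomorphism is closed under `a * b⁻¹ * a`. -/
theorem coc_aba (hF : IsCoc Om F) {a b : isometryGroup (ZMod 2) ⇑Q} (ha : a ∈ Om) (hb : b ∈ Om)
    (ha0 : F a = 0) (hb0 : F b = 0) : F (a * b⁻¹ * a) = 0 := by
  rw [hF _ (Om.mul_mem ha (Om.inv_mem hb)) a ha, hF a ha _ (Om.inv_mem hb), coc_inv hF hb, ha0,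
    hb0, Matrix.mulVec_zero, Matrix.mulVec_zero, Matrix.mulVec_zero, add_zero, add_zero]

/-- For `u` not orthogonal to `u₀`, the value at `t_{u₀} t_u` lies in `⟨u₀, u⟩`. -/
theorem coc_N1 (hF : IsCoc Om F) {u₀ u : ι → ZMod 2} (hS : sE Q u₀ u ∈ Om) (hu₀ : Q u₀ = 1)
    (hu : Q u = 1) (h1 : QuadraticMap.polar ⇑Q u₀ u = 1) :
    F (sE Q u₀ u) = QuadraticMap.polar ⇑Q u₀ (F (sE Q u₀ u)) • u
      + QuadraticMap.polar ⇑Q u (F (sE Q u₀ u)) • u₀ := by
  have h3 : sE Q u₀ u * (sE Q u₀ u * sE Q u₀ u) = 1 := by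
    have := otv_cube Q u₀ u hu₀ hu h1
    rwa [pow_three] at this
  have h1' : QuadraticMap.polar ⇑Q u u₀ = 1 := by rw [QuadraticMap.polar_comm, h1]
  have e := hF _ hS _ (Om.mul_mem hS hS)
  rw [h3, coc_one hF, hF _ hS _ hS] at e
  have hs : ∀ y, imat (sE Q u₀ u) *ᵥ y = y + QuadraticMap.polar ⇑Q u y • u
      + (QuadraticMap.polar ⇑Q u₀ y + QuadraticMap.polar ⇑Q u y) • u₀ := by
    intro y; rw [sE_mulVec hu₀ hu, h1, mul_one]
  generalize F (sE Q u₀ u) = x at e ⊢
  rw [hs x, hs] at e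
  simp only [QuadraticMap.polar_add_right, QuadraticMap.polar_smul_right, smul_eq_mul,
    polar_self2, h1, h1'] at e
  funext i
  have e' := congrFun e i
  simp only [Pi.add_apply, Pi.smul_apply, smul_eq_mul, Pi.zero_apply] at e' ⊢
  generalize QuadraticMap.polar ⇑Q u₀ x = a at e' ⊢
  generalize QuadraticMap.polar ⇑Q u x = c at e' ⊢
  generalize x i = xi at e' ⊢
  generalize u i = ui at e' ⊢
  generalize u₀ i = vi at e' ⊢
  revert a c xi ui vi
  decide

/-- For orthogonal `u, v`, both not orthogonal to `u₀`, the two values are tied. -/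
theorem coc_orth (hF : IsCoc Om F) {u₀ u v : ι → ZMod 2} (hSu : sE Q u₀ u ∈ Om)
    (hSv : sE Q u₀ v ∈ Om) (hu₀ : Q u₀ = 1) (hu : Q u = 1) (hv : Q v = 1)
    (h1u : QuadraticMap.polar ⇑Q u₀ u = 1) (h1v : QuadraticMap.polar ⇑Q u₀ v = 1)
    (huv : QuadraticMap.polar ⇑Q u v = 0) :
    QuadraticMap.polar ⇑Q u (F (sE Q u₀ u)) + QuadraticMap.polar ⇑Q u₀ (F (sE Q u₀ u))
      = QuadraticMap.polar ⇑Q v (F (sE Q u₀ v)) + QuadraticMap.polar ⇑Q u₀ (F (sE Q u₀ v)) := by
  by_cases hne : u = v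
  · subst hne; rfl
  have h1u' : QuadraticMap.polar ⇑Q u u₀ = 1 := by rw [QuadraticMap.polar_comm, h1u]
  have hrel : (sE Q u₀ u)⁻¹ * sE Q u₀ v = (sE Q u₀ v)⁻¹ * sE Q u₀ u := by
    rw [sE_inv hu₀ hu, sE_inv hu₀ hv, sE, sE, mul_assoc, ← mul_assoc (otv Q u₀) (otv Q u₀),
      otv_mul_self Q u₀ hu₀, one_mul, mul_assoc, ← mul_assoc (otv Q u₀) (otv Q u₀),
      otv_mul_self Q u₀ hu₀, one_mul]
    exact otv_comm Q u v hu hv huv
  have e1 := hF _ (Om.inv_mem hSu) _ hSv
  have e2 := hF _ (Om.inv_mem hSv) _ hSu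
  rw [hrel, e2, coc_inv hF hSu, coc_inv hF hSv, ← Matrix.mulVec_add, ← Matrix.mulVec_add,
    sE_inv hu₀ hu, sE_inv hu₀ hv, imat_mul_mulVec, imat_mul_mulVec, otv_mulVec Q u hu,
    otv_mulVec Q v hv, add_comm (F (sE Q u₀ v)) (F (sE Q u₀ u))] at e1
  have hN := coc_N1 hF hSv hu₀ hv h1v
  generalize F (sE Q u₀ u) = xu at e1 ⊢
  generalize F (sE Q u₀ v) = xv at e1 hN ⊢
  set z := imat (otv Q u₀) *ᵥ (xu + xv) with hz
  have e3 : QuadraticMap.polar ⇑Q v z • v = QuadraticMap.polar ⇑Q u z • u := add_left_cancel e1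
  have e4 : QuadraticMap.polar ⇑Q v z = QuadraticMap.polar ⇑Q u z := by
    have := congrArg (QuadraticMap.polar ⇑Q u₀) e3
    rwa [QuadraticMap.polar_smul_right, QuadraticMap.polar_smul_right, h1u, h1v, smul_eq_mul,
      smul_eq_mul, mul_one, mul_one] at this
  rcases zmod2_cases (QuadraticMap.polar ⇑Q u z) with h0 | h0
  · rw [hz, otv_mulVec Q u₀ hu₀, QuadraticMap.polar_add_right, QuadraticMap.polar_smul_right,
      h1u', smul_eq_mul, mul_one, QuadraticMap.polar_add_right, QuadraticMap.polar_add_right] at h0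
    have h5 : QuadraticMap.polar ⇑Q u xv = QuadraticMap.polar ⇑Q v xv := by
      conv_lhs => rw [hN]
      rw [QuadraticMap.polar_add_right, QuadraticMap.polar_smul_right,
        QuadraticMap.polar_smul_right, huv, h1u', smul_eq_mul, smul_eq_mul, mul_zero, mul_one,
        zero_add]
    rw [h5] at h0
    generalize QuadraticMap.polar ⇑Q u xu = a at h0 ⊢
    generalize QuadraticMap.polar ⇑Q v xv = b at h0 ⊢
    generalize QuadraticMap.polar ⇑Q u₀ xu = c at h0 ⊢
    generalize QuadraticMap.polar ⇑Q u₀ xv = d at h0 ⊢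
    revert a b c d
    decide
  · exfalso
    rw [e4, h0, one_smul, one_smul] at e3
    exact hne e3.symm

/-- Subtracting a principal crossed homomorphism. -/
theorem coc_sub (hF : IsCoc Om F) (w : ι → ZMod 2) :
    IsCoc Om (fun g => F g - (imat g *ᵥ w - w)) := by
  intro g hg h hh
  show F (g * h) - (imat (g * h) *ᵥ w - w) = F g - (imat g *ᵥ w - w)
    + imat g *ᵥ (F h - (imat h *ᵥ w - w))
  rw [hF g hg h hh, imat_mul_mulVec, Matrix.mulVec_sub, Matrix.mulVec_sub]
  abel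

/-- Transvection along the third point of a line. -/
theorem sE_add {u₀ u v : ι → ZMod 2} (hu₀ : Q u₀ = 1) (hu : Q u = 1) (hv : Q v = 1)
    (huv : QuadraticMap.polar ⇑Q u v = 1) :
    sE Q u₀ (u + v) = sE Q u₀ v * (sE Q u₀ u)⁻¹ * sE Q u₀ v := by
  have h1 : otv Q (u + v) = otv Q v * otv Q u * otv Q v := by
    have h := otv_conj Q (otv Q v) u hu
    rw [otv_inv Q v hv, otv_mulVec Q v hv, QuadraticMap.polar_comm, huv, one_smul] at h
    exact h.symm
  rw [sE_inv hu₀ hu, sE, sE, h1]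
  have h2 : otv Q u₀ * otv Q v * (otv Q u * otv Q u₀) * (otv Q u₀ * otv Q v)
      = otv Q u₀ * otv Q v * otv Q u * (otv Q u₀ * otv Q u₀) * otv Q v := by group
  rw [h2, otv_mul_self Q u₀ hu₀, mul_one]
  group

variable (hnd : PolarNondeg Q)
  (hD : IsThreeTranspositionClass {g : isometryGroup (ZMod 2) ⇑Q | (imat g - 1).rank = 1})

include hnd hD

/-- A crossed homomorphism on the commutator subgroup vanishing on all `t_{u₀} t_u` vanishes. -/
theorem coc_eq_zero {u₀ : ι → ZMod 2} (hu₀ : Q u₀ = 1)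
    (hF : IsCoc (commutator (isometryGroup (ZMod 2) ⇑Q)) F)
    (h0 : ∀ u, Q u = 1 → F (sE Q u₀ u) = 0) :
    ∀ g ∈ commutator (isometryGroup (ZMod 2) ⇑Q), F g = 0 := by
  have hle : pairSubgroup Q u₀ ≤ commutator (isometryGroup (ZMod 2) ⇑Q) := by
    unfold pairSubgroup
    rw [Subgroup.closure_le]
    rintro s ⟨u, hu, rfl⟩
    exact sE_mem_commutator hnd hD hu₀ hu
  intro g hg
  have hg' := commutator_le_pairSubgroup hnd hD hu₀ hg
  unfold pairSubgroup at hg'
  induction hg' using Subgroup.closure_induction with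
  | mem x hx =>
    obtain ⟨u, hu, rfl⟩ := hx
    exact h0 u hu
  | one => exact coc_one hF
  | mul x y hx hy ihx ihy =>
    rw [hF x (hle hx) y (hle hy), ihx (hle hx), ihy (hle hy), Matrix.mulVec_zero, add_zero]
  | inv x hx ih =>
    rw [coc_inv hF (hle hx), ih (hle hx), Matrix.mulVec_zero]

/-- Main theorem, for a crossed homomorphism given on the whole isometry group. -/
theorem exists_principal_aux {n : ℕ} (es ds : Fin n → ι → ZMod 2) (i0 i1 : Fin n) (h01 : i1 ≠ i0)
    (h0 : Q (es i0) = 1)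
    (h1 : ∀ i, i ≠ i0 → Q (es i) = 1 ∧ QuadraticMap.polar ⇑Q (es i0) (es i) = 1)
    (h2 : ∀ i, i ≠ i0 → QuadraticMap.polar ⇑Q (es i1) (es i) = 0)
    (h3 : ∀ i j, QuadraticMap.polar ⇑Q (es i) (ds j) = if i = j then 1 else 0)
    (h4 : ∀ M : Set (ι → ZMod 2), (∀ i, es i ∈ M) →
      (∀ u v, u ∈ M → v ∈ M → QuadraticMap.polar ⇑Q u v = 1 → u + v ∈ M) →
      ∀ u, Q u = 1 → u ∈ M)
    (hF : IsCoc (commutator (isometryGroup (ZMod 2) ⇑Q)) F) :
    ∃ w : ι → ZMod 2, ∀ g ∈ commutator (isometryGroup (ZMod 2) ⇑Q), F g = imat g *ᵥ w - w := by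
  have hS : ∀ u, Q u = 1 → sE Q (es i0) u ∈ commutator (isometryGroup (ZMod 2) ⇑Q) :=
    fun u hu => sE_mem_commutator hnd hD h0 hu
  have hQ : ∀ i, Q (es i) = 1 := by
    intro i
    by_cases hi : i = i0
    · rw [hi]; exact h0
    · exact (h1 i hi).1
  set x : Fin n → ι → ZMod 2 := fun i => F (sE Q (es i0) (es i)) with hx
  set c0 : ZMod 2 := QuadraticMap.polar ⇑Q (es i1) (x i1) + QuadraticMap.polar ⇑Q (es i0) (x i1)
    with hc0
  have hc : ∀ i, i ≠ i0 →
      QuadraticMap.polar ⇑Q (es i) (x i) + QuadraticMap.polar ⇑Q (es i0) (x i) = c0 := by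
    intro i hi
    exact (coc_orth hF (hS _ (hQ i1)) (hS _ (hQ i)) h0 (hQ i1) (hQ i) (h1 i1 h01).2 (h1 i hi).2
      (h2 i hi)).symm
  set coef : Fin n → ZMod 2 :=
    fun j => if j = i0 then c0 else QuadraticMap.polar ⇑Q (es i0) (x j) with hcoef
  set w : ι → ZMod 2 := ∑ j, coef j • ds j with hw
  have hpw : ∀ i, QuadraticMap.polar ⇑Q (es i) w = coef i := by
    intro i
    have e : QuadraticMap.polar ⇑Q (es i) w = QuadraticMap.polarBilin Q (es i) w := rfl
    rw [e, hw, map_sum]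
    simp only [map_smul, QuadraticMap.polarBilin_apply_apply, h3, smul_eq_mul, mul_ite, mul_one,
      mul_zero, Finset.sum_ite_eq, Finset.mem_univ, if_true]
  refine ⟨w, ?_⟩
  have hF' := coc_sub hF w
  have hM : ∀ u, Q u = 1 → u ∈ {u : ι → ZMod 2 |
      Q u = 1 ∧ F (sE Q (es i0) u) - (imat (sE Q (es i0) u) *ᵥ w - w) = 0} := by
    apply h4
    · intro i
      refine ⟨hQ i, ?_⟩
      by_cases hi : i = i0
      · rw [hi, sE_self h0]
        exact coc_one hF'
      · have hN := coc_N1 hF (hS _ (hQ i)) h0 (hQ i) (h1 i hi).2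
        have hci := hc i hi
        rw [sE_mulVec h0 (hQ i), hpw i, hpw i0, (h1 i hi).2, mul_one]
        have e1 : coef i = QuadraticMap.polar ⇑Q (es i0) (x i) := by rw [hcoef]; simp [hi]
        have e2 : coef i0 = c0 := by rw [hcoef]; simp
        rw [e1, e2, ← hci]
        change x i - _ = 0
        have hN' : x i = QuadraticMap.polar ⇑Q (es i0) (x i) • es i
            + QuadraticMap.polar ⇑Q (es i) (x i) • es i0 := hN
        generalize x i = xi at hN' ⊢
        funext k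
        have hk := congrFun hN' k
        simp only [Pi.add_apply, Pi.smul_apply, smul_eq_mul, Pi.sub_apply, Pi.zero_apply] at hk ⊢
        generalize QuadraticMap.polar ⇑Q (es i0) xi = a at hk ⊢
        generalize QuadraticMap.polar ⇑Q (es i) xi = b at hk ⊢
        generalize xi k = t at hk ⊢
        generalize es i k = p at hk ⊢
        generalize es i0 k = q at hk ⊢
        generalize w k = r at hk ⊢
        revert a b t p q r
        decide
    · rintro u v ⟨hu, hu0⟩ ⟨hv, hv0⟩ huv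
      have huv1 : Q (u + v) = 1 := by
        rw [Q_add2, hu, hv, huv]; decide
      refine ⟨huv1, ?_⟩
      rw [sE_add h0 hu hv huv]
      exact coc_aba hF' (hS v hv) (hS u hu) hv0 hu0
  have key : ∀ u, Q u = 1 → F (sE Q (es i0) u) - (imat (sE Q (es i0) u) *ᵥ w - w) = 0 :=
    fun u hu => (hM u hu).2
  intro g hg
  have h := coc_eq_zero hnd hD h0 hF' key g hg
  exact sub_eq_zero.1 h

/-- Main theorem: crossed homomorphisms on the commutator subgroup are principal. -/
theorem exists_principal {n : ℕ} (es ds : Fin n → ι → ZMod 2) (i0 i1 : Fin n) (h01 : i1 ≠ i0)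
    (h0 : Q (es i0) = 1)
    (h1 : ∀ i, i ≠ i0 → Q (es i) = 1 ∧ QuadraticMap.polar ⇑Q (es i0) (es i) = 1)
    (h2 : ∀ i, i ≠ i0 → QuadraticMap.polar ⇑Q (es i1) (es i) = 0)
    (h3 : ∀ i j, QuadraticMap.polar ⇑Q (es i) (ds j) = if i = j then 1 else 0)
    (h4 : ∀ M : Set (ι → ZMod 2), (∀ i, es i ∈ M) →
      (∀ u v, u ∈ M → v ∈ M → QuadraticMap.polar ⇑Q u v = 1 → u + v ∈ M) →
      ∀ u, Q u = 1 → u ∈ M)
    (f : ↥(commutator (isometryGroup (ZMod 2) ⇑Q)) → ι → ZMod 2)
    (hf : ∀ g h : ↥(commutator (isometryGroup (ZMod 2) ⇑Q)),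
      f (g * h) = f g + imat (g : isometryGroup (ZMod 2) ⇑Q) *ᵥ f h) :
    ∃ w : ι → ZMod 2, ∀ g : ↥(commutator (isometryGroup (ZMod 2) ⇑Q)),
      f g = imat (g : isometryGroup (ZMod 2) ⇑Q) *ᵥ w - w := by
  classical
  set F : isometryGroup (ZMod 2) ⇑Q → ι → ZMod 2 :=
    fun g => if h : g ∈ commutator (isometryGroup (ZMod 2) ⇑Q) then f ⟨g, h⟩ else 0 with hFdef
  have hF : IsCoc (commutator (isometryGroup (ZMod 2) ⇑Q)) F := by
    intro g hg h hh
    have hgh := Subgroup.mul_mem _ hg hh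
    simp only [hFdef, dif_pos hg, dif_pos hh, dif_pos hgh]
    exact hf ⟨g, hg⟩ ⟨h, hh⟩
  obtain ⟨w, hw⟩ := exists_principal_aux hnd hD es ds i0 i1 h01 h0 h1 h2 h3 h4 hF
  refine ⟨w, fun g => ?_⟩
  have := hw g.1 g.2
  simpa only [hFdef, dif_pos g.2] using this

end Cocycle

end Cfsg.Agent.Lib.helper33.OrthH1
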