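/-
Certificates for the vanishing of the first cohomology of `Ω⁻(4,2)`, `Ω⁻(6,2)`, `Ω⁺(8,2)` on the
natural module (see `OrthH1`): a basis of non-singular vectors, its dual basis, and a derivation
of all non-singular vectors by "third point of a line" steps.  (owner: helper33; data generated by
computer, checked by `decide`.)
-/
import Mathlib
import Cfsg.Agent.Lib.helper10.OrthTwoPlus
import Cfsg.Agent.Lib.helper33.OrthH1
import Cfsg.Agent.Lib.helper33.OrthMinusGen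

set_option autoImplicit false
set_option linter.unusedSectionVars false

namespace Cfsg.Agent.Lib.helper33.OrthH1

open Cfsg Matrix
open Cfsg.Agent.Lib.helper10
open Cfsg.Agent.Lib.helper17

/-- Line derivation: each step adds the sum of two earlier vectors with polar value one. -/
def derive {V : Type} [Add V] (β : V → V → ZMod 2) : List V → List (ℕ × ℕ) → List V
  | acc, [] => acc
  | acc, (i, j) :: rest =>
    match acc[i]?, acc[j]? with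
    | some u, some v => if β u v = 1 then derive β (acc ++ [u + v]) rest else derive β acc rest
    | _, _ => derive β acc rest

theorem derive_mem {V : Type} [Add V] (β : V → V → ZMod 2) (M : Set V)
    (hM : ∀ u v, u ∈ M → v ∈ M → β u v = 1 → u + v ∈ M) :
    ∀ (steps : List (ℕ × ℕ)) (acc : List V), (∀ x ∈ acc, x ∈ M) →
      ∀ x ∈ derive β acc steps, x ∈ M := by
  intro steps
  induction steps with
  | nil => intro acc h x hx; exact h x hx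
  | cons p rest ih =>
    obtain ⟨i, j⟩ := p
    intro acc h x hx
    unfold derive at hx
    split at hx
    · rename_i u v hu hv
      split at hx
      · rename_i huv
        refine ih (acc ++ [u + v]) ?_ x hx
        intro y hy
        rcases List.mem_append.1 hy with hy | hy
        · exact h y hy
        · rw [List.mem_singleton] at hy
          rw [hy]
          exact hM u v (h u (List.mem_of_getElem? hu)) (h v (List.mem_of_getElem? hv)) huv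
      · exact ih acc h x hx
    · exact ih acc h x hx

/-- Generation of all non-singular vectors from a derivation certificate. -/
theorem gen_of_derive {ι : Type} [Fintype ι] [DecidableEq ι] {n : ℕ}
    (q : (ι → ZMod 2) → ZMod 2) (es : Fin n → ι → ZMod 2) (steps : List (ℕ × ℕ))
    (hcov : ∀ u : ι → ZMod 2, q u = 1 → u ∈ derive (QuadraticMap.polar q) (List.ofFn es) steps)
    (M : Set (ι → ZMod 2)) (hes : ∀ i, es i ∈ M)
    (hM : ∀ u v, u ∈ M → v ∈ M → QuadraticMap.polar q u v = 1 → u + v ∈ M)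
    (u : ι → ZMod 2) (hu : q u = 1) : u ∈ M := by
  refine derive_mem (QuadraticMap.polar q) M hM steps (List.ofFn es) ?_ u (hcov u hu)
  intro x hx
  rw [List.mem_ofFn] at hx
  obtain ⟨i, rfl⟩ := hx
  exact hes i

theorem plus_nondeg (m : ℕ) : PolarNondeg (Cfsg.Agent.Lib.helper49.plusForm m (ZMod 2)) := by
  intro x hx
  obtain ⟨w, hw⟩ := exists_sympForm_ne_zero m x hx
  refine ⟨w, ?_⟩
  have e : QuadraticMap.polar ⇑(Cfsg.Agent.Lib.helper49.plusForm m (ZMod 2)) x w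
      = sympForm m (ZMod 2) x w := polar_quadFormPlus_two x w
  rw [e]
  exact hw

def es_p8 : Fin 8 → (Fin 4 ⊕ Fin 4 → ZMod 2) :=
  ![Sum.elim ![1, 1, 1, 0] ![1, 0, 0, 0],
    Sum.elim ![0, 1, 1, 1] ![0, 0, 1, 0],
    Sum.elim ![1, 1, 0, 1] ![1, 1, 0, 1],
    Sum.elim ![0, 1, 1, 1] ![1, 0, 0, 1],
    Sum.elim ![0, 0, 0, 1] ![0, 1, 0, 1],
    Sum.elim ![0, 1, 0, 1] ![0, 0, 1, 1],
    Sum.elim ![1, 0, 0, 0] ![1, 1, 0, 1],
    Sum.elim ![1, 0, 0, 0] ![1, 0, 1, 1]]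

def ds_p8 : Fin 8 → (Fin 4 ⊕ Fin 4 → ZMod 2) :=
  ![Sum.elim ![0, 1, 1, 1] ![0, 0, 1, 0],
    Sum.elim ![1, 1, 1, 1] ![1, 0, 0, 0],
    Sum.elim ![1, 0, 0, 1] ![0, 0, 1, 1],
    Sum.elim ![1, 0, 0, 0] ![1, 0, 0, 0],
    Sum.elim ![0, 1, 1, 1] ![0, 1, 1, 1],
    Sum.elim ![1, 0, 0, 1] ![0, 1, 0, 1],
    Sum.elim ![1, 0, 1, 0] ![0, 1, 0, 0],
    Sum.elim ![0, 1, 0, 0] ![1, 1, 0, 1]]

def steps_p8 : List (ℕ × ℕ) :=
  [(0, 1), (0, 2), (0, 3), (0, 4), (0, 5), (0, 6), (0, 7), (1, 9), (1, 10), (1, 11), (1, 12), (1, 13), (1, 14), (2, 4), (2, 5), (2, 7), (2, 10), (2, 13), (2, 16), (2, 19), (3, 4), (3, 5), (3, 6), (3, 7), (3, 21), (3, 22), (3, 23), (4, 5), (4, 6), (4, 7), (4, 24), (4, 25), (4, 26), (4, 27), (4, 33), (4, 34), (5, 7), (5, 13), (5, 19), (5, 24), (5, 26), (5, 30), (5, 34), (5, 36), (5, 39), (5, 41), (6, 14), (6, 20), (6, 21), (6, 31), (6, 33), (6, 34), (6, 37), (6, 38), (6,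 40), (6, 50), (7, 24), (7, 26), (7, 39), (7, 41), (0, 26), (0, 27), (0, 46), (0, 49), (0, 51), (0, 53), (0, 55), (0, 57), (0, 60), (0, 62), (0, 63), (0, 67), (1, 71), (1, 72), (1, 75), (1, 76), (1, 78), (2, 70), (2, 74), (2, 77), (2, 78), (2, 84), (3, 51), (3, 60), (3, 63), (3, 69), (3, 73), (3, 79), (4, 63), (4, 88), (4, 89), (5, 74), (5, 76), (5, 79), (5, 83), (5, 91), (6, 73), (6, 79), (6, 97), (6, 98), (6, 101), (8, 88), (8, 100), (8, 106), (8, 108), (9, 107), (10, 107), (10, 113), (11, 107), (11, 115), (12, 107), (14, 107)]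

def es_m6 : Fin 6 → ((Fin 2 ⊕ Fin 2) ⊕ Fin 2 → ZMod 2) :=
  ![Sum.elim (Sum.elim ![1, 0] ![0, 1]) ![1, 0],
    Sum.elim (Sum.elim ![1, 0] ![0, 1]) ![1, 1],
    Sum.elim (Sum.elim ![0, 0] ![0, 0]) ![1, 1],
    Sum.elim (Sum.elim ![0, 1] ![0, 0]) ![1, 0],
    Sum.elim (Sum.elim ![1, 1] ![0, 0]) ![1, 0],
    Sum.elim (Sum.elim ![0, 0] ![1, 1]) ![1, 0]]

def ds_m6 : Fin 6 → ((Fin 2 ⊕ Fin 2) ⊕ Fin 2 → ZMod 2) :=
  ![Sum.elim (Sum.elim ![1, 0] ![0, 1]) ![1, 1],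
    Sum.elim (Sum.elim ![0, 1] ![0, 1]) ![1, 1],
    Sum.elim (Sum.elim ![0, 1] ![0, 1]) ![0, 1],
    Sum.elim (Sum.elim ![1, 1] ![1, 1]) ![0, 0],
    Sum.elim (Sum.elim ![1, 1] ![1, 0]) ![0, 0],
    Sum.elim (Sum.elim ![1, 0] ![0, 0]) ![0, 0]]

def steps_m6 : List (ℕ × ℕ) :=
  [(0, 1), (0, 2), (0, 3), (0, 4), (0, 5), (1, 7), (1, 8), (1, 9), (1, 10), (2, 3), (2, 4), (2, 5), (3, 5), (3, 9), (3, 13), (3, 16), (4, 10), (4, 14), (4, 17), (0, 20), (0, 21), (0, 23), (0, 24), (1, 26), (1, 28), (3, 27), (3, 28), (3, 30), (6, 32), (9, 33)]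

def es_m4 : Fin 4 → ((Fin 1 ⊕ Fin 1) ⊕ Fin 2 → ZMod 2) :=
  ![Sum.elim (Sum.elim ![1] ![0]) ![0, 1],
    Sum.elim (Sum.elim ![1] ![0]) ![1, 0],
    Sum.elim (Sum.elim ![0] ![0]) ![1, 0],
    Sum.elim (Sum.elim ![0] ![1]) ![0, 1]]

def ds_m4 : Fin 4 → ((Fin 1 ⊕ Fin 1) ⊕ Fin 2 → ZMod 2) :=
  ![Sum.elim (Sum.elim ![1] ![0]) ![1, 0],
    Sum.elim (Sum.elim ![1] ![1]) ![1, 0],
    Sum.elim (Sum.elim ![1] ![1]) ![1, 1],
    Sum.elim (Sum.elim ![1] ![0]) ![0, 0]]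

def steps_m4 : List (ℕ × ℕ) :=
  [(0, 1), (0, 2), (0, 3), (1, 5), (1, 6), (2, 3)]



/-! ### The plus-type form in dimension 8 -/

set_option maxRecDepth 100000 in
theorem chk_p8 : quadFormPlus 4 (ZMod 2) (es_p8 0) = 1 ∧
    (∀ i : Fin 8, i ≠ 0 → quadFormPlus 4 (ZMod 2) (es_p8 i) = 1 ∧
      QuadraticMap.polar (quadFormPlus 4 (ZMod 2)) (es_p8 0) (es_p8 i) = 1) ∧
    (∀ i : Fin 8, i ≠ 0 → QuadraticMap.polar (quadFormPlus 4 (ZMod 2)) (es_p8 1) (es_p8 i) = 0) ∧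
    ∀ i j : Fin 8, QuadraticMap.polar (quadFormPlus 4 (ZMod 2)) (es_p8 i) (ds_p8 j)
      = if i = j then 1 else 0 := by decide +kernel

set_option maxRecDepth 100000 in
theorem cover_p8 : ∀ u : Fin 4 ⊕ Fin 4 → ZMod 2, quadFormPlus 4 (ZMod 2) u = 1 →
    u ∈ derive (QuadraticMap.polar (quadFormPlus 4 (ZMod 2))) (List.ofFn es_p8) steps_p8 := by
  decide +kernel

/-- Crossed homomorphisms of `Ω⁺(8,2)` on the natural module are principal. -/
theorem h1_plus8 (f : ↥(commutator (isometryGroup (ZMod 2) (quadFormPlus 4 (ZMod 2)))) →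
      (Fin 4 ⊕ Fin 4 → ZMod 2))
    (hf : ∀ g h : ↥(commutator (isometryGroup (ZMod 2) (quadFormPlus 4 (ZMod 2)))),
      f (g * h) = f g + imat (g : isometryGroup (ZMod 2) (quadFormPlus 4 (ZMod 2))) *ᵥ f h) :
    ∃ w : Fin 4 ⊕ Fin 4 → ZMod 2,
      ∀ g : ↥(commutator (isometryGroup (ZMod 2) (quadFormPlus 4 (ZMod 2)))),
        f g = imat (g : isometryGroup (ZMod 2) (quadFormPlus 4 (ZMod 2))) *ᵥ w - w :=
  exists_principal (Q := Cfsg.Agent.Lib.helper49.plusForm 4 (ZMod 2)) (plus_nondeg 4)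
    (orth_two_plus 4 (by norm_num)) es_p8 ds_p8 0 1 (by decide) chk_p8.1 chk_p8.2.1 chk_p8.2.2.1
    chk_p8.2.2.2 (gen_of_derive (quadFormPlus 4 (ZMod 2)) es_p8 steps_p8 cover_p8) f hf

/-! ### The minus-type form in dimension 6 -/

set_option maxRecDepth 100000 in
theorem chk_m6 : quadFormMinus 2 (ZMod 2) 1 1 (es_m6 0) = 1 ∧
    (∀ i : Fin 6, i ≠ 0 → quadFormMinus 2 (ZMod 2) 1 1 (es_m6 i) = 1 ∧
      QuadraticMap.polar (quadFormMinus 2 (ZMod 2) 1 1) (es_m6 0) (es_m6 i) = 1) ∧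
    (∀ i : Fin 6, i ≠ 0 →
      QuadraticMap.polar (quadFormMinus 2 (ZMod 2) 1 1) (es_m6 1) (es_m6 i) = 0) ∧
    ∀ i j : Fin 6, QuadraticMap.polar (quadFormMinus 2 (ZMod 2) 1 1) (es_m6 i) (ds_m6 j)
      = if i = j then 1 else 0 := by decide +kernel

set_option maxRecDepth 100000 in
theorem cover_m6 : ∀ u : (Fin 2 ⊕ Fin 2) ⊕ Fin 2 → ZMod 2, quadFormMinus 2 (ZMod 2) 1 1 u = 1 →
    u ∈ derive (QuadraticMap.polar (quadFormMinus 2 (ZMod 2) 1 1)) (List.ofFn es_m6) steps_m6 := by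
  decide +kernel

/-- Crossed homomorphisms of `Ω⁻(6,2)` on the natural module are principal. -/
theorem h1_minus6 (f : ↥(commutator (isometryGroup (ZMod 2) (quadFormMinus 2 (ZMod 2) 1 1))) →
      ((Fin 2 ⊕ Fin 2) ⊕ Fin 2 → ZMod 2))
    (hf : ∀ g h : ↥(commutator (isometryGroup (ZMod 2) (quadFormMinus 2 (ZMod 2) 1 1))),
      f (g * h) = f g + imat (g : isometryGroup (ZMod 2) (quadFormMinus 2 (ZMod 2) 1 1)) *ᵥ f h) :
    ∃ w : (Fin 2 ⊕ Fin 2) ⊕ Fin 2 → ZMod 2,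
      ∀ g : ↥(commutator (isometryGroup (ZMod 2) (quadFormMinus 2 (ZMod 2) 1 1))),
        f g = imat (g : isometryGroup (ZMod 2) (quadFormMinus 2 (ZMod 2) 1 1)) *ᵥ w - w :=
  exists_principal (Q := oq 2 1) (oq_nondeg 1)
    (Cfsg.Agent.Lib.helper33.OrthMinusGen.orth_two_minus_all 2) es_m6 ds_m6 0 1 (by decide)
    chk_m6.1 chk_m6.2.1 chk_m6.2.2.1 chk_m6.2.2.2
    (gen_of_derive (quadFormMinus 2 (ZMod 2) 1 1) es_m6 steps_m6 cover_m6) f hf

/-! ### The minus-type form in dimension 4 -/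

set_option maxRecDepth 100000 in
theorem chk_m4 : quadFormMinus 1 (ZMod 2) 1 1 (es_m4 0) = 1 ∧
    (∀ i : Fin 4, i ≠ 0 → quadFormMinus 1 (ZMod 2) 1 1 (es_m4 i) = 1 ∧
      QuadraticMap.polar (quadFormMinus 1 (ZMod 2) 1 1) (es_m4 0) (es_m4 i) = 1) ∧
    (∀ i : Fin 4, i ≠ 0 →
      QuadraticMap.polar (quadFormMinus 1 (ZMod 2) 1 1) (es_m4 1) (es_m4 i) = 0) ∧
    ∀ i j : Fin 4, QuadraticMap.polar (quadFormMinus 1 (ZMod 2) 1 1) (es_m4 i) (ds_m4 j)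
      = if i = j then 1 else 0 := by decide +kernel

set_option maxRecDepth 100000 in
theorem cover_m4 : ∀ u : (Fin 1 ⊕ Fin 1) ⊕ Fin 2 → ZMod 2, quadFormMinus 1 (ZMod 2) 1 1 u = 1 →
    u ∈ derive (QuadraticMap.polar (quadFormMinus 1 (ZMod 2) 1 1)) (List.ofFn es_m4) steps_m4 := by
  decide +kernel

/-- Crossed homomorphisms of `Ω⁻(4,2)` on the natural module are principal. -/
theorem h1_minus4 (f : ↥(commutator (isometryGroup (ZMod 2) (quadFormMinus 1 (ZMod 2) 1 1))) →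
      ((Fin 1 ⊕ Fin 1) ⊕ Fin 2 → ZMod 2))
    (hf : ∀ g h : ↥(commutator (isometryGroup (ZMod 2) (quadFormMinus 1 (ZMod 2) 1 1))),
      f (g * h) = f g + imat (g : isometryGroup (ZMod 2) (quadFormMinus 1 (ZMod 2) 1 1)) *ᵥ f h) :
    ∃ w : (Fin 1 ⊕ Fin 1) ⊕ Fin 2 → ZMod 2,
      ∀ g : ↥(commutator (isometryGroup (ZMod 2) (quadFormMinus 1 (ZMod 2) 1 1))),
        f g = imat (g : isometryGroup (ZMod 2) (quadFormMinus 1 (ZMod 2) 1 1)) *ᵥ w - w :=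
  exists_principal (Q := oq 1 1) (oq_nondeg 1)
    (Cfsg.Agent.Lib.helper33.OrthMinusGen.orth_two_minus_all 1) es_m4 ds_m4 0 1 (by decide)
    chk_m4.1 chk_m4.2.1 chk_m4.2.2.1 chk_m4.2.2.2
    (gen_of_derive (quadFormMinus 1 (ZMod 2) 1 1) es_m4 steps_m4 cover_m4) f hf

end Cfsg.Agent.Lib.helper33.OrthH1
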