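/-
The minus-type quadratic forms `Σ x_i y_i + (z₁² + z₁ z₂ + z₂²)` over `ZMod 2` in every dimension
`2k + 2` (including `k = 0, 1`, not covered by `helper10.orth_two_std`): the orthogonal
transvections are transitive on non-singular vectors, generate the isometry group and form a
generating conjugacy class of 3-transpositions.  (owner: helper33; adapts helper10's argument, the
auxiliary vector being singular in the hyperbolic part, which needs no second hyperbolic pair.)
-/
import Mathlib
import Cfsg.Agent.Lib.helper10.OrthTwoStab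

set_option autoImplicit false
set_option linter.unusedSectionVars false

namespace Cfsg.Agent.Lib.helper33.OrthMinusGen

open Cfsg Matrix
open Cfsg.Agent.Lib.helper10
open Cfsg.Agent.Lib.helper17

variable {k : ℕ}

/-- In the hyperbolic part there is a singular vector with prescribed pairing with a given
non-zero vector. -/
theorem exists_singular_symp (h : OH k) (hh : h ≠ 0) (e : ZMod 2) :
    ∃ x : OH k, quadFormPlus k (ZMod 2) x = 0 ∧ sympForm k (ZMod 2) x h = e := by
  obtain ⟨j, hj⟩ : ∃ j, h j ≠ 0 := by
    by_contra hcon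
    push Not at hcon
    exact hh (funext hcon)
  have hj1 : h j = 1 := (zmod2_cases _).resolve_left hj
  obtain ⟨s, hsh, hsq⟩ : ∃ s : OH k,
      sympForm k (ZMod 2) s h = 1 ∧ quadFormPlus k (ZMod 2) s = 0 := by
    rcases j with i | i
    · refine ⟨Pi.single (Sum.inr i) 1, ?_, quadFormPlus_single_two _⟩
      rw [sympForm_single_inr_left, hj1]
    · refine ⟨Pi.single (Sum.inl i) 1, ?_, quadFormPlus_single_two _⟩
      rw [sympForm_single_inl_left, hj1, zmod2_neg]
  rcases zmod2_cases e with rfl | rfl
  · exact ⟨0, quadFormPlus_zero_two, sympForm_zero_left k h⟩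
  · exact ⟨s, hsq, hsh⟩

/-- The transvection subgroup is transitive on non-singular vectors (minus type, any `k`). -/
theorem oq_transitive_minus (v : OV k) (hv : oq k 1 v = 1) :
    ∃ g ∈ otvSubgroup (oq k 1), imat g *ᵥ v = ustd k := by
  have hu := oq_ustd (k := k) 1
  by_cases hb : v (Sum.inr 1) = 1
  · have hp1 : QuadraticMap.polar ⇑(oq k 1) (ustd k) v = 1 := by rw [oq_polar_ustd, hb]
    obtain ⟨h1, h2⟩ := otv_swap (oq k 1) (ustd k) v hu hv hp1
    exact ⟨_, otv_mem_otvSubgroup _ _ h1, h2⟩
  · have hb0 : v (Sum.inr 1) = 0 := (zmod2_cases _).resolve_right hb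
    by_cases hvu : v = ustd k
    · exact ⟨1, Subgroup.one_mem _, by rw [imat_one, Matrix.one_mulVec, hvu]⟩
    · have hQv : quadFormPlus k (ZMod 2) (hp v) + v (Sum.inr 0) = 1 := by
        have := hv
        rw [oq_apply, hb0] at this
        simpa using this
      have hh : hp v ≠ 0 := by
        intro hh
        apply hvu
        rw [hh, quadFormPlus_zero_two, zero_add] at hQv
        rw [← omk_eta v, hh, hQv, hb0, ustd]
      obtain ⟨x, hxq, hxs⟩ := exists_singular_symp (hp v) hh (quadFormPlus k (ZMod 2) (hp v))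
      set z : OV k := omk x 0 1 with hz
      have hzq : oq k 1 z = 1 := by
        rw [hz, oq_omk, hxq]
        decide
      have huz : QuadraticMap.polar ⇑(oq k 1) (ustd k) z = 1 := by
        rw [oq_polar_ustd, hz, omk_inr_one]
      have hzv : QuadraticMap.polar ⇑(oq k 1) z v = 1 := by
        rw [oq_polar, hz, hp_omk, omk_inr_zero, omk_inr_one, hxs, hb0]
        simpa using hQv
      obtain ⟨h1, h2⟩ := otv_swap (oq k 1) z v hzq hv hzv
      obtain ⟨h3, h4⟩ := otv_swap (oq k 1) (ustd k) z hu hzq huz
      refine ⟨otv (oq k 1) (ustd k + z) * otv (oq k 1) (z + v),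
        Subgroup.mul_mem _ (otv_mem_otvSubgroup _ _ h3) (otv_mem_otvSubgroup _ _ h1), ?_⟩
      rw [imat_mul_mulVec, h2, h4]

/-- The orthogonal transvections generate the isometry group (minus type, any `k`). -/
theorem oq_otvSubgroup_minus_eq_top (k : ℕ) : otvSubgroup (oq k 1) = ⊤ := by
  rw [eq_top_iff]
  intro g _
  have hq : oq k 1 (imat g *ᵥ ustd k) = 1 := (iso_apply g _).trans (oq_ustd 1)
  obtain ⟨t, ht, htu⟩ := oq_transitive_minus _ hq
  have h1 : FixU (t * g) := by rw [FixU, imat_mul_mulVec, htu]
  have h2 := fixU_mem_otvSubgroup h1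
  have h3 : g = t⁻¹ * (t * g) := by rw [inv_mul_cancel_left]
  rw [h3]
  exact Subgroup.mul_mem _ (Subgroup.inv_mem _ ht) h2

/-- The rank one isometries of the minus-type form form a generating conjugacy class of
3-transpositions, in every dimension `2k + 2`. -/
theorem orth_two_minus_all (k : ℕ) :
    IsThreeTranspositionClass
      {g : isometryGroup (ZMod 2) ⇑(oq k 1) | (imat g - 1).rank = 1} := by
  apply three_transp_of_orth (oq_nondeg 1) (ustd k) (oq_ustd 1) _ (oq_otvSubgroup_minus_eq_top k)
  intro v hv
  obtain ⟨t, _, htv⟩ := oq_transitive_minus v hv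
  refine ⟨t⁻¹, ?_⟩
  rw [← htv, ← imat_mul_mulVec, inv_mul_cancel, imat_one, Matrix.one_mulVec]

end Cfsg.Agent.Lib.helper33.OrthMinusGen
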