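import Mathlib
import Cfsg.Agent.Lib.helper68.HallPet
import Cfsg.Agent.Lib.helper79.PearlX
import Cfsg.Agent.Lib.helper85.PearlGB2

/-!
S5239, NONUNIF side fact (c0) (helper33): for a non-uniform `h ∉ gam G 2`, `com h x ∉ gam G 3`.
-/

set_option autoImplicit false

namespace Cfsg.Agent.Lib.helper79.P3

open Cfsg.Agent.Lib.helper68

/-- conjugate elements have centralizers of the same order. -/
theorem h33_p3_card_centralizer_conj {G : Type*} [Group G] (a x : G) :
    Nat.card (Subgroup.centralizer ({a⁻¹ * x * a} : Set G)) =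
      Nat.card (Subgroup.centralizer ({x} : Set G)) := by
  apply Nat.card_congr
  refine ⟨fun c => ⟨a * c.1 * a⁻¹, ?_⟩, fun c => ⟨a⁻¹ * c.1 * a, ?_⟩, ?_, ?_⟩
  · have hc := c.2
    rw [Subgroup.mem_centralizer_iff] at hc ⊢
    intro y hy
    rw [Set.mem_singleton_iff] at hy
    have h1 := hc (a⁻¹ * x * a) rfl
    rw [hy]
    calc x * (a * c.1 * a⁻¹) = a * ((a⁻¹ * x * a) * c.1) * a⁻¹ := by group
      _ = a * (c.1 * (a⁻¹ * x * a)) * a⁻¹ := by rw [h1]
      _ = a * c.1 * a⁻¹ * x := by group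
  · have hc := c.2
    rw [Subgroup.mem_centralizer_iff] at hc ⊢
    intro y hy
    rw [Set.mem_singleton_iff] at hy
    have h1 := hc x rfl
    rw [hy]
    calc (a⁻¹ * x * a) * (a⁻¹ * c.1 * a) = a⁻¹ * (x * c.1) * a := by group
      _ = a⁻¹ * (c.1 * x) * a := by rw [h1]
      _ = (a⁻¹ * c.1 * a) * (a⁻¹ * x * a) := by group
  · intro c
    apply Subtype.ext
    show a⁻¹ * (a * c.1 * a⁻¹) * a = c.1
    group
  · intro c
    apply Subtype.ext
    show a * (a⁻¹ * c.1 * a) * a⁻¹ = c.1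
    group

/-- (c0). -/
theorem h33_p3_com_notMem {G : Type*} [Group G] [Finite G] (n : ℕ) (hn : 4 ≤ n)
    (hG : Nat.card G = 3 ^ n) (x : G) (hx : x ^ 3 = 1)
    (hC : Nat.card (Subgroup.centralizer ({x} : Set G)) = 3 ^ 2) (h : G) (hh : h ∉ gam G 2)
    (hCh : Nat.card (Subgroup.centralizer ({h} : Set G)) ≠ 3 ^ 2) : com h x ∉ gam G 3 := by
  have : Fact (Nat.Prime 3) := ⟨by norm_num⟩
  have hn3 : 3 ≤ n := by omega
  intro hmem
  have hmem' : com x h ∈ gam G 3 := by
    have e : com x h = (com h x)⁻¹ := by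
      unfold com
      group
    rw [e]
    exact (gam G 3).inv_mem hmem
  obtain ⟨g, hg2, hgeq⟩ := Cfsg.Agent.Lib.helper79.h79_px_onto 3 n hG x hC hn3 2 (by norm_num)
    (by omega) (com x h) hmem'
  have hk : x * (h * g⁻¹) = (h * g⁻¹) * x := by
    have e1 : g⁻¹ * x * g = h⁻¹ * x * h := by
      have h0 := congrArg (fun t => x * t) hgeq
      simp only [com] at h0
      calc g⁻¹ * x * g = x * (x⁻¹ * g⁻¹ * x * g) := by group
        _ = x * (x⁻¹ * h⁻¹ * x * h) := h0
        _ = h⁻¹ * x * h := by group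
    calc x * (h * g⁻¹) = h * (h⁻¹ * x * h) * g⁻¹ := by group
      _ = h * (g⁻¹ * x * g) * g⁻¹ := by rw [e1]
      _ = (h * g⁻¹) * x := by group
  have hxn : x ∉ gam G 2 := Cfsg.Agent.Lib.helper79.h79_px_not_mem 3 n hG x hC hn3
  have hcardN : Nat.card (gam G (n - 1)) = 3 := by
    have h0 := Cfsg.Agent.Lib.helper79.h79_px_card 3 n hG x hC hn3 (n - 1) (by omega) (by omega)
    rw [h0]
    have h1 : n - (n - 1) = 1 := by omega
    rw [h1]
    norm_num
  have hbot : gam G n = ⊥ := by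
    have h0 := Cfsg.Agent.Lib.helper79.h79_px_card 3 n hG x hC hn3 n (by omega) le_rfl
    rw [Nat.sub_self, pow_zero] at h0
    exact (Subgroup.card_eq_one).mp h0
  have hcentral : ∀ z ∈ gam G (n - 1), x * z = z * x := by
    intro z hz
    have hx1 : x ∈ gam G 1 := by
      unfold gam
      simp
    have h1 : com z x ∈ gam G (n - 1 + 1) := com_mem hz hx1
    have h2 : n - 1 + 1 = n := by omega
    rw [h2, hbot] at h1
    have h3 : com z x = 1 := Subgroup.mem_bot.mp h1
    have e : z * x = x * z * com z x := by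
      unfold com
      group
    rw [e, h3, mul_one]
  have hT : 3 * Nat.card (gam G (n - 1)) ≤
      Nat.card ({t | ∃ e : ℕ, ∃ z ∈ gam G (n - 1), t = x ^ e * z} : Set G) :=
    Cfsg.Agent.Lib.helper33.PearlG.card_coset_le 3 x hx (gam G (n - 1))
      (fun hx' => hxn (gam_antitone (by omega) hx')) _ (fun z hz e => ⟨e, z, hz, rfl⟩)
  have hTS : ({t | ∃ e : ℕ, ∃ z ∈ gam G (n - 1), t = x ^ e * z} : Set G) ⊆
      (Subgroup.centralizer ({x} : Set G) : Set G) := by
    rintro t ⟨e, z, hz, rfl⟩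
    rw [SetLike.mem_coe, Subgroup.mem_centralizer_iff]
    intro y hy
    rw [Set.mem_singleton_iff] at hy
    rw [hy]
    calc x * (x ^ e * z) = x ^ e * (x * z) := by
          rw [← mul_assoc, ← pow_succ', pow_succ, mul_assoc]
      _ = x ^ e * (z * x) := by rw [hcentral z hz]
      _ = x ^ e * z * x := by rw [mul_assoc]
  have hTeq : ({t | ∃ e : ℕ, ∃ z ∈ gam G (n - 1), t = x ^ e * z} : Set G) =
      (Subgroup.centralizer ({x} : Set G) : Set G) := by
    apply Set.eq_of_subset_of_ncard_le hTS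
    rw [← Nat.card_coe_set_eq, ← Nat.card_coe_set_eq]
    have h9 : Nat.card ((Subgroup.centralizer ({x} : Set G) : Set G)) = 9 := by
      have h0 := hC
      norm_num at h0
      exact h0
    rw [h9]
    omega
  have hkT : h * g⁻¹ ∈ ({t | ∃ e : ℕ, ∃ z ∈ gam G (n - 1), t = x ^ e * z} : Set G) := by
    rw [hTeq, SetLike.mem_coe, Subgroup.mem_centralizer_iff]
    intro y hy
    rw [Set.mem_singleton_iff] at hy
    rw [hy]
    exact hk
  obtain ⟨e, z, hz, hez⟩ := hkT
  have hm : z * g ∈ gam G 2 := (gam G 2).mul_mem (gam_antitone (by omega) hz) hg2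
  have hh' : h = x ^ e * (z * g) := by
    have e0 : h = (h * g⁻¹) * g := by group
    rw [e0, hez]
    group
  have hxe : x ^ e = x ^ (e % 3) := by
    conv_lhs => rw [← Nat.mod_add_div e 3]
    rw [pow_add, pow_mul, hx, one_pow, mul_one]
  have he3 : e % 3 < 3 := Nat.mod_lt _ (by norm_num)
  rw [hxe] at hh'
  have hcases : e % 3 = 0 ∨ e % 3 = 1 ∨ e % 3 = 2 := by omega
  rcases hcases with h0 | h1 | h2
  · apply hh
    rw [hh', h0, pow_zero, one_mul]
    exact hm
  · obtain ⟨a, ha⟩ := Cfsg.Agent.Lib.helper79.h79_px_conj 3 n hG x hC hn3 (z * g) hm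
    apply hCh
    have e0 : h = a⁻¹ * x * a := by
      rw [ha, hh', h1, pow_one]
    rw [e0, h33_p3_card_centralizer_conj]
    exact hC
  · have hm' : x⁻¹ * (z * g)⁻¹ * x ∈ gam G 2 := by
      have h0 := (gam_normal (H := G) 2).conj_mem ((z * g)⁻¹) ((gam G 2).inv_mem hm) x⁻¹
      rwa [inv_inv] at h0
    obtain ⟨a, ha⟩ := Cfsg.Agent.Lib.helper79.h79_px_conj 3 n hG x hC hn3 _ hm'
    have hx2 : (x ^ 2)⁻¹ = x := by
      rw [inv_eq_iff_eq_inv, eq_inv_iff_mul_eq_one, ← pow_succ]
      exact hx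
    have hinv : h⁻¹ = a⁻¹ * x * a := by
      rw [ha, hh', h2, mul_inv_rev, hx2]
      group
    have hcent : Subgroup.centralizer ({h} : Set G) = Subgroup.centralizer ({h⁻¹} : Set G) := by
      ext c
      simp only [Subgroup.mem_centralizer_iff, Set.mem_singleton_iff, forall_eq]
      constructor
      · intro hc
        calc h⁻¹ * c = h⁻¹ * (c * h) * h⁻¹ := by group
          _ = h⁻¹ * (h * c) * h⁻¹ := by rw [hc]
          _ = c * h⁻¹ := by group
      · intro hc
        calc h * c = h * (c * h⁻¹) * h := by group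
          _ = h * (h⁻¹ * c) * h := by rw [hc]
          _ = c * h := by group
    apply hCh
    rw [hcent, hinv, h33_p3_card_centralizer_conj]
    exact hC

end Cfsg.Agent.Lib.helper79.P3
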