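import Mathlib
import Cfsg.Agent.Lib.helper68.HallPet
import Cfsg.Agent.Lib.helper79.PearlX
import Cfsg.Agent.Lib.helper16.P3FRAT

/-!
S5239, NONUNIF side fact (c1) (helper33): every cube lies in `gam G 2` (`G / gam G 2` has order 9
and is not cyclic).
-/

set_option autoImplicit false

namespace Cfsg.Agent.Lib.helper79.P3

open Cfsg.Agent.Lib.helper68

/-- (c1). -/
theorem h33_p3_cube_mem {G : Type*} [Group G] [Finite G] (n : ℕ) (hn : 3 ≤ n)
    (hG : Nat.card G = 3 ^ n) (x : G)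
    (hC : Nat.card (Subgroup.centralizer ({x} : Set G)) = 3 ^ 2) (h : G) : h ^ 3 ∈ gam G 2 := by
  have : Fact (Nat.Prime 3) := ⟨by norm_num⟩
  by_contra hnot
  have hidx : (gam G 2).index = 3 ^ 2 :=
    Cfsg.Agent.Lib.helper79.h79_px_index 3 n hG x hC hn 2 le_rfl (by omega)
  have hcardQ : Nat.card (G ⧸ gam G 2) = 9 := by
    rw [← Subgroup.index_eq_card, hidx]
    norm_num
  have hq3 : ((h : G) : G ⧸ gam G 2) ^ 3 ≠ 1 := by
    intro h1
    apply hnot
    rw [← QuotientGroup.mk_pow] at h1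
    exact (QuotientGroup.eq_one_iff _).mp h1
  have hq9 : ((h : G) : G ⧸ gam G 2) ^ 9 = 1 := by
    have := pow_card_eq_one' (G := G ⧸ gam G 2) (x := ((h : G) : G ⧸ gam G 2))
    rwa [hcardQ] at this
  have hord : orderOf ((h : G) : G ⧸ gam G 2) = 9 := by
    have := orderOf_eq_prime_pow (p := 3) (n := 1) (x := ((h : G) : G ⧸ gam G 2))
      (by simpa using hq3) (by simpa using hq9)
    simpa using this
  have htopQ : Subgroup.zpowers ((h : G) : G ⧸ gam G 2) = ⊤ := by
    apply Subgroup.eq_top_of_card_eq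
    rw [Nat.card_zpowers, hord, hcardQ]
  have hsup : Subgroup.zpowers h ⊔ gam G 2 = ⊤ := by
    rw [eq_top_iff]
    intro g _
    have hg : ((g : G) : G ⧸ gam G 2) ∈ Subgroup.zpowers ((h : G) : G ⧸ gam G 2) := by
      rw [htopQ]
      trivial
    obtain ⟨k, hk⟩ := Subgroup.mem_zpowers_iff.mp hg
    have hmem : (h ^ k)⁻¹ * g ∈ gam G 2 := by
      rw [← QuotientGroup.eq]
      rw [QuotientGroup.mk_zpow]
      exact hk
    have e : g = h ^ k * ((h ^ k)⁻¹ * g) := by group
    rw [e]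
    exact Subgroup.mul_mem_sup (Subgroup.zpow_mem_zpowers h k) hmem
  have htop : Subgroup.zpowers h = ⊤ := h16_p3_frat n hn hG _ hsup
  have hcent : Subgroup.centralizer ({x} : Set G) = ⊤ := by
    rw [eq_top_iff]
    intro g _
    have hg : g ∈ Subgroup.zpowers h := by
      rw [htop]
      trivial
    have hxz : x ∈ Subgroup.zpowers h := by
      rw [htop]
      trivial
    obtain ⟨a, ha⟩ := Subgroup.mem_zpowers_iff.mp hg
    obtain ⟨b, hb⟩ := Subgroup.mem_zpowers_iff.mp hxz
    rw [Subgroup.mem_centralizer_iff]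
    intro y hy
    rw [Set.mem_singleton_iff] at hy
    rw [hy, ← ha, ← hb, ← zpow_add, ← zpow_add, add_comm]
  rw [hcent, Subgroup.card_top, hG] at hC
  have := Nat.pow_right_injective (le_refl 3 |> fun _ => (by norm_num : 2 ≤ 3)) hC
  omega

end Cfsg.Agent.Lib.helper79.P3
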