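import Mathlib
import Cfsg.Agent.Lib.helper68.HallPet
import Cfsg.Agent.Lib.helper65.PearlPow
import Cfsg.Agent.Lib.helper3.PGroupFrattini
import Cfsg.Agent.Lib.helper35.PearlG1
import Cfsg.Agent.Lib.helper8.PearlF3
import Cfsg.Agent.Lib.helper8.PearlF4
import Cfsg.Agent.Lib.helper37.PearlJump

/-!
S5238, block G (helper33): a finite `p`-group (`p` odd) with an element `x` of order dividing `p`
whose centralizer has order `p ^ 2` has every subgroup generated by at most `p` elements.
Assembly of the landed pieces: helper35 (maximal class, onto, uniserial), helper8 (F3, F4 via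
Hall-Petrescu and helper65's `pearl_pow`), helper37 (jump counting and Burnside basis).
-/

set_option autoImplicit false

namespace Cfsg.Agent.Lib.helper33.PearlG

open Cfsg.Agent.Lib.helper68

variable {G : Type*} [Group G] [Finite G]

/-- `gam G 2` lies in the Frattini subgroup. -/
theorem gam2_le_frattini (p : ℕ) [Fact p.Prime] (hpG : IsPGroup p G) : gam G 2 ≤ frattini G := by
  have e : gam G 2 = commutator G := by
    unfold gam
    rw [commutator_def]
    rfl
  rw [e]
  exact Cfsg.Agent.Lib.helper3.commutator_le_frattini hpG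

/-- Steps (1)-(6): the lower central series has the orders of maximal class, and F4. -/
theorem pearl_data (p : ℕ) [Fact p.Prime] (hp2 : p ≠ 2) (n : ℕ) (hG : Nat.card G = p ^ n)
    (x : G) (hx : x ^ p = 1) (hC : Nat.card (Subgroup.centralizer ({x} : Set G)) = p ^ 2) :
    (∀ i, 2 ≤ i → i ≤ n → Nat.card (gam G i) = p ^ (n - i)) ∧
    (∀ i, 2 ≤ i → i + p ≤ n → ∀ m ∈ gam G i, m ∉ gam G (i + 1) →
      m ^ p ∈ gam G (i + p - 1) ∧ m ^ p ∉ gam G (i + p)) := by
  have hcard := Cfsg.Agent.Lib.helper35.PearlG.h35_pg_card p n hG x hC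
  refine ⟨hcard, ?_⟩
  intro i hi hin m hm hm'
  have hn3 : 3 ≤ n := by
    have := (Fact.out : p.Prime).two_le
    omega
  have hbot : gam G n = ⊥ := by
    have := hcard n (by omega) le_rfl
    rw [Nat.sub_self, pow_zero] at this
    exact (Subgroup.card_eq_one).mp this
  have hconj : ∀ m ∈ gam G 2, (x * m) ^ p = 1 := fun m hm =>
    Cfsg.Agent.Lib.helper35.PearlG.h35_pg_order p n hG x hC hn3 hx m hm
  have hF3 : ∀ j, 2 ≤ j → ∀ y ∈ gam G j, y ^ p ∈ gam G (j + p - 1) := fun j hj y hy =>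
    Cfsg.Agent.Lib.helper8.h8_pearl_f3 p n hbot x hx hconj j hj y hy
  have honto : ∀ w, 1 ≤ w → ∀ m ∈ gam G (w + 1), ∃ h ∈ gam G w, com x h = m :=
    fun w hw m hm => Cfsg.Agent.Lib.helper35.PearlG.h35_pg_onto p n hG x hC hn3 w hw m hm
  have huni : ∀ i, 2 ≤ i → i + 2 ≤ n → ∀ m ∈ gam G i, m ∉ gam G (i + 1) →
      com m x ∉ gam G (i + 2) := fun i hi hin m hm hm' =>
    Cfsg.Agent.Lib.helper35.PearlG.h35_pg_uniserial p n hG x hC i hi hin m hm hm'
  exact ⟨hF3 i hi m hm,
    Cfsg.Agent.Lib.helper8.h8_pearl_f4 p hp2 n hbot x hx honto huni hF3 i hi hin m hm hm'⟩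

/-- Block G: every subgroup is generated by at most `p` elements. -/
theorem pearl_rank (p : ℕ) [Fact p.Prime] (hp2 : p ≠ 2) (n : ℕ) (hG : Nat.card G = p ^ n)
    (x : G) (hx : x ^ p = 1) (hC : Nat.card (Subgroup.centralizer ({x} : Set G)) = p ^ 2)
    (H : Subgroup G) : ∃ T : Finset G, T.card ≤ p ∧ Subgroup.closure (T : Set G) = H := by
  have hpG : IsPGroup p G := IsPGroup.of_card hG
  obtain ⟨hcard, hpow⟩ := pearl_data p hp2 n hG x hx hC
  exact Cfsg.Agent.Lib.helper37.PearlJump.jump_rank p n hG (fun i => gam G i)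
    (fun i => gam_antitone (Nat.le_succ i)) (gam_normal 2) hcard (gam2_le_frattini p hpG) hpow H

end Cfsg.Agent.Lib.helper33.PearlG
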