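/-
A maximality criterion for point stabilisers from suborbit sizes: if the stabiliser `H` of `x` is
transitive on each fibre of a "type" function on the orbit of `x`, and no proper nonempty union of
fibres containing `x` has cardinality dividing the orbit length, then `H` is a maximal subgroup.
-/
import Mathlib

set_option autoImplicit false

namespace Cfsg.Agent.Lib.helper33

open MulAction

/-- Maximality of a point stabiliser from the suborbit sizes. -/
theorem isCoatom_stabilizer_of_suborbits {G α ι : Type*} [Group G] [MulAction G α] [DecidableEq ι]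
    (x : α) (hfin : (orbit G x).Finite) (τ : α → ι) (R : Finset ι) (N : ι → ℕ)
    (hR : ∀ y ∈ orbit G x, τ y ∈ R)
    (hN : ∀ j ∈ R, {y | y ∈ orbit G x ∧ τ y = j}.ncard = N j)
    (htrans : ∀ y ∈ orbit G x, ∀ z ∈ orbit G x, τ y = τ z → ∃ h ∈ stabilizer G x, h • y = z)
    (hne : ∃ y ∈ orbit G x, y ≠ x)
    (harith : ∀ J ∈ R.powerset, τ x ∈ J → (∑ j ∈ J, N j) ∣ (orbit G x).ncard → J = {τ x} ∨ J = R) :
    IsCoatom (stabilizer G x) := by
  classical
  refine ⟨?_, ?_⟩
  · -- the stabiliser is proper
    intro htop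
    obtain ⟨y, hy, hyx⟩ := hne
    obtain ⟨g, rfl⟩ := hy
    apply hyx
    have : g ∈ stabilizer G x := by rw [htop]; exact Subgroup.mem_top g
    exact this
  · intro K hK
    have hHK : stabilizer G x ≤ K := hK.le
    -- the orbit of `x` under `K`
    set B : Set α := orbit K x with hB
    have hBsub : B ⊆ orbit G x := by
      rintro y ⟨k, rfl⟩
      exact ⟨(k : G), rfl⟩
    have hxB : x ∈ B := mem_orbit_self x
    have hBK : ∀ k ∈ K, ∀ y ∈ B, k • y ∈ B := by
      rintro k hk y ⟨k', rfl⟩
      exact ⟨⟨k, hk⟩ * k', by simp [mul_smul]⟩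
    set J : Finset ι := R.filter (fun j => ∃ y ∈ B, τ y = j) with hJ
    have hBeq : B = {y | y ∈ orbit G x ∧ τ y ∈ J} := by
      ext y
      constructor
      · intro hy
        refine ⟨hBsub hy, ?_⟩
        rw [hJ, Finset.mem_filter]
        exact ⟨hR y (hBsub hy), y, hy, rfl⟩
      · rintro ⟨hy, hτ⟩
        rw [hJ, Finset.mem_filter] at hτ
        obtain ⟨-, z, hz, hzy⟩ := hτ
        obtain ⟨h, hh, rfl⟩ := htrans z (hBsub hz) y hy hzy
        exact hBK h (hHK hh) z hz
    -- cardinality of B as a sum over fibres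
    have hBfin : B.Finite := hfin.subset hBsub
    have hcard : B.ncard = ∑ j ∈ J, N j := by
      have hJR : J ⊆ R := Finset.filter_subset _ _
      have hmaps : ∀ y ∈ hBfin.toFinset, τ y ∈ J := by
        intro y hy
        rw [Set.Finite.mem_toFinset, hBeq] at hy
        exact hy.2
      rw [Set.ncard_eq_toFinset_card B hBfin, Finset.card_eq_sum_card_fiberwise hmaps]
      refine Finset.sum_congr rfl fun j hj => ?_
      rw [← hN j (hJR hj), ← Set.ncard_coe_finset]
      congr 1
      ext y
      simp only [Finset.coe_filter, Set.Finite.mem_toFinset, Set.mem_ofPred_eq]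
      constructor
      · rintro ⟨hy, rfl⟩; exact ⟨hBsub hy, rfl⟩
      · rintro ⟨hy, rfl⟩
        refine ⟨?_, rfl⟩
        rw [hBeq]; exact ⟨hy, hj⟩
    -- the cardinality of B divides the orbit length
    have hdvd : B.ncard ∣ (orbit G x).ncard := by
      have key : (stabilizer G x).subgroupOf K = stabilizer K x := by
        ext; rfl
      have h1 : B.ncard = (stabilizer G x).relIndex K := by
        rw [Subgroup.relIndex, key, index_stabilizer]
      rw [h1, ← index_stabilizer]
      exact Subgroup.relIndex_dvd_index_of_le hHK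
    have hxJ : τ x ∈ J := by
      rw [hJ, Finset.mem_filter]
      exact ⟨hR x (mem_orbit_self x), x, hxB, rfl⟩
    have hJR : J ∈ R.powerset := Finset.mem_powerset.2 (Finset.filter_subset _ _)
    rw [hcard] at hdvd
    rcases harith J hJR hxJ hdvd with hJ1 | hJ2
    · -- B = {x}: then K ≤ H, contradiction
      exfalso
      apply hK.not_ge
      intro k hk
      have hkx : k • x ∈ B := ⟨⟨k, hk⟩, rfl⟩
      rw [hBeq] at hkx
      obtain ⟨hkx1, hkx2⟩ := hkx
      rw [hJ1, Finset.mem_singleton] at hkx2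
      obtain ⟨h, hh, hhx⟩ := htrans x (mem_orbit_self x) (k • x) hkx1 hkx2.symm
      have : h • x = x := hh
      rw [this] at hhx
      exact hhx.symm
    · -- B is the whole orbit: then K = ⊤
      rw [eq_top_iff]
      intro g _
      have hgx : g • x ∈ B := by
        rw [hBeq]
        exact ⟨⟨g, rfl⟩, by rw [hJ2]; exact hR _ ⟨g, rfl⟩⟩
      obtain ⟨k, hk⟩ := hgx
      have hk' : (k : G) • x = g • x := hk
      have hmem : (k : G)⁻¹ * g ∈ stabilizer G x := by
        rw [mem_stabilizer_iff, mul_smul, ← hk', inv_smul_smul]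
      have := K.mul_mem k.2 (hHK hmem)
      simpa using this

/-- The length of an orbit as the sum of the sizes of the fibres of a type function. -/
theorem ncard_orbit_eq_sum {G α ι : Type*} [Group G] [MulAction G α] [DecidableEq ι]
    (x : α) (hfin : (orbit G x).Finite) (τ : α → ι) (R : Finset ι) (N : ι → ℕ)
    (hR : ∀ y ∈ orbit G x, τ y ∈ R)
    (hN : ∀ j ∈ R, {y | y ∈ orbit G x ∧ τ y = j}.ncard = N j) :
    (orbit G x).ncard = ∑ j ∈ R, N j := by
  classical
  have hmaps : ∀ y ∈ hfin.toFinset, τ y ∈ R := by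
    intro y hy
    rw [Set.Finite.mem_toFinset] at hy
    exact hR y hy
  rw [Set.ncard_eq_toFinset_card _ hfin, Finset.card_eq_sum_card_fiberwise hmaps]
  refine Finset.sum_congr rfl fun j hj => ?_
  rw [← hN j hj, ← Set.ncard_coe_finset]
  congr 1
  ext y
  simp only [Finset.coe_filter, Set.Finite.mem_toFinset, Set.mem_ofPred_eq]

/-- Maximality of a point stabiliser from the list of its orbit lengths on the orbit of the point:
`Xs` are representatives of the orbits of the stabiliser, `ns` their (pairwise distinct) lengths,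
and no union of suborbits containing `x`, other than `{x}` and everything, has size dividing the
orbit length. -/
theorem isCoatom_stabilizer_of_orbit_sizes {G α : Type*} [Group G] [MulAction G α] (x : α)
    (hfin : (orbit G x).Finite) (Xs : List α) (ns : List ℕ)
    (hf : List.Forall₂ (fun X n => (orbit ↥(stabilizer G x) X).ncard = n) Xs ns)
    (hcov : ∀ T, T ∈ orbit G x ↔ ∃ X ∈ Xs, T ∈ orbit ↥(stabilizer G x) X)
    (hnd : ns.Nodup) (h2 : ∃ n ∈ ns, n ≠ 1)
    (harith : ∀ J ∈ ns.toFinset.powerset, 1 ∈ J → (∑ j ∈ J, j) ∣ (orbit G x).ncard →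
      J = {1} ∨ J = ns.toFinset) :
    IsCoatom (stabilizer G x) := by
  classical
  rw [List.forall₂_iff_get] at hf
  obtain ⟨hlen, hget⟩ := hf
  -- every element of the orbit lies in the suborbit of some listed representative
  have key : ∀ y ∈ orbit G x, ∃ (i : ℕ) (h₁ : i < Xs.length) (h₂ : i < ns.length),
      orbit ↥(stabilizer G x) y = orbit ↥(stabilizer G x) (Xs.get ⟨i, h₁⟩) ∧
      (orbit ↥(stabilizer G x) y).ncard = ns.get ⟨i, h₂⟩ := by
    intro y hy
    obtain ⟨X, hX, hyX⟩ := (hcov y).1 hy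
    obtain ⟨⟨i, h₁⟩, rfl⟩ := List.mem_iff_get.1 hX
    have h₂ : i < ns.length := hlen ▸ h₁
    have e := orbit_eq_iff.2 hyX
    exact ⟨i, h₁, h₂, e, by rw [e]; exact hget i h₁ h₂⟩
  have hidx : ∀ (i j : ℕ) (hi : i < ns.length) (hj : j < ns.length),
      ns.get ⟨i, hi⟩ = ns.get ⟨j, hj⟩ → i = j := by
    intro i j hi hj h
    have := (List.Nodup.get_inj_iff hnd).1 h
    exact congrArg Fin.val this
  have hτx : (orbit ↥(stabilizer G x) x).ncard = 1 := by
    have : orbit ↥(stabilizer G x) x = {x} := by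
      ext y
      constructor
      · rintro ⟨h, rfl⟩; exact h.2
      · rintro rfl; exact mem_orbit_self _
    rw [this, Set.ncard_singleton]
  refine isCoatom_stabilizer_of_suborbits x hfin
    (fun y => (orbit ↥(stabilizer G x) y).ncard) ns.toFinset (fun j => j) ?_ ?_ ?_ ?_ ?_
  · intro y hy
    obtain ⟨i, h₁, h₂, -, hn⟩ := key y hy
    rw [List.mem_toFinset]
    show (orbit ↥(stabilizer G x) y).ncard ∈ ns
    rw [hn]
    exact List.get_mem ns ⟨i, h₂⟩
  · intro j hj
    rw [List.mem_toFinset] at hj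
    obtain ⟨⟨i, h₂⟩, rfl⟩ := List.mem_iff_get.1 hj
    have h₁ : i < Xs.length := hlen ▸ h₂
    have : {y | y ∈ orbit G x ∧ (orbit ↥(stabilizer G x) y).ncard = ns.get ⟨i, h₂⟩} =
        orbit ↥(stabilizer G x) (Xs.get ⟨i, h₁⟩) := by
      ext y
      constructor
      · rintro ⟨hy, hn⟩
        obtain ⟨i', h₁', h₂', he, hn'⟩ := key y hy
        have hii : i' = i := hidx i' i h₂' h₂ (hn'.symm.trans hn)
        subst hii
        rw [← he]
        exact mem_orbit_self y
      · intro hy
        have hyG : y ∈ orbit G x := (hcov y).2 ⟨_, List.get_mem Xs ⟨i, h₁⟩, hy⟩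
        refine ⟨hyG, ?_⟩
        show (orbit ↥(stabilizer G x) y).ncard = _
        rw [orbit_eq_iff.2 hy]
        exact hget i h₁ h₂
    rw [this]
    exact hget i h₁ h₂
  · intro y hy z hz hyz
    obtain ⟨i, h₁, h₂, he, hn⟩ := key y hy
    obtain ⟨i', h₁', h₂', he', hn'⟩ := key z hz
    have hyz' : (orbit ↥(stabilizer G x) y).ncard = (orbit ↥(stabilizer G x) z).ncard := hyz
    have hii : i = i' := hidx i i' h₂ h₂' (by rw [← hn, ← hn', hyz'])
    subst hii
    have : z ∈ orbit ↥(stabilizer G x) y := by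
      rw [he, ← he']
      exact mem_orbit_self z
    obtain ⟨h, rfl⟩ := this
    exact ⟨h.1, h.2, rfl⟩
  · obtain ⟨n, hn, hn1⟩ := h2
    obtain ⟨⟨i, h₂⟩, rfl⟩ := List.mem_iff_get.1 hn
    have h₁ : i < Xs.length := hlen ▸ h₂
    refine ⟨Xs.get ⟨i, h₁⟩, (hcov _).2 ⟨_, List.get_mem Xs ⟨i, h₁⟩, mem_orbit_self _⟩, ?_⟩
    intro h
    apply hn1
    rw [← hget i h₁ h₂, h]
    exact hτx
  · intro J hJ hxJ hdvd
    have hxJ' : 1 ∈ J := by
      have : (orbit ↥(stabilizer G x) x).ncard ∈ J := hxJ
      rwa [hτx] at this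
    rcases harith J hJ hxJ' hdvd with h | h
    · left
      show J = {(orbit ↥(stabilizer G x) x).ncard}
      rw [hτx]; exact h
    · right; exact h

end Cfsg.Agent.Lib.helper33
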