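import Mathlib
import Cfsg.Agent.Lib.helper69.StemSylow

/-! S2113 piece TWOC (racer copy by helper33): the preimage of a self-centralising `2³` with a
fixed-point-free element of order 7 in a central extension is abelian. -/

set_option autoImplicit false

namespace Cfsg.Agent.Lib.helper33.S2113

open scoped commutatorElement
open Cfsg.Agent.Lib.helper69

theorem helper33_conj_mul {G : Type*} [Group G] (h a b : G) :
    h * (a * b) * h⁻¹ = (h * a * h⁻¹) * (h * b * h⁻¹) := by group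

theorem helper33_conj_conj {G : Type*} [Group G] (h h' a : G) :
    h * (h' * a * h'⁻¹) * h⁻¹ = (h * h') * a * (h * h')⁻¹ := by group

theorem helper33_zmod7_val_one : (1 : ZMod 7).val = 1 := by decide

theorem helper33_zmod7_one_ne_zero : (1 : ZMod 7) ≠ 0 := by decide

/-- PIECE TWOC: the preimage of such a `2³` in a central extension is abelian. -/
theorem helper33_two_comm {G Γ : Type*} [Group G] [Group Γ] (σ : Γ →* G) (hsurj : Function.Surjective σ)
    (hc : σ.ker ≤ Subgroup.center Γ) (S : Subgroup G) (hcard : Nat.card S = 8)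
    (hexp : ∀ x ∈ S, x * x = 1) (g : G) (hg : ∀ x ∈ S, g * x * g⁻¹ ∈ S) (hg7 : g ^ 7 = 1)
    (hfix : ∀ x ∈ S, g * x * g⁻¹ = x → x = 1)
    (hF : ∀ (f : ZMod 7 → Γ) (j : ZMod 7), (∀ a b, f a * f b = f b * f a) → f 0 = 1 →
      (∀ k, f k * f k = 1) → (∀ k, f (-k) = f k) → j ≠ 0 → j ≠ 1 →
      (∀ i, f (i + j) = f i * f (i + 1)) → ∀ k, f k = 1)
    (x y : Γ) (hx : σ x ∈ S) (hy : σ y ∈ S) : x * y = y * x := by
  classical
  have : Fact (Nat.Prime 7) := ⟨by norm_num⟩
  obtain ⟨ℓ, hℓ⟩ := hsurj.hasRightInverse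
  have hℓ' : ∀ a, σ (ℓ a) = a := hℓ
  have hScomm : ∀ a ∈ S, ∀ b ∈ S, a * b = b * a := by
    intro a ha b hb
    have h1 := hexp (a * b) (S.mul_mem ha hb)
    have ea : a⁻¹ = a := inv_eq_of_mul_eq_one_left (hexp a ha)
    have eb : b⁻¹ = b := inv_eq_of_mul_eq_one_left (hexp b hb)
    have eab : (a * b)⁻¹ = a * b := inv_eq_of_mul_eq_one_left h1
    calc a * b = (a * b)⁻¹ := eab.symm
      _ = b⁻¹ * a⁻¹ := mul_inv_rev a b
      _ = b * a := by rw [ea, eb]
  have hcen : ∀ a ∈ S, ∀ b ∈ S, ⁅ℓ a, ℓ b⁆ ∈ Subgroup.center Γ := by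
    intro a ha b hb
    apply commutatorElement_mem_center_of_central σ hc
    rw [hℓ', hℓ']; exact hScomm a ha b hb
  have hCr : ∀ a ∈ S, ∀ b, ∀ b' ∈ S, ⁅ℓ a, ℓ (b * b')⁆ = ⁅ℓ a, ℓ b⁆ * ⁅ℓ a, ℓ b'⁆ := by
    intro a ha b b' hb'
    rw [← stem_commutatorElement_mul_right _ _ _ (hcen a ha b' hb')]
    apply commutatorElement_congr_of_central σ hc
    · rfl
    · rw [map_mul, hℓ', hℓ', hℓ']
  have hCconj : ∀ (h : G), ∀ a ∈ S, ∀ b ∈ S,
      ⁅ℓ (h * a * h⁻¹), ℓ (h * b * h⁻¹)⁆ = ⁅ℓ a, ℓ b⁆ := by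
    intro h a ha b hb
    rw [← commutatorElement_conj_of_central (ℓ h) _ _ (hcen a ha b hb)]
    apply commutatorElement_congr_of_central σ hc
    · rw [map_mul, map_mul, map_inv, hℓ', hℓ', hℓ']
    · rw [map_mul, map_mul, map_inv, hℓ', hℓ', hℓ']
  have hCone : ∀ a, ⁅ℓ a, ℓ 1⁆ = 1 := by
    intro a
    have h1 : ℓ 1 ∈ Subgroup.center Γ := hc (by rw [MonoidHom.mem_ker, hℓ'])
    rw [commutatorElement_eq_one_iff_mul_comm]
    exact Subgroup.mem_center_iff.mp h1 (ℓ a)
  -- powers of `g` indexed by `ZMod 7`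
  have hmod : ∀ n : ℕ, g ^ (n % 7) = g ^ n := by
    intro n
    conv_rhs => rw [← Nat.mod_add_div n 7, pow_add, pow_mul, hg7, one_pow, mul_one]
  have hgp_add : ∀ a b : ZMod 7, g ^ (a + b).val = g ^ a.val * g ^ b.val := by
    intro a b
    rw [ZMod.val_add, hmod, pow_add]
  have hgp_zero : g ^ (0 : ZMod 7).val = 1 := by rw [ZMod.val_zero, pow_zero]
  have hgn : ∀ n : ℕ, ∀ x ∈ S, g ^ n * x * (g ^ n)⁻¹ ∈ S := by
    intro n
    induction n with
    | zero => intro x hx; simpa using hx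
    | succ n ih =>
      intro x hx
      have h1 := hg _ (ih x hx)
      have e : g ^ (n + 1) * x * (g ^ (n + 1))⁻¹ = g * (g ^ n * x * (g ^ n)⁻¹) * g⁻¹ := by
        rw [pow_succ', helper33_conj_conj]
      rw [e]; exact h1
  have hfixk : ∀ k : ZMod 7, k ≠ 0 → ∀ x ∈ S, g ^ k.val * x * (g ^ k.val)⁻¹ = x → x = 1 := by
    intro k hk x hx hkx
    apply hfix x hx
    have hcomm : Commute (g ^ k.val) x := mul_inv_eq_iff_eq_mul.mp hkx
    have hcomm2 : Commute (g ^ (k.val * (k⁻¹).val)) x := by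
      rw [pow_mul]; exact hcomm.pow_left _
    have e : g ^ (k.val * (k⁻¹).val) = g := by
      rw [← hmod, ← ZMod.val_mul, mul_inv_cancel₀ hk]
      rw [helper33_zmod7_val_one, pow_one]
    rw [e] at hcomm2
    exact mul_inv_eq_iff_eq_mul.mpr hcomm2
  have key : ∀ s₀ ∈ S, s₀ ≠ 1 → ∀ t ∈ S, ⁅ℓ s₀, ℓ t⁆ = 1 := by
    intro s₀ hs₀ hs₀1 t ht
    obtain ⟨s, hs⟩ : ∃ s : ZMod 7 → G, ∀ k, s k = g ^ k.val * s₀ * (g ^ k.val)⁻¹ :=
      ⟨_, fun _ => rfl⟩
    have hs0 : s 0 = s₀ := by rw [hs, hgp_zero]; group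
    have hsmem : ∀ k, s k ∈ S := fun k => by rw [hs]; exact hgn _ _ hs₀
    have hshift : ∀ a b, g ^ a.val * s b * (g ^ a.val)⁻¹ = s (a + b) := by
      intro a b
      rw [hs, hs, hgp_add, helper33_conj_conj]
    have hsne : ∀ k, s k ≠ 1 := by
      intro k hk
      apply hs₀1
      have e : s₀ = (g ^ k.val)⁻¹ * s k * g ^ k.val := by rw [hs]; group
      rw [e, hk]; group
    have hsinj : Function.Injective s := by
      intro a b hab
      by_contra hne
      have hd : a - b ≠ 0 := sub_ne_zero.mpr hne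
      have h1 := hshift (a - b) b
      rw [sub_add_cancel, hab] at h1
      exact hsne b (hfixk _ hd _ (hsmem b) h1)
    have hsurjS : ∀ t ∈ S, t ≠ 1 → ∃ k, s k = t := by
      have : Finite S := Nat.finite_of_card_ne_zero (by rw [hcard]; norm_num)
      let F : Option (ZMod 7) → S := fun o => match o with
        | none => 1
        | some k => ⟨s k, hsmem k⟩
      have hFinj : Function.Injective F := by
        intro o o' h
        cases o with
        | none =>
          cases o' with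
          | none => rfl
          | some k' =>
            exfalso
            have h' : (1 : G) = s k' := congrArg Subtype.val h
            exact hsne k' h'.symm
        | some k =>
          cases o' with
          | none =>
            exfalso
            have h' : s k = (1 : G) := congrArg Subtype.val h
            exact hsne k h'
          | some k' =>
            have h' : s k = s k' := congrArg Subtype.val h
            rw [hsinj h']
      have hFbij : Function.Bijective F :=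
        hFinj.bijective_of_nat_card_le (by rw [hcard]; simp)
      intro t ht ht1
      obtain ⟨o, ho⟩ := hFbij.2 ⟨t, ht⟩
      cases o with
      | none =>
        exfalso
        have h' : (1 : G) = t := congrArg Subtype.val ho
        exact ht1 h'.symm
      | some k =>
        have h' : s k = t := congrArg Subtype.val ho
        exact ⟨k, h'⟩
    have h01 : s 0 * s 1 ∈ S := S.mul_mem (hsmem 0) (hsmem 1)
    have h01ne : s 0 * s 1 ≠ 1 := by
      intro h
      have e0 : (s 0)⁻¹ = s 0 := inv_eq_of_mul_eq_one_left (hexp _ (hsmem 0))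
      have e1 : s 1 = s 0 := by rw [← e0]; exact eq_inv_of_mul_eq_one_right h
      have e2 : (1 : ZMod 7) = 0 := hsinj e1
      exact helper33_zmod7_one_ne_zero e2
    obtain ⟨j, hj⟩ := hsurjS _ h01 h01ne
    have hj0 : j ≠ 0 := by
      rintro rfl
      apply hsne 1
      have e : s 0 * s 1 = s 0 := hj.symm
      exact mul_eq_left.mp e
    have hj1 : j ≠ 1 := by
      rintro rfl
      apply hsne 0
      have e : s 0 * s 1 = s 1 := hj.symm
      exact mul_eq_right.mp e
    have hsq : ∀ k, ⁅ℓ s₀, ℓ (s k)⁆ * ⁅ℓ s₀, ℓ (s k)⁆ = 1 := by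
      intro k
      rw [← hCr s₀ hs₀ _ _ (hsmem k), hexp _ (hsmem k)]
      exact hCone _
    have hfk : ∀ k, ⁅ℓ s₀, ℓ (s k)⁆ = 1 := by
      refine hF (fun k => ⁅ℓ s₀, ℓ (s k)⁆) j ?_ ?_ hsq ?_ hj0 hj1 ?_
      · intro a b
        exact Subgroup.mem_center_iff.mp (hcen _ hs₀ _ (hsmem b)) _
      · show ⁅ℓ s₀, ℓ (s 0)⁆ = 1
        rw [hs0]; exact commutatorElement_self _
      · intro k
        show ⁅ℓ s₀, ℓ (s (-k))⁆ = ⁅ℓ s₀, ℓ (s k)⁆
        have e1 := hCconj (g ^ k.val) s₀ hs₀ (s (-k)) (hsmem _)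
        rw [hshift, add_neg_cancel, hs0, ← hs] at e1
        rw [← e1]
        have hinv : ⁅ℓ s₀, ℓ (s k)⁆⁻¹ = ⁅ℓ s₀, ℓ (s k)⁆ := inv_eq_of_mul_eq_one_left (hsq k)
        rw [← hinv, commutatorElement_inv]
      · intro i
        show ⁅ℓ s₀, ℓ (s (i + j))⁆ = ⁅ℓ s₀, ℓ (s i)⁆ * ⁅ℓ s₀, ℓ (s (i + 1))⁆
        rw [← hCr s₀ hs₀ _ _ (hsmem _)]
        have e : s (i + j) = s i * s (i + 1) := by
          calc s (i + j) = g ^ i.val * s j * (g ^ i.val)⁻¹ := (hshift i j).symm
            _ = g ^ i.val * (s 0 * s 1) * (g ^ i.val)⁻¹ := by rw [hj]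
            _ = (g ^ i.val * s 0 * (g ^ i.val)⁻¹) * (g ^ i.val * s 1 * (g ^ i.val)⁻¹) :=
                helper33_conj_mul _ _ _
            _ = s (i + 0) * s (i + 1) := by rw [hshift, hshift]
            _ = s i * s (i + 1) := by rw [add_zero]
        rw [e]
    by_cases ht1 : t = 1
    · rw [ht1]; exact hCone _
    · obtain ⟨k, hk⟩ := hsurjS t ht ht1
      rw [← hk]; exact hfk k
  rw [← commutatorElement_eq_one_iff_mul_comm]
  rw [commutatorElement_congr_of_central σ hc x (ℓ (σ x)) y (ℓ (σ y)) (by rw [hℓ']) (by rw [hℓ'])]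
  by_cases hx1 : σ x = 1
  · rw [hx1, ← commutatorElement_inv, hCone, inv_one]
  · exact key _ hx hx1 _ hy

end Cfsg.Agent.Lib.helper33.S2113
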