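import Cfsg.Agent.Lib.helper48.LBRefl
import Cfsg.Agent.Lib.helper50.PSUTransfer
import Cfsg.Agent.Lib.helper50.PSUF4
import Cfsg.Agent.Lib.helper48.PSUOut
import Cfsg.Agent.S0283

/-!
# S2687 piece FC-32, sub-lemma (a)

In `PSU_3(F)` over a field of characteristic 2 containing a primitive cube root of unity `ω`:
an element `k` with `k ^ 8 = 1` commuting with the image of `y`, where the matrix of `y` is one of
`d = diag(1, ω, ω²)`, `c` (3-cycle permutation matrix), `d c`, `d² c`, is trivial.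
-/

set_option autoImplicit false
namespace Cfsg.Agent.Lib.helper33.S2687
open Matrix Cfsg
open Cfsg.Agent.Lib.helper50
open Cfsg.Agent.Lib.helper48.LB
open Cfsg.Agent.Lib.helper48.AbsBal (fixG)
open Cfsg.Agent.Lib.helper99 (suMat)
universe u v

section MatCore
variable {F : Type u} [Field F]

/-- `diag(1, ω, ω²)` -/
def dgm (ω : F) : Matrix (Fin 3) (Fin 3) F := Matrix.diagonal ![1, ω, ω ^ 2]

theorem pow8_inj (h2 : (2 : F) = 0) {x y : F} (h : x ^ 8 = y ^ 8) : x = y := by
  have hsq : ∀ a b : F, a ^ 2 = b ^ 2 → a = b := by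
    intro a b hab
    have h1 : (a - b) ^ 2 = 0 := by
      have h3 : (a - b) ^ 2 = a ^ 2 - b ^ 2 - 2 * (b * (a - b)) := by ring
      rw [h3, hab, h2]; ring
    exact sub_eq_zero.mp ((pow_eq_zero_iff (by norm_num)).mp h1)
  apply hsq; apply hsq; apply hsq
  calc ((x ^ 2) ^ 2) ^ 2 = x ^ 8 := by ring
    _ = y ^ 8 := h
    _ = ((y ^ 2) ^ 2) ^ 2 := by ring

theorem diag_comm_core (h2 : (2 : F) = 0) (ω : F) (hω3 : ω ^ 3 = 1) (hω1 : ω ≠ 1)
    (S : Matrix (Fin 3) (Fin 3) F) (hdet : S.det = 1) (lam : F)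
    (hcomm : S * dgm ω = lam • (dgm ω * S)) (μ : F)
    (h8 : S ^ 8 = μ • (1 : Matrix (Fin 3) (Fin 3) F)) :
    (∃ ρ : F, S = ρ • (1 : Matrix (Fin 3) (Fin 3) F)) ∨ S ^ 3 = 1 := by
  have hω0 : ω ≠ 0 := by
    rintro rfl
    simp at hω3
  have hω2 : ω ^ 2 ≠ 1 := by
    intro h
    apply hω1
    calc ω = ω ^ 3 * (ω ^ 2)⁻¹ := by field_simp
      _ = 1 := by rw [hω3, h]; simp
  have hω21 : ω ^ 2 ≠ ω := by
    intro h
    apply hω1
    have : ω * (ω - 1) = 0 := by linear_combination h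
    rcases mul_eq_zero.mp this with h | h
    · exact absurd h hω0
    · exact sub_eq_zero.mp h
  have hE : ∀ i j : Fin 3, S i j * (![1, ω, ω ^ 2] : Fin 3 → F) j
      = lam * ((![1, ω, ω ^ 2] : Fin 3 → F) i * S i j) := by
    intro i j
    have h := congrFun (congrFun hcomm i) j
    simpa [dgm, Matrix.mul_diagonal, Matrix.diagonal_mul, Matrix.smul_apply] using h
  have e00 := hE 0 0
  have e01 := hE 0 1
  have e02 := hE 0 2
  have e10 := hE 1 0
  have e11 := hE 1 1
  have e12 := hE 1 2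
  have e20 := hE 2 0
  have e21 := hE 2 1
  have e22 := hE 2 2
  simp only [Matrix.cons_val_zero, Matrix.cons_val_one, Matrix.cons_val_two, Matrix.head_cons,
    Matrix.tail_cons] at e00 e01 e02 e10 e11 e12 e20 e21 e22
  have hz : ∀ {a b : F}, a * b = 0 → b ≠ 0 → a = 0 := by
    intro a b hab hb
    rcases mul_eq_zero.mp hab with h | h
    · exact h
    · exact absurd h hb
  have n1 : ω - 1 ≠ 0 := sub_ne_zero.mpr hω1
  have n2 : ω ^ 2 - 1 ≠ 0 := sub_ne_zero.mpr hω2
  have n3 : ω ^ 2 - ω ≠ 0 := sub_ne_zero.mpr hω21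
  -- the first row is not zero
  have hrow : S 0 0 ≠ 0 ∨ S 0 1 ≠ 0 ∨ S 0 2 ≠ 0 := by
    by_contra hcon
    push Not at hcon
    obtain ⟨a, b, c⟩ := hcon
    rw [Matrix.det_fin_three, a, b, c] at hdet
    simp at hdet
  rcases hrow with h00 | h01 | h02
  · -- `lam = 1`, `S` diagonal
    have hl : lam = 1 := by
      have h : (1 - lam) * S 0 0 = 0 := by linear_combination e00
      rcases mul_eq_zero.mp h with h | h
      · exact (sub_eq_zero.mp h).symm
      · exact absurd h h00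
    rw [hl] at e01 e02 e10 e12 e20 e21
    have z01 : S 0 1 = 0 := hz (by linear_combination e01) n1
    have z02 : S 0 2 = 0 := hz (by linear_combination e02) n2
    have z10 : S 1 0 = 0 := hz (by linear_combination -e10) n1
    have z12 : S 1 2 = 0 := hz (by linear_combination e12) n3
    have z20 : S 2 0 = 0 := hz (by linear_combination -e20) n2
    have z21 : S 2 1 = 0 := hz (by linear_combination -e21) n3
    have hS : S = Matrix.diagonal ![S 0 0, S 1 1, S 2 2] := by
      ext i j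
      fin_cases i <;> fin_cases j <;> simp [z01, z02, z10, z12, z20, z21]
    have h8' : Matrix.diagonal (![S 0 0, S 1 1, S 2 2] ^ 8) = μ • (1 : Matrix (Fin 3) (Fin 3) F) := by
      rw [← Matrix.diagonal_pow, ← hS]
      exact h8
    have a0 := congrFun (congrFun h8' 0) 0
    have a1 := congrFun (congrFun h8' 1) 1
    have a2 := congrFun (congrFun h8' 2) 2
    simp at a0 a1 a2
    have b1 : S 1 1 = S 0 0 := pow8_inj h2 (a1.trans a0.symm)
    have b2 : S 2 2 = S 0 0 := pow8_inj h2 (a2.trans a0.symm)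
    left
    refine ⟨S 0 0, ?_⟩
    rw [hS]
    ext i j
    fin_cases i <;> fin_cases j <;> simp [b1, b2]
  · -- `lam = ω`
    have hl : lam = ω := by
      have h : (ω - lam) * S 0 1 = 0 := by linear_combination e01
      rcases mul_eq_zero.mp h with h | h
      · exact (sub_eq_zero.mp h).symm
      · exact absurd h h01
    rw [hl] at e00 e02 e10 e11 e21 e22
    have z00 : S 0 0 = 0 := hz (by linear_combination -e00) n1
    have z02 : S 0 2 = 0 := hz (by linear_combination e02) n3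
    have z10 : S 1 0 = 0 := hz (by linear_combination -e10) n2
    have z11 : S 1 1 = 0 := hz (by linear_combination -e11) n3
    have z21 : S 2 1 = 0 := hz (by linear_combination e21 + S 2 1 * hω3) n1
    have z22 : S 2 2 = 0 := hz (by linear_combination e22 + S 2 2 * hω3) n2
    have hS : S = !![0, S 0 1, 0; 0, 0, S 1 2; S 2 0, 0, 0] := by
      ext i j
      fin_cases i <;> fin_cases j <;> simp [z00, z02, z10, z11, z21, z22]
    have hd : S 0 1 * S 1 2 * S 2 0 = 1 := by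
      rw [Matrix.det_fin_three, z00, z02, z10, z11, z21, z22] at hdet
      linear_combination hdet
    right
    rw [hS]
    ext i j
    fin_cases i <;> fin_cases j <;>
      simp [pow_succ, Matrix.mul_apply, Fin.sum_univ_three, Matrix.one_apply] <;>
      linear_combination hd
  · -- `lam = ω ^ 2`
    have hl : lam = ω ^ 2 := by
      have h : (ω ^ 2 - lam) * S 0 2 = 0 := by linear_combination e02
      rcases mul_eq_zero.mp h with h | h
      · exact (sub_eq_zero.mp h).symm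
      · exact absurd h h02
    rw [hl] at e00 e01 e11 e12 e20 e22
    have z00 : S 0 0 = 0 := hz (by linear_combination -e00) n2
    have z01 : S 0 1 = 0 := hz (by linear_combination -e01) n3
    have z11 : S 1 1 = 0 := hz (by linear_combination e11 + S 1 1 * hω3) n1
    have z12 : S 1 2 = 0 := hz (by linear_combination e12 + S 1 2 * hω3) n2
    have z20 : S 2 0 = 0 := hz (by linear_combination -e20 - ω * S 2 0 * hω3) n1
    have z22 : S 2 2 = 0 := hz (by linear_combination e22 + ω * S 2 2 * hω3) n3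
    have hS : S = !![0, 0, S 0 2; S 1 0, 0, 0; 0, S 2 1, 0] := by
      ext i j
      fin_cases i <;> fin_cases j <;> simp [z00, z01, z11, z12, z20, z22]
    have hd : S 0 2 * S 1 0 * S 2 1 = 1 := by
      rw [Matrix.det_fin_three, z00, z01, z11, z12, z20, z22] at hdet
      linear_combination hdet
    right
    rw [hS]
    ext i j
    fin_cases i <;> fin_cases j <;>
      simp [pow_succ, Matrix.mul_apply, Fin.sum_univ_three, Matrix.one_apply] <;>
      linear_combination hd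

/-- the permutation matrix of a 3-cycle -/
def cmt : Matrix (Fin 3) (Fin 3) F := !![0, 0, 1; 1, 0, 0; 0, 1, 0]

theorem dgm_eq (ω : F) : dgm ω = !![1, 0, 0; 0, ω, 0; 0, 0, ω ^ 2] := by
  ext i j
  fin_cases i <;> fin_cases j <;> simp [dgm]

omit [Field F] in
theorem m3eq {a b c d e f g h i a' b' c' d' e' f' g' h' i' : F} (h1 : a = a') (h2 : b = b')
    (h3 : c = c') (h4 : d = d') (h5 : e = e') (h6 : f = f') (h7 : g = g') (h8 : h = h')
    (h9 : i = i') : !![a, b, c; d, e, f; g, h, i] = !![a', b', c'; d', e', f'; g', h', i'] := by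
  rw [h1, h2, h3, h4, h5, h6, h7, h8, h9]

/-- explicit change-of-basis matrix -/
def Wf (ω : F) : Matrix (Fin 3) (Fin 3) F := !![1, 1, 1; 1, ω ^ 2, ω; 1, ω, ω ^ 2]

/-- explicit change-of-basis matrix -/
def Wfi (ω : F) : Matrix (Fin 3) (Fin 3) F := !![1, 1, 1; 1, ω, ω ^ 2; 1, ω ^ 2, ω]

/-- explicit change-of-basis matrix -/
def W1 (ω : F) : Matrix (Fin 3) (Fin 3) F := !![1, 1, 1; ω, 1, ω ^ 2; 1, ω, ω ^ 2]

/-- explicit change-of-basis matrix -/
def W1i (ω : F) : Matrix (Fin 3) (Fin 3) F := !![1, ω ^ 2, 1; 1, 1, ω ^ 2; 1, ω, ω]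

/-- explicit change-of-basis matrix -/
def W2 (ω : F) : Matrix (Fin 3) (Fin 3) F := !![1, 1, 1; ω ^ 2, ω, 1; 1, ω, ω ^ 2]

/-- explicit change-of-basis matrix -/
def W2i (ω : F) : Matrix (Fin 3) (Fin 3) F := !![1, ω, 1; 1, ω ^ 2, ω ^ 2; 1, 1, ω]

theorem Wf_mul_Wfi (h2 : (2 : F) = 0) (ω : F) (hω : ω ^ 2 + ω + 1 = 0) : Wf ω * Wfi ω = 1 := by
  rw [Wf, Wfi, Matrix.mul_fin_three, Matrix.one_fin_three]
  refine m3eq ?_ ?_ ?_ ?_ ?_ ?_ ?_ ?_ ?_
  · linear_combination (0) * hω + ((1)) * h2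
  · linear_combination ((1)) * hω + (0) * h2
  · linear_combination ((1)) * hω + (0) * h2
  · linear_combination ((1)) * hω + (0) * h2
  · linear_combination ((-2) + (2) * ω) * hω + ((1)) * h2
  · linear_combination ((1) + (-1) * ω + (1) * ω ^ 2) * hω + (0) * h2
  · linear_combination ((1)) * hω + (0) * h2
  · linear_combination ((1) + (-1) * ω + (1) * ω ^ 2) * hω + (0) * h2
  · linear_combination ((-2) + (2) * ω) * hω + ((1)) * h2

theorem W1_mul_W1i (h2 : (2 : F) = 0) (ω : F) (hω : ω ^ 2 + ω + 1 = 0) : W1 ω * W1i ω = 1 := by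
  rw [W1, W1i, Matrix.mul_fin_three, Matrix.one_fin_three]
  refine m3eq ?_ ?_ ?_ ?_ ?_ ?_ ?_ ?_ ?_
  · linear_combination (0) * hω + ((1)) * h2
  · linear_combination ((1)) * hω + (0) * h2
  · linear_combination ((1)) * hω + (0) * h2
  · linear_combination ((1)) * hω + (0) * h2
  · linear_combination ((-2) + (2) * ω) * hω + ((1)) * h2
  · linear_combination ((1) * ω) * hω + (0) * h2
  · linear_combination ((1)) * hω + (0) * h2
  · linear_combination ((1) * ω) * hω + (0) * h2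
  · linear_combination ((-2) + (2) * ω) * hω + ((1)) * h2

theorem W2_mul_W2i (h2 : (2 : F) = 0) (ω : F) (hω : ω ^ 2 + ω + 1 = 0) : W2 ω * W2i ω = 1 := by
  rw [W2, W2i, Matrix.mul_fin_three, Matrix.one_fin_three]
  refine m3eq ?_ ?_ ?_ ?_ ?_ ?_ ?_ ?_ ?_
  · linear_combination (0) * hω + ((1)) * h2
  · linear_combination ((1)) * hω + (0) * h2
  · linear_combination ((1)) * hω + (0) * h2
  · linear_combination ((1)) * hω + (0) * h2
  · linear_combination ((-2) + (2) * ω) * hω + ((1)) * h2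
  · linear_combination ((1) * ω) * hω + (0) * h2
  · linear_combination ((1)) * hω + (0) * h2
  · linear_combination ((1) * ω) * hω + (0) * h2
  · linear_combination ((-2) + (2) * ω) * hω + ((1)) * h2

theorem cmt_conj (h2 : (2 : F) = 0) (ω : F) (hω : ω ^ 2 + ω + 1 = 0) :
    cmt = Wf ω * dgm ω * Wfi ω := by
  rw [dgm_eq, cmt, Wf, Wfi, Matrix.mul_fin_three, Matrix.mul_fin_three]
  refine m3eq ?_ ?_ ?_ ?_ ?_ ?_ ?_ ?_ ?_
  · linear_combination ((-1)) * hω + (0) * h2
  · linear_combination ((-1) + (1) * ω + (-1) * ω ^ 2) * hω + (0) * h2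
  · linear_combination ((2) + (-2) * ω) * hω + ((-1)) * h2
  · linear_combination ((2) + (-2) * ω) * hω + ((-1)) * h2
  · linear_combination ((-1) + (1) * ω + (-1) * ω ^ 3) * hω + (0) * h2
  · linear_combination ((-1) + (1) * ω + (-1) * ω ^ 3) * hω + (0) * h2
  · linear_combination ((-1) + (1) * ω + (-1) * ω ^ 2) * hω + (0) * h2
  · linear_combination ((2) + (-2) * ω + (1) * ω ^ 3 + (-1) * ω ^ 4) * hω + ((-1)) * h2
  · linear_combination ((-1) + (1) * ω + (-1) * ω ^ 3) * hω + (0) * h2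

theorem dc_conj (h2 : (2 : F) = 0) (ω : F) (hω : ω ^ 2 + ω + 1 = 0) :
    dgm ω * cmt = W1 ω * dgm ω * W1i ω := by
  rw [dgm_eq, cmt, W1, W1i, Matrix.mul_fin_three, Matrix.mul_fin_three, Matrix.mul_fin_three]
  refine m3eq ?_ ?_ ?_ ?_ ?_ ?_ ?_ ?_ ?_
  · linear_combination ((-1)) * hω + (0) * h2
  · linear_combination ((-1) * ω) * hω + (0) * h2
  · linear_combination ((2) + (-2) * ω) * hω + ((-1)) * h2
  · linear_combination ((1) * ω + (-1) * ω ^ 2) * hω + ((-1) * ω) * h2
  · linear_combination ((-1) * ω + (1) * ω ^ 2 + (-1) * ω ^ 3) * hω + (0) * h2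
  · linear_combination ((-1) * ω + (1) * ω ^ 2 + (-1) * ω ^ 3) * hω + (0) * h2
  · linear_combination ((-1) + (1) * ω + (-1) * ω ^ 2) * hω + (0) * h2
  · linear_combination ((-2) + (1) * ω ^ 2 + (-1) * ω ^ 3) * hω + ((1) + (1) * ω) * h2
  · linear_combination ((-1) + (1) * ω + (-1) * ω ^ 3) * hω + (0) * h2

theorem ddc_conj (h2 : (2 : F) = 0) (ω : F) (hω : ω ^ 2 + ω + 1 = 0) :
    dgm ω * dgm ω * cmt = W2 ω * dgm ω * W2i ω := by
  rw [dgm_eq, cmt, W2, W2i, Matrix.mul_fin_three, Matrix.mul_fin_three, Matrix.mul_fin_three, Matrix.mul_fin_three]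
  refine m3eq ?_ ?_ ?_ ?_ ?_ ?_ ?_ ?_ ?_
  · linear_combination ((-1)) * hω + (0) * h2
  · linear_combination ((-1) * ω) * hω + (0) * h2
  · linear_combination ((2) + (-2) * ω) * hω + ((-1)) * h2
  · linear_combination ((-2)) * hω + ((1) + (1) * ω) * h2
  · linear_combination ((-1) * ω ^ 2) * hω + (0) * h2
  · linear_combination ((-1) * ω ^ 2) * hω + (0) * h2
  · linear_combination ((-1) + (1) * ω + (-1) * ω ^ 2) * hω + (0) * h2
  · linear_combination ((1) * ω + (-1) * ω ^ 2) * hω + ((-1) * ω) * h2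
  · linear_combination ((-1) + (1) * ω + (-1) * ω ^ 3) * hω + (0) * h2

end MatCore

section PSU3
variable {q : ℕ} {F : Type u} [Field F] [Fintype F]

omit [Fintype F] in
theorem suMat_pow3 (s : ↥(SU 3 F q)) (m : ℕ) : suMat (s ^ m) = suMat s ^ m := by
  induction m with
  | zero => simp [Cfsg.Agent.Lib.helper99.suMat_one]
  | succ m ih => rw [pow_succ, pow_succ, Cfsg.Agent.Lib.helper99.suMat_mul, ih]

omit [Fintype F] in
theorem mem_center_of_scalar (s : ↥(SU 3 F q)) (ρ : F)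
    (h : suMat s = ρ • (1 : Matrix (Fin 3) (Fin 3) F)) : s ∈ Subgroup.center ↥(SU 3 F q) := by
  rw [Subgroup.mem_center_iff]
  intro t
  apply Cfsg.Agent.Lib.helper99.suMat_inj
  rw [Cfsg.Agent.Lib.helper99.suMat_mul, Cfsg.Agent.Lib.helper99.suMat_mul, h]
  simp

omit [Fintype F] in
theorem mk_eq_one_of_scalar (s : ↥(SU 3 F q)) (ρ : F)
    (h : suMat s = ρ • (1 : Matrix (Fin 3) (Fin 3) F)) : (QuotientGroup.mk s : PSU 3 F q) = 1 :=
  (QuotientGroup.eq_one_iff s).mpr (mem_center_of_scalar s ρ h)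

theorem mk_eq_of_smul (a b : ↥(SU 3 F q)) (ρ : F) (h : suMat a = ρ • suMat b) :
    (QuotientGroup.mk a : PSU 3 F q) = QuotientGroup.mk b := by
  have h1 : (QuotientGroup.mk (a * b⁻¹) : PSU 3 F q) = 1 := by
    apply mk_eq_one_of_scalar _ ρ
    rw [Cfsg.Agent.Lib.helper99.suMat_mul, h, Matrix.smul_mul,
      Cfsg.Agent.Lib.helper99.suMat_mul_inv]
  rw [QuotientGroup.mk_mul, QuotientGroup.mk_inv, mul_inv_eq_one] at h1
  exact h1

theorem conj_pow_aux (W W' S : Matrix (Fin 3) (Fin 3) F) (hWW' : W * W' = 1) (m : ℕ) :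
    (W' * S * W) ^ m = W' * S ^ m * W := by
  have hW'W : W' * W = 1 := mul_eq_one_comm.mp hWW'
  induction m with
  | zero => simp [hW'W]
  | succ m ih =>
    rw [pow_succ, ih, pow_succ]
    calc W' * S ^ m * W * (W' * S * W) = W' * S ^ m * (W * W') * S * W := by
          simp only [Matrix.mul_assoc]
      _ = W' * (S ^ m * S) * W := by rw [hWW']; simp only [Matrix.mul_assoc, Matrix.one_mul]

/-- general form: `y` is conjugate (in `GL_3`) to `diag(1, ω, ω²)` -/
theorem comm_trivial_gen (hF : Fintype.card F = q ^ 2) (h2 : (2 : F) = 0) (ω : F)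
    (hω3 : ω ^ 3 = 1) (hω1 : ω ≠ 1) (y : ↥(SU 3 F q)) (W W' : Matrix (Fin 3) (Fin 3) F)
    (hWW' : W * W' = 1) (hy : suMat y = W * dgm ω * W')
    (k : PSU 3 F q) (hk : k * QuotientGroup.mk y = QuotientGroup.mk y * k) (hk8 : k ^ 8 = 1) :
    k = 1 := by
  have hW'W : W' * W = 1 := mul_eq_one_comm.mp hWW'
  obtain ⟨s, rfl⟩ := QuotientGroup.mk_surjective k
  -- commutation up to a scalar
  have h1 : (y * s)⁻¹ * (s * y) ∈ Subgroup.center ↥(SU 3 F q) := by
    rw [← QuotientGroup.eq]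
    rw [QuotientGroup.mk_mul, QuotientGroup.mk_mul]
    exact hk.symm
  obtain ⟨ζ, hζ⟩ := central_scalar hF (0 : Fin 3) _ h1
  have hζ' : suMat ((y * s)⁻¹ * (s * y)) = ζ • (1 : Matrix (Fin 3) (Fin 3) F) := hζ
  have hcomm : suMat s * suMat y = ζ • (suMat y * suMat s) := by
    have h3 : s * y = (y * s) * ((y * s)⁻¹ * (s * y)) := by group
    have h4 := congrArg suMat h3
    rw [Cfsg.Agent.Lib.helper99.suMat_mul, Cfsg.Agent.Lib.helper99.suMat_mul,
      Cfsg.Agent.Lib.helper99.suMat_mul, hζ'] at h4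
    rw [h4]
    simp
  -- `s ^ 8` is scalar
  have h5 : s ^ 8 ∈ Subgroup.center ↥(SU 3 F q) := by
    rw [← QuotientGroup.eq_one_iff, QuotientGroup.mk_pow]
    exact hk8
  obtain ⟨μ, hμ⟩ := central_scalar hF (0 : Fin 3) _ h5
  have hμ' : suMat s ^ 8 = μ • (1 : Matrix (Fin 3) (Fin 3) F) := by
    rw [← suMat_pow3]
    exact hμ
  -- transport to the diagonal basis
  have hS'comm : (W' * suMat s * W) * dgm ω = ζ • (dgm ω * (W' * suMat s * W)) := by
    have e1 : (W' * suMat s * W) * dgm ω = W' * (suMat s * suMat y) * W := by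
      rw [hy]
      calc W' * suMat s * W * dgm ω = W' * suMat s * (W * dgm ω * (W' * W)) := by
            rw [hW'W]; simp only [Matrix.mul_assoc, Matrix.mul_one]
        _ = W' * (suMat s * (W * dgm ω * W')) * W := by simp only [Matrix.mul_assoc]
    have e2 : dgm ω * (W' * suMat s * W) = W' * (suMat y * suMat s) * W := by
      rw [hy]
      calc dgm ω * (W' * suMat s * W) = (W' * W) * dgm ω * (W' * suMat s * W) := by
            rw [hW'W]; simp only [Matrix.one_mul]
        _ = W' * (W * dgm ω * W' * suMat s) * W := by simp only [Matrix.mul_assoc]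
    rw [e1, e2, hcomm]
    simp
  have hS'det : (W' * suMat s * W).det = 1 := by
    rw [Matrix.det_mul, Matrix.det_mul, Cfsg.Agent.Lib.helper99.suMat_det, mul_one,
      ← Matrix.det_mul, hW'W, Matrix.det_one]
  have hS'8 : (W' * suMat s * W) ^ 8 = μ • (1 : Matrix (Fin 3) (Fin 3) F) := by
    rw [conj_pow_aux W W' _ hWW', hμ']
    simp [hW'W]
  have hback : ∀ m : ℕ, suMat s ^ m = W * (W' * suMat s * W) ^ m * W' := by
    intro m
    rw [conj_pow_aux W W' _ hWW']
    calc suMat s ^ m = (W * W') * suMat s ^ m * (W * W') := by rw [hWW']; simp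
      _ = W * (W' * suMat s ^ m * W) * W' := by simp only [Matrix.mul_assoc]
  rcases diag_comm_core h2 ω hω3 hω1 _ hS'det ζ hS'comm μ hS'8 with ⟨ρ, hρ⟩ | h3
  · apply mk_eq_one_of_scalar s ρ
    have h6 := hback 1
    rw [pow_one, pow_one, hρ] at h6
    rw [h6]
    simp [hWW']
  · have h6 := hback 3
    rw [h3] at h6
    have h7 : suMat s ^ 3 = 1 := by rw [h6]; simp [hWW']
    have h8 : s ^ 3 = 1 := by
      apply Cfsg.Agent.Lib.helper99.suMat_inj
      rw [suMat_pow3, h7, Cfsg.Agent.Lib.helper99.suMat_one]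
    have h9 : (QuotientGroup.mk s : PSU 3 F q) ^ 3 = 1 := by
      rw [← QuotientGroup.mk_pow, h8, QuotientGroup.mk_one]
    have h10 : (QuotientGroup.mk s : PSU 3 F q) ^ 9 = 1 := by
      calc (QuotientGroup.mk s : PSU 3 F q) ^ 9 = ((QuotientGroup.mk s : PSU 3 F q) ^ 3) ^ 3 := by
            rw [← pow_mul]
        _ = 1 := by rw [h9, one_pow]
    calc (QuotientGroup.mk s : PSU 3 F q) = (QuotientGroup.mk s : PSU 3 F q) ^ 8 * QuotientGroup.mk s := by
          rw [hk8, one_mul]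
      _ = (QuotientGroup.mk s : PSU 3 F q) ^ 9 := by rw [← pow_succ]
      _ = 1 := h10

omit [Fintype F] in
theorem omega_quad (ω : F) (hω3 : ω ^ 3 = 1) (hω1 : ω ≠ 1) : ω ^ 2 + ω + 1 = 0 := by
  have h : (ω - 1) * (ω ^ 2 + ω + 1) = 0 := by linear_combination hω3
  rcases mul_eq_zero.mp h with h | h
  · exact absurd (sub_eq_zero.mp h) hω1
  · exact h

/-- **Sub-lemma (a) of FC-32.** -/
theorem comm_trivial (hF : Fintype.card F = q ^ 2) (h2 : (2 : F) = 0) (ω : F)
    (hω3 : ω ^ 3 = 1) (hω1 : ω ≠ 1) (y : ↥(SU 3 F q))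
    (hy : suMat y = dgm ω ∨ suMat y = cmt ∨ suMat y = dgm ω * cmt ∨
      suMat y = dgm ω * dgm ω * cmt)
    (k : PSU 3 F q) (hk : k * QuotientGroup.mk y = QuotientGroup.mk y * k) (hk8 : k ^ 8 = 1) :
    k = 1 := by
  have hω := omega_quad ω hω3 hω1
  rcases hy with hy | hy | hy | hy
  · exact comm_trivial_gen hF h2 ω hω3 hω1 y 1 1 (by simp) (by simpa using hy) k hk hk8
  · exact comm_trivial_gen hF h2 ω hω3 hω1 y (Wf ω) (Wfi ω) (Wf_mul_Wfi h2 ω hω)
      (hy.trans (cmt_conj h2 ω hω)) k hk hk8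
  · exact comm_trivial_gen hF h2 ω hω3 hω1 y (W1 ω) (W1i ω) (W1_mul_W1i h2 ω hω)
      (hy.trans (dc_conj h2 ω hω)) k hk hk8
  · exact comm_trivial_gen hF h2 ω hω3 hω1 y (W2 ω) (W2i ω) (W2_mul_W2i h2 ω hω)
      (hy.trans (ddc_conj h2 ω hω)) k hk hk8

end PSU3
end Cfsg.Agent.Lib.helper33.S2687
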