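import Mathlib
import Cfsg.Agent.Lib.helper26.S4409Defs
import Cfsg.Agent.Lib.helper59.AutQ8

/-!
S4409 split (helper26), piece Q8LA (racer copy): a 2-group `X` with a normal quaternion subgroup
`Q` of order 8 such that `C_X(Q) ≤ Q` has order dividing 16.
-/

set_option autoImplicit false

namespace Cfsg.Agent.Lib.helper26.S4409

variable {G : Type*} [Group G]

theorem h33_q8_central : ∀ q : QuaternionGroup 2, (∀ y : QuaternionGroup 2, q * y = y * q) →
    q = 1 ∨ q = QuaternionGroup.a 2 := by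
  decide

theorem h33_card_sub_two : Nat.card {q : QuaternionGroup 2 // q = 1 ∨ q = QuaternionGroup.a 2} ≤ 2 := by
  rw [Nat.card_eq_fintype_card]
  decide

theorem h33_q8la [Finite G] (X Q : Subgroup G) (hX : IsPGroup 2 ↥X) (hQX : Q ≤ X)
    (hn : X ≤ Subgroup.normalizer (Q : Set G)) (hQ : IsQ8 Q)
    (hC : X ⊓ Subgroup.centralizer (Q : Set G) ≤ Q) : Nat.card ↥X ∣ 16 := by
  obtain ⟨e⟩ := hQ
  let φ : ↥X →* MulAut ↥Q := Q.normalizerMonoidHom.comp (Subgroup.inclusion hn)
  have h24 : Nat.card (MulAut ↥Q) = 24 := by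
    rw [Nat.card_congr (MulAut.congr e).toEquiv]
    exact Cfsg.Agent.Lib.helper59.AutQ8.card_mulAut
  have h1 : Nat.card ↥φ.ker * Nat.card ↥φ.range = Nat.card ↥X := by
    rw [← Subgroup.index_ker]
    exact Subgroup.card_mul_index _
  have hr : Nat.card ↥φ.range ∣ 8 := by
    have hd1 : Nat.card ↥φ.range ∣ 24 := h24 ▸ Subgroup.card_subgroup_dvd_card _
    have hd2 : Nat.card ↥φ.range ∣ Nat.card ↥X := Dvd.intro_left _ h1
    obtain ⟨k, hk⟩ := hX.exists_card_eq
    rw [hk] at hd2
    obtain ⟨j, hj, hj2⟩ := (Nat.dvd_prime_pow Nat.prime_two).mp hd2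
    rw [hj2] at hd1 ⊢
    have hj3 : j ≤ 3 := by
      by_contra h
      have h16 : 2 ^ 4 ∣ 24 := (pow_dvd_pow 2 (by omega)).trans hd1
      norm_num at h16
    exact pow_dvd_pow 2 hj3
  have hmem : ∀ x : ↥φ.ker, (x.1 : G) ∈ Subgroup.centralizer (Q : Set G) := by
    intro x
    have hx : Subgroup.inclusion hn x.1 ∈ Q.normalizerMonoidHom.ker := by
      rw [MonoidHom.mem_ker]
      have := x.2
      rw [MonoidHom.mem_ker] at this
      exact this
    rw [Subgroup.normalizerMonoidHom_ker, Subgroup.mem_subgroupOf] at hx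
    exact hx
  have hk : Nat.card ↥φ.ker ∣ 2 := by
    have hle : Nat.card ↥φ.ker ≤ 2 := by
      have hcen : ∀ x : ↥φ.ker, e ⟨(x.1 : G), hC ⟨x.1.2, hmem x⟩⟩ = 1 ∨
          e ⟨(x.1 : G), hC ⟨x.1.2, hmem x⟩⟩ = QuaternionGroup.a 2 := by
        intro x
        apply h33_q8_central
        intro y
        obtain ⟨y', rfl⟩ := e.surjective y
        rw [← map_mul, ← map_mul]
        congr 1
        apply Subtype.ext
        have := (Subgroup.mem_centralizer_iff.mp (hmem x)) y'.1 y'.2
        exact this.symm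
      let f : ↥φ.ker → {q : QuaternionGroup 2 // q = 1 ∨ q = QuaternionGroup.a 2} :=
        fun x => ⟨e ⟨(x.1 : G), hC ⟨x.1.2, hmem x⟩⟩, hcen x⟩
      have hf : Function.Injective f := by
        intro x y hxy
        have h2 := congrArg Subtype.val hxy
        have h3 := e.injective h2
        have h4 := congrArg Subtype.val h3
        exact Subtype.ext (Subtype.ext h4)
      exact (Nat.card_le_card_of_injective f hf).trans h33_card_sub_two
    have hpos : 0 < Nat.card ↥φ.ker := Nat.card_pos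
    interval_cases Nat.card ↥φ.ker <;> norm_num
  calc Nat.card ↥X = Nat.card ↥φ.ker * Nat.card ↥φ.range := h1.symm
    _ ∣ 2 * 8 := Nat.mul_dvd_mul hk hr

end Cfsg.Agent.Lib.helper26.S4409
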