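import Mathlib
import Cfsg.Agent.Lib.helper26.S4409Defs
import Cfsg.Agent.Lib.helper3.PGroupFrattini
import Cfsg.Agent.Lib.helper71.Frattini

/-!
S4409 split (helper26), piece SPEC (racer copy): a finite 2-group whose derived subgroup is its
centre and whose squares are central is special.
-/

set_option autoImplicit false

namespace Cfsg.Agent.Lib.helper26.S4409

theorem h33_spec {P : Type*} [Group P] [Finite P] (hP : IsPGroup 2 P)
    (h1 : _root_.commutator P = Subgroup.center P) (h2 : ∀ x : P, x * x ∈ Subgroup.center P) :
    Cfsg.IsSpecial 2 P := by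
  have hf : Fact (Nat.Prime 2) := ⟨Nat.prime_two⟩
  refine ⟨hP, le_antisymm ?_ ?_, h1⟩
  · refine Cfsg.Agent.Lib.helper71.frattini_le_of_comm_pow Nat.prime_two (Subgroup.center P) ?_ ?_
    · intro x y
      rw [← h1, commutator_def]
      have := Subgroup.commutator_mem_commutator (Subgroup.mem_top x) (Subgroup.mem_top y)
      rwa [commutatorElement_def] at this
    · intro x
      rw [pow_two]
      exact h2 x
  · rw [← h1]
    exact Cfsg.Agent.Lib.helper3.commutator_le_frattini hP

end Cfsg.Agent.Lib.helper26.S4409
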