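import Mathlib
import Cfsg.Agent.Lib.helper9.Srg77Defs

/-!
Strongly regular graphs with parameters (77, 16, 0, 4): two non-adjacent vertices have exactly
three further vertices forming with them a triad without common neighbour (piece B of the plan
for S0429).
-/

set_option autoImplicit false

namespace Cfsg.Agent.Lib.helper33

open Finset Cfsg.Agent.Lib.helper9

variable {V : Type*} [Fintype V] [DecidableEq V] {G : SimpleGraph V} [DecidableRel G.Adj]

theorem card_zset (h : Srg77 G)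
    (hA : ∀ x y z : V, Triad G x y z → (nbr G x ∩ nbr G y ∩ nbr G z).card ≤ 2)
    {x y : V} (hne : x ≠ y) (hxy : ¬ G.Adj x y) : (zset G x y).card = 3 := by
  classical
  have hyx : ¬ G.Adj y x := fun hh => hxy hh.symm
  obtain ⟨T, hT⟩ : ∃ T : Finset V, T = Finset.univ.filter
      (fun z => z ≠ x ∧ z ≠ y ∧ ¬ G.Adj x z ∧ ¬ G.Adj y z) := ⟨_, rfl⟩
  obtain ⟨D, hD⟩ : ∃ D : Finset V, D = nbr G x ∩ nbr G y := ⟨_, rfl⟩
  have memT : ∀ z, z ∈ T ↔ z ≠ x ∧ z ≠ y ∧ ¬ G.Adj x z ∧ ¬ G.Adj y z := by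
    intro z
    rw [hT, Finset.mem_filter]
    simp
  have memD : ∀ w, w ∈ D ↔ G.Adj x w ∧ G.Adj y w := by
    intro w
    rw [hD, Finset.mem_inter, mem_nbr, mem_nbr]
  have hDc : D.card = 4 := by
    rw [hD]
    exact h.mu x y hne hxy
  have hU : (nbr G x ∪ nbr G y).card = 28 := by
    have := Finset.card_union_add_card_inter (nbr G x) (nbr G y)
    rw [h.deg, h.deg, h.mu x y hne hxy] at this
    omega
  have hTc : T.card = 47 := by
    have h1 : (Finset.univ : Finset V) = insert x (insert y ((nbr G x ∪ nbr G y) ∪ T)) := by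
      ext u
      simp only [Finset.mem_univ, Finset.mem_insert, Finset.mem_union, mem_nbr, memT, true_iff]
      tauto
    have hd : Disjoint (nbr G x ∪ nbr G y) T := by
      rw [Finset.disjoint_left]
      intro u hu huT
      rw [Finset.mem_union, mem_nbr, mem_nbr] at hu
      obtain ⟨-, -, h3, h4⟩ := (memT u).1 huT
      tauto
    have hy : y ∉ (nbr G x ∪ nbr G y) ∪ T := by
      simp only [Finset.mem_union, mem_nbr, memT, not_or]
      exact ⟨⟨hxy, G.loopless.irrefl y⟩, fun hh => hh.2.1 rfl⟩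
    have hx : x ∉ insert y ((nbr G x ∪ nbr G y) ∪ T) := by
      simp only [Finset.mem_insert, Finset.mem_union, mem_nbr, memT, not_or]
      exact ⟨hne, ⟨G.loopless.irrefl x, hyx⟩, fun hh => hh.1 rfl⟩
    have h2 := congrArg Finset.card h1
    rw [Finset.card_univ, h.card, Finset.card_insert_of_notMem hx,
      Finset.card_insert_of_notMem hy, Finset.card_union_of_disjoint hd, hU] at h2
    omega
  have hc_eq : ∀ z, nbr G z ∩ D = nbr G x ∩ nbr G y ∩ nbr G z := by
    intro z
    rw [hD, Finset.inter_comm]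
  have hc2 : ∀ z ∈ T, (nbr G z ∩ D).card ≤ 2 := by
    intro z hz
    obtain ⟨hzx, hzy, hxz, hyz⟩ := (memT z).1 hz
    rw [hc_eq]
    exact hA x y z ⟨hne, Ne.symm hzx, Ne.symm hzy, hxy, hxz, hyz⟩
  have hpair : ∀ w ∈ D, ∀ w' ∈ D, (nbr G w ∩ nbr G w' ∩ T).card
      = 2 + if w = w' then 12 else 0 := by
    intro w hw w' hw'
    obtain ⟨hxw, hyw⟩ := (memD w).1 hw
    obtain ⟨hxw', hyw'⟩ := (memD w').1 hw'
    have e1 : nbr G w ∩ nbr G w' ∩ T = ((nbr G w ∩ nbr G w').erase x).erase y := by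
      ext u
      rw [Finset.mem_inter, Finset.mem_erase, Finset.mem_erase, memT, Finset.mem_inter, mem_nbr,
        mem_nbr]
      constructor
      · rintro ⟨hu, hux, huy, -, -⟩
        exact ⟨huy, hux, hu⟩
      · rintro ⟨huy, hux, hu⟩
        exact ⟨hu, hux, huy, h.tri w x u hxw.symm hu.1, h.tri w y u hyw.symm hu.1⟩
    have hxm : x ∈ nbr G w ∩ nbr G w' :=
      Finset.mem_inter.2 ⟨mem_nbr.2 hxw.symm, mem_nbr.2 hxw'.symm⟩
    have hym : y ∈ (nbr G w ∩ nbr G w').erase x :=
      Finset.mem_erase.2 ⟨Ne.symm hne, Finset.mem_inter.2 ⟨mem_nbr.2 hyw.symm, mem_nbr.2 hyw'.symm⟩⟩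
    rw [e1, Finset.card_erase_of_mem hym, Finset.card_erase_of_mem hxm, h.card_nbr_inter_nbr,
      if_neg (h.tri x w w' hxw hxw')]
    split_ifs <;> rfl
  have hs1 : ∑ z ∈ T, (nbr G z ∩ D).card = 56 := by
    rw [sum_card_nbr_inter]
    have e : ∀ w ∈ D, (nbr G w ∩ T).card = 14 := by
      intro w hw
      have := hpair w hw w hw
      rw [Finset.inter_self, if_pos rfl] at this
      exact this
    rw [Finset.sum_congr rfl e, Finset.sum_const, hDc]
    rfl
  have hs2 : ∑ z ∈ T, (nbr G z ∩ D).card * (nbr G z ∩ D).card = 80 := by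
    rw [sum_card_mul_card]
    have hin : ∀ w ∈ D, ∑ w' ∈ D, (nbr G w ∩ nbr G w' ∩ T).card = 20 := by
      intro w hw
      rw [Finset.sum_congr rfl (fun w' hw' => hpair w hw w' hw'), Finset.sum_add_distrib,
        Finset.sum_const, Finset.sum_ite_eq, if_pos hw, hDc]
      rfl
    rw [Finset.sum_congr rfl hin, Finset.sum_const, hDc]
    rfl
  have hsum : ∑ z ∈ T, (if (nbr G z ∩ D).card = 0 then 2 else 0 : ℤ) = 6 := by
    have e : ∀ z ∈ T, (if (nbr G z ∩ D).card = 0 then 2 else 0 : ℤ)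
        = (((nbr G z ∩ D).card * (nbr G z ∩ D).card : ℕ) : ℤ)
          - 3 * (((nbr G z ∩ D).card : ℕ) : ℤ) + 2 := by
      intro z hz
      have hle := hc2 z hz
      obtain ⟨n, hn⟩ : ∃ n, n = (nbr G z ∩ D).card := ⟨_, rfl⟩
      rw [← hn] at hle ⊢
      interval_cases n <;> norm_num
    rw [Finset.sum_congr rfl e, Finset.sum_add_distrib, Finset.sum_sub_distrib, ← Finset.mul_sum,
      ← Nat.cast_sum, ← Nat.cast_sum, hs1, hs2, Finset.sum_const, hTc]
    norm_num
  have hcount : (T.filter (fun z => (nbr G z ∩ D).card = 0)).card = 3 := by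
    have e : ∑ z ∈ T, (if (nbr G z ∩ D).card = 0 then 2 else 0 : ℤ)
        = 2 * ((T.filter (fun z => (nbr G z ∩ D).card = 0)).card : ℤ) := by
      rw [Finset.sum_ite, Finset.sum_const, Finset.sum_const_zero, add_zero, nsmul_eq_mul]
      ring
    rw [e] at hsum
    omega
  have hz : zset G x y = T.filter (fun z => (nbr G z ∩ D).card = 0) := by
    ext z
    rw [mem_zset, Finset.mem_filter, memT, Finset.card_eq_zero, hc_eq]
    tauto
  rw [hz, hcount]

end Cfsg.Agent.Lib.helper33
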