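import Mathlib
import Cfsg.Agent.Lib.helper9.Srg77Defs

/-!
Strongly regular graphs with parameters (77, 16, 0, 4): a vertex outside a coclique of size 21
has exactly six neighbours in it (piece G1 of the plan for S0429).
-/

set_option autoImplicit false

namespace Cfsg.Agent.Lib.helper33

open Finset Cfsg.Agent.Lib.helper9

variable {V : Type*} [Fintype V] [DecidableEq V] {G : SimpleGraph V} [DecidableRel G.Adj]

theorem coclique_nbr_card (h : Srg77 G) {C : Finset V} (hC : C ∈ cocl G) {v : V} (hv : v ∉ C) :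
    (nbr G v ∩ C).card = 6 := by
  classical
  obtain ⟨hco, hc21⟩ := mem_cocl.1 hC
  have hScard : (Finset.univ \ C).card = 56 := by
    rw [Finset.card_sdiff_of_subset (Finset.subset_univ _), Finset.card_univ, h.card, hc21]
  have hsub : ∀ w ∈ C, nbr G w ∩ (Finset.univ \ C) = nbr G w := by
    intro w hw
    rw [Finset.inter_eq_left]
    intro u hu
    rw [Finset.mem_sdiff]
    exact ⟨Finset.mem_univ _, fun huC => hco w hw u huC (mem_nbr.1 hu)⟩
  have h1 : ∑ u ∈ Finset.univ \ C, (nbr G u ∩ C).card = 336 := by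
    rw [sum_card_nbr_inter, Finset.sum_congr rfl (fun w hw => by rw [hsub w hw, h.deg]),
      Finset.sum_const, hc21]
    rfl
  have h2 : ∑ u ∈ Finset.univ \ C, (nbr G u ∩ C).card * (nbr G u ∩ C).card = 2016 := by
    rw [sum_card_mul_card]
    have hin : ∀ w ∈ C, ∑ w' ∈ C, (nbr G w ∩ nbr G w' ∩ (Finset.univ \ C)).card = 96 := by
      intro w hw
      have e : ∀ w' ∈ C, (nbr G w ∩ nbr G w' ∩ (Finset.univ \ C)).card
          = 4 + if w = w' then 12 else 0 := by
        intro w' hw'
        have e1 : nbr G w ∩ nbr G w' ∩ (Finset.univ \ C) = nbr G w ∩ nbr G w' := by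
          rw [Finset.inter_right_comm, hsub w hw]
        rw [e1, h.card_nbr_inter_nbr, if_neg (hco w hw w' hw')]
        split_ifs <;> rfl
      rw [Finset.sum_congr rfl e, Finset.sum_add_distrib, Finset.sum_const, Finset.sum_ite_eq,
        if_pos hw, hc21]
      rfl
    rw [Finset.sum_congr rfl hin, Finset.sum_const, hc21]
    rfl
  have hv' : v ∈ Finset.univ \ C := by
    rw [Finset.mem_sdiff]
    exact ⟨Finset.mem_univ _, hv⟩
  have hz : ∑ u ∈ Finset.univ \ C, (((nbr G u ∩ C).card : ℤ) - 6) ^ 2 = 0 := by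
    have e : ∀ u ∈ Finset.univ \ C, (((nbr G u ∩ C).card : ℤ) - 6) ^ 2
        = (((nbr G u ∩ C).card * (nbr G u ∩ C).card : ℕ) : ℤ)
          - 12 * (((nbr G u ∩ C).card : ℕ) : ℤ) + 36 := by
      intro u _
      push_cast
      ring
    rw [Finset.sum_congr rfl e, Finset.sum_add_distrib, Finset.sum_sub_distrib, ← Finset.mul_sum,
      ← Nat.cast_sum, ← Nat.cast_sum, h1, h2, Finset.sum_const, hScard]
    norm_num
  have hnn := (Finset.sum_eq_zero_iff_of_nonneg (fun u _ => sq_nonneg _)).1 hz v hv'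
  have h6 : ((nbr G v ∩ C).card : ℤ) - 6 = 0 := by
    simpa using hnn
  omega

end Cfsg.Agent.Lib.helper33
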