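import Mathlib
import Cfsg.Agent.Lib.helper44.SL3Defs

/-!
# S2287 piece C4c (`core4_bm`): the relation `[Z(t), W(u)] = x(tu)` over the field with four
elements.
-/

set_option autoImplicit false

namespace Cfsg.Agent.Lib.helper44.SL3

/-- `cm (a * b) c = a * cm b c * a⁻¹ * cm a c`. -/
theorem helper33_cm_mul_left {G : Type*} [Group G] (a b c : G) :
    cm (a * b) c = a * cm b c * a⁻¹ * cm a c := by
  unfold cm; group

/-- `cm a (b * c) = cm a b * (b * cm a c * b⁻¹)`. -/
theorem helper33_cm_mul_right {G : Type*} [Group G] (a b c : G) :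
    cm a (b * c) = cm a b * (b * cm a c * b⁻¹) := by
  unfold cm; group

/-- conjugation of a commutator. -/
theorem helper33_cm_conj {G : Type*} [Group G] (h a b : G) :
    h * cm a b * h⁻¹ = cm (h * a * h⁻¹) (h * b * h⁻¹) := by
  unfold cm; group

/-- The four elements of a field of order four. -/
theorem helper33_four_cases {F : Type*} [Field F] [Fintype F] [CharP F 2]
    (hcard : Fintype.card F = 4) (ω : F) (hω : ω ^ 2 = ω + 1) :
    ∀ a : F, a = 0 ∨ a = 1 ∨ a = ω ∨ a = ω + 1 := by
  classical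
  have h2 : (2 : F) = 0 := CharP.ofNat_eq_zero F 2
  have hω0 : ω ≠ 0 := by
    intro h0; rw [h0] at hω; simp at hω
  have hω1 : ω ≠ 1 := by
    intro h1; rw [h1] at hω
    have : (1 : F) = 0 := by linear_combination (-1 : F) * hω
    exact one_ne_zero this
  have h10 : (1 : F) ≠ 0 := one_ne_zero
  have hω10 : ω + 1 ≠ 0 := by
    intro h0
    apply hω1
    linear_combination h0 - h2
  have hω11 : ω + 1 ≠ 1 := by
    intro h0; apply hω0; linear_combination h0
  have hω1ω : ω + 1 ≠ ω := by
    intro h0; apply h10; linear_combination h0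
  have hcardS : ({0, 1, ω, ω + 1} : Finset F).card = 4 := by
    rw [Finset.card_insert_of_notMem, Finset.card_insert_of_notMem, Finset.card_insert_of_notMem,
      Finset.card_singleton]
    · simp [hω1ω.symm]
    · simp [hω1.symm, hω11.symm]
    · simp [h10.symm, hω0.symm, hω10.symm]
  have huniv : ({0, 1, ω, ω + 1} : Finset F) = Finset.univ :=
    Finset.eq_univ_of_card _ (by rw [hcardS, hcard])
  intro a
  have ha : a ∈ ({0, 1, ω, ω + 1} : Finset F) := by rw [huniv]; exact Finset.mem_univ a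
  simpa using ha

-- C4c
theorem core4_bm {G : Type*} [Group G] {F : Type*} [Field F] [Fintype F] [CharP F 2]
    (hcard : Fintype.card F = 4) (x Z W : F → G) (h : G) (ω : F) (hω : ω ^ 2 = ω + 1)
    (x_add : ∀ a b, x (a + b) = x a * x b) (Z_add : ∀ a b, Z (a + b) = Z a * Z b)
    (W_add : ∀ a b, W (a + b) = W a * W b)
    (xZ : ∀ a b, Commute (x a) (Z b)) (xW : ∀ a b, Commute (x a) (W b))
    (h11 : cm (Z 1) (W 1) = x 1) (h1ω : cm (Z 1) (W ω) = x ω)
    (h_Z : ∀ t, h * Z t * h⁻¹ = Z (ω ^ 2 * t)) (h_W : ∀ t, h * W t * h⁻¹ = W (ω ^ 2 * t))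
    (h_x : ∀ a, h * x a * h⁻¹ = x (ω * a)) :
    ∀ t u, cm (Z t) (W u) = x (t * u) := by
  have h2 : (2 : F) = 0 := CharP.ofNat_eq_zero F 2
  have hcases := helper33_four_cases hcard ω hω
  have hω3 : ω ^ 2 * ω = 1 := by
    rw [hω]; linear_combination hω + h2 * ω
  have hω4 : ω ^ 2 * ω ^ 2 = ω := by
    have : ω ^ 2 * ω ^ 2 = (ω ^ 2 * ω) * ω := by ring
    rw [this, hω3, one_mul]
  have x0 : x 0 = 1 := by
    have := x_add 0 0
    rw [add_zero] at this
    exact (mul_eq_left.mp this.symm)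
  have Z0 : Z 0 = 1 := by
    have := Z_add 0 0
    rw [add_zero] at this
    exact (mul_eq_left.mp this.symm)
  have W0 : W 0 = 1 := by
    have := W_add 0 0
    rw [add_zero] at this
    exact (mul_eq_left.mp this.symm)
  -- additivity in `u`
  have addu : ∀ t u u', cm (Z t) (W u) = x (t * u) → cm (Z t) (W u') = x (t * u') →
      cm (Z t) (W (u + u')) = x (t * (u + u')) := by
    intro t u u' h1 h2'
    rw [W_add, helper33_cm_mul_right, h1, h2', mul_add, x_add]
    have := (xW (t * u') u).eq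
    rw [← this, mul_assoc (x (t * u')), mul_inv_cancel, mul_one]
  -- additivity in `t`
  have addt : ∀ t t' u, cm (Z t) (W u) = x (t * u) → cm (Z t') (W u) = x (t' * u) →
      cm (Z (t + t')) (W u) = x ((t + t') * u) := by
    intro t t' u h1 h2'
    rw [Z_add, helper33_cm_mul_left, h1, h2', add_mul, x_add]
    have := (xZ (t' * u) t).eq
    rw [← this]
    have hc : x (t' * u) * x (t * u) = x (t * u) * x (t' * u) := by
      rw [← x_add, ← x_add, add_comm]
    rw [mul_assoc (x (t' * u)), mul_inv_cancel, mul_one, hc]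
  -- conjugation by `h`
  have conj : ∀ t u, cm (Z t) (W u) = x (t * u) →
      cm (Z (ω ^ 2 * t)) (W (ω ^ 2 * u)) = x ((ω ^ 2 * t) * (ω ^ 2 * u)) := by
    intro t u h1
    have this : h * cm (Z t) (W u) * h⁻¹ = h * x (t * u) * h⁻¹ := by rw [h1]
    rw [helper33_cm_conj, h_Z, h_W, h_x] at this
    rw [this]
    congr 1
    have : ω ^ 2 * t * (ω ^ 2 * u) = (ω ^ 2 * ω ^ 2) * (t * u) := by ring
    rw [this, hω4]
  -- `t = 1`
  have h1all : ∀ u, cm (Z 1) (W u) = x (1 * u) := by
    intro u
    rcases hcases u with rfl | rfl | rfl | rfl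
    · rw [W0, mul_zero, x0]; unfold cm; group
    · rw [one_mul]; exact h11
    · rw [one_mul]; exact h1ω
    · exact addu 1 ω 1 (by rw [one_mul]; exact h1ω) (by rw [one_mul]; exact h11)
  -- `t = ω²`
  have h2all : ∀ u, cm (Z (ω ^ 2)) (W u) = x (ω ^ 2 * u) := by
    intro u
    have := conj 1 (ω * u) (h1all (ω * u))
    have e1 : ω ^ 2 * (ω * u) = u := by rw [← mul_assoc, hω3, one_mul]
    rw [mul_one, e1] at this
    exact this
  -- `t = ω`
  have h3all : ∀ u, cm (Z ω) (W u) = x (ω * u) := by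
    intro u
    have := conj (ω ^ 2) (ω * u) (h2all (ω * u))
    have e1 : ω ^ 2 * (ω * u) = u := by rw [← mul_assoc, hω3, one_mul]
    rw [hω4, e1] at this
    exact this
  intro t u
  rcases hcases t with rfl | rfl | rfl | rfl
  · rw [Z0, zero_mul, x0]; unfold cm; group
  · exact h1all u
  · exact h3all u
  · have := addt ω 1 u (h3all u) (h1all u)
    exact this

end Cfsg.Agent.Lib.helper44.SL3
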