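import Mathlib
import Cfsg.Agent.Lib.helper49.SPEDefs

/-!
S2333 split (helper49), piece ECOUNT (racer copy): there are at least `(q^n - 1)(q^n - q)`
linearly independent pairs of vectors in `F^n`.
-/

set_option autoImplicit false

namespace Cfsg.Agent.Lib.helper49.SPE

theorem h33_card_indep_inner {F : Type*} [Field F] [Fintype F] {n : ℕ} (u : Fin n → F)
    (hu : u ≠ 0) [DecidablePred fun v : Fin n → F => Indep u v] :
    Fintype.card F ^ n - Fintype.card F ≤ Fintype.card {v : Fin n → F // Indep u v} := by
  classical
  have hV : Fintype.card (Fin n → F) = Fintype.card F ^ n := by simp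
  have h1 : Fintype.card {v : Fin n → F // ¬ Indep u v} ≤ Fintype.card F := by
    rw [Fintype.card_subtype]
    calc (Finset.univ.filter (fun v : Fin n → F => ¬ Indep u v)).card
        ≤ (Finset.univ.image (fun κ : F => κ • u)).card := by
          apply Finset.card_le_card
          intro v hv
          rw [Finset.mem_filter] at hv
          rw [Finset.mem_image]
          have hv2 := hv.2
          unfold Indep at hv2
          push Not at hv2
          obtain ⟨s, t, hst, hne⟩ := hv2
          have ht : t ≠ 0 := by
            intro ht
            rw [ht, zero_smul, add_zero] at hst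
            rcases smul_eq_zero.mp hst with h | h
            · exact hne h ht
            · exact hu h
          refine ⟨-(t⁻¹ * s), Finset.mem_univ _, ?_⟩
          have h3 : t • v = -(s • u) := eq_neg_of_add_eq_zero_right hst
          have h4 : v = t⁻¹ • (t • v) := by rw [smul_smul, inv_mul_cancel₀ ht, one_smul]
          rw [h4, h3, smul_neg, smul_smul, neg_smul]
      _ ≤ (Finset.univ : Finset F).card := Finset.card_image_le
      _ = Fintype.card F := Finset.card_univ
  have h2 := Fintype.card_subtype_compl (fun v : Fin n → F => Indep u v)
  have h3 : Fintype.card {v : Fin n → F // Indep u v} ≤ Fintype.card (Fin n → F) :=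
    Fintype.card_subtype_le _
  omega

theorem h33_card_indep {F : Type*} [Field F] [Fintype F] {n : ℕ} :
    (Fintype.card F ^ n - 1) * (Fintype.card F ^ n - Fintype.card F) ≤
      Nat.card {p : (Fin n → F) × (Fin n → F) // Indep p.1 p.2} := by
  classical
  have hV : Fintype.card (Fin n → F) = Fintype.card F ^ n := by simp
  rw [Nat.card_eq_fintype_card,
    Fintype.card_congr (Equiv.subtypeProdEquivSigmaSubtype (fun u v : Fin n → F => Indep u v)),
    Fintype.card_sigma]
  have hc : (Finset.univ.filter (fun u : Fin n → F => u ≠ 0)).card = Fintype.card F ^ n - 1 := by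
    rw [Finset.filter_ne', Finset.card_erase_of_mem (Finset.mem_univ _), Finset.card_univ, hV]
  calc (Fintype.card F ^ n - 1) * (Fintype.card F ^ n - Fintype.card F)
      = ∑ _u ∈ Finset.univ.filter (fun u : Fin n → F => u ≠ 0),
          (Fintype.card F ^ n - Fintype.card F) := by
        rw [Finset.sum_const, smul_eq_mul, hc]
    _ ≤ ∑ u ∈ Finset.univ.filter (fun u : Fin n → F => u ≠ 0),
          Fintype.card {v : Fin n → F // Indep u v} :=
        Finset.sum_le_sum (fun u hu => h33_card_indep_inner u (Finset.mem_filter.mp hu).2)
    _ ≤ ∑ u : Fin n → F, Fintype.card {v : Fin n → F // Indep u v} :=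
        Finset.sum_le_sum_of_subset (Finset.filter_subset _ _)

end Cfsg.Agent.Lib.helper49.SPE
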