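import Mathlib
import Cfsg.Agent.Lib.helper49.SPEDefs

/-!
S2333 split (helper49), piece THCARD (racer copy): in characteristic 2 there are at least
`q (q - 1) (q + 1) / 2` triples `(a, b, c)` with `b ≠ 0` and (`a = 0` or `a t² + b t + c` has a root).
-/

set_option autoImplicit false

namespace Cfsg.Agent.Lib.helper49.SPE

theorem h33_thcard_fibre {F : Type*} [Field F] [Fintype F] [DecidableEq F] (h2 : (2 : F) = 0)
    (a b c : F) (ha : a ≠ 0) :
    (Finset.filter (fun x : F × F × F => (x.1, x.2.1, x.1 * x.2.2 ^ 2 + x.2.1 * x.2.2) = (a, b, c))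
      ((Finset.univ.erase (0 : F)) ×ˢ ((Finset.univ.erase (0 : F)) ×ˢ (Finset.univ : Finset F)))).card
      ≤ 2 := by
  by_cases hne : (Finset.filter
      (fun x : F × F × F => (x.1, x.2.1, x.1 * x.2.2 ^ 2 + x.2.1 * x.2.2) = (a, b, c))
      ((Finset.univ.erase (0 : F)) ×ˢ ((Finset.univ.erase (0 : F)) ×ˢ (Finset.univ : Finset F)))).Nonempty
  · obtain ⟨⟨a0, b0, t0⟩, hx0⟩ := hne
    rw [Finset.mem_filter] at hx0
    have h0 := hx0.2
    simp only [Prod.mk.injEq] at h0
    obtain ⟨rfl, rfl, hc0⟩ := h0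
    refine le_trans (Finset.card_le_card (t := {(a0, b0, t0), (a0, b0, t0 + b0 / a0)}) ?_)
      Finset.card_le_two
    rintro ⟨a1, b1, t1⟩ hx1
    rw [Finset.mem_filter] at hx1
    have h1 := hx1.2
    simp only [Prod.mk.injEq] at h1
    obtain ⟨rfl, rfl, hc1⟩ := h1
    rw [Finset.mem_insert, Finset.mem_singleton]
    have hprod : (t1 - t0) * (a1 * (t1 - t0) + b1) = 0 := by
      have : (t1 - t0) * (a1 * (t1 - t0) + b1)
          = (a1 * t1 ^ 2 + b1 * t1) - (a1 * t0 ^ 2 + b1 * t0) + (2 : F) * (a1 * t0 * (t0 - t1)) := by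
        ring
      rw [this, hc1, hc0, h2]
      ring
    rcases mul_eq_zero.mp hprod with h | h
    · left
      have : t1 = t0 := sub_eq_zero.mp h
      rw [this]
    · right
      have : t1 = t0 + b1 / a1 := by
        field_simp
        have h' : a1 * t1 = a1 * t0 - b1 := by linear_combination h
        have h'' : a1 * t0 - b1 = a1 * t0 + b1 := by linear_combination (-b1) * h2
        rw [mul_comm t1 a1, h', h'']
        ring
      rw [this]
  · rw [Finset.not_nonempty_iff_eq_empty] at hne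
    rw [hne]
    simp

theorem h33_card_hyp_triples {F : Type*} [Field F] [Fintype F] (h2 : (2 : F) = 0) :
    Fintype.card F * (Fintype.card F - 1) * (Fintype.card F + 1) ≤
      2 * Nat.card {p : F × F × F //
        p.2.1 ≠ 0 ∧ (p.1 = 0 ∨ ∃ t : F, p.1 * t ^ 2 + p.2.1 * t + p.2.2 = 0)} := by
  classical
  rw [Nat.card_eq_fintype_card, Fintype.card_subtype]
  set T := Finset.univ.filter (fun p : F × F × F =>
    p.2.1 ≠ 0 ∧ (p.1 = 0 ∨ ∃ t : F, p.1 * t ^ 2 + p.2.1 * t + p.2.2 = 0)) with hT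
  set T0 : Finset (F × F × F) :=
    ({0} : Finset F) ×ˢ ((Finset.univ.erase (0 : F)) ×ˢ (Finset.univ : Finset F)) with hT0
  set T1 : Finset (F × F × F) := T.filter (fun p => p.1 ≠ 0) with hT1
  set D : Finset (F × F × F) :=
    (Finset.univ.erase (0 : F)) ×ˢ ((Finset.univ.erase (0 : F)) ×ˢ (Finset.univ : Finset F)) with hD
  have hq1 : (Finset.univ.erase (0 : F)).card = Fintype.card F - 1 := by
    rw [Finset.card_erase_of_mem (Finset.mem_univ _), Finset.card_univ]
  have hcT0 : T0.card = (Fintype.card F - 1) * Fintype.card F := by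
    rw [hT0, Finset.card_product, Finset.card_product, Finset.card_singleton, hq1,
      Finset.card_univ, one_mul]
  have hcD : D.card = (Fintype.card F - 1) * ((Fintype.card F - 1) * Fintype.card F) := by
    rw [hD, Finset.card_product, Finset.card_product, hq1, Finset.card_univ]
  have hT0T : T0 ⊆ T := by
    rintro ⟨a, b, c⟩ hp
    rw [hT0, Finset.mem_product, Finset.mem_product, Finset.mem_singleton, Finset.mem_erase] at hp
    rw [hT, Finset.mem_filter]
    exact ⟨Finset.mem_univ _, hp.2.1.1, Or.inl hp.1⟩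
  have hdisj : Disjoint T0 T1 := by
    rw [Finset.disjoint_left]
    rintro ⟨a, b, c⟩ hp0 hp1
    rw [hT0, Finset.mem_product, Finset.mem_singleton] at hp0
    rw [hT1, Finset.mem_filter] at hp1
    exact hp1.2 hp0.1
  have hunion : T0.card + T1.card ≤ T.card := by
    rw [← Finset.card_union_of_disjoint hdisj]
    exact Finset.card_le_card (Finset.union_subset hT0T (Finset.filter_subset _ _))
  have hmaps : ∀ x ∈ D, (x.1, x.2.1, x.1 * x.2.2 ^ 2 + x.2.1 * x.2.2) ∈ T1 := by
    rintro ⟨a, b, t⟩ hx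
    rw [hD, Finset.mem_product, Finset.mem_product, Finset.mem_erase, Finset.mem_erase] at hx
    rw [hT1, Finset.mem_filter, hT, Finset.mem_filter]
    refine ⟨⟨Finset.mem_univ _, hx.2.1.1, Or.inr ⟨t, ?_⟩⟩, hx.1.1⟩
    show a * t ^ 2 + b * t + (a * t ^ 2 + b * t) = 0
    linear_combination (a * t ^ 2 + b * t) * h2
  have hfib : ∀ y ∈ T1, (Finset.filter
      (fun x : F × F × F => (x.1, x.2.1, x.1 * x.2.2 ^ 2 + x.2.1 * x.2.2) = y) D).card ≤ 2 := by
    rintro ⟨a, b, c⟩ hy
    rw [hT1, Finset.mem_filter] at hy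
    exact h33_thcard_fibre h2 a b c hy.2
  have hD2 : D.card ≤ 2 * T1.card := Finset.card_le_mul_card_image_of_maps_to hmaps 2 hfib
  have hpos : 0 < Fintype.card F := Fintype.card_pos
  obtain ⟨m, hm⟩ : ∃ m, Fintype.card F = m + 1 := ⟨Fintype.card F - 1, by omega⟩
  rw [hm] at hcT0 hcD ⊢
  simp only [Nat.add_sub_cancel] at hcT0 hcD ⊢
  have e : (m + 1) * m * (m + 1 + 1) = 2 * (m * (m + 1)) + m * (m * (m + 1)) := by ring
  rw [e]
  calc 2 * (m * (m + 1)) + m * (m * (m + 1)) = 2 * T0.card + D.card := by rw [hcT0, hcD]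
    _ ≤ 2 * T0.card + 2 * T1.card := Nat.add_le_add_left hD2 _
    _ = 2 * (T0.card + T1.card) := by ring
    _ ≤ 2 * T.card := Nat.mul_le_mul_left 2 hunion

end Cfsg.Agent.Lib.helper49.SPE
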