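import Mathlib

/-!
# S3350 piece P3 (racer copy, prefixed name): a transposition commuting with a two-point stabilizer.
-/

set_option autoImplicit false
open Equiv MulAction

namespace Cfsg.Agent.Lib.helper70.SR

/-- P3 (a transposition commuting with a two-point stabilizer); verbatim statement of
`swap_eq_of_comm_stab`. -/
theorem h33_swap_eq_of_comm_stab (m : ℕ) (hm : 5 ≤ m) (a b i j : Fin m) (hab : a ≠ b) (hij : i ≠ j)
    (h : ∀ σ : Perm (Fin m), σ a = a → σ b = b → σ * swap i j = swap i j * σ) :
    swap i j = swap a b := by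
  have hfin : ∀ s : Finset (Fin m), s.card < m → ∃ k, k ∉ s := by
    intro s hs
    by_contra h
    push_neg at h
    have : s = Finset.univ := Finset.eq_univ_iff_forall.mpr h
    rw [this, Finset.card_univ, Fintype.card_fin] at hs
    omega
  have key : ∀ i j : Fin m, i ≠ j →
      (∀ σ : Perm (Fin m), σ a = a → σ b = b → σ * swap i j = swap i j * σ) → i = a ∨ i = b := by
    intro i j hij h
    by_contra hcon
    push_neg at hcon
    obtain ⟨l, hl⟩ := hfin {a, b, i, j} (lt_of_le_of_lt Finset.card_le_four (by omega))
    simp only [Finset.mem_insert, Finset.mem_singleton, not_or] at hl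
    obtain ⟨hla, hlb, hli, hlj⟩ := hl
    have hσ := h (swap i l) (swap_apply_of_ne_of_ne (Ne.symm hcon.1) (Ne.symm hla))
      (swap_apply_of_ne_of_ne (Ne.symm hcon.2) (Ne.symm hlb))
    have h6 := congrArg (fun σ : Perm (Fin m) => σ i) hσ
    simp only [Perm.coe_mul, Function.comp_apply, swap_apply_left] at h6
    rw [swap_apply_of_ne_of_ne (Ne.symm hij) (Ne.symm hlj), swap_apply_of_ne_of_ne hli hlj] at h6
    exact hlj h6.symm
  have hi := key i j hij h
  have hj := key j i (Ne.symm hij) (by intro σ h1 h2; rw [swap_comm j i]; exact h σ h1 h2)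
  rcases hi with rfl | rfl <;> rcases hj with rfl | rfl
  · exact absurd rfl hij
  · rfl
  · exact swap_comm _ _
  · exact absurd rfl hij

end Cfsg.Agent.Lib.helper70.SR
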