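import Mathlib
import Cfsg.Agent.Lib.helper45.SVDefs

/-! S2425 piece COMB (racer copy by helper33): permutations `κ` of `Fin n` with `κ i ≤ i + 1`
correspond to sets of block ends.  Proof: both sides of the identity satisfy the same recursion
obtained by peeling position `0`. -/

set_option autoImplicit false

namespace Cfsg.Agent.Lib.helper45.SV

/-! ### `topOf`, `compOf` -/

theorem h33_topOf_le {n : ℕ} (D : Finset (Fin n)) (i : Fin n) (m : ℕ)
    (h : ∀ d ∈ D, d < i → d.val + 1 ≤ m) : topOf D i ≤ m := by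
  unfold topOf
  apply Finset.sup_le
  intro x hx
  rw [Finset.mem_image] at hx
  obtain ⟨d, hd, rfl⟩ := hx
  rw [Finset.mem_filter] at hd
  exact h d hd.1 hd.2

theorem h33_le_topOf {n : ℕ} (D : Finset (Fin n)) (i d : Fin n) (hd : d ∈ D) (hdi : d < i) :
    d.val + 1 ≤ topOf D i := by
  unfold topOf
  have h : d.val + 1 ∈ (D.filter (fun d => d < i)).image (fun d : Fin n => d.val + 1) :=
    Finset.mem_image.mpr ⟨d, Finset.mem_filter.mpr ⟨hd, hdi⟩, rfl⟩
  exact Finset.le_sup (f := id) h

theorem h33_topOf_cases {n : ℕ} (D : Finset (Fin n)) (i : Fin n) :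
    topOf D i = 0 ∨ ∃ d ∈ D, d < i ∧ topOf D i = d.val + 1 := by
  unfold topOf
  rcases Finset.eq_empty_or_nonempty
    ((D.filter (fun d => d < i)).image (fun d : Fin n => d.val + 1)) with h | h
  · left; rw [h, Finset.sup_empty]; rfl
  · right
    obtain ⟨x, hx, hsup⟩ := Finset.exists_mem_eq_sup _ h id
    rw [Finset.mem_image] at hx
    obtain ⟨d, hd, rfl⟩ := hx
    rw [Finset.mem_filter] at hd
    exact ⟨d, hd.1, hd.2, hsup⟩

theorem h33_topOf_le_self {n : ℕ} (D : Finset (Fin n)) (i : Fin n) : topOf D i ≤ i.val :=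
  h33_topOf_le D i i.val (fun _ _ hdi => Fin.lt_def.mp hdi)

/-- shift a set of positions up by one -/
def h33_up {n : ℕ} (D : Finset (Fin n)) : Finset (Fin (n + 1)) := D.map (Fin.succEmb n)

/-- shift down -/
def h33_down {n : ℕ} (D : Finset (Fin (n + 1))) : Finset (Fin n) :=
  Finset.univ.filter (fun i => i.succ ∈ D)

theorem h33_mem_up' {n : ℕ} (D : Finset (Fin n)) (d : Fin (n + 1)) :
    d ∈ h33_up D ↔ ∃ d' ∈ D, d = d'.succ := by
  unfold h33_up
  rw [Finset.mem_map]
  constructor
  · rintro ⟨a, ha, rfl⟩; exact ⟨a, ha, rfl⟩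
  · rintro ⟨a, ha, rfl⟩; exact ⟨a, ha, rfl⟩

theorem h33_mem_up {n : ℕ} (D : Finset (Fin n)) (i : Fin n) : i.succ ∈ h33_up D ↔ i ∈ D := by
  rw [h33_mem_up']
  constructor
  · rintro ⟨a, ha, h⟩
    rw [Fin.succ_injective _ h]; exact ha
  · intro h; exact ⟨i, h, rfl⟩

theorem h33_zero_not_mem_up {n : ℕ} (D : Finset (Fin n)) : (0 : Fin (n + 1)) ∉ h33_up D := by
  rw [h33_mem_up']
  rintro ⟨a, _, h⟩
  exact Fin.succ_ne_zero a h.symm

theorem h33_mem_down {n : ℕ} (D : Finset (Fin (n + 1))) (i : Fin n) :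
    i ∈ h33_down D ↔ i.succ ∈ D := by
  unfold h33_down
  rw [Finset.mem_filter]
  exact ⟨fun h => h.2, fun h => ⟨Finset.mem_univ _, h⟩⟩

theorem h33_down_ins {n : ℕ} (D : Finset (Fin n)) : h33_down (insert 0 (h33_up D)) = D := by
  ext i
  rw [h33_mem_down, Finset.mem_insert, h33_mem_up]
  constructor
  · rintro (h | h)
    · exact absurd h (Fin.succ_ne_zero i)
    · exact h
  · intro h; exact Or.inr h

theorem h33_down_up {n : ℕ} (D : Finset (Fin n)) : h33_down (h33_up D) = D := by
  ext i
  rw [h33_mem_down, h33_mem_up]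

theorem h33_ins_up_down {n : ℕ} (D : Finset (Fin (n + 1))) (h0 : (0 : Fin (n + 1)) ∈ D) :
    insert 0 (h33_up (h33_down D)) = D := by
  ext j
  refine Fin.cases ?_ (fun i => ?_) j
  · exact ⟨fun _ => h0, fun _ => Finset.mem_insert_self _ _⟩
  · rw [Finset.mem_insert, h33_mem_up, h33_mem_down]
    constructor
    · rintro (h | h)
      · exact absurd h (Fin.succ_ne_zero i)
      · exact h
    · intro h; exact Or.inr h

theorem h33_up_down {n : ℕ} (D : Finset (Fin (n + 1))) (h0 : (0 : Fin (n + 1)) ∉ D) :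
    h33_up (h33_down D) = D := by
  ext j
  refine Fin.cases ?_ (fun i => ?_) j
  · exact ⟨fun h => absurd h (h33_zero_not_mem_up _), fun h => absurd h h0⟩
  · rw [h33_mem_up, h33_mem_down]

theorem h33_card_ins {n : ℕ} (D : Finset (Fin n)) :
    (insert 0 (h33_up D)).card = D.card + 1 := by
  rw [Finset.card_insert_of_notMem (h33_zero_not_mem_up D), h33_up, Finset.card_map]

theorem h33_card_up {n : ℕ} (D : Finset (Fin n)) : (h33_up D).card = D.card := by
  rw [h33_up, Finset.card_map]

theorem h33_topOf_ins {n : ℕ} (D : Finset (Fin n)) (i : Fin n) :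
    topOf (insert 0 (h33_up D)) i.succ = topOf D i + 1 := by
  apply le_antisymm
  · apply h33_topOf_le
    intro d hd hdi
    rw [Finset.mem_insert] at hd
    rcases hd with rfl | hd
    · simp
    · obtain ⟨d', hd', rfl⟩ := (h33_mem_up' D d).mp hd
      have h2 := h33_le_topOf D i d' hd' (Fin.succ_lt_succ_iff.mp hdi)
      rw [Fin.val_succ]; omega
  · rcases h33_topOf_cases D i with h0 | ⟨d', hd', hdi, h1⟩
    · rw [h0]
      have h := h33_le_topOf (insert 0 (h33_up D)) i.succ 0 (Finset.mem_insert_self _ _)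
        (Fin.succ_pos i)
      simpa using h
    · rw [h1]
      have h := h33_le_topOf (insert 0 (h33_up D)) i.succ d'.succ
        (Finset.mem_insert_of_mem ((h33_mem_up D d').mpr hd')) (Fin.succ_lt_succ_iff.mpr hdi)
      rw [Fin.val_succ] at h; exact h

theorem h33_topOf_up_zero {n : ℕ} (D : Finset (Fin n)) (i : Fin n) (h0 : topOf D i = 0) :
    topOf (h33_up D) i.succ = 0 := by
  apply Nat.le_zero.mp
  apply h33_topOf_le
  intro d hd hdi
  obtain ⟨d', hd', rfl⟩ := (h33_mem_up' D d).mp hd
  have h2 := h33_le_topOf D i d' hd' (Fin.succ_lt_succ_iff.mp hdi)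
  omega

theorem h33_topOf_up_pos {n : ℕ} (D : Finset (Fin n)) (i : Fin n) (h0 : topOf D i ≠ 0) :
    topOf (h33_up D) i.succ = topOf D i + 1 := by
  apply le_antisymm
  · apply h33_topOf_le
    intro d hd hdi
    obtain ⟨d', hd', rfl⟩ := (h33_mem_up' D d).mp hd
    have h2 := h33_le_topOf D i d' hd' (Fin.succ_lt_succ_iff.mp hdi)
    rw [Fin.val_succ]; omega
  · rcases h33_topOf_cases D i with h | ⟨d', hd', hdi, h1⟩
    · exact absurd h h0
    · rw [h1]
      have h := h33_le_topOf (h33_up D) i.succ d'.succ ((h33_mem_up D d').mpr hd')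
        (Fin.succ_lt_succ_iff.mpr hdi)
      rw [Fin.val_succ] at h; exact h

theorem h33_compOf_mem {n : ℕ} (D : Finset (Fin n)) (i : Fin n) (hi : i ∈ D) :
    compOf D i = i.val + 1 - topOf D i := by
  unfold compOf; rw [if_pos hi]

theorem h33_compOf_not_mem {n : ℕ} (D : Finset (Fin n)) (i : Fin n) (hi : i ∉ D) :
    compOf D i = 0 := by
  unfold compOf; rw [if_neg hi]

theorem h33_compOf_ne_zero_iff {n : ℕ} (D : Finset (Fin n)) (i : Fin n) :
    compOf D i ≠ 0 ↔ i ∈ D := by
  constructor
  · intro h; by_contra hi; exact h (h33_compOf_not_mem D i hi)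
  · intro hi; rw [h33_compOf_mem D i hi]; have := h33_topOf_le_self D i; omega

theorem h33_first_iff {n : ℕ} (D : Finset (Fin n)) (i : Fin n) :
    (∀ k : Fin n, k < i → compOf D k = 0) ↔ topOf D i = 0 := by
  constructor
  · intro h
    apply Nat.le_zero.mp
    apply h33_topOf_le
    intro d hd hdi
    exact absurd (h d hdi) ((h33_compOf_ne_zero_iff D d).mpr hd)
  · intro h k hk
    by_contra hne
    have hkD := (h33_compOf_ne_zero_iff D k).mp hne
    have := h33_le_topOf D i k hkD hk
    omega

/-- add one at the first nonzero entry -/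
def h33_bump {n : ℕ} (s : Fin n → ℕ) : Fin n → ℕ :=
  fun i => s i + if (∀ k : Fin n, k < i → s k = 0) ∧ s i ≠ 0 then 1 else 0

theorem h33_compOf_ins {n : ℕ} (D : Finset (Fin n)) :
    compOf (insert 0 (h33_up D)) = Fin.cons 1 (compOf D) := by
  funext j
  refine Fin.cases ?_ (fun i => ?_) j
  · rw [Fin.cons_zero, h33_compOf_mem _ _ (Finset.mem_insert_self _ _)]
    have h : topOf (insert 0 (h33_up D)) 0 = 0 := by
      apply Nat.le_zero.mp
      apply h33_topOf_le
      intro d _ hd
      exact absurd hd (Fin.not_lt_zero d)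
    rw [h]; rfl
  · rw [Fin.cons_succ]
    by_cases hi : i ∈ D
    · have hi' : i.succ ∈ insert 0 (h33_up D) :=
        Finset.mem_insert_of_mem ((h33_mem_up D i).mpr hi)
      rw [h33_compOf_mem _ _ hi', h33_compOf_mem _ _ hi, h33_topOf_ins, Fin.val_succ]
      omega
    · have hi' : i.succ ∉ insert 0 (h33_up D) := by
        rw [Finset.mem_insert]
        rintro (h | h)
        · exact Fin.succ_ne_zero i h
        · exact hi ((h33_mem_up D i).mp h)
      rw [h33_compOf_not_mem _ _ hi', h33_compOf_not_mem _ _ hi]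

theorem h33_compOf_up {n : ℕ} (D : Finset (Fin n)) :
    compOf (h33_up D) = Fin.cons 0 (h33_bump (compOf D)) := by
  funext j
  refine Fin.cases ?_ (fun i => ?_) j
  · rw [Fin.cons_zero, h33_compOf_not_mem _ _ (h33_zero_not_mem_up D)]
  · rw [Fin.cons_succ]
    unfold h33_bump
    by_cases hi : i ∈ D
    · have hne : compOf D i ≠ 0 := (h33_compOf_ne_zero_iff D i).mpr hi
      by_cases h0 : topOf D i = 0
      · rw [if_pos ⟨(h33_first_iff D i).mpr h0, hne⟩,
          h33_compOf_mem _ _ ((h33_mem_up D i).mpr hi), h33_compOf_mem _ _ hi, Fin.val_succ,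
          h33_topOf_up_zero D i h0, h0]
        omega
      · rw [if_neg (fun h => h0 ((h33_first_iff D i).mp h.1)),
          h33_compOf_mem _ _ ((h33_mem_up D i).mpr hi), h33_compOf_mem _ _ hi, Fin.val_succ,
          h33_topOf_up_pos D i h0]
        omega
    · have hi' : i.succ ∉ h33_up D := fun h => hi ((h33_mem_up D i).mp h)
      have hz : compOf D i = 0 := h33_compOf_not_mem _ _ hi
      rw [h33_compOf_not_mem _ _ hi', if_neg (fun h => h.2 hz), hz]

/-! ### `endSets` -/

theorem h33_mem_endSets {n : ℕ} (D : Finset (Fin n)) :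
    D ∈ endSets n ↔ ∀ i : Fin n, i.val + 1 = n → i ∈ D := by
  unfold endSets
  rw [Finset.mem_filter]
  exact ⟨fun h => h.2, fun h => ⟨Finset.mem_univ _, h⟩⟩

theorem h33_ins_mem_endSets {n : ℕ} (D : Finset (Fin n)) :
    insert 0 (h33_up D) ∈ endSets (n + 1) ↔ D ∈ endSets n := by
  rw [h33_mem_endSets, h33_mem_endSets]
  constructor
  · intro h i hi
    have h1 := h i.succ (by rw [Fin.val_succ]; omega)
    rw [Finset.mem_insert] at h1
    rcases h1 with h0 | h1
    · exact absurd h0 (Fin.succ_ne_zero i)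
    · exact (h33_mem_up D i).mp h1
  · intro h j
    refine Fin.cases ?_ (fun i => ?_) j
    · intro _; exact Finset.mem_insert_self _ _
    · intro hj
      rw [Fin.val_succ] at hj
      exact Finset.mem_insert_of_mem ((h33_mem_up D i).mpr (h i (by omega)))

theorem h33_up_mem_endSets {n : ℕ} (D : Finset (Fin n)) (hn : n ≠ 0) :
    h33_up D ∈ endSets (n + 1) ↔ D ∈ endSets n := by
  rw [h33_mem_endSets, h33_mem_endSets]
  constructor
  · intro h i hi
    exact (h33_mem_up D i).mp (h i.succ (by rw [Fin.val_succ]; omega))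
  · intro h j
    refine Fin.cases ?_ (fun i => ?_) j
    · intro hj
      exfalso; apply hn
      have : ((0 : Fin (n + 1)) : ℕ) = 0 := rfl
      omega
    · intro hj
      rw [Fin.val_succ] at hj
      exact (h33_mem_up D i).mpr (h i (by omega))

/-! ### the right-hand side -/

/-- the right-hand side as a functional -/
noncomputable def h33_R (n : ℕ) (Φ : (Fin n → ℕ) → ℂ) : ℂ :=
  ∑ D ∈ endSets n, (-1 : ℂ) ^ (n - D.card) * Φ (compOf D)

theorem h33_R_succ (n : ℕ) (Φ : (Fin (n + 1) → ℕ) → ℂ) :
    h33_R (n + 1) Φ = h33_R n (fun s => Φ (Fin.cons 1 s)) -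
      (if n = 0 then 0 else h33_R n (fun s => Φ (Fin.cons 0 (h33_bump s)))) := by
  unfold h33_R
  rw [← Finset.sum_filter_add_sum_filter_not (endSets (n + 1)) (fun D => (0 : Fin (n + 1)) ∈ D)]
  have hA : ∑ D ∈ (endSets (n + 1)).filter (fun D => (0 : Fin (n + 1)) ∈ D),
      (-1 : ℂ) ^ (n + 1 - D.card) * Φ (compOf D) =
      ∑ D ∈ endSets n, (-1 : ℂ) ^ (n - D.card) * Φ (Fin.cons 1 (compOf D)) := by
    symm
    apply Finset.sum_nbij' (fun D => insert 0 (h33_up D)) (fun D => h33_down D)
    · intro D hD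
      rw [Finset.mem_filter]
      exact ⟨(h33_ins_mem_endSets D).mpr hD, Finset.mem_insert_self _ _⟩
    · intro D hD
      rw [Finset.mem_filter] at hD
      have e : insert 0 (h33_up (h33_down D)) = D := h33_ins_up_down D hD.2
      rw [← h33_ins_mem_endSets, e]; exact hD.1
    · intro D _; exact h33_down_ins D
    · intro D hD
      rw [Finset.mem_filter] at hD
      exact h33_ins_up_down D hD.2
    · intro D _
      rw [h33_compOf_ins, h33_card_ins, Nat.add_sub_add_right]
  have hB : ∑ D ∈ (endSets (n + 1)).filter (fun D => ¬ (0 : Fin (n + 1)) ∈ D),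
      (-1 : ℂ) ^ (n + 1 - D.card) * Φ (compOf D) =
      - (if n = 0 then 0 else
        ∑ D ∈ endSets n, (-1 : ℂ) ^ (n - D.card) * Φ (Fin.cons 0 (h33_bump (compOf D)))) := by
    by_cases hn : n = 0
    · rw [if_pos hn, neg_zero]
      apply Finset.sum_eq_zero
      intro D hD
      rw [Finset.mem_filter] at hD
      exfalso
      apply hD.2
      apply (h33_mem_endSets D).mp hD.1
      subst hn
      rfl
    · rw [if_neg hn, ← Finset.sum_neg_distrib]
      symm
      apply Finset.sum_nbij' (fun D => h33_up D) (fun D => h33_down D)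
      · intro D hD
        rw [Finset.mem_filter]
        exact ⟨(h33_up_mem_endSets D hn).mpr hD, h33_zero_not_mem_up D⟩
      · intro D hD
        rw [Finset.mem_filter] at hD
        have e : h33_up (h33_down D) = D := h33_up_down D hD.2
        rw [← h33_up_mem_endSets _ hn, e]; exact hD.1
      · intro D _; exact h33_down_up D
      · intro D hD
        rw [Finset.mem_filter] at hD
        exact h33_up_down D hD.2
      · intro D _
        rw [h33_compOf_up, h33_card_up]
        have hc : D.card ≤ n := by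
          have := Finset.card_le_univ D
          simpa using this
        have e : n + 1 - D.card = (n - D.card) + 1 := by omega
        rw [e, pow_succ]
        ring
  rw [hA, hB]
  ring

/-! ### the left-hand side -/

/-- the left-hand side as a functional -/
noncomputable def h33_L (n : ℕ) (Φ : (Fin n → ℕ) → ℂ) : ℂ :=
  ∑ κ : Equiv.Perm (Fin n), if ∀ i : Fin n, (κ i).val ≤ 1 + i.val then
    ((Equiv.Perm.sign κ : ℤ) : ℂ) * Φ (fun i => 1 + i.val - (κ i).val) else 0

/-- for a permutation with `e i ≤ i + 1`, the preimage of `0` is the first index with `e i ≤ i` -/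
theorem h33_first_perm {n : ℕ} (e : Equiv.Perm (Fin n))
    (hg : ∀ i : Fin n, (e i).val ≤ 1 + i.val) (i : Fin n) :
    (e i).val = 0 ↔
      ((∀ k : Fin n, k < i → 1 + k.val - (e k).val = 0) ∧ 1 + i.val - (e i).val ≠ 0) := by
  constructor
  · intro h0
    refine ⟨?_, by omega⟩
    have key : ∀ m : ℕ, ∀ k : Fin n, k.val = m → k < i → (e k).val = k.val + 1 := by
      intro m
      induction m using Nat.strong_induction_on with
      | _ m ih =>
        intro k hkm hki
        by_contra hne
        have hle : (e k).val ≤ k.val := by have := hg k; omega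
        have hek0 : (e k).val ≠ 0 := by
          intro h
          have h1 : e k = e i := Fin.ext (by rw [h, h0])
          have h2 := e.injective h1
          rw [h2] at hki
          exact lt_irrefl _ hki
        have hk'n : (e k).val - 1 < n := by have := k.2; omega
        have hk'k : (e k).val - 1 < k.val := by omega
        have hk'i : (⟨(e k).val - 1, hk'n⟩ : Fin n) < i :=
          lt_trans (Fin.lt_def.mpr hk'k) hki
        have h1 := ih ((e k).val - 1) (by omega) ⟨(e k).val - 1, hk'n⟩ rfl hk'i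
        have h2 : e ⟨(e k).val - 1, hk'n⟩ = e k := Fin.ext (by rw [h1]; show (e k).val - 1 + 1 = (e k).val; omega)
        have h3 := e.injective h2
        have h4 := congrArg Fin.val h3
        have h5 : (e k).val - 1 = k.val := h4
        omega
    intro k hk
    have := key k.val k rfl hk
    omega
  · rintro ⟨hprev, hi⟩
    by_contra h0
    have hle : (e i).val ≤ i.val := by omega
    have hk'n : (e i).val - 1 < n := by have := i.2; omega
    have hk'i : (⟨(e i).val - 1, hk'n⟩ : Fin n) < i :=
      Fin.lt_def.mpr (by show (e i).val - 1 < i.val; omega)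
    have h1 := hprev ⟨(e i).val - 1, hk'n⟩ hk'i
    have h2 := hg ⟨(e i).val - 1, hk'n⟩
    have h1' : 1 + ((e i).val - 1) - (e ⟨(e i).val - 1, hk'n⟩).val = 0 := h1
    have h2' : (e ⟨(e i).val - 1, hk'n⟩).val ≤ 1 + ((e i).val - 1) := h2
    have h3 : (e ⟨(e i).val - 1, hk'n⟩).val = (e i).val := by omega
    have h4 := e.injective (Fin.ext h3)
    have h5 : (e i).val - 1 = i.val := congrArg Fin.val h4
    omega

theorem h33_L_term_zero {n : ℕ} (Φ : (Fin (n + 1) → ℕ) → ℂ) (e : Equiv.Perm (Fin n)) :
    (if ∀ j : Fin (n + 1), ((Equiv.Perm.decomposeFin.symm ((0 : Fin (n + 1)), e)) j).val ≤ 1 + j.val then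
      ((Equiv.Perm.sign (Equiv.Perm.decomposeFin.symm ((0 : Fin (n + 1)), e)) : ℤ) : ℂ) *
        Φ (fun j => 1 + j.val - ((Equiv.Perm.decomposeFin.symm ((0 : Fin (n + 1)), e)) j).val) else 0) =
    (if ∀ i : Fin n, (e i).val ≤ 1 + i.val then
      ((Equiv.Perm.sign e : ℤ) : ℂ) * Φ (Fin.cons 1 (fun i => 1 + i.val - (e i).val)) else 0) := by
  have hσ0 : (Equiv.Perm.decomposeFin.symm ((0 : Fin (n + 1)), e)) 0 = 0 :=
    Equiv.Perm.decomposeFin_symm_apply_zero 0 e
  have hσs : ∀ i : Fin n, (Equiv.Perm.decomposeFin.symm ((0 : Fin (n + 1)), e)) i.succ = (e i).succ := by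
    intro i
    rw [Equiv.Perm.decomposeFin_symm_apply_succ]
    simp
  have hgood : (∀ j : Fin (n + 1), ((Equiv.Perm.decomposeFin.symm ((0 : Fin (n + 1)), e)) j).val ≤ 1 + j.val) ↔
      ∀ i : Fin n, (e i).val ≤ 1 + i.val := by
    constructor
    · intro h i
      have h1 := h i.succ
      rw [hσs, Fin.val_succ, Fin.val_succ] at h1
      omega
    · intro h j
      refine Fin.cases ?_ (fun i => ?_) j
      · rw [hσ0]; simp
      · rw [hσs, Fin.val_succ, Fin.val_succ]
        have := h i
        omega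
  have hseq : (fun j : Fin (n + 1) => 1 + j.val - ((Equiv.Perm.decomposeFin.symm ((0 : Fin (n + 1)), e)) j).val) =
      Fin.cons 1 (fun i : Fin n => 1 + i.val - (e i).val) := by
    funext j
    refine Fin.cases ?_ (fun i => ?_) j
    · rw [hσ0, Fin.cons_zero]; rfl
    · rw [Fin.cons_succ, hσs, Fin.val_succ, Fin.val_succ]
      omega
  have hsign : Equiv.Perm.sign (Equiv.Perm.decomposeFin.symm ((0 : Fin (n + 1)), e)) = Equiv.Perm.sign e := by
    rw [Equiv.Perm.decomposeFin.symm_sign]; simp
  by_cases hg : ∀ i : Fin n, (e i).val ≤ 1 + i.val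
  · rw [if_pos hg, if_pos (hgood.mpr hg), hseq, hsign]
  · rw [if_neg hg, if_neg (fun h => hg (hgood.mp h))]

theorem h33_L_term_succ {n : ℕ} (Φ : (Fin (n + 1) → ℕ) → ℂ) (p : Fin n) (e : Equiv.Perm (Fin n)) :
    (if ∀ j : Fin (n + 1), ((Equiv.Perm.decomposeFin.symm (p.succ, e)) j).val ≤ 1 + j.val then
      ((Equiv.Perm.sign (Equiv.Perm.decomposeFin.symm (p.succ, e)) : ℤ) : ℂ) *
        Φ (fun j => 1 + j.val - ((Equiv.Perm.decomposeFin.symm (p.succ, e)) j).val) else 0) =
    (if p.val = 0 then
      - (if ∀ i : Fin n, (e i).val ≤ 1 + i.val then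
        ((Equiv.Perm.sign e : ℤ) : ℂ) *
          Φ (Fin.cons 0 (h33_bump (fun i => 1 + i.val - (e i).val))) else 0) else 0) := by
  have hσ0 : (Equiv.Perm.decomposeFin.symm (p.succ, e)) 0 = p.succ :=
    Equiv.Perm.decomposeFin_symm_apply_zero p.succ e
  by_cases hp : p.val = 0
  · rw [if_pos hp]
    have hσs : ∀ i : Fin n, ((Equiv.Perm.decomposeFin.symm (p.succ, e)) i.succ).val =
        if (e i).val = 0 then 0 else (e i).val + 1 := by
      intro i
      rw [Equiv.Perm.decomposeFin_symm_apply_succ, Equiv.swap_apply_def,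
        if_neg (Fin.succ_ne_zero _)]
      by_cases h0 : (e i).val = 0
      · have h1 : (e i).succ = p.succ := by
          apply Fin.ext; rw [Fin.val_succ, Fin.val_succ, h0, hp]
        rw [if_pos h1, if_pos h0]; rfl
      · have h1 : (e i).succ ≠ p.succ := by
          intro h
          have := congrArg Fin.val h
          rw [Fin.val_succ, Fin.val_succ] at this
          omega
        rw [if_neg h1, if_neg h0, Fin.val_succ]
    have hgood : (∀ j : Fin (n + 1), ((Equiv.Perm.decomposeFin.symm (p.succ, e)) j).val ≤ 1 + j.val) ↔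
        ∀ i : Fin n, (e i).val ≤ 1 + i.val := by
      constructor
      · intro h i
        have h1 := h i.succ
        rw [hσs, Fin.val_succ] at h1
        split_ifs at h1 with h0
        · omega
        · omega
      · intro h j
        refine Fin.cases ?_ (fun i => ?_) j
        · rw [hσ0, Fin.val_succ, hp]; simp
        · rw [hσs, Fin.val_succ]
          have := h i
          split_ifs with h0
          · omega
          · omega
    have hsign : Equiv.Perm.sign (Equiv.Perm.decomposeFin.symm (p.succ, e)) = - Equiv.Perm.sign e := by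
      rw [Equiv.Perm.decomposeFin.symm_sign, if_neg (Fin.succ_ne_zero p)]; simp
    by_cases hg : ∀ i : Fin n, (e i).val ≤ 1 + i.val
    · have hseq : (fun j : Fin (n + 1) => 1 + j.val - ((Equiv.Perm.decomposeFin.symm (p.succ, e)) j).val) =
          Fin.cons 0 (h33_bump (fun i : Fin n => 1 + i.val - (e i).val)) := by
        funext j
        refine Fin.cases ?_ (fun i => ?_) j
        · rw [hσ0, Fin.cons_zero, Fin.val_succ, hp]; rfl
        · rw [Fin.cons_succ, hσs, Fin.val_succ]
          unfold h33_bump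
          beta_reduce
          have hS := h33_first_perm e hg i
          by_cases h0 : (e i).val = 0
          · rw [if_pos h0, if_pos (hS.mp h0)]
            omega
          · rw [if_neg h0, if_neg (fun h => h0 (hS.mpr h))]
            omega
      rw [if_pos hg, if_pos (hgood.mpr hg), hseq, hsign]
      push_cast
      ring
    · rw [if_neg hg, if_neg (fun h => hg (hgood.mp h)), neg_zero]
  · rw [if_neg hp, if_neg]
    intro h
    have h1 := h 0
    rw [hσ0, Fin.val_succ] at h1
    have : ((0 : Fin (n + 1)) : ℕ) = 0 := rfl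
    omega

theorem h33_L_succ (n : ℕ) (Φ : (Fin (n + 1) → ℕ) → ℂ) :
    h33_L (n + 1) Φ = h33_L n (fun s => Φ (Fin.cons 1 s)) -
      (if n = 0 then 0 else h33_L n (fun s => Φ (Fin.cons 0 (h33_bump s)))) := by
  unfold h33_L
  rw [Finset.univ_perm_fin_succ, ← Finset.univ_product_univ]
  simp only [Finset.sum_map, Equiv.toEmbedding_apply, Finset.sum_product]
  rw [Fin.sum_univ_succ]
  simp only [h33_L_term_zero, h33_L_term_succ]
  rcases n with _ | m
  · simp
  · rw [Fin.sum_univ_succ]
    have hz : ∀ (x : Fin m) (e : Equiv.Perm (Fin (m + 1))),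
        (if (x.succ : Fin (m + 1)).val = 0 then
          - (if ∀ i : Fin (m + 1), (e i).val ≤ 1 + i.val then
            ((Equiv.Perm.sign e : ℤ) : ℂ) *
              Φ (Fin.cons 0 (h33_bump (fun i => 1 + i.val - (e i).val))) else 0) else 0) = 0 := by
      intro x e
      rw [if_neg]
      rw [Fin.val_succ]; omega
    simp only [hz, Finset.sum_const_zero, add_zero]
    have h0 : ((0 : Fin (m + 1)) : ℕ) = 0 := rfl
    simp only [h0, if_true, Finset.sum_neg_distrib]
    rw [if_neg (Nat.succ_ne_zero m)]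
    ring

/-! ### the identity -/

theorem h33_L_eq_R : ∀ (n : ℕ) (Φ : (Fin n → ℕ) → ℂ), h33_L n Φ = h33_R n Φ := by
  intro n
  induction n with
  | zero =>
    intro Φ
    have hE : endSets 0 = {∅} := by
      ext D
      rw [h33_mem_endSets, Finset.mem_singleton]
      exact ⟨fun _ => Finset.eq_empty_of_isEmpty D, fun _ i => i.elim0⟩
    unfold h33_L h33_R
    rw [hE, Finset.sum_singleton, Fintype.sum_unique, if_pos (fun i => i.elim0)]
    have h1 : (default : Equiv.Perm (Fin 0)) = 1 := Subsingleton.elim _ _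
    rw [h1, Equiv.Perm.sign_one]
    have h2 : (fun i : Fin 0 => 1 + i.val - ((1 : Equiv.Perm (Fin 0)) i).val) = compOf (∅ : Finset (Fin 0)) :=
      funext (fun i => i.elim0)
    rw [h2]
    simp
  | succ n ih =>
    intro Φ
    rw [h33_L_succ, h33_R_succ, ih, ih]

/-- COMB (L). -/
theorem h33_comb_perm {n : ℕ} (Φ : (Fin n → ℕ) → ℂ) :
    (∑ κ : Equiv.Perm (Fin n), if ∀ i : Fin n, (κ i).val ≤ 1 + i.val then
        ((Equiv.Perm.sign κ : ℤ) : ℂ) * Φ (fun i => 1 + i.val - (κ i).val) else 0) =
    ∑ D ∈ endSets n, (-1 : ℂ) ^ (n - D.card) * Φ (compOf D) := by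
  exact h33_L_eq_R n Φ

end Cfsg.Agent.Lib.helper45.SV
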