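/-
The 2-part of the Schur multiplier of `M24`: explicit generators of a Sylow 2-subgroup
`2^4 : U_4(2)`, its relations, its order, and the fact that all involutions lift to involutions
in a stem extension with kernel of order 2.  (owner: helper33; data generated by computer)
-/
import Mathlib
import Cfsg.Prelude.Def_Sporadic_a
import Cfsg.Agent.Lib.helper94.M24Elts
import Cfsg.Agent.Lib.helper33.SchurU4
import Cfsg.Agent.Lib.helper33.SchurWords

set_option autoImplicit false

namespace Cfsg.Agent.Lib.helper33.SM24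

open Cfsg
open scoped commutatorElement
open Cfsg.Agent.Lib.helper33
open Cfsg.Agent.Lib.helper94 (tperm validPerm imgAt idxPt ptIdx ptIdx_idxPt idxPt_ptIdx ptIdx_lt
  tperm_idxPt validPerm_lt allBelow allBelow_iff isM24 isM24_valid tperm_mem_M24 X2A X2B
  repsElts_ok order2_class card_fixed_tperm fixCnt tperm_eq_iff)

def tX12 : ℕ := 0x55ab3a3dd0945a715d28600851ac26
def tX23 : ℕ := 0x5da70ab63443a4cb812f394c21902a
def tX34 : ℕ := 0x56ce8ca697d1ac11a083a8851ac37
def tX13 : ℕ := 0x2da13a3e359390c3112d3aeea18022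
def tX24 : ℕ := 0x2c670acad47a5ac309c83aee01a824
def tX14 : ℕ := 0x32613a49d57c5ac282c83dd621902a
def tE1 : ℕ := 0xba613a3dd5945075aacd618a408860
def tE2 : ℕ := 0xbc670ab6d4426435a9cf098a4608e0
def tE3 : ℕ := 0xbd6ce8b2693d0725aa01798a468900
def tE4 : ℕ := 0xb8daf94d88a1eb15a830718a4b0920
def tR : ℕ := 0x32613a49d57c5ac282c83dd621902a
def tS : ℕ := 0x126b3a4a307b90752ecd610061dc25
def tT : ℕ := 0x12613a0dd50c58d016c74114695deb

theorem tbl_ok : isM24 tX12 = true ∧ isM24 tX23 = true ∧ isM24 tX34 = true ∧ isM24 tX13 = true ∧ isM24 tX24 = true ∧ isM24 tX14 = true ∧ isM24 tE1 = true ∧ isM24 tE2 = true ∧ isM24 tE3 = true ∧ isM24 tE4 = true ∧ isM24 tR = true ∧ isM24 tS = true ∧ isM24 tT = true := by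
  decide +kernel

theorem m_tX12 : tperm tX12 ∈ M24 := tperm_mem_M24 tbl_ok.1
theorem v_tX12 : validPerm tX12 = true := isM24_valid tbl_ok.1
theorem m_tX23 : tperm tX23 ∈ M24 := tperm_mem_M24 tbl_ok.2.1
theorem v_tX23 : validPerm tX23 = true := isM24_valid tbl_ok.2.1
theorem m_tX34 : tperm tX34 ∈ M24 := tperm_mem_M24 tbl_ok.2.2.1
theorem v_tX34 : validPerm tX34 = true := isM24_valid tbl_ok.2.2.1
theorem m_tX13 : tperm tX13 ∈ M24 := tperm_mem_M24 tbl_ok.2.2.2.1
theorem v_tX13 : validPerm tX13 = true := isM24_valid tbl_ok.2.2.2.1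
theorem m_tX24 : tperm tX24 ∈ M24 := tperm_mem_M24 tbl_ok.2.2.2.2.1
theorem v_tX24 : validPerm tX24 = true := isM24_valid tbl_ok.2.2.2.2.1
theorem m_tX14 : tperm tX14 ∈ M24 := tperm_mem_M24 tbl_ok.2.2.2.2.2.1
theorem v_tX14 : validPerm tX14 = true := isM24_valid tbl_ok.2.2.2.2.2.1
theorem m_tE1 : tperm tE1 ∈ M24 := tperm_mem_M24 tbl_ok.2.2.2.2.2.2.1
theorem v_tE1 : validPerm tE1 = true := isM24_valid tbl_ok.2.2.2.2.2.2.1
theorem m_tE2 : tperm tE2 ∈ M24 := tperm_mem_M24 tbl_ok.2.2.2.2.2.2.2.1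
theorem v_tE2 : validPerm tE2 = true := isM24_valid tbl_ok.2.2.2.2.2.2.2.1
theorem m_tE3 : tperm tE3 ∈ M24 := tperm_mem_M24 tbl_ok.2.2.2.2.2.2.2.2.1
theorem v_tE3 : validPerm tE3 = true := isM24_valid tbl_ok.2.2.2.2.2.2.2.2.1
theorem m_tE4 : tperm tE4 ∈ M24 := tperm_mem_M24 tbl_ok.2.2.2.2.2.2.2.2.2.1
theorem v_tE4 : validPerm tE4 = true := isM24_valid tbl_ok.2.2.2.2.2.2.2.2.2.1
theorem m_tR : tperm tR ∈ M24 := tperm_mem_M24 tbl_ok.2.2.2.2.2.2.2.2.2.2.1
theorem v_tR : validPerm tR = true := isM24_valid tbl_ok.2.2.2.2.2.2.2.2.2.2.1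
theorem m_tS : tperm tS ∈ M24 := tperm_mem_M24 tbl_ok.2.2.2.2.2.2.2.2.2.2.2.1
theorem v_tS : validPerm tS = true := isM24_valid tbl_ok.2.2.2.2.2.2.2.2.2.2.2.1
theorem m_tT : tperm tT ∈ M24 := tperm_mem_M24 tbl_ok.2.2.2.2.2.2.2.2.2.2.2.2
theorem v_tT : validPerm tT = true := isM24_valid tbl_ok.2.2.2.2.2.2.2.2.2.2.2.2

/-- generator `x12` -/
noncomputable def y12 : ↥M24 := ⟨tperm tX12, m_tX12⟩
/-- generator `x23` -/
noncomputable def y23 : ↥M24 := ⟨tperm tX23, m_tX23⟩
/-- generator `x34` -/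
noncomputable def y34 : ↥M24 := ⟨tperm tX34, m_tX34⟩
/-- generator `x13` -/
noncomputable def y13 : ↥M24 := ⟨tperm tX13, m_tX13⟩
/-- generator `x24` -/
noncomputable def y24 : ↥M24 := ⟨tperm tX24, m_tX24⟩
/-- generator `x14` -/
noncomputable def y14 : ↥M24 := ⟨tperm tX14, m_tX14⟩
/-- generator `e1` -/
noncomputable def f1 : ↥M24 := ⟨tperm tE1, m_tE1⟩
/-- generator `e2` -/
noncomputable def f2 : ↥M24 := ⟨tperm tE2, m_tE2⟩
/-- generator `e3` -/
noncomputable def f3 : ↥M24 := ⟨tperm tE3, m_tE3⟩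
/-- generator `e4` -/
noncomputable def f4 : ↥M24 := ⟨tperm tE4, m_tE4⟩
noncomputable def gR : ↥M24 := ⟨tperm tR, m_tR⟩
noncomputable def gS : ↥M24 := ⟨tperm tS, m_tS⟩
noncomputable def gT : ↥M24 := ⟨tperm tT, m_tT⟩

theorem h13 : ⁅y12, y23⁆ = y13 := sub_commutator M24 m_tX12 m_tX23 m_tX13 v_tX12 v_tX23 v_tX13 (by decide +kernel)
theorem h24 : ⁅y23, y34⁆ = y24 := sub_commutator M24 m_tX23 m_tX34 m_tX24 v_tX23 v_tX34 v_tX24 (by decide +kernel)
theorem h14 : ⁅y13, y34⁆ = y14 := sub_commutator M24 m_tX13 m_tX34 m_tX14 v_tX13 v_tX34 v_tX14 (by decide +kernel)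
theorem hder : ⁅y12, y24⁆ = y14 := sub_commutator M24 m_tX12 m_tX24 m_tX14 v_tX12 v_tX24 v_tX14 (by decide +kernel)

theorem u4rel : U4Rel y12 y23 y34 f1 f2 f3 f4 where
  s12 := sub_sq M24 m_tX12 v_tX12 (by decide +kernel)
  s23 := sub_sq M24 m_tX23 v_tX23 (by decide +kernel)
  s34 := sub_sq M24 m_tX34 v_tX34 (by decide +kernel)
  s13 := by rw [h13]; exact sub_sq M24 m_tX13 v_tX13 (by decide +kernel)
  s24 := by rw [h24]; exact sub_sq M24 m_tX24 v_tX24 (by decide +kernel)
  s14 := by rw [h13, h14]; exact sub_sq M24 m_tX14 v_tX14 (by decide +kernel)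
  t1 := sub_sq M24 m_tE1 v_tE1 (by decide +kernel)
  t2 := sub_sq M24 m_tE2 v_tE2 (by decide +kernel)
  t3 := sub_sq M24 m_tE3 v_tE3 (by decide +kernel)
  t4 := sub_sq M24 m_tE4 v_tE4 (by decide +kernel)
  c12 := sub_comm M24 m_tE1 m_tE2 v_tE1 v_tE2 (by decide +kernel)
  c13 := sub_comm M24 m_tE1 m_tE3 v_tE1 v_tE3 (by decide +kernel)
  c14 := sub_comm M24 m_tE1 m_tE4 v_tE1 v_tE4 (by decide +kernel)
  c23 := sub_comm M24 m_tE2 m_tE3 v_tE2 v_tE3 (by decide +kernel)
  c24 := sub_comm M24 m_tE2 m_tE4 v_tE2 v_tE4 (by decide +kernel)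
  c34 := sub_comm M24 m_tE3 m_tE4 v_tE3 v_tE4 (by decide +kernel)
  a12_1 := sub_comm M24 m_tX12 m_tE1 v_tX12 v_tE1 (by decide +kernel)
  a12_3 := sub_comm M24 m_tX12 m_tE3 v_tX12 v_tE3 (by decide +kernel)
  a12_4 := sub_comm M24 m_tX12 m_tE4 v_tX12 v_tE4 (by decide +kernel)
  a23_1 := sub_comm M24 m_tX23 m_tE1 v_tX23 v_tE1 (by decide +kernel)
  a23_2 := sub_comm M24 m_tX23 m_tE2 v_tX23 v_tE2 (by decide +kernel)
  a23_4 := sub_comm M24 m_tX23 m_tE4 v_tX23 v_tE4 (by decide +kernel)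
  a34_1 := sub_comm M24 m_tX34 m_tE1 v_tX34 v_tE1 (by decide +kernel)
  a34_2 := sub_comm M24 m_tX34 m_tE2 v_tX34 v_tE2 (by decide +kernel)
  a34_3 := sub_comm M24 m_tX34 m_tE3 v_tX34 v_tE3 (by decide +kernel)
  d3 := sub_commutator M24 m_tX34 m_tE4 m_tE3 v_tX34 v_tE4 v_tE3 (by decide +kernel)
  d2 := sub_commutator M24 m_tX23 m_tE3 m_tE2 v_tX23 v_tE3 v_tE2 (by decide +kernel)
  d1 := sub_commutator M24 m_tX12 m_tE2 m_tE1 v_tX12 v_tE2 v_tE1 (by decide +kernel)
  k12_34 := sub_comm M24 m_tX12 m_tX34 v_tX12 v_tX34 (by decide +kernel)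
  k12_13 := by rw [h13]; exact sub_comm M24 m_tX12 m_tX13 v_tX12 v_tX13 (by decide +kernel)
  k12_14 := by rw [h13, h14]; exact sub_comm M24 m_tX12 m_tX14 v_tX12 v_tX14 (by decide +kernel)
  k23_13 := by rw [h13]; exact sub_comm M24 m_tX23 m_tX13 v_tX23 v_tX13 (by decide +kernel)
  k23_24 := by rw [h24]; exact sub_comm M24 m_tX23 m_tX24 v_tX23 v_tX24 (by decide +kernel)
  k23_14 := by rw [h13, h14]; exact sub_comm M24 m_tX23 m_tX14 v_tX23 v_tX14 (by decide +kernel)
  k34_24 := by rw [h24]; exact sub_comm M24 m_tX34 m_tX24 v_tX34 v_tX24 (by decide +kernel)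
  k34_14 := by rw [h13, h14]; exact sub_comm M24 m_tX34 m_tX14 v_tX34 v_tX14 (by decide +kernel)
  k13_24 := by rw [h13, h24]; exact sub_comm M24 m_tX13 m_tX24 v_tX13 v_tX24 (by decide +kernel)
  k13_14 := by rw [h13, h14]; exact sub_comm M24 m_tX13 m_tX14 v_tX13 v_tX14 (by decide +kernel)
  k24_14 := by rw [h24, h13, h14]; exact sub_comm M24 m_tX24 m_tX14 v_tX24 v_tX14 (by decide +kernel)
  der := by rw [h24, hder, h13, h14]


/-! ### The order of the subgroup -/

theorem commutator_mem_of_mem {X : Type*} [Group X] {Q : Subgroup X} {a b : X} (ha : a ∈ Q)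
    (hb : b ∈ Q) : ⁅a, b⁆ ∈ Q := by
  rw [commutatorElement_def]
  exact Q.mul_mem (Q.mul_mem (Q.mul_mem ha hb) (Q.inv_mem ha)) (Q.inv_mem hb)

/-- The polycyclic generating sequence. -/
def gens10 : List ℕ := [tX12, tX23, tX34, tX13, tX24, tX14, tE4, tE3, tE2, tE1]

/-- No element of the first list occurs in the second. -/
def disjB10 : List ℕ → List ℕ → Bool
  | [], _ => true
  | x :: l, l2 => !(memB x l2) && disjB10 l l2

theorem memB_append10 (x : ℕ) (l1 l2 : List ℕ) : memB x (l1 ++ l2) = (memB x l1 || memB x l2) := by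
  induction l1 with
  | nil => simp [memB]
  | cons y l ih => simp [memB, ih, Bool.or_assoc]

theorem nodupB_append10 (l1 l2 : List ℕ) (h1 : nodupB l1 = true) (h2 : nodupB l2 = true)
    (h : disjB10 l1 l2 = true) : nodupB (l1 ++ l2) = true := by
  induction l1 with
  | nil => simpa using h2
  | cons x l ih =>
    rw [nodupB, Bool.and_eq_true] at h1
    rw [disjB10, Bool.and_eq_true] at h
    rw [List.cons_append, nodupB, Bool.and_eq_true, memB_append10]
    refine ⟨?_, ih h1.2 h.2⟩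
    have a1 := h1.1
    have a2 := h.1
    simp only [Bool.not_eq_true', Bool.or_eq_false_iff] at a1 a2 ⊢
    exact ⟨a1, a2⟩

theorem disjB_append_right10 (l l1 l2 : List ℕ) (h1 : disjB10 l l1 = true) (h2 : disjB10 l l2 = true) :
    disjB10 l (l1 ++ l2) = true := by
  induction l with
  | nil => rfl
  | cons x l ih =>
    rw [disjB10, Bool.and_eq_true] at h1 h2 ⊢
    refine ⟨?_, ih h1.2 h2.2⟩
    have a1 := h1.1
    have a2 := h2.1
    rw [memB_append10]
    simp only [Bool.not_eq_true', Bool.or_eq_false_iff] at a1 a2 ⊢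
    exact ⟨a1, a2⟩

theorem pcWords_two_cons10 (t : ℕ) (l : List ℕ) :
    pcWords 2 (t :: l) = pcWords 2 l ++ (pcWords 2 l).map (fun w => t :: w) := by
  simp [pcWords, List.range_succ, List.flatMap_cons]

/-- The last seven generators. -/
def gens7t : List ℕ := [tX13, tX24, tX14, tE4, tE3, tE2, tE1]

/-- The tables of the words with a fixed prefix in the first three generators (a chunk of 128). -/
def ch10 (pre : List ℕ) : List ℕ := (pcWords 2 gens7t).map (fun w => tblOf (pre ++ w))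

theorem split10 : (pcWords 2 gens10).map tblOf = ch10 [] ++ (ch10 [tX34] ++ (ch10 [tX23] ++
    (ch10 [tX23, tX34] ++ (ch10 [tX12] ++ (ch10 [tX12, tX34] ++ (ch10 [tX12, tX23] ++
      ch10 [tX12, tX23, tX34])))))) := by
  rw [gens10, pcWords_two_cons10, pcWords_two_cons10, pcWords_two_cons10]
  simp only [List.map_append, List.map_map, List.append_assoc]
  rfl

theorem nd10_0 : nodupB (ch10 []) = true := by decide +kernel
theorem nd10_1 : nodupB (ch10 [tX34]) = true := by decide +kernel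
theorem nd10_2 : nodupB (ch10 [tX23]) = true := by decide +kernel
theorem nd10_3 : nodupB (ch10 [tX23, tX34]) = true := by decide +kernel
theorem nd10_4 : nodupB (ch10 [tX12]) = true := by decide +kernel
theorem nd10_5 : nodupB (ch10 [tX12, tX34]) = true := by decide +kernel
theorem nd10_6 : nodupB (ch10 [tX12, tX23]) = true := by decide +kernel
theorem nd10_7 : nodupB (ch10 [tX12, tX23, tX34]) = true := by decide +kernel

theorem dj10_0_1 : disjB10 (ch10 []) (ch10 [tX34]) = true := by decide +kernel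
theorem dj10_0_2 : disjB10 (ch10 []) (ch10 [tX23]) = true := by decide +kernel
theorem dj10_0_3 : disjB10 (ch10 []) (ch10 [tX23, tX34]) = true := by decide +kernel
theorem dj10_0_4 : disjB10 (ch10 []) (ch10 [tX12]) = true := by decide +kernel
theorem dj10_0_5 : disjB10 (ch10 []) (ch10 [tX12, tX34]) = true := by decide +kernel
theorem dj10_0_6 : disjB10 (ch10 []) (ch10 [tX12, tX23]) = true := by decide +kernel
theorem dj10_0_7 : disjB10 (ch10 []) (ch10 [tX12, tX23, tX34]) = true := by decide +kernel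
theorem dj10_1_2 : disjB10 (ch10 [tX34]) (ch10 [tX23]) = true := by decide +kernel
theorem dj10_1_3 : disjB10 (ch10 [tX34]) (ch10 [tX23, tX34]) = true := by decide +kernel
theorem dj10_1_4 : disjB10 (ch10 [tX34]) (ch10 [tX12]) = true := by decide +kernel
theorem dj10_1_5 : disjB10 (ch10 [tX34]) (ch10 [tX12, tX34]) = true := by decide +kernel
theorem dj10_1_6 : disjB10 (ch10 [tX34]) (ch10 [tX12, tX23]) = true := by decide +kernel
theorem dj10_1_7 : disjB10 (ch10 [tX34]) (ch10 [tX12, tX23, tX34]) = true := by decide +kernel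
theorem dj10_2_3 : disjB10 (ch10 [tX23]) (ch10 [tX23, tX34]) = true := by decide +kernel
theorem dj10_2_4 : disjB10 (ch10 [tX23]) (ch10 [tX12]) = true := by decide +kernel
theorem dj10_2_5 : disjB10 (ch10 [tX23]) (ch10 [tX12, tX34]) = true := by decide +kernel
theorem dj10_2_6 : disjB10 (ch10 [tX23]) (ch10 [tX12, tX23]) = true := by decide +kernel
theorem dj10_2_7 : disjB10 (ch10 [tX23]) (ch10 [tX12, tX23, tX34]) = true := by decide +kernel
theorem dj10_3_4 : disjB10 (ch10 [tX23, tX34]) (ch10 [tX12]) = true := by decide +kernel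
theorem dj10_3_5 : disjB10 (ch10 [tX23, tX34]) (ch10 [tX12, tX34]) = true := by decide +kernel
theorem dj10_3_6 : disjB10 (ch10 [tX23, tX34]) (ch10 [tX12, tX23]) = true := by decide +kernel
theorem dj10_3_7 : disjB10 (ch10 [tX23, tX34]) (ch10 [tX12, tX23, tX34]) = true := by decide +kernel
theorem dj10_4_5 : disjB10 (ch10 [tX12]) (ch10 [tX12, tX34]) = true := by decide +kernel
theorem dj10_4_6 : disjB10 (ch10 [tX12]) (ch10 [tX12, tX23]) = true := by decide +kernel
theorem dj10_4_7 : disjB10 (ch10 [tX12]) (ch10 [tX12, tX23, tX34]) = true := by decide +kernel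
theorem dj10_5_6 : disjB10 (ch10 [tX12, tX34]) (ch10 [tX12, tX23]) = true := by decide +kernel
theorem dj10_5_7 : disjB10 (ch10 [tX12, tX34]) (ch10 [tX12, tX23, tX34]) = true := by decide +kernel
theorem dj10_6_7 : disjB10 (ch10 [tX12, tX23]) (ch10 [tX12, tX23, tX34]) = true := by decide +kernel

theorem nodup10 : nodupB ((pcWords 2 gens10).map tblOf) = true := by
  rw [split10]
  exact nodupB_append10 _ _ nd10_0
    (nodupB_append10 _ _ nd10_1
    (nodupB_append10 _ _ nd10_2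
    (nodupB_append10 _ _ nd10_3
    (nodupB_append10 _ _ nd10_4
    (nodupB_append10 _ _ nd10_5
    (nodupB_append10 _ _ nd10_6
    (nd10_7)
    (dj10_6_7))
    (disjB_append_right10 _ _ _ dj10_5_6 (dj10_5_7)))
    (disjB_append_right10 _ _ _ dj10_4_5 (disjB_append_right10 _ _ _ dj10_4_6 (dj10_4_7))))
    (disjB_append_right10 _ _ _ dj10_3_4 (disjB_append_right10 _ _ _ dj10_3_5 (disjB_append_right10 _ _ _ dj10_3_6 (dj10_3_7)))))
    (disjB_append_right10 _ _ _ dj10_2_3 (disjB_append_right10 _ _ _ dj10_2_4 (disjB_append_right10 _ _ _ dj10_2_5 (disjB_append_right10 _ _ _ dj10_2_6 (dj10_2_7))))))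
    (disjB_append_right10 _ _ _ dj10_1_2 (disjB_append_right10 _ _ _ dj10_1_3 (disjB_append_right10 _ _ _ dj10_1_4 (disjB_append_right10 _ _ _ dj10_1_5 (disjB_append_right10 _ _ _ dj10_1_6 (dj10_1_7)))))))
    (disjB_append_right10 _ _ _ dj10_0_1 (disjB_append_right10 _ _ _ dj10_0_2 (disjB_append_right10 _ _ _ dj10_0_3 (disjB_append_right10 _ _ _ dj10_0_4 (disjB_append_right10 _ _ _ dj10_0_5 (disjB_append_right10 _ _ _ dj10_0_6 (dj10_0_7)))))))

theorem len10 : (pcWords 2 gens10).length = 1024 := by decide +kernel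

theorem card_Q : 1024 ≤ Nat.card (Subgroup.closure ({y12, y23, y34, f4} : Set ↥M24)) := by
  have q12 : y12 ∈ Subgroup.closure ({y12, y23, y34, f4} : Set ↥M24) :=
    Subgroup.subset_closure (by simp)
  have q23 : y23 ∈ Subgroup.closure ({y12, y23, y34, f4} : Set ↥M24) :=
    Subgroup.subset_closure (by simp)
  have q34 : y34 ∈ Subgroup.closure ({y12, y23, y34, f4} : Set ↥M24) :=
    Subgroup.subset_closure (by simp)
  have q4 : f4 ∈ Subgroup.closure ({y12, y23, y34, f4} : Set ↥M24) :=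
    Subgroup.subset_closure (by simp)
  have q13 : y13 ∈ Subgroup.closure ({y12, y23, y34, f4} : Set ↥M24) := by
    rw [← h13]; exact commutator_mem_of_mem q12 q23
  have q24 : y24 ∈ Subgroup.closure ({y12, y23, y34, f4} : Set ↥M24) := by
    rw [← h24]; exact commutator_mem_of_mem q23 q34
  have q14 : y14 ∈ Subgroup.closure ({y12, y23, y34, f4} : Set ↥M24) := by
    rw [← h14]; exact commutator_mem_of_mem q13 q34
  have q3 : f3 ∈ Subgroup.closure ({y12, y23, y34, f4} : Set ↥M24) := by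
    rw [← u4rel.d3]; exact commutator_mem_of_mem q34 q4
  have q2 : f2 ∈ Subgroup.closure ({y12, y23, y34, f4} : Set ↥M24) := by
    rw [← u4rel.d2]; exact commutator_mem_of_mem q23 q3
  have q1 : f1 ∈ Subgroup.closure ({y12, y23, y34, f4} : Set ↥M24) := by
    rw [← u4rel.d1]; exact commutator_mem_of_mem q12 q2
  have h := length_le_card_of_words (Subgroup.closure ({y12, y23, y34, f4} : Set ↥M24)) gens10
    ?_ ?_ (pcWords 2 gens10) (mem_of_mem_pcWords 2 gens10) nodup10
  · rw [len10] at h; exact h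
  · intro t ht
    simp only [gens10, List.mem_cons, List.not_mem_nil, or_false] at ht
    rcases ht with rfl | rfl | rfl | rfl | rfl | rfl | rfl | rfl | rfl | rfl
    · exact v_tX12
    · exact v_tX23
    · exact v_tX34
    · exact v_tX13
    · exact v_tX24
    · exact v_tX14
    · exact v_tE4
    · exact v_tE3
    · exact v_tE2
    · exact v_tE1
  · intro t ht
    simp only [gens10, List.mem_cons, List.not_mem_nil, or_false] at ht
    rcases ht with rfl | rfl | rfl | rfl | rfl | rfl | rfl | rfl | rfl | rfl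
    · exact ⟨y12, q12, rfl⟩
    · exact ⟨y23, q23, rfl⟩
    · exact ⟨y34, q34, rfl⟩
    · exact ⟨y13, q13, rfl⟩
    · exact ⟨y24, q24, rfl⟩
    · exact ⟨y14, q14, rfl⟩
    · exact ⟨f4, q4, rfl⟩
    · exact ⟨f3, q3, rfl⟩
    · exact ⟨f2, q2, rfl⟩
    · exact ⟨f1, q1, rfl⟩

/-! ### Fixed points of products of tables -/

theorem word_fixed (w : List ℕ) (hv : ∀ t ∈ w, validPerm t = true) (i : ℕ) (hi : i < 24)
    (h : Nat.beq (evalW w i) i = true) : wprod w (idxPt i) = idxPt i := by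
  rw [(wprod_idxPt w hv i hi).2, Nat.eq_of_beq_eq_true h]

theorem word_ne_one (w : List ℕ) (hv : ∀ t ∈ w, validPerm t = true) (i : ℕ) (hi : i < 24)
    (h : Nat.beq (evalW w i) i = false) : wprod w ≠ 1 := by
  intro h1
  have h2 := wprod_idxPt w hv i hi
  rw [h1, Equiv.Perm.one_apply] at h2
  have h3 := congrArg ptIdx h2.2
  rw [ptIdx_idxPt hi, ptIdx_idxPt h2.1] at h3
  rw [← h3, Nat.beq_refl] at h
  exact Bool.noConfusion h

theorem word_fpf (w : List ℕ) (hv : ∀ t ∈ w, validPerm t = true)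
    (h : allBelow (fun i => !(Nat.beq (evalW w i) i)) 24 = true) (p : GolayPt) :
    wprod w p ≠ p := by
  intro hp
  rw [allBelow_iff] at h
  have h1 := h (ptIdx p) (ptIdx_lt p)
  have h2 := wprod_idxPt w hv (ptIdx p) (ptIdx_lt p)
  rw [idxPt_ptIdx, hp] at h2
  have h3 := congrArg ptIdx h2.2
  rw [ptIdx_idxPt h2.1] at h3
  rw [← h3, Nat.beq_refl] at h1
  exact Bool.noConfusion h1

/-! ### Involutions lift to involutions -/

/-- The representative of the involutions with fixed points. -/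
noncomputable def tA : ↥M24 := ⟨tperm X2A, tperm_mem_M24 repsElts_ok.2.2.2.2.2.2.1⟩

/-- The representative of the fixed-point-free involutions. -/
noncomputable def tB : ↥M24 := ⟨tperm X2B, tperm_mem_M24 repsElts_ok.2.2.2.2.2.2.2.1⟩

theorem X2B_fpf (p : GolayPt) : tperm X2B p ≠ p := by
  intro h
  have hc := card_fixed_tperm repsElts_ok.2.2.2.1
  rw [repsElts_ok.2.2.2.2.2.2.2.2.2.2.2] at hc
  have hp : p ∈ Finset.univ.filter (fun p => tperm X2B p = p) := by simp [h]
  rw [Finset.card_eq_zero.1 hc] at hp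
  simp at hp

theorem X2A_fixed : ∃ p, tperm X2A p = p := by
  have hc := card_fixed_tperm repsElts_ok.2.2.1
  rw [repsElts_ok.2.2.2.2.2.2.2.2.2.2.1] at hc
  have hne : (Finset.univ.filter fun p => tperm X2A p = p).Nonempty :=
    Finset.card_pos.1 (by rw [hc]; norm_num)
  obtain ⟨p, hp⟩ := hne
  exact ⟨p, (Finset.mem_filter.1 hp).2⟩

theorem conj_class (g : ↥M24) (hg2 : g * g = 1) (hg1 : g ≠ 1) :
    (∃ c : ↥M24, g = c * tA * c⁻¹) ∨ (∃ c : ↥M24, g = c * tB * c⁻¹) := by
  have ho : orderOf (g : Equiv.Perm GolayPt) = 2 := by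
    have : Fact (Nat.Prime 2) := ⟨Nat.prime_two⟩
    apply orderOf_eq_prime
    · rw [pow_two]; exact congrArg Subtype.val hg2
    · intro h; exact hg1 (Subtype.ext h)
  obtain ⟨X, hX, c, hc, hgc⟩ := order2_class (g : Equiv.Perm GolayPt) g.2 ho
  simp only [List.mem_cons, List.not_mem_nil, or_false] at hX
  rcases hX with rfl | rfl
  · left; exact ⟨⟨c, hc⟩, Subtype.ext hgc⟩
  · right; exact ⟨⟨c, hc⟩, Subtype.ext hgc⟩

theorem conj_2A_of_fixed (g : ↥M24) (hg2 : g * g = 1) (hg1 : g ≠ 1) (p : GolayPt)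
    (hp : (g : Equiv.Perm GolayPt) p = p) : ∃ c : ↥M24, g = c * tA * c⁻¹ := by
  rcases conj_class g hg2 hg1 with h | ⟨c, hc⟩
  · exact h
  · exfalso
    have h1 : (g : Equiv.Perm GolayPt) =
        (c : Equiv.Perm GolayPt) * tperm X2B * (c : Equiv.Perm GolayPt)⁻¹ := congrArg Subtype.val hc
    apply X2B_fpf ((c : Equiv.Perm GolayPt)⁻¹ p)
    have h2 : ((c : Equiv.Perm GolayPt) * tperm X2B * (c : Equiv.Perm GolayPt)⁻¹) p = p := by
      rw [← h1]; exact hp
    rw [Equiv.Perm.mul_apply, Equiv.Perm.mul_apply] at h2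
    exact Equiv.Perm.eq_inv_iff_eq.2 h2

theorem conj_2B_of_fpf (g : ↥M24) (hg2 : g * g = 1)
    (hfp : ∀ p, (g : Equiv.Perm GolayPt) p ≠ p) : ∃ c : ↥M24, g = c * tB * c⁻¹ := by
  have hg1 : g ≠ 1 := by
    rintro rfl
    exact hfp none rfl
  rcases conj_class g hg2 hg1 with ⟨c, hc⟩ | h
  · exfalso
    obtain ⟨q, hq⟩ := X2A_fixed
    have h1 : (g : Equiv.Perm GolayPt) =
        (c : Equiv.Perm GolayPt) * tperm X2A * (c : Equiv.Perm GolayPt)⁻¹ := congrArg Subtype.val hc
    apply hfp ((c : Equiv.Perm GolayPt) q)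
    rw [h1, Equiv.Perm.mul_apply, Equiv.Perm.mul_apply]
    have h3 : (c : Equiv.Perm GolayPt)⁻¹ ((c : Equiv.Perm GolayPt) q) = q := by simp
    rw [h3, hq]
  · exact h

theorem mul_sq_of_comm {X : Type*} [Group X] {a b : X} (ha : a * a = 1) (hb : b * b = 1)
    (hab : a * b = b * a) : (a * b) * (a * b) = 1 := by
  calc a * b * (a * b) = a * (b * a) * b := by group
    _ = a * (a * b) * b := by rw [hab]
    _ = (a * a) * (b * b) := by group
    _ = 1 := by rw [ha, hb, mul_one]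

theorem coe_f1 : (f1 : Equiv.Perm GolayPt) = wprod [tE1] := by simp [wprod, f1]
theorem coe_f2 : (f2 : Equiv.Perm GolayPt) = wprod [tE2] := by simp [wprod, f2]
theorem coe_f3 : (f3 : Equiv.Perm GolayPt) = wprod [tE3] := by simp [wprod, f3]
theorem coe_f12 : ((f1 * f2 : ↥M24) : Equiv.Perm GolayPt) = wprod [tE1, tE2] := by
  simp [wprod, f1, f2]
theorem coe_f13 : ((f1 * f3 : ↥M24) : Equiv.Perm GolayPt) = wprod [tE1, tE3] := by
  simp [wprod, f1, f3]
theorem coe_f23 : ((f2 * f3 : ↥M24) : Equiv.Perm GolayPt) = wprod [tE2, tE3] := by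
  simp [wprod, f2, f3]
theorem coe_f123 : ((f1 * f2 * f3 : ↥M24) : Equiv.Perm GolayPt) = wprod [tE1, tE2, tE3] := by
  simp [wprod, f1, f2, f3, mul_assoc]

theorem coe_gR : (gR : Equiv.Perm GolayPt) = wprod [tR] := by simp [wprod, gR]
theorem coe_gS : (gS : Equiv.Perm GolayPt) = wprod [tS] := by simp [wprod, gS]
theorem coe_gT : (gT : Equiv.Perm GolayPt) = wprod [tT] := by simp [wprod, gT]
theorem coe_gRS : ((gR * gS : ↥M24) : Equiv.Perm GolayPt) = wprod [tR, tS] := by
  simp [wprod, gR, gS]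
theorem coe_gRT : ((gR * gT : ↥M24) : Equiv.Perm GolayPt) = wprod [tR, tT] := by
  simp [wprod, gR, gT]
theorem coe_gST : ((gS * gT : ↥M24) : Equiv.Perm GolayPt) = wprod [tS, tT] := by
  simp [wprod, gS, gT]
theorem coe_gRST : ((gR * gS * gT : ↥M24) : Equiv.Perm GolayPt) = wprod [tR, tS, tT] := by
  simp [wprod, gR, gS, gT, mul_assoc]

theorem vE (w : List ℕ) (h : ∀ t ∈ w, t ∈ [tE1, tE2, tE3, tR, tS, tT]) :
    ∀ t ∈ w, validPerm t = true := by
  intro t ht
  have := h t ht
  simp only [List.mem_cons, List.not_mem_nil, or_false] at this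
  rcases this with rfl | rfl | rfl | rfl | rfl | rfl
  · exact v_tE1
  · exact v_tE2
  · exact v_tE3
  · exact v_tR
  · exact v_tS
  · exact v_tT

theorem sqR : gR * gR = 1 := sub_sq M24 m_tR v_tR (by decide +kernel)
theorem sqS : gS * gS = 1 := sub_sq M24 m_tS v_tS (by decide +kernel)
theorem sqT : gT * gT = 1 := sub_sq M24 m_tT v_tT (by decide +kernel)
theorem cRS : gR * gS = gS * gR := sub_comm M24 m_tR m_tS v_tR v_tS (by decide +kernel)
theorem cRT : gR * gT = gT * gR := sub_comm M24 m_tR m_tT v_tR v_tT (by decide +kernel)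
theorem cST : gS * gT = gT * gS := sub_comm M24 m_tS m_tT v_tS v_tT (by decide +kernel)

theorem fix_of_word (g : ↥M24) (w : List ℕ) (hw : (g : Equiv.Perm GolayPt) = wprod w)
    (hv : ∀ t ∈ w, validPerm t = true) (i : ℕ) (hi : i < 24)
    (h : Nat.beq (evalW w i) i = true) : ∃ p, (g : Equiv.Perm GolayPt) p = p :=
  ⟨idxPt i, by rw [hw]; exact word_fixed w hv i hi h⟩

theorem ne_one_of_word (g : ↥M24) (w : List ℕ) (hw : (g : Equiv.Perm GolayPt) = wprod w)
    (hv : ∀ t ∈ w, validPerm t = true) (i : ℕ) (hi : i < 24)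
    (h : Nat.beq (evalW w i) i = false) : g ≠ 1 := by
  intro h1
  apply word_ne_one w hv i hi h
  rw [← hw, h1]; rfl

/-- In a stem extension of `M24` with kernel of order 2, every involution lifts to an
involution. -/
theorem caseB {Γ : Type*} [Group Γ] [Finite Γ] {σ : Γ →* ↥M24} (hσ : PStem σ 2) : CaseB σ := by
  have u := u4rel
  have s12 := mul_sq_of_comm u.t1 u.t2 u.c12
  have s13 := mul_sq_of_comm u.t1 u.t3 u.c13
  have s23 := mul_sq_of_comm u.t2 u.t3 u.c23
  have c12_3 : (f1 * f2) * f3 = f3 * (f1 * f2) := by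
    rw [mul_assoc, u.c23, ← mul_assoc, u.c13, mul_assoc]
  have s123 := mul_sq_of_comm s12 u.t3 c12_3
  -- Step 1: the class with fixed points
  have hA : Plus σ tA := by
    rcases plus_or_minus hσ tA with h | h
    · exact h
    · exfalso
      have hminus : ∀ g : ↥M24, g * g = 1 → g ≠ 1 →
          (∃ p, (g : Equiv.Perm GolayPt) p = p) → ∀ x : Γ, σ x = g → x * x ≠ 1 := by
        rintro g hg2 hg1 ⟨p, hp⟩ x hx hxx
        obtain ⟨c, hc⟩ := conj_2A_of_fixed g hg2 hg1 p hp
        have hPg : Plus σ g := plus_of_lift hσ hx hxx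
        have hPA : Plus σ (c⁻¹ * g * c⁻¹⁻¹) := hPg.conj hσ.surj c⁻¹
        have e : c⁻¹ * g * c⁻¹⁻¹ = tA := by rw [hc]; group
        rw [e] at hPA
        obtain ⟨x0, hx0⟩ := hσ.surj tA
        exact h x0 hx0 (hPA x0 hx0)
      obtain ⟨R, hR⟩ := hσ.surj f1
      obtain ⟨S, hS⟩ := hσ.surj f2
      obtain ⟨T, hT⟩ := hσ.surj f3
      have h7 := seven_lifts hσ R S T (by rw [hR]; exact u.t1) (by rw [hS]; exact u.t2)
        (by rw [hT]; exact u.t3) (by rw [hR, hS]; exact u.c12) (by rw [hR, hT]; exact u.c13)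
        (by rw [hS, hT]; exact u.c23)
      have n1 := hminus f1 u.t1
        (ne_one_of_word f1 [tE1] coe_f1 (vE [tE1] (by simp)) 1 (by norm_num) (by decide +kernel))
        (fix_of_word f1 [tE1] coe_f1 (vE [tE1] (by simp)) 0 (by norm_num) (by decide +kernel)) R hR
      have n2 := hminus f2 u.t2
        (ne_one_of_word f2 [tE2] coe_f2 (vE [tE2] (by simp)) 1 (by norm_num) (by decide +kernel))
        (fix_of_word f2 [tE2] coe_f2 (vE [tE2] (by simp)) 0 (by norm_num) (by decide +kernel)) S hS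
      have n3 := hminus f3 u.t3
        (ne_one_of_word f3 [tE3] coe_f3 (vE [tE3] (by simp)) 1 (by norm_num) (by decide +kernel))
        (fix_of_word f3 [tE3] coe_f3 (vE [tE3] (by simp)) 0 (by norm_num) (by decide +kernel)) T hT
      have n12 := hminus (f1 * f2) s12
        (ne_one_of_word _ [tE1, tE2] coe_f12 (vE [tE1, tE2] (by simp)) 1 (by norm_num)
          (by decide +kernel))
        (fix_of_word _ [tE1, tE2] coe_f12 (vE [tE1, tE2] (by simp)) 0 (by norm_num)
          (by decide +kernel)) (R * S) (by rw [map_mul, hR, hS])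
      have n13 := hminus (f1 * f3) s13
        (ne_one_of_word _ [tE1, tE3] coe_f13 (vE [tE1, tE3] (by simp)) 1 (by norm_num)
          (by decide +kernel))
        (fix_of_word _ [tE1, tE3] coe_f13 (vE [tE1, tE3] (by simp)) 0 (by norm_num)
          (by decide +kernel)) (R * T) (by rw [map_mul, hR, hT])
      have n23 := hminus (f2 * f3) s23
        (ne_one_of_word _ [tE2, tE3] coe_f23 (vE [tE2, tE3] (by simp)) 1 (by norm_num)
          (by decide +kernel))
        (fix_of_word _ [tE2, tE3] coe_f23 (vE [tE2, tE3] (by simp)) 0 (by norm_num)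
          (by decide +kernel)) (S * T) (by rw [map_mul, hS, hT])
      have n123 := hminus (f1 * f2 * f3) s123
        (ne_one_of_word _ [tE1, tE2, tE3] coe_f123 (vE [tE1, tE2, tE3] (by simp)) 1 (by norm_num)
          (by decide +kernel))
        (fix_of_word _ [tE1, tE2, tE3] coe_f123 (vE [tE1, tE2, tE3] (by simp)) 0 (by norm_num)
          (by decide +kernel)) (R * S * T) (by rw [map_mul, map_mul, hR, hS, hT])
      have k : ∀ x : Γ, σ x * σ x = 1 → x * x ∈ σ.ker := fun x hx => by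
        rw [MonoidHom.mem_ker, map_mul]; exact hx
      have k1 := k R (by rw [hR]; exact u.t1)
      have e2 := hσ.eq_of_ne_one (k S (by rw [hS]; exact u.t2)) k1 n2 n1
      have e3 := hσ.eq_of_ne_one (k T (by rw [hT]; exact u.t3)) k1 n3 n1
      have e12 := hσ.eq_of_ne_one (k (R * S) (by rw [map_mul, hR, hS]; exact s12)) k1 n12 n1
      have e13 := hσ.eq_of_ne_one (k (R * T) (by rw [map_mul, hR, hT]; exact s13)) k1 n13 n1
      have e23 := hσ.eq_of_ne_one (k (S * T) (by rw [map_mul, hS, hT]; exact s23)) k1 n23 n1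
      have e123 := hσ.eq_of_ne_one
        (k (R * S * T) (by rw [map_mul, map_mul, hR, hS, hT]; exact s123)) k1 n123 n1
      rw [e2, e3, e12, e13, e23, e123] at h7
      have hz := hσ.sq_eq_one k1
      rw [hz, one_mul, hz, one_mul, hz, one_mul] at h7
      exact n1 h7
  have plus_fixed : ∀ g : ↥M24, g * g = 1 → (∃ p, (g : Equiv.Perm GolayPt) p = p) →
      Plus σ g := by
    intro g hg2 ⟨p, hp⟩
    by_cases hg1 : g = 1
    · intro x hx
      exact hσ.sq_eq_one (by rw [MonoidHom.mem_ker, hx, hg1])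
    · obtain ⟨c, hc⟩ := conj_2A_of_fixed g hg2 hg1 p hp
      rw [hc]
      exact hA.conj hσ.surj c
  -- Step 2: the fixed-point-free class
  have hB : Plus σ tB := by
    rcases plus_or_minus hσ tB with h | h
    · exact h
    · exfalso
      obtain ⟨R, hR⟩ := hσ.surj gR
      obtain ⟨S, hS⟩ := hσ.surj gS
      obtain ⟨T, hT⟩ := hσ.surj gT
      have h7 := seven_lifts hσ R S T (by rw [hR]; exact sqR) (by rw [hS]; exact sqS)
        (by rw [hT]; exact sqT) (by rw [hR, hS]; exact cRS) (by rw [hR, hT]; exact cRT)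
        (by rw [hS, hT]; exact cST)
      have sRS := mul_sq_of_comm sqR sqS cRS
      have sRT := mul_sq_of_comm sqR sqT cRT
      have sST := mul_sq_of_comm sqS sqT cST
      have cRS_T : (gR * gS) * gT = gT * (gR * gS) := by
        rw [mul_assoc, cST, ← mul_assoc, cRT, mul_assoc]
      have sRST := mul_sq_of_comm sRS sqT cRS_T
      have p1 := plus_fixed gR sqR
        (fix_of_word gR [tR] coe_gR (vE [tR] (by simp)) 1 (by norm_num) (by decide +kernel)) R hR
      have p2 := plus_fixed gS sqS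
        (fix_of_word gS [tS] coe_gS (vE [tS] (by simp)) 1 (by norm_num) (by decide +kernel)) S hS
      have p12 := plus_fixed (gR * gS) sRS
        (fix_of_word _ [tR, tS] coe_gRS (vE [tR, tS] (by simp)) 1 (by norm_num)
          (by decide +kernel)) (R * S) (by rw [map_mul, hR, hS])
      have p13 := plus_fixed (gR * gT) sRT
        (fix_of_word _ [tR, tT] coe_gRT (vE [tR, tT] (by simp)) 9 (by norm_num)
          (by decide +kernel)) (R * T) (by rw [map_mul, hR, hT])
      have p23 := plus_fixed (gS * gT) sST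
        (fix_of_word _ [tS, tT] coe_gST (vE [tS, tT] (by simp)) 2 (by norm_num)
          (by decide +kernel)) (S * T) (by rw [map_mul, hS, hT])
      have p123 := plus_fixed (gR * gS * gT) sRST
        (fix_of_word _ [tR, tS, tT] coe_gRST (vE [tR, tS, tT] (by simp)) 0 (by norm_num)
          (by decide +kernel)) (R * S * T) (by rw [map_mul, map_mul, hR, hS, hT])
      rw [p1, p2, p12, p13, p23, p123] at h7
      simp only [one_mul, mul_one] at h7
      -- `T` squares to one, so the class of `gT` is `+`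
      have hfpf : ∀ p, (gT : Equiv.Perm GolayPt) p ≠ p := by
        intro p
        rw [coe_gT]
        exact word_fpf [tT] (vE [tT] (by simp)) (by decide +kernel) p
      obtain ⟨c, hc⟩ := conj_2B_of_fpf gT sqT hfpf
      have hPg : Plus σ gT := plus_of_lift hσ hT h7
      have hPB : Plus σ (c⁻¹ * gT * c⁻¹⁻¹) := hPg.conj hσ.surj c⁻¹
      have e : c⁻¹ * gT * c⁻¹⁻¹ = tB := by rw [hc]; group
      rw [e] at hPB
      obtain ⟨x0, hx0⟩ := hσ.surj tB
      exact h x0 hx0 (hPB x0 hx0)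
  -- Step 3
  intro x hx
  by_cases hg1 : σ x = 1
  · exact hσ.sq_eq_one (by rw [MonoidHom.mem_ker, hg1])
  · rcases conj_class (σ x) hx hg1 with ⟨c, hc⟩ | ⟨c, hc⟩
    · exact (hA.conj hσ.surj c) x hc
    · exact (hB.conj hσ.surj c) x hc

/-- `M24` has no stem extension with kernel of order 2. -/
theorem no_pstem_two {Γ : Type*} [Group Γ] [Finite Γ] (σ : Γ →* ↥M24) (hσ : PStem σ 2) : False :=
  pstem_false_of_U4 hσ (caseB hσ) u4rel card_Q 239085 (by norm_num)
    (by rw [Cfsg.Agent.Lib.helper9.card_M24])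

end Cfsg.Agent.Lib.helper33.SM24
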