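/-
The Schur multiplier of `M23`: explicit generators of a Sylow 2-subgroup `2^4 : D8` (with an
element of order 3 of the complement `A7` normalised by the dihedral group), the conjugacy of the
involutions, and a Sylow 3-subgroup.  (owner: helper33; data generated by computer)
-/
import Mathlib
import Cfsg.Prelude.Def_Sporadic_a
import Cfsg.Prelude.Def_Spor_Mathieu
import Cfsg.Agent.Lib.helper94.M24Elts
import Cfsg.Agent.Lib.helper33.SchurD8
import Cfsg.Agent.Lib.helper33.SchurWords2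
import Cfsg.Agent.Lib.helper33.SchurM24Two
import Cfsg.Agent.Lib.helper33.M24Aut

set_option autoImplicit false

namespace Cfsg.Agent.Lib.helper33.SM23

open Cfsg
open scoped commutatorElement
open Cfsg.Agent.Lib.helper33
open Cfsg.Agent.Lib.helper94 (tperm validPerm imgAt idxPt ptIdx ptIdx_idxPt idxPt_ptIdx ptIdx_lt
  tperm_idxPt tperm_apply allBelow allBelow_iff isM24 isM24_valid tperm_mem_M24 X2A X2B
  repsElts_ok order2_class tperm_eq_iff)

def tS : ℕ := 0xbc69583ed39250c581cd398a21902a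
def tT : ℕ := 0xba633a4aae7c0e8016cc699441882b
def tD : ℕ := 0xbcdc9b4a117d5072828d619641882a
def tC : ℕ := 0xbc5ae80cec921335aab4b08a679020
def tE1 : ℕ := 0xba613a3dd5945075aacd618a408860
def tE2 : ℕ := 0xbce29b0eae0c18d5aa87418a4909e0
def tE3 : ℕ := 0xbc670ab6d4426435a9cf098a4608e0
def tE4 : ℕ := 0xb85127d0ed9b20e5a875898a448ac0
def tP1 : ℕ := 0xbd1d6486111d4e85aa6c698a478a40
def tP2 : ℕ := 0xba613a3dd5945075aacd618a408860
def tP3 : ℕ := 0xb9ded44032a8e895a993b18a470a20
def tP4 : ℕ := 0xbc670ab6d4426435a9cf098a4608e0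
def tA : ℕ := 0xba2662be548bac05a92d242a1608e3
def tB : ℕ := 0xb9e742d9b0428235a5c491aaf00a2c
def tG : ℕ := 0xbd81419c30239a5125489198f9ae35

theorem tbl_ok : isM23 tS = true ∧ isM23 tT = true ∧ isM23 tD = true ∧ isM23 tC = true ∧ isM23 tE1 = true ∧ isM23 tE2 = true ∧ isM23 tE3 = true ∧ isM23 tE4 = true ∧ isM23 tP1 = true ∧ isM23 tP2 = true ∧ isM23 tP3 = true ∧ isM23 tP4 = true ∧ isM23 tA = true ∧ isM23 tB = true ∧ isM23 tG = true := by
  decide +kernel

theorem m_tS : tperm tS ∈ Spor.M23 := tperm_mem_M23_of_isM23 tbl_ok.1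
theorem v_tS : validPerm tS = true := isM23_valid tbl_ok.1
theorem m_tT : tperm tT ∈ Spor.M23 := tperm_mem_M23_of_isM23 tbl_ok.2.1
theorem v_tT : validPerm tT = true := isM23_valid tbl_ok.2.1
theorem m_tD : tperm tD ∈ Spor.M23 := tperm_mem_M23_of_isM23 tbl_ok.2.2.1
theorem v_tD : validPerm tD = true := isM23_valid tbl_ok.2.2.1
theorem m_tC : tperm tC ∈ Spor.M23 := tperm_mem_M23_of_isM23 tbl_ok.2.2.2.1
theorem v_tC : validPerm tC = true := isM23_valid tbl_ok.2.2.2.1
theorem m_tE1 : tperm tE1 ∈ Spor.M23 := tperm_mem_M23_of_isM23 tbl_ok.2.2.2.2.1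
theorem v_tE1 : validPerm tE1 = true := isM23_valid tbl_ok.2.2.2.2.1
theorem m_tE2 : tperm tE2 ∈ Spor.M23 := tperm_mem_M23_of_isM23 tbl_ok.2.2.2.2.2.1
theorem v_tE2 : validPerm tE2 = true := isM23_valid tbl_ok.2.2.2.2.2.1
theorem m_tE3 : tperm tE3 ∈ Spor.M23 := tperm_mem_M23_of_isM23 tbl_ok.2.2.2.2.2.2.1
theorem v_tE3 : validPerm tE3 = true := isM23_valid tbl_ok.2.2.2.2.2.2.1
theorem m_tE4 : tperm tE4 ∈ Spor.M23 := tperm_mem_M23_of_isM23 tbl_ok.2.2.2.2.2.2.2.1
theorem v_tE4 : validPerm tE4 = true := isM23_valid tbl_ok.2.2.2.2.2.2.2.1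
theorem m_tP1 : tperm tP1 ∈ Spor.M23 := tperm_mem_M23_of_isM23 tbl_ok.2.2.2.2.2.2.2.2.1
theorem v_tP1 : validPerm tP1 = true := isM23_valid tbl_ok.2.2.2.2.2.2.2.2.1
theorem m_tP2 : tperm tP2 ∈ Spor.M23 := tperm_mem_M23_of_isM23 tbl_ok.2.2.2.2.2.2.2.2.2.1
theorem v_tP2 : validPerm tP2 = true := isM23_valid tbl_ok.2.2.2.2.2.2.2.2.2.1
theorem m_tP3 : tperm tP3 ∈ Spor.M23 := tperm_mem_M23_of_isM23 tbl_ok.2.2.2.2.2.2.2.2.2.2.1
theorem v_tP3 : validPerm tP3 = true := isM23_valid tbl_ok.2.2.2.2.2.2.2.2.2.2.1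
theorem m_tP4 : tperm tP4 ∈ Spor.M23 := tperm_mem_M23_of_isM23 tbl_ok.2.2.2.2.2.2.2.2.2.2.2.1
theorem v_tP4 : validPerm tP4 = true := isM23_valid tbl_ok.2.2.2.2.2.2.2.2.2.2.2.1
theorem m_tA : tperm tA ∈ Spor.M23 := tperm_mem_M23_of_isM23 tbl_ok.2.2.2.2.2.2.2.2.2.2.2.2.1
theorem v_tA : validPerm tA = true := isM23_valid tbl_ok.2.2.2.2.2.2.2.2.2.2.2.2.1
theorem m_tB : tperm tB ∈ Spor.M23 := tperm_mem_M23_of_isM23 tbl_ok.2.2.2.2.2.2.2.2.2.2.2.2.2.1
theorem v_tB : validPerm tB = true := isM23_valid tbl_ok.2.2.2.2.2.2.2.2.2.2.2.2.2.1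
theorem m_tG : tperm tG ∈ Spor.M23 := tperm_mem_M23_of_isM23 tbl_ok.2.2.2.2.2.2.2.2.2.2.2.2.2.2
theorem v_tG : validPerm tG = true := isM23_valid tbl_ok.2.2.2.2.2.2.2.2.2.2.2.2.2.2

noncomputable def gs : ↥Spor.M23 := ⟨tperm tS, m_tS⟩
noncomputable def gt : ↥Spor.M23 := ⟨tperm tT, m_tT⟩
noncomputable def gd : ↥Spor.M23 := ⟨tperm tD, m_tD⟩
noncomputable def gc : ↥Spor.M23 := ⟨tperm tC, m_tC⟩
noncomputable def f1 : ↥Spor.M23 := ⟨tperm tE1, m_tE1⟩
noncomputable def f2 : ↥Spor.M23 := ⟨tperm tE2, m_tE2⟩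
noncomputable def f3 : ↥Spor.M23 := ⟨tperm tE3, m_tE3⟩
noncomputable def f4 : ↥Spor.M23 := ⟨tperm tE4, m_tE4⟩
noncomputable def ea : ↥Spor.M23 := ⟨tperm tA, m_tA⟩
noncomputable def eb : ↥Spor.M23 := ⟨tperm tB, m_tB⟩
noncomputable def eg : ↥Spor.M23 := ⟨tperm tG, m_tG⟩

theorem hd : ⁅gs, gt⁆ = gd :=
  sub_commutator Spor.M23 m_tS m_tT m_tD v_tS v_tT v_tD (by decide +kernel)

theorem sq1 : f1 * f1 = 1 := sub_sq Spor.M23 m_tE1 v_tE1 (by decide +kernel)
theorem sq2 : f2 * f2 = 1 := sub_sq Spor.M23 m_tE2 v_tE2 (by decide +kernel)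
theorem sq3 : f3 * f3 = 1 := sub_sq Spor.M23 m_tE3 v_tE3 (by decide +kernel)
theorem sq4 : f4 * f4 = 1 := sub_sq Spor.M23 m_tE4 v_tE4 (by decide +kernel)
theorem c12 : f1 * f2 = f2 * f1 := sub_comm Spor.M23 m_tE1 m_tE2 v_tE1 v_tE2 (by decide +kernel)
theorem c13 : f1 * f3 = f3 * f1 := sub_comm Spor.M23 m_tE1 m_tE3 v_tE1 v_tE3 (by decide +kernel)
theorem c14 : f1 * f4 = f4 * f1 := sub_comm Spor.M23 m_tE1 m_tE4 v_tE1 v_tE4 (by decide +kernel)
theorem c23 : f2 * f3 = f3 * f2 := sub_comm Spor.M23 m_tE2 m_tE3 v_tE2 v_tE3 (by decide +kernel)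
theorem c24 : f2 * f4 = f4 * f2 := sub_comm Spor.M23 m_tE2 m_tE4 v_tE2 v_tE4 (by decide +kernel)
theorem c34 : f3 * f4 = f4 * f3 := sub_comm Spor.M23 m_tE3 m_tE4 v_tE3 v_tE4 (by decide +kernel)

theorem vE : ∀ t ∈ [tE1, tE2, tE3, tE4], validPerm t = true := by
  intro t ht
  simp only [List.mem_cons, List.not_mem_nil, or_false] at ht
  rcases ht with rfl | rfl | rfl | rfl
  · exact v_tE1
  · exact v_tE2
  · exact v_tE3
  · exact v_tE4

theorem vP : ∀ t ∈ [tP1, tP2, tP3, tP4], validPerm t = true := by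
  intro t ht
  simp only [List.mem_cons, List.not_mem_nil, or_false] at ht
  rcases ht with rfl | rfl | rfl | rfl
  · exact v_tP1
  · exact v_tP2
  · exact v_tP3
  · exact v_tP4

theorem genE : ∀ t ∈ [tE1, tE2, tE3, tE4],
    ∃ q ∈ Subgroup.closure {x | x ∈ [f1, f2, f3, f4]}, (q : Equiv.Perm GolayPt) = tperm t := by
  intro t ht
  simp only [List.mem_cons, List.not_mem_nil, or_false] at ht
  rcases ht with rfl | rfl | rfl | rfl
  · exact ⟨f1, Subgroup.subset_closure (by simp), rfl⟩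
  · exact ⟨f2, Subgroup.subset_closure (by simp), rfl⟩
  · exact ⟨f3, Subgroup.subset_closure (by simp), rfl⟩
  · exact ⟨f4, Subgroup.subset_closure (by simp), rfl⟩

theorem genP : ∀ t ∈ [tP1, tP2, tP3, tP4],
    ∃ q ∈ Subgroup.closure {y | ∃ e ∈ [f1, f2, f3, f4], y = e * (gc * e * gc⁻¹)},
      (q : Equiv.Perm GolayPt) = tperm t := by
  intro t ht
  simp only [List.mem_cons, List.not_mem_nil, or_false] at ht
  rcases ht with rfl | rfl | rfl | rfl
  · exact ⟨f1 * (gc * f1 * gc⁻¹), Subgroup.subset_closure ⟨f1, by simp, rfl⟩,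
      sub_psi_eq Spor.M23 m_tE1 m_tC v_tE1 v_tC v_tP1 (by decide +kernel)⟩
  · exact ⟨f2 * (gc * f2 * gc⁻¹), Subgroup.subset_closure ⟨f2, by simp, rfl⟩,
      sub_psi_eq Spor.M23 m_tE2 m_tC v_tE2 v_tC v_tP2 (by decide +kernel)⟩
  · exact ⟨f3 * (gc * f3 * gc⁻¹), Subgroup.subset_closure ⟨f3, by simp, rfl⟩,
      sub_psi_eq Spor.M23 m_tE3 m_tC v_tE3 v_tC v_tP3 (by decide +kernel)⟩
  · exact ⟨f4 * (gc * f4 * gc⁻¹), Subgroup.subset_closure ⟨f4, by simp, rfl⟩,
      sub_psi_eq Spor.M23 m_tE4 m_tC v_tE4 v_tC v_tP4 (by decide +kernel)⟩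

theorem d8rel : D8Rel gs gt gc [f1, f2, f3, f4] where
  s2 := sub_sq Spor.M23 m_tS v_tS (by decide +kernel)
  t2 := sub_sq Spor.M23 m_tT v_tT (by decide +kernel)
  d2 := by rw [hd]; exact sub_sq Spor.M23 m_tD v_tD (by decide +kernel)
  sd := by rw [hd]; exact sub_comm Spor.M23 m_tS m_tD v_tS v_tD (by decide +kernel)
  td := by rw [hd]; exact sub_comm Spor.M23 m_tT m_tD v_tT v_tD (by decide +kernel)
  c3 := sub_cube Spor.M23 m_tC v_tC (by decide +kernel)
  sc := Or.inr (sub_inverts Spor.M23 m_tS m_tC v_tS v_tC (by decide +kernel) (by decide +kernel))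
  tc := Or.inl (sub_conj Spor.M23 m_tT m_tC m_tC v_tT v_tC v_tC (by decide +kernel))
  e2 := by
    intro x hx
    simp only [List.mem_cons, List.not_mem_nil, or_false] at hx
    rcases hx with rfl | rfl | rfl | rfl
    · exact sq1
    · exact sq2
    · exact sq3
    · exact sq4
  ec := by
    intro x hx y hy
    simp only [List.mem_cons, List.not_mem_nil, or_false] at hx hy
    rcases hx with rfl | rfl | rfl | rfl <;> rcases hy with rfl | rfl | rfl | rfl
    · rfl
    · exact c12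
    · exact c13
    · exact c14
    · exact c12.symm
    · rfl
    · exact c23
    · exact c24
    · exact c13.symm
    · exact c23.symm
    · rfl
    · exact c34
    · exact c14.symm
    · exact c24.symm
    · exact c34.symm
    · rfl
  ns := by
    intro x hx
    simp only [List.mem_cons, List.not_mem_nil, or_false] at hx
    rcases hx with rfl | rfl | rfl | rfl
    · exact sub_conj_mem Spor.M23 m_tS m_tE1 v_tS v_tE1 [tE1]
        (fun t ht => vE t (by simp only [List.mem_cons, List.not_mem_nil, or_false] at ht ⊢; tauto)) _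
        (fun t ht => genE t (by simp only [List.mem_cons, List.not_mem_nil, or_false] at ht ⊢; tauto))
        (by decide +kernel)
    · exact sub_conj_mem Spor.M23 m_tS m_tE2 v_tS v_tE2 [tE1, tE2]
        (fun t ht => vE t (by simp only [List.mem_cons, List.not_mem_nil, or_false] at ht ⊢; tauto)) _
        (fun t ht => genE t (by simp only [List.mem_cons, List.not_mem_nil, or_false] at ht ⊢; tauto))
        (by decide +kernel)
    · exact sub_conj_mem Spor.M23 m_tS m_tE3 v_tS v_tE3 [tE3]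
        (fun t ht => vE t (by simp only [List.mem_cons, List.not_mem_nil, or_false] at ht ⊢; tauto)) _
        (fun t ht => genE t (by simp only [List.mem_cons, List.not_mem_nil, or_false] at ht ⊢; tauto))
        (by decide +kernel)
    · exact sub_conj_mem Spor.M23 m_tS m_tE4 v_tS v_tE4 [tE3, tE4]
        (fun t ht => vE t (by simp only [List.mem_cons, List.not_mem_nil, or_false] at ht ⊢; tauto)) _
        (fun t ht => genE t (by simp only [List.mem_cons, List.not_mem_nil, or_false] at ht ⊢; tauto))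
        (by decide +kernel)
  nt := by
    intro x hx
    simp only [List.mem_cons, List.not_mem_nil, or_false] at hx
    rcases hx with rfl | rfl | rfl | rfl
    · exact sub_conj_mem Spor.M23 m_tT m_tE1 v_tT v_tE1 [tE1]
        (fun t ht => vE t (by simp only [List.mem_cons, List.not_mem_nil, or_false] at ht ⊢; tauto)) _
        (fun t ht => genE t (by simp only [List.mem_cons, List.not_mem_nil, or_false] at ht ⊢; tauto))
        (by decide +kernel)
    · exact sub_conj_mem Spor.M23 m_tT m_tE2 v_tT v_tE2 [tE2]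
        (fun t ht => vE t (by simp only [List.mem_cons, List.not_mem_nil, or_false] at ht ⊢; tauto)) _
        (fun t ht => genE t (by simp only [List.mem_cons, List.not_mem_nil, or_false] at ht ⊢; tauto))
        (by decide +kernel)
    · exact sub_conj_mem Spor.M23 m_tT m_tE3 v_tT v_tE3 [tE1, tE2, tE3]
        (fun t ht => vE t (by simp only [List.mem_cons, List.not_mem_nil, or_false] at ht ⊢; tauto)) _
        (fun t ht => genE t (by simp only [List.mem_cons, List.not_mem_nil, or_false] at ht ⊢; tauto))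
        (by decide +kernel)
    · exact sub_conj_mem Spor.M23 m_tT m_tE4 v_tT v_tE4 [tE1, tE4]
        (fun t ht => vE t (by simp only [List.mem_cons, List.not_mem_nil, or_false] at ht ⊢; tauto)) _
        (fun t ht => genE t (by simp only [List.mem_cons, List.not_mem_nil, or_false] at ht ⊢; tauto))
        (by decide +kernel)
  nc := by
    intro x hx
    simp only [List.mem_cons, List.not_mem_nil, or_false] at hx
    rcases hx with rfl | rfl | rfl | rfl
    · exact sub_conj_mem Spor.M23 m_tC m_tE1 v_tC v_tE1 [tE2]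
        (fun t ht => vE t (by simp only [List.mem_cons, List.not_mem_nil, or_false] at ht ⊢; tauto)) _
        (fun t ht => genE t (by simp only [List.mem_cons, List.not_mem_nil, or_false] at ht ⊢; tauto))
        (by decide +kernel)
    · exact sub_conj_mem Spor.M23 m_tC m_tE2 v_tC v_tE2 [tE1, tE2]
        (fun t ht => vE t (by simp only [List.mem_cons, List.not_mem_nil, or_false] at ht ⊢; tauto)) _
        (fun t ht => genE t (by simp only [List.mem_cons, List.not_mem_nil, or_false] at ht ⊢; tauto))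
        (by decide +kernel)
    · exact sub_conj_mem Spor.M23 m_tC m_tE3 v_tC v_tE3 [tE4]
        (fun t ht => vE t (by simp only [List.mem_cons, List.not_mem_nil, or_false] at ht ⊢; tauto)) _
        (fun t ht => genE t (by simp only [List.mem_cons, List.not_mem_nil, or_false] at ht ⊢; tauto))
        (by decide +kernel)
    · exact sub_conj_mem Spor.M23 m_tC m_tE4 v_tC v_tE4 [tE3, tE4]
        (fun t ht => vE t (by simp only [List.mem_cons, List.not_mem_nil, or_false] at ht ⊢; tauto)) _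
        (fun t ht => genE t (by simp only [List.mem_cons, List.not_mem_nil, or_false] at ht ⊢; tauto))
        (by decide +kernel)
  fp := by
    intro x hx
    simp only [List.mem_cons, List.not_mem_nil, or_false] at hx
    rcases hx with rfl | rfl | rfl | rfl
    · exact sub_mem_of_word Spor.M23 m_tE1 v_tE1 [tP2]
        (fun t ht => vP t (by simp only [List.mem_cons, List.not_mem_nil, or_false] at ht ⊢; tauto)) _
        (fun t ht => genP t (by simp only [List.mem_cons, List.not_mem_nil, or_false] at ht ⊢; tauto))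
        (by decide +kernel)
    · exact sub_mem_of_word Spor.M23 m_tE2 v_tE2 [tP1, tP2]
        (fun t ht => vP t (by simp only [List.mem_cons, List.not_mem_nil, or_false] at ht ⊢; tauto)) _
        (fun t ht => genP t (by simp only [List.mem_cons, List.not_mem_nil, or_false] at ht ⊢; tauto))
        (by decide +kernel)
    · exact sub_mem_of_word Spor.M23 m_tE3 v_tE3 [tP4]
        (fun t ht => vP t (by simp only [List.mem_cons, List.not_mem_nil, or_false] at ht ⊢; tauto)) _
        (fun t ht => genP t (by simp only [List.mem_cons, List.not_mem_nil, or_false] at ht ⊢; tauto))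
        (by decide +kernel)
    · exact sub_mem_of_word Spor.M23 m_tE4 v_tE4 [tP3, tP4]
        (fun t ht => vP t (by simp only [List.mem_cons, List.not_mem_nil, or_false] at ht ⊢; tauto)) _
        (fun t ht => genP t (by simp only [List.mem_cons, List.not_mem_nil, or_false] at ht ⊢; tauto))
        (by decide +kernel)

def gens7 : List ℕ := [tS, tT, tD, tE1, tE2, tE3, tE4]

theorem nodup128 : nodupB ((pcWords 2 gens7).map tblOf) = true := by decide +kernel

theorem len128 : (pcWords 2 gens7).length = 128 := by decide +kernel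

theorem card_Q : 2 ^ ([f1, f2, f3, f4].length + 3) ≤
    Nat.card (Subgroup.closure {x | x ∈ gs :: gt :: [f1, f2, f3, f4]}) := by
  have qs : gs ∈ Subgroup.closure {x | x ∈ gs :: gt :: [f1, f2, f3, f4]} :=
    Subgroup.subset_closure (by simp)
  have qt : gt ∈ Subgroup.closure {x | x ∈ gs :: gt :: [f1, f2, f3, f4]} :=
    Subgroup.subset_closure (by simp)
  have qd : gd ∈ Subgroup.closure {x | x ∈ gs :: gt :: [f1, f2, f3, f4]} := by
    rw [← hd]; exact comm_mem_of_mem qs qt
  have h := length_le_card_of_words (Subgroup.closure {x | x ∈ gs :: gt :: [f1, f2, f3, f4]})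
    gens7 ?_ ?_ (pcWords 2 gens7) (mem_of_mem_pcWords 2 gens7) nodup128
  · rw [len128] at h; exact h
  · intro t ht
    simp only [gens7, List.mem_cons, List.not_mem_nil, or_false] at ht
    rcases ht with rfl | rfl | rfl | rfl | rfl | rfl | rfl
    · exact v_tS
    · exact v_tT
    · exact v_tD
    · exact v_tE1
    · exact v_tE2
    · exact v_tE3
    · exact v_tE4
  · intro t ht
    simp only [gens7, List.mem_cons, List.not_mem_nil, or_false] at ht
    rcases ht with rfl | rfl | rfl | rfl | rfl | rfl | rfl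
    · exact ⟨gs, qs, rfl⟩
    · exact ⟨gt, qt, rfl⟩
    · exact ⟨gd, qd, rfl⟩
    · exact ⟨f1, Subgroup.subset_closure (by simp), rfl⟩
    · exact ⟨f2, Subgroup.subset_closure (by simp), rfl⟩
    · exact ⟨f3, Subgroup.subset_closure (by simp), rfl⟩
    · exact ⟨f4, Subgroup.subset_closure (by simp), rfl⟩

/-! ### Conjugacy of involutions -/

/-- For each fixed point of `X2A`, a table conjugating `X2A` to `tE1` and sending the point to the
last index. -/
def dTab : ℕ → ℕ
  | 6 => 0x628a60828384c8d5a0554dcf68ba4f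
  | 9 => 0xa894b71a511bc872b2e1482169d10d
  | 11 => 0x88a4b0209454cebc56d7a8729d0ec
  | 13 => 0xaac8aa15b3922f6124cf182013b22e
  | 18 => 0x71802b5c2938cb454d6c4122d93e15
  | 20 => 0x6acb7a8a707d003204d28a90e61d36
  | 21 => 0x78aeb692c88a40130d4e99654854ec
  | 22 => 0xb5c866ad88a1d4f048538153508e2e
  | _ => 0

theorem dTab_ok : allBelow (fun i => !(Nat.beq (imgAt X2A i) i) ||
    (isM24 (dTab i) && (eqW [dTab i, X2A] [tE1, dTab i] && Nat.beq (imgAt (dTab i) i) 23))) 24 =
    true := by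
  decide +kernel

theorem conj_f1 (g : ↥Spor.M23) (hg2 : g * g = 1) (hg1 : g ≠ 1) :
    ∃ x : ↥Spor.M23, g = x * f1 * x⁻¹ := by
  have hgM : (g : Equiv.Perm GolayPt) ∈ M24 := (Subgroup.mem_inf.1 g.2).1
  have hgn : (g : Equiv.Perm GolayPt) none = none :=
    MulAction.mem_stabilizer_iff.1 (Subgroup.mem_inf.1 g.2).2
  have ho : orderOf (g : Equiv.Perm GolayPt) = 2 := by
    have : Fact (Nat.Prime 2) := ⟨Nat.prime_two⟩
    apply orderOf_eq_prime
    · rw [pow_two]; exact congrArg Subtype.val hg2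
    · intro h; exact hg1 (Subtype.ext h)
  obtain ⟨X, hX, c, hc, hgc⟩ := order2_class (g : Equiv.Perm GolayPt) hgM ho
  simp only [List.mem_cons, List.not_mem_nil, or_false] at hX
  have hfix : tperm X (c⁻¹ none) = c⁻¹ none := by
    have h2 : (c * tperm X * c⁻¹) none = none := by rw [← hgc]; exact hgn
    rw [Equiv.Perm.mul_apply, Equiv.Perm.mul_apply] at h2
    exact Equiv.Perm.eq_inv_iff_eq.2 h2
  rcases hX with rfl | rfl
  · have hvA : validPerm X2A = true := repsElts_ok.2.2.1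
    have hi := (tperm_eq_iff hvA (c⁻¹ none)).1 hfix
    have hall : (!(Nat.beq (imgAt X2A (ptIdx (c⁻¹ none))) (ptIdx (c⁻¹ none))) ||
        (isM24 (dTab (ptIdx (c⁻¹ none))) &&
          (eqW [dTab (ptIdx (c⁻¹ none)), X2A] [tE1, dTab (ptIdx (c⁻¹ none))] &&
            Nat.beq (imgAt (dTab (ptIdx (c⁻¹ none))) (ptIdx (c⁻¹ none))) 23))) = true :=
      (allBelow_iff _ 24).1 dTab_ok (ptIdx (c⁻¹ none)) (ptIdx_lt _)
    rw [hi, Nat.beq_refl] at hall
    simp only [Bool.not_true, Bool.false_or, Bool.and_eq_true] at hall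
    obtain ⟨hD, hE, h23⟩ := hall
    generalize dTab (ptIdx (c⁻¹ none)) = Dt at hD hE h23
    have hvD := isM24_valid hD
    have hDp : tperm Dt (c⁻¹ none) = none := by
      rw [tperm_apply hvD, Nat.eq_of_beq_eq_true h23]; rfl
    have hw := wprod_eq_of_eqW (w1 := [Dt, X2A]) (w2 := [tE1, Dt]) (by simp [hvD, hvA])
      (by simp [hvD, v_tE1]) hE
    have hw' : tperm Dt * tperm X2A = tperm tE1 * tperm Dt := by simpa [wprod] using hw
    have hE1 : tperm tE1 = tperm Dt * tperm X2A * (tperm Dt)⁻¹ := by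
      rw [eq_mul_inv_iff_mul_eq]; exact hw'.symm
    have hxM : c * (tperm Dt)⁻¹ ∈ Spor.M23 := by
      refine Subgroup.mem_inf.2 ⟨mul_mem hc (inv_mem (tperm_mem_M24 hD)),
        MulAction.mem_stabilizer_iff.2 ?_⟩
      change (c * (tperm Dt)⁻¹) none = none
      rw [Equiv.Perm.mul_apply]
      have : (tperm Dt)⁻¹ none = c⁻¹ none := Equiv.Perm.inv_eq_iff_eq.2 hDp.symm
      rw [this]; simp
    refine ⟨⟨c * (tperm Dt)⁻¹, hxM⟩, Subtype.ext ?_⟩
    change (g : Equiv.Perm GolayPt) = (c * (tperm Dt)⁻¹) * tperm tE1 * (c * (tperm Dt)⁻¹)⁻¹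
    rw [hgc, hE1]; group
  · exact absurd hfix (SM24.X2B_fpf _)

theorem mulE12 : ((f1 * f2 : ↥Spor.M23) : Equiv.Perm GolayPt) = wprod [tE1, tE2] := by
  simp [wprod, f1, f2]
theorem mulE13 : ((f1 * f3 : ↥Spor.M23) : Equiv.Perm GolayPt) = wprod [tE1, tE3] := by
  simp [wprod, f1, f3]
theorem mulE23 : ((f2 * f3 : ↥Spor.M23) : Equiv.Perm GolayPt) = wprod [tE2, tE3] := by
  simp [wprod, f2, f3]
theorem mulE123 : ((f1 * f2 * f3 : ↥Spor.M23) : Equiv.Perm GolayPt) = wprod [tE1, tE2, tE3] := by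
  simp [wprod, f1, f2, f3, mul_assoc]
theorem mulE1 : (f1 : Equiv.Perm GolayPt) = wprod [tE1] := by simp [wprod, f1]
theorem mulE2 : (f2 : Equiv.Perm GolayPt) = wprod [tE2] := by simp [wprod, f2]
theorem mulE3 : (f3 : Equiv.Perm GolayPt) = wprod [tE3] := by simp [wprod, f3]

theorem vE' (w : List ℕ) (h : ∀ t ∈ w, t ∈ [tE1, tE2, tE3, tE4]) :
    ∀ t ∈ w, validPerm t = true := fun t ht => vE t (h t ht)

/-- In a stem extension of `M23` with kernel of order 2, every involution lifts to an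
involution. -/
theorem caseB {Γ : Type*} [Group Γ] [Finite Γ] {σ : Γ →* ↥Spor.M23} (hσ : PStem σ 2) :
    CaseB σ :=
  caseB_of_conj hσ f1 f1 f2 f3 conj_f1 sq1 sq2 sq3 c12 c13 c23
    (sub_ne_one Spor.M23 f1 [tE1] mulE1 (vE' _ (by simp)) 1 (by norm_num) (by decide +kernel))
    (sub_ne_one Spor.M23 f2 [tE2] mulE2 (vE' _ (by simp)) 1 (by norm_num) (by decide +kernel))
    (sub_ne_one Spor.M23 f3 [tE3] mulE3 (vE' _ (by simp)) 1 (by norm_num) (by decide +kernel))
    (sub_ne_one Spor.M23 _ [tE1, tE2] mulE12 (vE' _ (by simp)) 1 (by norm_num)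
      (by decide +kernel))
    (sub_ne_one Spor.M23 _ [tE1, tE3] mulE13 (vE' _ (by simp)) 1 (by norm_num)
      (by decide +kernel))
    (sub_ne_one Spor.M23 _ [tE2, tE3] mulE23 (vE' _ (by simp)) 1 (by norm_num)
      (by decide +kernel))
    (sub_ne_one Spor.M23 _ [tE1, tE2, tE3] mulE123 (vE' _ (by simp)) 1 (by norm_num)
      (by decide +kernel))

/-- `M23` has no stem extension with kernel of order 2. -/
theorem no_pstem_two {Γ : Type*} [Group Γ] [Finite Γ] (σ : Γ →* ↥Spor.M23) (hσ : PStem σ 2) :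
    False :=
  pstem_false_of_D8 hσ (caseB hσ) d8rel card_Q 79695 (by norm_num)
    (by rw [card_M23]; rfl)

/-! ### The prime 3 -/

theorem e9rel : E9Rel ea eb eg where
  a3 := sub_cube Spor.M23 m_tA v_tA (by decide +kernel)
  b3 := sub_cube Spor.M23 m_tB v_tB (by decide +kernel)
  ab := sub_comm Spor.M23 m_tA m_tB v_tA v_tB (by decide +kernel)
  ga := sub_conj Spor.M23 m_tG m_tA m_tA v_tG v_tA v_tA (by decide +kernel)
  gb := sub_inverts Spor.M23 m_tG m_tB v_tG v_tB (by decide +kernel) (by decide +kernel)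

def gens3 : List ℕ := [tA, tB]

theorem nodup9 : nodupB ((pcWords 3 gens3).map tblOf) = true := by decide +kernel

theorem len9 : (pcWords 3 gens3).length = 9 := by decide +kernel

theorem card_P : 9 ≤ Nat.card (Subgroup.closure ({ea, eb} : Set ↥Spor.M23)) := by
  have h := length_le_card_of_words (Subgroup.closure ({ea, eb} : Set ↥Spor.M23)) gens3
    ?_ ?_ (pcWords 3 gens3) (mem_of_mem_pcWords 3 gens3) nodup9
  · rw [len9] at h; exact h
  · intro t ht
    simp only [gens3, List.mem_cons, List.not_mem_nil, or_false] at ht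
    rcases ht with rfl | rfl
    · exact v_tA
    · exact v_tB
  · intro t ht
    simp only [gens3, List.mem_cons, List.not_mem_nil, or_false] at ht
    rcases ht with rfl | rfl
    · exact ⟨ea, Subgroup.subset_closure (by simp), rfl⟩
    · exact ⟨eb, Subgroup.subset_closure (by simp), rfl⟩

/-- `M23` has no stem extension with kernel of order 3. -/
theorem no_pstem_three {Γ : Type*} [Group Γ] [Finite Γ] (σ : Γ →* ↥Spor.M23) (hσ : PStem σ 3) :
    False :=
  pstem_false_of_E9 hσ e9rel card_P 1133440 (by norm_num) (by rw [card_M23])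

end Cfsg.Agent.Lib.helper33.SM23

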