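/-
The 3-part of the Schur multiplier of `M24`: explicit generators of a Sylow 3-subgroup
`3^{1+2}` with an involution inverting the generators.  (owner: helper33; data generated by
computer)
-/
import Mathlib
import Cfsg.Prelude.Def_Sporadic_a
import Cfsg.Agent.Lib.helper94.M24Elts
import Cfsg.Agent.Lib.helper9.M24Order
import Cfsg.Agent.Lib.helper33.SchurThree
import Cfsg.Agent.Lib.helper33.SchurWords

set_option autoImplicit false

namespace Cfsg.Agent.Lib.helper33.SM24T

open Cfsg
open scoped commutatorElement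
open Cfsg.Agent.Lib.helper33
open Cfsg.Agent.Lib.helper94 (tperm validPerm isM24 isM24_valid tperm_mem_M24)

def tA : ℕ := 0x8dd535cad0138aca0c884bc27a99a0
def tB : ℕ := 0xdaac800ef9ca22429266acb71d08e
def tC : ℕ := 0x226aba48ec13a289a8b06bec119ae0
def tG : ℕ := 0x8d862782f09b82c3292822ca7ad1b2

theorem tbl_ok : isM24 tA = true ∧ isM24 tB = true ∧ isM24 tC = true ∧ isM24 tG = true := by
  decide +kernel

theorem m_tA : tperm tA ∈ M24 := tperm_mem_M24 tbl_ok.1
theorem v_tA : validPerm tA = true := isM24_valid tbl_ok.1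
theorem m_tB : tperm tB ∈ M24 := tperm_mem_M24 tbl_ok.2.1
theorem v_tB : validPerm tB = true := isM24_valid tbl_ok.2.1
theorem m_tC : tperm tC ∈ M24 := tperm_mem_M24 tbl_ok.2.2.1
theorem v_tC : validPerm tC = true := isM24_valid tbl_ok.2.2.1
theorem m_tG : tperm tG ∈ M24 := tperm_mem_M24 tbl_ok.2.2.2
theorem v_tG : validPerm tG = true := isM24_valid tbl_ok.2.2.2

noncomputable def ea : ↥M24 := ⟨tperm tA, m_tA⟩
noncomputable def eb : ↥M24 := ⟨tperm tB, m_tB⟩
noncomputable def ec : ↥M24 := ⟨tperm tC, m_tC⟩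
noncomputable def eg : ↥M24 := ⟨tperm tG, m_tG⟩

theorem hc : ⁅ea, eb⁆ = ec :=
  sub_commutator M24 m_tA m_tB m_tC v_tA v_tB v_tC (by decide +kernel)

theorem e27rel : E27Rel ea eb eg where
  a3 := sub_cube M24 m_tA v_tA (by decide +kernel)
  b3 := sub_cube M24 m_tB v_tB (by decide +kernel)
  ca := by rw [hc]; exact sub_comm M24 m_tC m_tA v_tC v_tA (by decide +kernel)
  cb := by rw [hc]; exact sub_comm M24 m_tC m_tB v_tC v_tB (by decide +kernel)
  ga := sub_inverts M24 m_tG m_tA v_tG v_tA (by decide +kernel) (by decide +kernel)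
  gb := sub_inverts M24 m_tG m_tB v_tG v_tB (by decide +kernel) (by decide +kernel)
  gc := by rw [hc]; exact sub_conj M24 m_tG m_tC m_tC v_tG v_tC v_tC (by decide +kernel)

def gens3 : List ℕ := [tA, tB, tC]

theorem nodup27 : nodupB ((pcWords 3 gens3).map tblOf) = true := by decide +kernel

theorem len27 : (pcWords 3 gens3).length = 27 := by decide +kernel

theorem card_Q : 27 ≤ Nat.card (Subgroup.closure ({ea, eb} : Set ↥M24)) := by
  have qa : ea ∈ Subgroup.closure ({ea, eb} : Set ↥M24) := Subgroup.subset_closure (by simp)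
  have qb : eb ∈ Subgroup.closure ({ea, eb} : Set ↥M24) := Subgroup.subset_closure (by simp)
  have qc : ec ∈ Subgroup.closure ({ea, eb} : Set ↥M24) := by
    rw [← hc]; exact comm_mem_of_mem qa qb
  have h := length_le_card_of_words (Subgroup.closure ({ea, eb} : Set ↥M24)) gens3
    ?_ ?_ (pcWords 3 gens3) (mem_of_mem_pcWords 3 gens3) nodup27
  · rw [len27] at h; exact h
  · intro t ht
    simp only [gens3, List.mem_cons, List.not_mem_nil, or_false] at ht
    rcases ht with rfl | rfl | rfl
    · exact v_tA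
    · exact v_tB
    · exact v_tC
  · intro t ht
    simp only [gens3, List.mem_cons, List.not_mem_nil, or_false] at ht
    rcases ht with rfl | rfl | rfl
    · exact ⟨ea, qa, rfl⟩
    · exact ⟨eb, qb, rfl⟩
    · exact ⟨ec, qc, rfl⟩

/-- `M24` has no stem extension with kernel of order 3. -/
theorem no_pstem_three {Γ : Type*} [Group Γ] [Finite Γ] (σ : Γ →* ↥M24) (hσ : PStem σ 3) :
    False :=
  pstem_false_of_E27 hσ e27rel card_Q 9067520 (by norm_num)
    (by rw [Cfsg.Agent.Lib.helper9.card_M24])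

end Cfsg.Agent.Lib.helper33.SM24T

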