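/-
The stabiliser of a sextet in the group of the length-24 code: it induces the full symmetric group
on the six tetrads, and the elements acting on every tetrad as an element of the four-group form a
normal elementary abelian subgroup of order 64.
-/
import Mathlib
import Cfsg.Agent.Lib.helper94.M24Sextets
import Cfsg.Agent.Lib.helper94.M24Misc
import Cfsg.Agent.Lib.helper33.OctadStab
import Cfsg.Agent.Lib.helper33.SextetOrbits

set_option autoImplicit false
set_option maxRecDepth 100000

namespace Cfsg.Agent.Lib.helper33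

open Cfsg
open Cfsg.Agent.Lib.helper94 (setOf mem_setOf objSetL mem_objSetL tperm isM24 isM24_valid
  tperm_mem_M24 smul_setOf applyP imgAt validPerm tperm_apply tperm_idxPt ptIdx idxPt ptIdx_lt
  idxPt_ptIdx ptIdx_idxPt validPerm_lt allBelow allBelow_iff sextet_cover sextet_disjoint
  sextets_transitive ptIdx_tperm)
open scoped Pointwise

/-! ### The four-group subgroup attached to a family of sets -/

/-- The elements of the group of the code that fix every member of `S` and map every 2-subset `u`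
of a member `t` to `u` or to its complement in `t`. -/
def tetN (S : Finset (Finset GolayPt)) : Subgroup (Equiv.Perm GolayPt) where
  carrier := {g | g ∈ M24 ∧ ∀ t ∈ S, g • t = t ∧
    ∀ u, u ⊆ t → u.card = 2 → g • u = u ∨ g • u = t \ u}
  one_mem' := ⟨one_mem _, fun t _ => ⟨one_smul _ _, fun u _ _ => Or.inl (one_smul _ _)⟩⟩
  mul_mem' := by
    rintro g h ⟨hg, hg'⟩ ⟨hh, hh'⟩
    refine ⟨mul_mem hg hh, fun t ht =>
      ⟨by rw [mul_smul, (hh' t ht).1, (hg' t ht).1], fun u hu hc => ?_⟩⟩
    rw [mul_smul]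
    rcases (hh' t ht).2 u hu hc with h1 | h1
    · rw [h1]; exact (hg' t ht).2 u hu hc
    · rw [h1, Finset.smul_finset_sdiff, (hg' t ht).1]
      rcases (hg' t ht).2 u hu hc with h2 | h2
      · rw [h2]; exact Or.inr rfl
      · rw [h2, Finset.sdiff_sdiff_eq_self hu]; exact Or.inl rfl
  inv_mem' := by
    rintro g ⟨hg, hg'⟩
    refine ⟨inv_mem hg, fun t ht => ⟨by rw [inv_smul_eq_iff, (hg' t ht).1], fun u hu hc => ?_⟩⟩
    rcases (hg' t ht).2 u hu hc with h1 | h1
    · left; rw [inv_smul_eq_iff, h1]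
    · right
      rw [inv_smul_eq_iff, Finset.smul_finset_sdiff, (hg' t ht).1, h1,
        Finset.sdiff_sdiff_eq_self hu]

theorem mem_tetN {S : Finset (Finset GolayPt)} {g : Equiv.Perm GolayPt} :
    g ∈ tetN S ↔ g ∈ M24 ∧ ∀ t ∈ S, g • t = t ∧
      ∀ u, u ⊆ t → u.card = 2 → g • u = u ∨ g • u = t \ u := Iff.rfl

theorem tetN_conj {S : Finset (Finset GolayPt)} {a k : Equiv.Perm GolayPt} (ha : a ∈ M24)
    (hk : k ∈ tetN S) : a * k * a⁻¹ ∈ tetN (a • S) := by
  obtain ⟨hk1, hk2⟩ := hk
  refine ⟨mul_mem (mul_mem ha hk1) (inv_mem ha), fun t' ht' => ?_⟩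
  obtain ⟨t, ht, rfl⟩ := Finset.mem_smul_finset.1 ht'
  have e : ∀ u : Finset GolayPt, (a * k * a⁻¹) • (a • u) = a • (k • u) := by
    intro u; rw [mul_smul, mul_smul, inv_smul_smul]
  refine ⟨by rw [e, (hk2 t ht).1], fun u' hu' hc' => ?_⟩
  have hu'' : a • (a⁻¹ • u') = u' := smul_inv_smul a u'
  have hsub : a⁻¹ • u' ⊆ t := Finset.subset_smul_finset_iff.1 hu'
  have hc : (a⁻¹ • u').card = 2 := by rw [Finset.card_smul_finset]; exact hc'
  rw [← hu'', e]
  rcases (hk2 t ht).2 _ hsub hc with h | h
  · left; rw [h]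
  · right; rw [h, Finset.smul_finset_sdiff]

theorem tetN_smul {a : Equiv.Perm GolayPt} (ha : a ∈ M24) (S : Finset (Finset GolayPt)) :
    tetN (a • S) = (tetN S).map (MulAut.conj a).toMonoidHom := by
  ext g
  rw [Subgroup.mem_map]
  constructor
  · intro hg
    refine ⟨a⁻¹ * g * a, ?_, ?_⟩
    · have := tetN_conj (inv_mem ha) hg
      rwa [inv_inv, inv_smul_smul] at this
    · show a * (a⁻¹ * g * a) * a⁻¹ = g
      group
  · rintro ⟨k, hk, rfl⟩
    exact tetN_conj ha hk

/-- The elements of `tetN S` are involutions when `S` covers the points. -/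
theorem tetN_sq {S : Finset (Finset GolayPt)} (hS : S ∈ sextets) {g : Equiv.Perm GolayPt}
    (hg : g ∈ tetN S) : g * g = 1 := by
  apply Equiv.ext
  intro p
  obtain ⟨t, ht, hp⟩ := sextet_cover hS p
  obtain ⟨htt, hu⟩ := hg.2 t ht
  show g (g p) = p
  by_cases h : g p = p
  · rw [h, h]
  · have hq : g p ∈ t := (mem_iff_of_smul_eq htt p).2 hp
    have hsub : ({p, g p} : Finset GolayPt) ⊆ t := by
      intro x hx
      rw [Finset.mem_insert, Finset.mem_singleton] at hx
      rcases hx with rfl | rfl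
      · exact hp
      · exact hq
    have hc : ({p, g p} : Finset GolayPt).card = 2 := Finset.card_pair (Ne.symm h)
    rcases hu _ hsub hc with h1 | h1
    · have hmem2 : g (g p) ∈ g • ({p, g p} : Finset GolayPt) :=
        Finset.smul_mem_smul_finset (Finset.mem_insert_of_mem (Finset.mem_singleton_self _))
      rw [h1, Finset.mem_insert, Finset.mem_singleton] at hmem2
      rcases hmem2 with h2 | h2
      · exact h2
      · exact absurd (g.injective h2) h
    · have hmem : g p ∈ g • ({p, g p} : Finset GolayPt) :=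
        Finset.smul_mem_smul_finset (Finset.mem_insert_self p _)
      rw [h1, Finset.mem_sdiff] at hmem
      exact absurd (Finset.mem_insert_of_mem (Finset.mem_singleton_self _)) hmem.2

/-- An element of `tetN S` fixing a point of a member of `S` fixes all points of this member. -/
theorem tetN_fix {S : Finset (Finset GolayPt)} {g : Equiv.Perm GolayPt} (hg : g ∈ tetN S)
    {t : Finset GolayPt} (ht : t ∈ S) {p : GolayPt} (hp : p ∈ t) (hgp : g p = p) :
    ∀ x ∈ t, g x = x := by
  intro x hx
  by_cases hxp : x = p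
  · rw [hxp]; exact hgp
  · have hsub : ({p, x} : Finset GolayPt) ⊆ t := by
      intro y hy
      rw [Finset.mem_insert, Finset.mem_singleton] at hy
      rcases hy with rfl | rfl
      · exact hp
      · exact hx
    have hc : ({p, x} : Finset GolayPt).card = 2 := Finset.card_pair (Ne.symm hxp)
    rcases (hg.2 t ht).2 _ hsub hc with h1 | h1
    · have hmem : g x ∈ g • ({p, x} : Finset GolayPt) :=
        Finset.smul_mem_smul_finset (Finset.mem_insert_of_mem (Finset.mem_singleton_self _))
      rw [h1, Finset.mem_insert, Finset.mem_singleton] at hmem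
      rcases hmem with h2 | h2
      · exact absurd (g.injective (h2.trans hgp.symm)) hxp
      · exact h2
    · have hmem : g p ∈ g • ({p, x} : Finset GolayPt) :=
        Finset.smul_mem_smul_finset (Finset.mem_insert_self p _)
      rw [h1, hgp, Finset.mem_sdiff] at hmem
      exact absurd (Finset.mem_insert_self p _) hmem.2

theorem tetN_trivial {S : Finset (Finset GolayPt)} (hS : S ∈ sextets) {g : Equiv.Perm GolayPt}
    (hg : g ∈ tetN S) {t1 t2 t3 : Finset GolayPt} (h1 : t1 ∈ S) (h2 : t2 ∈ S) (h3 : t3 ∈ S)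
    (h12 : t1 ≠ t2) (h13 : t1 ≠ t3) (h23 : t2 ≠ t3) {p q r : GolayPt} (hp : p ∈ t1)
    (hq : q ∈ t2) (hr : r ∈ t3) (gp : g p = p) (gq : g q = q) (gr : g r = r) : g = 1 := by
  have ho : t1 ∪ t2 ∈ octads := hS.2.2 t1 h1 t2 h2 h12
  have hr' : r ∉ t1 ∪ t2 := by
    rw [Finset.mem_union]
    rintro (h | h)
    · exact Finset.disjoint_left.1 (sextet_disjoint hS h1 h3 h13) h hr
    · exact Finset.disjoint_left.1 (sextet_disjoint hS h2 h3 h23) h hr
  apply fixOct_stab_trivial ho hr' g _ gr
  rw [mem_fixOct]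
  refine ⟨hg.1, fun x hx => ?_⟩
  rcases Finset.mem_union.1 hx with h | h
  · exact tetN_fix hg h1 hp gp x h
  · exact tetN_fix hg h2 hq gq x h

/-- The order of `tetN S` from transitivity data on three tetrads. -/
theorem card_tetN_of {S : Finset (Finset GolayPt)} (hS : S ∈ sextets)
    {t1 t2 t3 : Finset GolayPt} (h1 : t1 ∈ S) (h2 : t2 ∈ S) (h3 : t3 ∈ S)
    (h12 : t1 ≠ t2) (h13 : t1 ≠ t3) (h23 : t2 ≠ t3) {p q r : GolayPt} (hp : p ∈ t1)
    (hq : q ∈ t2) (hr : r ∈ t3)
    (hA : ∀ x ∈ t1, ∃ g ∈ tetN S, g p = x)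
    (hB : ∀ y ∈ t2, ∃ g ∈ tetN S, g p = p ∧ g q = y)
    (hC : ∀ z ∈ t3, ∃ g ∈ tetN S, g p = p ∧ g q = q ∧ g r = z) :
    Nat.card (tetN S) = 64 := by
  have c3 : Nat.card ↥(((tetN S ⊓ MulAction.stabilizer (Equiv.Perm GolayPt) p) ⊓
      MulAction.stabilizer (Equiv.Perm GolayPt) q) ⊓
      MulAction.stabilizer (Equiv.Perm GolayPt) r) = 1 := by
    have key : ∀ a : Equiv.Perm GolayPt, a ∈ ((tetN S ⊓ MulAction.stabilizer (Equiv.Perm GolayPt) p) ⊓
        MulAction.stabilizer (Equiv.Perm GolayPt) q) ⊓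
        MulAction.stabilizer (Equiv.Perm GolayPt) r → a = 1 := by
      intro a ha
      obtain ⟨⟨⟨ha1, ha2⟩, ha3⟩, ha4⟩ := ha
      exact tetN_trivial hS ha1 h1 h2 h3 h12 h13 h23 hp hq hr ha2 ha3 ha4
    have : Subsingleton ↥(((tetN S ⊓ MulAction.stabilizer (Equiv.Perm GolayPt) p) ⊓
        MulAction.stabilizer (Equiv.Perm GolayPt) q) ⊓
        MulAction.stabilizer (Equiv.Perm GolayPt) r) :=
      ⟨fun a b => Subtype.ext (by rw [key a.1 a.2, key b.1 b.2])⟩
    exact Nat.card_unique
  have u1 := Cfsg.Agent.Lib.helper9.card_le_of_orbit (tetN S) p t1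
    (fun g hg => (mem_iff_of_smul_eq (hg.2 t1 h1).1 p).2 hp)
  have l1 := Cfsg.Agent.Lib.helper9.le_card_of_orbit (tetN S) p t1 hA
  have u2 := Cfsg.Agent.Lib.helper9.card_le_of_orbit
    (tetN S ⊓ MulAction.stabilizer (Equiv.Perm GolayPt) p) q t2
    (fun g hg => (mem_iff_of_smul_eq (hg.1.2 t2 h2).1 q).2 hq)
  have l2 := Cfsg.Agent.Lib.helper9.le_card_of_orbit
    (tetN S ⊓ MulAction.stabilizer (Equiv.Perm GolayPt) p) q t2 (fun y hy => by
      obtain ⟨g, hg, gp, gq⟩ := hB y hy
      exact ⟨g, ⟨hg, gp⟩, gq⟩)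
  have u3 := Cfsg.Agent.Lib.helper9.card_le_of_orbit
    ((tetN S ⊓ MulAction.stabilizer (Equiv.Perm GolayPt) p) ⊓
      MulAction.stabilizer (Equiv.Perm GolayPt) q) r t3
    (fun g hg => (mem_iff_of_smul_eq (hg.1.1.2 t3 h3).1 r).2 hr)
  have l3 := Cfsg.Agent.Lib.helper9.le_card_of_orbit
    ((tetN S ⊓ MulAction.stabilizer (Equiv.Perm GolayPt) p) ⊓
      MulAction.stabilizer (Equiv.Perm GolayPt) q) r t3 (fun z hz => by
      obtain ⟨g, hg, gp, gq, gr⟩ := hC z hz
      exact ⟨g, ⟨⟨hg, gp⟩, gq⟩, gr⟩)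
  rw [hS.2.1 t1 h1] at u1 l1
  rw [hS.2.1 t2 h2] at u2 l2
  rw [hS.2.1 t3 h3, c3] at u3 l3
  omega

/-! ### Certificates for explicit elements -/

/-- A permutation that preserves a 4-set and acts on it as an involution which is trivial or
fixed-point-free maps every 2-subset to itself or to its complement. -/
theorem pair_cond_of_invol {g : Equiv.Perm GolayPt} {t : Finset GolayPt} (htc : t.card = 4)
    (hgt : g • t = t) (hinv : ∀ x ∈ t, g (g x) = x)
    (hfp : (∀ x ∈ t, g x = x) ∨ (∀ x ∈ t, g x ≠ x)) :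
    ∀ u, u ⊆ t → u.card = 2 → g • u = u ∨ g • u = t \ u := by
  intro u hu hc
  rcases hfp with hfix | hfpf
  · left; exact smul_eq_of_fix (fun x hx => hfix x (hu hx))
  · by_cases h : g • u = u
    · exact Or.inl h
    · right
      apply Finset.eq_of_subset_of_card_le
      · intro y hy
        obtain ⟨x, hx, rfl⟩ := Finset.mem_smul_finset.1 hy
        rw [Finset.mem_sdiff]
        refine ⟨(mem_iff_of_smul_eq hgt x).2 (hu hx), fun hgx => h ?_⟩
        have hgx' : g x ∈ u := hgx
        have hux : ({x, g x} : Finset GolayPt) = u := by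
          apply Finset.eq_of_subset_of_card_le
          · intro z hz
            rw [Finset.mem_insert, Finset.mem_singleton] at hz
            rcases hz with rfl | rfl
            · exact hx
            · exact hgx'
          · rw [hc, Finset.card_pair (Ne.symm (hfpf x (hu hx)))]
        rw [← hux, Finset.smul_finset_insert, Finset.smul_finset_singleton]
        show ({g x, g (g x)} : Finset GolayPt) = {x, g x}
        rw [hinv x (hu hx), Finset.pair_comm]
      · rw [Finset.card_smul_finset, Finset.card_sdiff_of_subset hu, htc, hc]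

/-- Kernel check: the table fixes the mask, is an involution on its points and either fixes all of
them or none. -/
def v4Mask (t m : ℕ) : Bool :=
  Nat.beq (applyP t 1 m) m &&
  allBelow (fun i => !m.testBit i || Nat.beq (imgAt t (imgAt t i)) i) 24 &&
  (allBelow (fun i => !m.testBit i || Nat.beq (imgAt t i) i) 24 ||
    allBelow (fun i => !m.testBit i || !Nat.beq (imgAt t i) i) 24)

theorem v4Mask_sound {t m : ℕ} (hv : validPerm t = true) (h : v4Mask t m = true)
    (hc : (setOf m).card = 4) :
    tperm t • setOf m = setOf m ∧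
      ∀ u, u ⊆ setOf m → u.card = 2 → tperm t • u = u ∨ tperm t • u = setOf m \ u := by
  rw [v4Mask, Bool.and_eq_true, Bool.and_eq_true, Bool.or_eq_true, allBelow_iff, allBelow_iff,
    allBelow_iff] at h
  obtain ⟨⟨h1, h2⟩, h3⟩ := h
  have hgt : tperm t • setOf m = setOf m := by rw [smul_setOf hv, Nat.eq_of_beq_eq_true h1]
  refine ⟨hgt, pair_cond_of_invol hc hgt ?_ ?_⟩
  · intro x hx
    rw [mem_setOf] at hx
    have := h2 (ptIdx x) (ptIdx_lt x)
    rw [hx] at this
    simp only [Bool.not_true, Bool.false_or] at this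
    rw [tperm_apply hv, tperm_apply hv, ptIdx_idxPt (validPerm_lt hv _ (ptIdx_lt x)),
      Nat.eq_of_beq_eq_true this, idxPt_ptIdx]
  · rcases h3 with h3 | h3
    · left
      intro x hx
      rw [mem_setOf] at hx
      have := h3 (ptIdx x) (ptIdx_lt x)
      rw [hx] at this
      simp only [Bool.not_true, Bool.false_or] at this
      rw [tperm_apply hv, Nat.eq_of_beq_eq_true this, idxPt_ptIdx]
    · right
      intro x hx hfix
      rw [mem_setOf] at hx
      have := h3 (ptIdx x) (ptIdx_lt x)
      rw [hx] at this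
      simp only [Bool.not_true, Bool.false_or, Bool.not_eq_true'] at this
      have h4 := ptIdx_tperm hv x
      rw [hfix] at h4
      rw [← h4, Nat.beq_refl] at this
      exact Bool.noConfusion this

/-- Kernel check for membership of a table permutation in `tetN (objSetL l)`. -/
def tetNCheck (l : List ℕ) (t : ℕ) : Bool := isM24 t && l.all (v4Mask t)

theorem tetN_of_check {l : List ℕ} (hl : ∀ m ∈ l, (setOf m).card = 4) {t : ℕ}
    (h : tetNCheck l t = true) : tperm t ∈ tetN (objSetL l) := by
  rw [tetNCheck, Bool.and_eq_true, List.all_eq_true] at h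
  refine ⟨tperm_mem_M24 h.1, fun s hs => ?_⟩
  obtain ⟨m, hm, rfl⟩ := mem_objSetL.1 hs
  exact v4Mask_sound (isM24_valid h.1) (h.2 m hm) (hl m hm)

/-- Kernel check: every point of the mask `m` is the image of the point `p` under a listed
table. -/
def reachCheck (ts : List ℕ) (p m : ℕ) : Bool :=
  allBelow (fun i => !m.testBit i || ts.any (fun t => Nat.beq (imgAt t p) i)) 24

theorem reach_sound {ts : List ℕ} {p m : ℕ} (hp : p < 24) (hv : ∀ t ∈ ts, validPerm t = true)
    (h : reachCheck ts p m = true) :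
    ∀ x ∈ setOf m, ∃ t ∈ ts, tperm t (idxPt p) = x := by
  intro x hx
  rw [mem_setOf] at hx
  have := (allBelow_iff _ 24).1 h (ptIdx x) (ptIdx_lt x)
  rw [hx] at this
  simp only [Bool.not_true, Bool.false_or, List.any_eq_true] at this
  obtain ⟨t, ht, h2⟩ := this
  refine ⟨t, ht, ?_⟩
  rw [tperm_idxPt (hv t ht) hp, Nat.eq_of_beq_eq_true h2, idxPt_ptIdx]

theorem fix_of_imgAt {t p : ℕ} (hv : validPerm t = true) (hp : p < 24)
    (h : Nat.beq (imgAt t p) p = true) : tperm t (idxPt p) = idxPt p := by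
  rw [tperm_idxPt hv hp, Nat.eq_of_beq_eq_true h]

/-! ### The reference sextet -/

def sxNA : List ℕ := [984818244535754528103549039458486304, 89053301974695481301600181090966529, 70961312958146288193683039871075042, 21553437447306391113730797094863959]
def sxNB : List ℕ := [984818244535754528103549039458486304, 976448692869377735270425038196672544, 973054518210042674313238929715267616, 961365507626256404119956257276790816]
def sxNC : List ℕ := [984818244535754528103549039458486304, 984724508489452699215480746259449888, 984235865005994746954145143334668320, 984202951082164080105044112956360736]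

theorem sx0_card4 : ∀ m ∈ sx0L, (setOf m).card = 4 := fun m hm =>
  sx0_mem.2.1 _ (mem_objSetL.2 ⟨m, hm, rfl⟩)

theorem sxNA_ok : (sxNA.all (tetNCheck sx0L) && reachCheck sxNA 0 8388615) = true := by
  decide +kernel

theorem sxNB_ok : (sxNB.all (tetNCheck sx0L) && reachCheck sxNB 4 4268048 &&
    sxNB.all (fun t => Nat.beq (imgAt t 0) 0)) = true := by
  decide +kernel

theorem sxNC_ok : (sxNC.all (tetNCheck sx0L) && reachCheck sxNC 6 2621632 &&
    sxNC.all (fun t => Nat.beq (imgAt t 0) 0 && Nat.beq (imgAt t 4) 4)) = true := by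
  decide +kernel

theorem card_tetN0 : Nat.card (tetN (objSetL sx0L)) = 64 := by
  have hA := sxNA_ok
  have hB := sxNB_ok
  have hC := sxNC_ok
  rw [Bool.and_eq_true, List.all_eq_true] at hA
  rw [Bool.and_eq_true, Bool.and_eq_true, List.all_eq_true, List.all_eq_true] at hB
  rw [Bool.and_eq_true, Bool.and_eq_true, List.all_eq_true, List.all_eq_true] at hC
  have vA : ∀ t ∈ sxNA, validPerm t = true := fun t ht => by
    have := hA.1 t ht
    rw [tetNCheck, Bool.and_eq_true] at this
    exact isM24_valid this.1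
  have vB : ∀ t ∈ sxNB, validPerm t = true := fun t ht => by
    have := hB.1.1 t ht
    rw [tetNCheck, Bool.and_eq_true] at this
    exact isM24_valid this.1
  have vC : ∀ t ∈ sxNC, validPerm t = true := fun t ht => by
    have := hC.1.1 t ht
    rw [tetNCheck, Bool.and_eq_true] at this
    exact isM24_valid this.1
  have m1 : setOf 8388615 ∈ objSetL sx0L := mem_objSetL.2 ⟨_, by decide, rfl⟩
  have m2 : setOf 4268048 ∈ objSetL sx0L := mem_objSetL.2 ⟨_, by decide, rfl⟩
  have m3 : setOf 2621632 ∈ objSetL sx0L := mem_objSetL.2 ⟨_, by decide, rfl⟩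
  have ne : ∀ a b : ℕ, a < 2 ^ 24 → b < 2 ^ 24 → a ≠ b → setOf a ≠ setOf b := fun a b ha hb hab h =>
    hab (Cfsg.Agent.Lib.helper94.setOf_injOn ha hb h)
  refine card_tetN_of sx0_mem m1 m2 m3 (ne _ _ (by norm_num) (by norm_num) (by norm_num))
    (ne _ _ (by norm_num) (by norm_num) (by norm_num))
    (ne _ _ (by norm_num) (by norm_num) (by norm_num))
    (p := idxPt 0) (q := idxPt 4) (r := idxPt 6) ?_ ?_ ?_ ?_ ?_ ?_
  · rw [mem_setOf, ptIdx_idxPt (by norm_num)]; decide +kernel
  · rw [mem_setOf, ptIdx_idxPt (by norm_num)]; decide +kernel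
  · rw [mem_setOf, ptIdx_idxPt (by norm_num)]; decide +kernel
  · intro x hx
    obtain ⟨t, ht, h⟩ := reach_sound (by norm_num) vA hA.2 x hx
    exact ⟨tperm t, tetN_of_check sx0_card4 (hA.1 t ht), h⟩
  · intro y hy
    obtain ⟨t, ht, h⟩ := reach_sound (by norm_num) vB hB.1.2 y hy
    exact ⟨tperm t, tetN_of_check sx0_card4 (hB.1.1 t ht),
      fix_of_imgAt (vB t ht) (by norm_num) (hB.2 t ht), h⟩
  · intro z hz
    obtain ⟨t, ht, h⟩ := reach_sound (by norm_num) vC hC.1.2 z hz
    have h2 := hC.2 t ht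
    rw [Bool.and_eq_true] at h2
    exact ⟨tperm t, tetN_of_check sx0_card4 (hC.1.1 t ht),
      fix_of_imgAt (vC t ht) (by norm_num) h2.1, fix_of_imgAt (vC t ht) (by norm_num) h2.2, h⟩

/-- The four-group subgroup of a sextet has order 64. -/
theorem card_tetN {S : Finset (Finset GolayPt)} (hS : S ∈ sextets) : Nat.card (tetN S) = 64 := by
  obtain ⟨a, ha, rfl⟩ := sextets_transitive _ sx0_mem S hS
  rw [tetN_smul ha, Subgroup.card_map_of_injective (MulAut.conj a).injective, card_tetN0]

/-! ### Transpositions of tetrads -/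

/-- Every transposition of two members of `S` is induced by an element of the group. -/
def SwapProp (S : Finset (Finset GolayPt)) : Prop :=
  ∀ t1 ∈ S, ∀ t2 ∈ S, t1 ≠ t2 → ∃ g ∈ M24, g • t1 = t2 ∧ g • t2 = t1 ∧
    ∀ t ∈ S, t ≠ t1 → t ≠ t2 → g • t = t

/-- Kernel check: the table is in the group, swaps the masks `a` and `b` and fixes the other masks
of the list. -/
def swapOK (l : List ℕ) (a b t : ℕ) : Bool :=
  isM24 t && Nat.beq (applyP t 1 a) b && Nat.beq (applyP t 1 b) a &&
    l.all (fun c => Nat.beq c a || Nat.beq c b || Nat.beq (applyP t 1 c) c)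

/-- Kernel check: every pair of distinct masks of the list is swapped by a listed table. -/
def swapsCheck (l ts : List ℕ) : Bool :=
  l.all fun a => l.all fun b => Nat.beq a b || ts.any (swapOK l a b)

theorem swaps_sound {l ts : List ℕ} (h : swapsCheck l ts = true) : SwapProp (objSetL l) := by
  intro t1 h1 t2 h2 hne
  obtain ⟨a, ha, rfl⟩ := mem_objSetL.1 h1
  obtain ⟨b, hb, rfl⟩ := mem_objSetL.1 h2
  rw [swapsCheck, List.all_eq_true] at h
  have h' := List.all_eq_true.1 (h a ha) b hb
  rw [Bool.or_eq_true] at h'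
  rcases h' with h' | h'
  · exact absurd (by rw [Nat.eq_of_beq_eq_true h']) hne
  · obtain ⟨t, ht, hok⟩ := List.any_eq_true.1 h'
    rw [swapOK, Bool.and_eq_true, Bool.and_eq_true, Bool.and_eq_true, List.all_eq_true] at hok
    obtain ⟨⟨⟨hM, hab⟩, hba⟩, hall⟩ := hok
    have hv := isM24_valid hM
    refine ⟨tperm t, tperm_mem_M24 hM, ?_, ?_, ?_⟩
    · rw [smul_setOf hv, Nat.eq_of_beq_eq_true hab]
    · rw [smul_setOf hv, Nat.eq_of_beq_eq_true hba]
    · intro s hs hsa hsb
      obtain ⟨c, hc, rfl⟩ := mem_objSetL.1 hs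
      have := hall c hc
      rw [Bool.or_eq_true, Bool.or_eq_true] at this
      rcases this with (h3 | h3) | h3
      · exact absurd (by rw [Nat.eq_of_beq_eq_true h3]) hsa
      · exact absurd (by rw [Nat.eq_of_beq_eq_true h3]) hsb
      · rw [smul_setOf hv, Nat.eq_of_beq_eq_true h3]

def sxSwaps : List ℕ := [169532048949390717385689250574549709, 266158548314051500650259869576908455, 836273155792466430597913504759594313, 520012658738312375604224548631847282, 603171272936042562147618420154254437, 983553802664194553885244102129681472, 975726646454338773890647252426752034, 97651780598647356288343792263726103, 18483108947988596753743092758830145, 5625371832484313413592171951545409, 5528668018895332692597595863943223, 62535868415319771235635377019128544, 70963370477693362184724774772047959, 28863983632011420557355275994520641, 28820793223202677761424906652289079]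

theorem sxSwaps_ok : swapsCheck sx0L sxSwaps = true := by decide +kernel

theorem swapProp_smul {S : Finset (Finset GolayPt)} {a : Equiv.Perm GolayPt} (ha : a ∈ M24)
    (h : SwapProp S) : SwapProp (a • S) := by
  intro t1' h1 t2' h2 hne
  obtain ⟨t1, ht1, rfl⟩ := Finset.mem_smul_finset.1 h1
  obtain ⟨t2, ht2, rfl⟩ := Finset.mem_smul_finset.1 h2
  obtain ⟨g, hg, e1, e2, e3⟩ := h t1 ht1 t2 ht2 (fun h => hne (by rw [h]))
  refine ⟨a * g * a⁻¹, mul_mem (mul_mem ha hg) (inv_mem ha), ?_, ?_, ?_⟩
  · rw [mul_smul, mul_smul, inv_smul_smul, e1]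
  · rw [mul_smul, mul_smul, inv_smul_smul, e2]
  · intro t' ht' n1 n2
    obtain ⟨t, ht, rfl⟩ := Finset.mem_smul_finset.1 ht'
    rw [mul_smul, mul_smul, inv_smul_smul,
      e3 t ht (fun h => n1 (by rw [h])) (fun h => n2 (by rw [h]))]

theorem swapProp_sextet {S : Finset (Finset GolayPt)} (hS : S ∈ sextets) : SwapProp S := by
  obtain ⟨a, ha, rfl⟩ := sextets_transitive _ sx0_mem S hS
  exact swapProp_smul ha (swaps_sound sxSwaps_ok)

theorem smul_eq_of_forall_mem {g : Equiv.Perm GolayPt} {S : Finset (Finset GolayPt)}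
    (h : ∀ t ∈ S, g • t ∈ S) : g • S = S := by
  apply Finset.eq_of_subset_of_card_le
  · intro s hs
    obtain ⟨t, ht, rfl⟩ := Finset.mem_smul_finset.1 hs
    exact h t ht
  · rw [Finset.card_smul_finset]

/-- If all transpositions of members of `S` are induced by the group, so are all permutations. -/
theorem exists_of_swapProp {S : Finset (Finset GolayPt)} (h : SwapProp S) (e : Equiv.Perm ↥S) :
    ∃ g ∈ M24, ∀ t : ↥S, g • (t : Finset GolayPt) = ((e t : ↥S) : Finset GolayPt) := by
  induction e using Equiv.Perm.swap_induction_on with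
  | one => exact ⟨1, one_mem _, fun t => one_smul _ _⟩
  | swap_mul f x y hxy ih =>
    obtain ⟨g, hg, hgf⟩ := ih
    obtain ⟨s, hs, e1, e2, e3⟩ := h x.1 x.2 y.1 y.2 (fun h => hxy (Subtype.ext h))
    refine ⟨s * g, mul_mem hs hg, fun t => ?_⟩
    rw [mul_smul, hgf t, Equiv.Perm.mul_apply]
    by_cases c1 : f t = x
    · rw [c1, Equiv.swap_apply_left, e1]
    · by_cases c2 : f t = y
      · rw [c2, Equiv.swap_apply_right, e2]
      · rw [Equiv.swap_apply_of_ne_of_ne c1 c2]
        exact e3 _ (f t).2 (fun h => c1 (Subtype.ext h)) (fun h => c2 (Subtype.ext h))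

end Cfsg.Agent.Lib.helper33
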