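import Mathlib
import Cfsg.Agent.Lib.helper24.SfoDefs
import Cfsg.Agent.Lib.helper61.SfoCNTDO
import Cfsg.Agent.Lib.helper33.SfoCNTcore

/-! S5981 piece CNTO (racer copy by helper33): `sfo_count_odd`, verbatim skeleton statement under a
prefixed name. -/

set_option autoImplicit false

namespace Cfsg.Agent.Lib.helper24

open Module Matrix Cfsg.Geo

/-- CNTO -/
theorem h33_sfo_count_odd {F : Type*} [Field F] [Fintype F] (h2 : (2 : F) ≠ 0) (d k : ℕ)
    (hdk : d = 2 * k + 1) (Q : (Fin d → F) → F) (hQ : IsNondegenerateQuadraticForm Q) :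
    ∃ E : ℤ, (E = 1 ∨ E = -1) ∧
      (∀ c : F, c ≠ 0 → IsSquare c →
        (sfoCount Q c : ℤ) = (Fintype.card F : ℤ) ^ k * ((Fintype.card F : ℤ) ^ k + E)) ∧
      (∀ c : F, c ≠ 0 → ¬ IsSquare c →
        (sfoCount Q c : ℤ) = (Fintype.card F : ℤ) ^ k * ((Fintype.card F : ℤ) ^ k - E)) := by
  classical
  subst hdk
  exact h33_sfo_count_odd_core h2 k (fun dd hdd => sfo_count_diag_odd h2 k dd hdd) Q hQ

end Cfsg.Agent.Lib.helper24
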