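import Cfsg.Agent.Lib.helper7.SixDefs

/-!
# S4291 piece U2a: a normal subgroup of `A4` or `S4` without a four-group is trivial
-/

set_option autoImplicit false

namespace Cfsg.Agent.Lib.helper33

open Cfsg.Agent.Lib.helper7.Six

/-- generic step: if every non-identity `k` has a commutator `[k, g]` which is an involution with a
commuting conjugate different from itself, then normal subgroups without four-groups are trivial -/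
theorem normal_noV4_of_key {Q : Type*} [Group Q]
    (key : ∀ k : Q, k ≠ 1 → ∃ g h : Q, k * g * k⁻¹ * g⁻¹ ≠ 1 ∧ (k * g * k⁻¹ * g⁻¹) ^ 2 = 1 ∧
      h * (k * g * k⁻¹ * g⁻¹) * h⁻¹ ≠ k * g * k⁻¹ * g⁻¹ ∧
      (h * (k * g * k⁻¹ * g⁻¹) * h⁻¹) * (k * g * k⁻¹ * g⁻¹)
        = (k * g * k⁻¹ * g⁻¹) * (h * (k * g * k⁻¹ * g⁻¹) * h⁻¹))
    (K : Subgroup Q) (hK : K.Normal) (h : NoV4 K) : K = ⊥ := by
  rw [Subgroup.eq_bot_iff_forall]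
  intro k hk
  by_contra hk1
  obtain ⟨g, c, hd1, hd2, hne, hcomm⟩ := key k hk1
  have hdK : k * g * k⁻¹ * g⁻¹ ∈ K := by
    have h1 : g * k⁻¹ * g⁻¹ ∈ K := hK.conj_mem k⁻¹ (K.inv_mem hk) g
    have h2 : k * g * k⁻¹ * g⁻¹ = k * (g * k⁻¹ * g⁻¹) := by group
    rw [h2]
    exact K.mul_mem hk h1
  have hd'K : c * (k * g * k⁻¹ * g⁻¹) * c⁻¹ ∈ K := hK.conj_mem _ hdK c
  have hd'2 : (c * (k * g * k⁻¹ * g⁻¹) * c⁻¹) ^ 2 = 1 := by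
    rw [conj_pow, hd2]
    group
  rcases h _ hdK _ hd'K hd2 hd'2 hcomm.symm with h1 | h2 | h3
  · exact hd1 h1
  · apply hd1
    have h4 : k * g * k⁻¹ * g⁻¹ = c⁻¹ * (c * (k * g * k⁻¹ * g⁻¹) * c⁻¹) * c := by group
    rw [h4, h2]
    group
  · exact hne h3.symm

theorem s4_key : ∀ k : Equiv.Perm (Fin 4), k ≠ 1 → ∃ g h : Equiv.Perm (Fin 4),
    k * g * k⁻¹ * g⁻¹ ≠ 1 ∧ (k * g * k⁻¹ * g⁻¹) ^ 2 = 1 ∧
      h * (k * g * k⁻¹ * g⁻¹) * h⁻¹ ≠ k * g * k⁻¹ * g⁻¹ ∧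
      (h * (k * g * k⁻¹ * g⁻¹) * h⁻¹) * (k * g * k⁻¹ * g⁻¹)
        = (k * g * k⁻¹ * g⁻¹) * (h * (k * g * k⁻¹ * g⁻¹) * h⁻¹) := by
  decide +kernel

theorem a4_key : ∀ k : alternatingGroup (Fin 4), k ≠ 1 → ∃ g h : alternatingGroup (Fin 4),
    k * g * k⁻¹ * g⁻¹ ≠ 1 ∧ (k * g * k⁻¹ * g⁻¹) ^ 2 = 1 ∧
      h * (k * g * k⁻¹ * g⁻¹) * h⁻¹ ≠ k * g * k⁻¹ * g⁻¹ ∧
      (h * (k * g * k⁻¹ * g⁻¹) * h⁻¹) * (k * g * k⁻¹ * g⁻¹)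
        = (k * g * k⁻¹ * g⁻¹) * (h * (k * g * k⁻¹ * g⁻¹) * h⁻¹) := by
  decide +kernel

/-- **S4291 piece U2a** -/
theorem a4_normal_noV4 (K : Subgroup (alternatingGroup (Fin 4))) (hK : K.Normal) (h : NoV4 K) :
    K = ⊥ := normal_noV4_of_key a4_key K hK h

/-- **S4291 piece U2a** -/
theorem s4_normal_noV4 (K : Subgroup (Equiv.Perm (Fin 4))) (hK : K.Normal) (h : NoV4 K) :
    K = ⊥ := normal_noV4_of_key s4_key K hK h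

end Cfsg.Agent.Lib.helper33
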