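import Cfsg.Agent.Lib.helper7.SixDefs

/-!
# S4291 piece U2b: a normal subgroup of `A5` or `S5` without a four-group is trivial
-/

set_option autoImplicit false

namespace Cfsg.Agent.Lib.helper33

open Cfsg.Agent.Lib.helper7.Six

/-- the two commuting involutions `(0 1)(2 3)` and `(0 2)(1 3)` of `S5` -/
theorem s5_two_invol :
    (Equiv.swap (0 : Fin 5) 1 * Equiv.swap 2 3) ^ 2 = 1 ∧
    (Equiv.swap (0 : Fin 5) 2 * Equiv.swap 1 3) ^ 2 = 1 ∧
    (Equiv.swap (0 : Fin 5) 1 * Equiv.swap 2 3) * (Equiv.swap (0 : Fin 5) 2 * Equiv.swap 1 3)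
      = (Equiv.swap (0 : Fin 5) 2 * Equiv.swap 1 3) * (Equiv.swap (0 : Fin 5) 1 * Equiv.swap 2 3) ∧
    (Equiv.swap (0 : Fin 5) 1 * Equiv.swap 2 3) ≠ 1 ∧
    (Equiv.swap (0 : Fin 5) 2 * Equiv.swap 1 3) ≠ 1 ∧
    (Equiv.swap (0 : Fin 5) 1 * Equiv.swap 2 3) ≠ (Equiv.swap (0 : Fin 5) 2 * Equiv.swap 1 3) ∧
    Equiv.Perm.sign (Equiv.swap (0 : Fin 5) 1 * Equiv.swap 2 3) = 1 ∧
    Equiv.Perm.sign (Equiv.swap (0 : Fin 5) 2 * Equiv.swap 1 3) = 1 := by
  decide +kernel

/-- **S4291 piece U2b** -/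
theorem a5_normal_noV4 (K : Subgroup (alternatingGroup (Fin 5))) (hK : K.Normal) (h : NoV4 K) :
    K = ⊥ := by
  have hsimple : IsSimpleGroup (alternatingGroup (Fin 5)) := alternatingGroup.isSimpleGroup (by simp)
  rcases hK.eq_bot_or_eq_top with h0 | h1
  · exact h0
  · exfalso
    obtain ⟨ha2, hb2, hab, ha1, hb1, hne, hsa, hsb⟩ := s5_two_invol
    have hA : (Equiv.swap (0 : Fin 5) 1 * Equiv.swap 2 3) ∈ alternatingGroup (Fin 5) :=
      Equiv.Perm.mem_alternatingGroup.mpr hsa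
    have hB : (Equiv.swap (0 : Fin 5) 2 * Equiv.swap 1 3) ∈ alternatingGroup (Fin 5) :=
      Equiv.Perm.mem_alternatingGroup.mpr hsb
    have key := h ⟨_, hA⟩ (by rw [h1]; trivial) ⟨_, hB⟩ (by rw [h1]; trivial)
      (Subtype.ext (by simpa using ha2)) (Subtype.ext (by simpa using hb2))
      (Subtype.ext (by simpa using hab))
    rcases key with k1 | k2 | k3
    · exact ha1 (by simpa using congrArg Subtype.val k1)
    · exact hb1 (by simpa using congrArg Subtype.val k2)
    · exact hne (by simpa using congrArg Subtype.val k3)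

/-- **S4291 piece U2b** -/
theorem s5_normal_noV4 (K : Subgroup (Equiv.Perm (Fin 5))) (hK : K.Normal) (h : NoV4 K) :
    K = ⊥ := by
  have hK' : K.Normal := hK
  have hsimple : IsSimpleGroup (alternatingGroup (Fin 5)) := alternatingGroup.isSimpleGroup (by simp)
  have hn : (K.subgroupOf (alternatingGroup (Fin 5))).Normal := inferInstance
  rcases hn.eq_bot_or_eq_top with h0 | h1
  · -- `K` meets `A5` trivially: every commutator `[k, g]` is trivial, so `K` is central
    rw [Subgroup.eq_bot_iff_forall]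
    intro k hk
    have hcomm : ∀ g : Equiv.Perm (Fin 5), g * k = k * g := by
      intro g
      have hmem : k * g * k⁻¹ * g⁻¹ ∈ K := by
        have h1 : g * k⁻¹ * g⁻¹ ∈ K := hK.conj_mem k⁻¹ (K.inv_mem hk) g
        have h2 : k * g * k⁻¹ * g⁻¹ = k * (g * k⁻¹ * g⁻¹) := by group
        rw [h2]
        exact K.mul_mem hk h1
      have hsign : k * g * k⁻¹ * g⁻¹ ∈ alternatingGroup (Fin 5) := by
        rw [Equiv.Perm.mem_alternatingGroup]
        simp only [map_mul, map_inv]
        rw [mul_comm (Equiv.Perm.sign k) (Equiv.Perm.sign g), mul_inv_cancel_right,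
          mul_inv_cancel]
      have hx : (⟨k * g * k⁻¹ * g⁻¹, hsign⟩ : alternatingGroup (Fin 5))
          ∈ K.subgroupOf (alternatingGroup (Fin 5)) := by
        rw [Subgroup.mem_subgroupOf]
        exact hmem
      rw [h0, Subgroup.mem_bot] at hx
      have hx' : k * g * k⁻¹ * g⁻¹ = 1 := congrArg Subtype.val hx
      have h3 : k * g = g * k := by
        calc k * g = (k * g * k⁻¹ * g⁻¹) * (g * k) := by group
          _ = g * k := by rw [hx', one_mul]
      exact h3.symm
    have hfix : ∀ x : Fin 5, k x = x := by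
      intro x
      by_contra hne
      obtain ⟨z, hzx, hzy⟩ := (by decide : ∀ a b : Fin 5, ∃ z, z ≠ a ∧ z ≠ b) x (k x)
      have h4 := congrArg (fun f : Equiv.Perm (Fin 5) => f x) (hcomm (Equiv.swap (k x) z))
      simp only [Equiv.Perm.mul_apply] at h4
      rw [Equiv.swap_apply_left,
        Equiv.swap_apply_of_ne_of_ne (fun h => hne h.symm) hzx.symm] at h4
      exact hzy h4
    exact Equiv.Perm.ext fun x => by simpa using hfix x
  · exfalso
    rw [Subgroup.subgroupOf_eq_top] at h1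
    obtain ⟨ha2, hb2, hab, ha1, hb1, hne, hsa, hsb⟩ := s5_two_invol
    have hA : (Equiv.swap (0 : Fin 5) 1 * Equiv.swap 2 3) ∈ K :=
      h1 (Equiv.Perm.mem_alternatingGroup.mpr hsa)
    have hB : (Equiv.swap (0 : Fin 5) 2 * Equiv.swap 1 3) ∈ K :=
      h1 (Equiv.Perm.mem_alternatingGroup.mpr hsb)
    rcases h _ hA _ hB ha2 hb2 hab with k1 | k2 | k3
    · exact ha1 k1
    · exact hb1 k2
    · exact hne k3

end Cfsg.Agent.Lib.helper33
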