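/-
Trios of the length-24 code: the complement of the union of two disjoint octads is an octad, and
there are exactly 3795 trios.
-/
import Mathlib
import Cfsg.Agent.Lib.helper33.GolayBridge

set_option autoImplicit false

namespace Cfsg.Agent.Lib.helper33

open Finset Cfsg.Agent.Lib.helper94

/-- The complement of the union of two disjoint octads is an octad. -/
theorem compl_union_mem_octads {o o' : Finset Cfsg.GolayPt} (ho : o ∈ Cfsg.octads)
    (ho' : o' ∈ Cfsg.octads) (hd : Disjoint o o') : (o ∪ o')ᶜ ∈ Cfsg.octads := by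
  rw [mem_octads] at ho ho' ⊢
  refine ⟨?_, ?_⟩
  · have h := compl_mem_supports (symmDiff_mem_supports ho.1 ho'.1)
    rwa [hd.symmDiff_eq_sup] at h
  · rw [Finset.card_compl, golayPt_card, Finset.card_union_of_disjoint hd, ho.2, ho'.2]

theorem octad_nonempty {o : Finset Cfsg.GolayPt} (ho : o ∈ Cfsg.octads) : o.Nonempty := by
  rw [← Finset.card_pos, ((mem_octads o).1 ho).2]; norm_num

theorem octad_ne_of_disjoint {o o' : Finset Cfsg.GolayPt} (ho : o ∈ Cfsg.octads)
    (hd : Disjoint o o') : o ≠ o' := by
  rintro rfl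
  exact (octad_nonempty ho).ne_empty ((Finset.disjoint_self_iff_empty _).mp hd)

open Classical in
/-- The trios as a finset. -/
noncomputable def trioF : Finset (Finset (Finset Cfsg.GolayPt)) := Finset.univ.filter (· ∈ Cfsg.trios)

theorem mem_trioF {T : Finset (Finset Cfsg.GolayPt)} : T ∈ trioF ↔ T ∈ Cfsg.trios := by
  classical
  simp [trioF]

open Classical in
/-- Ordered pairs of disjoint octads. -/
noncomputable def disjPairs : Finset (Finset Cfsg.GolayPt × Finset Cfsg.GolayPt) :=
  (octF ×ˢ octF).filter (fun p => Disjoint p.1 p.2)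

theorem mem_disjPairs {p : Finset Cfsg.GolayPt × Finset Cfsg.GolayPt} :
    p ∈ disjPairs ↔ p.1 ∈ Cfsg.octads ∧ p.2 ∈ Cfsg.octads ∧ Disjoint p.1 p.2 := by
  classical
  simp [disjPairs, mem_octF, and_assoc]

theorem card_disjPairs : disjPairs.card = 22770 := by
  classical
  rw [disjPairs, Finset.card_filter, Finset.sum_product]
  have h : ∀ o ∈ octF, (∑ c ∈ octF, if Disjoint (o, c).1 (o, c).2 then 1 else 0) = 30 := by
    intro o ho
    rw [← Finset.card_filter]
    exact card_disjoint_octF (mem_octF.1 ho)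
  rw [Finset.sum_congr rfl h, Finset.sum_const, card_octF]
  rfl

/-- The trio determined by two disjoint octads. -/
theorem trio_of_pair {o o' : Finset Cfsg.GolayPt} (ho : o ∈ Cfsg.octads) (ho' : o' ∈ Cfsg.octads)
    (hd : Disjoint o o') :
    ({o, o', (o ∪ o')ᶜ} : Finset (Finset Cfsg.GolayPt)) ∈ Cfsg.trios ∧
      ∀ T ∈ Cfsg.trios, o ∈ T → o' ∈ T → T = {o, o', (o ∪ o')ᶜ} := by
  have hc := compl_union_mem_octads ho ho' hd
  have hd1 : Disjoint o (o ∪ o')ᶜ :=
    Finset.disjoint_left.mpr fun x hx hx' => (Finset.mem_compl.mp hx') (Finset.mem_union_left _ hx)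
  have hd2 : Disjoint o' (o ∪ o')ᶜ :=
    Finset.disjoint_left.mpr fun x hx hx' => (Finset.mem_compl.mp hx') (Finset.mem_union_right _ hx)
  have hne : o ≠ o' := octad_ne_of_disjoint ho hd
  have hne1 : o ≠ (o ∪ o')ᶜ := octad_ne_of_disjoint ho hd1
  have hne2 : o' ≠ (o ∪ o')ᶜ := octad_ne_of_disjoint ho' hd2
  have hcard : ({o, o', (o ∪ o')ᶜ} : Finset (Finset Cfsg.GolayPt)).card = 3 := by
    rw [Finset.card_insert_of_notMem, Finset.card_insert_of_notMem, Finset.card_singleton]
    · simpa using hne2
    · simp only [Finset.mem_insert, Finset.mem_singleton, not_or]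
      exact ⟨hne, hne1⟩
  refine ⟨⟨hcard, ?_, ?_⟩, ?_⟩
  · intro x hx
    simp only [Finset.mem_insert, Finset.mem_singleton] at hx
    rcases hx with rfl | rfl | rfl
    · exact ho
    · exact ho'
    · exact hc
  · intro x hx y hy hxy
    simp only [Finset.mem_insert, Finset.mem_singleton] at hx hy
    rcases hx with rfl | rfl | rfl <;> rcases hy with rfl | rfl | rfl
    · exact absurd rfl hxy
    · exact hd
    · exact hd1
    · exact hd.symm
    · exact absurd rfl hxy
    · exact hd2
    · exact hd1.symm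
    · exact hd2.symm
    · exact absurd rfl hxy
  · intro T hT hoT ho'T
    obtain ⟨hT3, hTo, hTd⟩ := hT
    symm
    apply Finset.eq_of_subset_of_card_le
    · intro x hx
      simp only [Finset.mem_insert, Finset.mem_singleton] at hx
      rcases hx with rfl | rfl | rfl
      · exact hoT
      · exact ho'T
      · -- a third member of T
        have hex : ∃ z ∈ T, z ≠ o ∧ z ≠ o' := by
          by_contra hcon
          push Not at hcon
          have hsub : T ⊆ {o, o'} := by
            intro z hz
            simp only [Finset.mem_insert, Finset.mem_singleton]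
            by_cases hzo : z = o
            · exact Or.inl hzo
            · exact Or.inr (hcon z hz hzo)
          have := Finset.card_le_card hsub
          have h2 : ({o, o'} : Finset (Finset Cfsg.GolayPt)).card ≤ 2 := Finset.card_le_two
          omega
        obtain ⟨z, hzT, hzo, hzo'⟩ := hex
        have hz8 := ((mem_octads z).1 (hTo z hzT)).2
        have hzd : Disjoint z o := hTd z hzT o hoT hzo
        have hzd' : Disjoint z o' := hTd z hzT o' ho'T hzo'
        have hsub : z ⊆ (o ∪ o')ᶜ := by
          intro x hx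
          rw [Finset.mem_compl, Finset.mem_union]
          rintro (h | h)
          · exact Finset.disjoint_left.mp hzd hx h
          · exact Finset.disjoint_left.mp hzd' hx h
        have heq : z = (o ∪ o')ᶜ :=
          Finset.eq_of_subset_of_card_le hsub (by rw [((mem_octads _).1 hc).2, hz8])
        rw [← heq]; exact hzT
    · rw [hT3, hcard]

/-- There are exactly 3795 trios. -/
theorem ncard_trios : Cfsg.trios.ncard = 3795 := by
  classical
  have hset : Cfsg.trios = ↑trioF := by
    ext T; simp [mem_trioF]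
  rw [hset, Set.ncard_coe_finset]
  have key := Finset.card_mul_eq_card_mul (s := trioF) (t := disjPairs)
    (fun (T : Finset (Finset Cfsg.GolayPt)) (p : Finset Cfsg.GolayPt × Finset Cfsg.GolayPt) =>
      p.1 ∈ T ∧ p.2 ∈ T) (m := 6) (n := 1) ?_ ?_
  · rw [card_disjPairs] at key
    omega
  · intro T hT
    rw [mem_trioF] at hT
    obtain ⟨hT3, hTo, hTd⟩ := hT
    have : Finset.bipartiteAbove (fun (T : Finset (Finset Cfsg.GolayPt))
        (p : Finset Cfsg.GolayPt × Finset Cfsg.GolayPt) => p.1 ∈ T ∧ p.2 ∈ T) disjPairs T = T.offDiag := by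
      ext p
      simp only [Finset.bipartiteAbove, Finset.mem_filter, mem_disjPairs, Finset.mem_offDiag]
      constructor
      · rintro ⟨⟨h1, h2, h3⟩, h4, h5⟩
        exact ⟨h4, h5, octad_ne_of_disjoint h1 h3⟩
      · rintro ⟨h1, h2, h3⟩
        exact ⟨⟨hTo _ h1, hTo _ h2, hTd _ h1 _ h2 h3⟩, h1, h2⟩
    rw [this, Finset.offDiag_card, hT3]
  · intro p hp
    rw [mem_disjPairs] at hp
    obtain ⟨h1, h2, h3⟩ := hp
    obtain ⟨hmem, huniq⟩ := trio_of_pair h1 h2 h3
    rw [Finset.card_eq_one]
    refine ⟨{p.1, p.2, (p.1 ∪ p.2)ᶜ}, ?_⟩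
    ext T
    simp only [Finset.bipartiteBelow, Finset.mem_filter, mem_trioF, Finset.mem_singleton]
    constructor
    · rintro ⟨hT, h4, h5⟩
      exact huniq T hT h4 h5
    · rintro rfl
      refine ⟨hmem, ?_, ?_⟩
      · simp
      · simp

end Cfsg.Agent.Lib.helper33
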