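import Cfsg.Agent.Lib.helper68.W2PDefs
import Cfsg.Agent.Lib.helper36.W2P_L0

/-!
# S0720 piece A3 (helper33): the two degenerate cases `hat E ζ = 0` and `hat E ζ = κ`.
-/

set_option autoImplicit false

namespace Cfsg.Agent.Lib.helper33.W2P

open Finset
open scoped Classical
open Cfsg.Agent.Lib.helper68.W2P

variable {p : ℕ} [Fact p.Prime] {ι : Type*}

theorem rank_zero_absurd (D : Scheme p ι) (c : ι → ℚ) {ζ : ℂ} (hζ : IsPrimitiveRoot ζ p)
    (h : hat (D.E c) ζ = 0) (h0 : D.Prim0 c) : False := by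
  obtain ⟨s, hs⟩ := h0
  have h00 : hat (D.E c) ζ 0 0 = 0 := by rw [h]; rfl
  rw [hatE_apply] at h00
  have hc := Cfsg.Agent.Lib.helper36.W2P.zeta_indep hζ (fun s => c (D.col (0, 0) (s, 0))) h00 s
  apply hs
  rw [hc]
  congr 1
  exact (D.diag _ _).2 rfl

/-- every colour occurs on a pair starting at the point `(0, 0)` -/
theorem a3_exists_col (D : Scheme p ι) (j : ι) : ∃ ω' : ZMod p × Fin 2, D.col (0, 0) ω' = j := by
  obtain ⟨ω, ω', hj⟩ := D.surj j
  have h1 : 0 < (univ.filter (fun ω'' => D.col ω ω'' = j)).card :=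
    Finset.card_pos.2 ⟨ω', by simp [hj]⟩
  rw [D.valency j ω, ← D.valency j (0, 0)] at h1
  obtain ⟨ω'', hω''⟩ := Finset.card_pos.1 h1
  exact ⟨ω'', by simpa using hω''⟩

theorem rank_two_case [Fintype ι] (D : Scheme p ι) {ζ : ℂ} (hζ : IsPrimitiveRoot ζ p)
    (h : ∀ j : ι, hat (D.B j) ζ = ((D.mu j : ℤ) : ℂ) • (1 : Matrix (Fin 2) (Fin 2) ℂ))
    (hA : D.PrimA) : Fintype.card ι = 2 := by
  have hp : (1 : ZMod p) ≠ 0 := one_ne_zero
  -- the colour of the pair `(0,0), (1,0)`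
  obtain ⟨j₁, hj₁⟩ : ∃ j, j = D.col (0, 0) ((1 : ZMod p), (0 : Fin 2)) := ⟨_, rfl⟩
  have hne : j₁ ≠ D.i0 := by
    intro hh
    rw [hj₁] at hh
    have := (D.diag (0, 0) (1, 0)).1 hh
    exact hp (Prod.ext_iff.1 this).1.symm
  -- all nonzero `s` lie in `S j₁`
  have hS : ∀ s : ZMod p, s ≠ 0 → D.col (0, 0) (s, 0) = j₁ := by
    have h00 : hat (D.B j₁) ζ 0 0 = ((D.mu j₁ : ℤ) : ℂ) := by rw [h j₁]; simp
    rw [hat_apply] at h00
    have hsum : ∑ s : ZMod p,
        (((fun s : ZMod p => (if D.col (0, 0) (s, 0) = j₁ then (1 : ℚ) else 0) -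
          (if s = 0 then (D.mu j₁ : ℚ) else 0)) s : ℚ) : ℂ) * ζ ^ s.val = 0 := by
      have e1 : ∀ s : ZMod p,
          (((fun s : ZMod p => (if D.col (0, 0) (s, 0) = j₁ then (1 : ℚ) else 0) -
            (if s = 0 then (D.mu j₁ : ℚ) else 0)) s : ℚ) : ℂ) * ζ ^ s.val =
          D.B j₁ (0, 0) (s, 0) * ζ ^ s.val -
            (if s = 0 then ((D.mu j₁ : ℤ) : ℂ) else 0) := by
        intro s
        simp only [Scheme.B]
        by_cases h2 : s = 0
        · subst h2
          by_cases h1 : D.col (0, 0) ((0 : ZMod p), (0 : Fin 2)) = j₁ <;> simp [h1]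
        · by_cases h1 : D.col (0, 0) (s, 0) = j₁ <;> simp [h1, h2]
      rw [Finset.sum_congr rfl (fun s _ => e1 s), Finset.sum_sub_distrib, h00]
      simp
    have hc := Cfsg.Agent.Lib.helper36.W2P.zeta_indep hζ _ hsum
    intro s hs
    have h12 := (hc s).trans (hc 1).symm
    simp only [hp, hs, if_false, sub_zero] at h12
    rw [if_pos hj₁.symm] at h12
    by_contra hcon
    rw [if_neg hcon] at h12
    exact zero_ne_one h12
  -- `R j₁` is empty or everything
  have hR : (∃ s : ZMod p, D.col (0, 0) (s, 1) = j₁) → ∀ s : ZMod p, D.col (0, 0) (s, 1) = j₁ := by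
    rintro ⟨s₀, hs₀⟩
    have h01 : hat (D.B j₁) ζ 0 1 = 0 := by rw [h j₁]; simp
    rw [hat_apply] at h01
    have hsum : ∑ s : ZMod p,
        (((fun s : ZMod p => (if D.col (0, 0) (s, 1) = j₁ then (1 : ℚ) else 0)) s : ℚ) : ℂ) *
          ζ ^ s.val = 0 := by
      rw [← h01]
      refine Finset.sum_congr rfl fun s _ => ?_
      simp only [Scheme.B]
      by_cases h1 : D.col (0, 0) (s, 1) = j₁ <;> simp [h1]
    have hc := Cfsg.Agent.Lib.helper36.W2P.zeta_indep hζ _ hsum
    intro s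
    have h12 := (hc s).trans (hc s₀).symm
    beta_reduce at h12
    rw [if_pos hs₀] at h12
    by_contra hcon
    rw [if_neg hcon] at h12
    exact zero_ne_one h12
  have hR' : ∀ s : ZMod p, D.col (0, 0) (s, 1) = j₁ := by
    apply hR
    by_contra hcon
    exact hA ⟨j₁, hS, fun s hs => hcon ⟨s, hs⟩⟩
  -- hence every colour is `i0` or `j₁`
  have hall : ∀ j : ι, j = D.i0 ∨ j = j₁ := by
    intro j
    obtain ⟨⟨s, k⟩, hω⟩ := a3_exists_col D j
    fin_cases k
    · by_cases hs : s = 0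
      · left
        rw [← hω]
        exact (D.diag _ _).2 (by rw [hs]; rfl)
      · right
        rw [← hω]
        exact hS s hs
    · right
      rw [← hω]
      exact hR' s
  have huniv : (Finset.univ : Finset ι) = {D.i0, j₁} := by
    ext j
    simp only [Finset.mem_univ, Finset.mem_insert, Finset.mem_singleton, true_iff]
    exact hall j
  rw [← Finset.card_univ, huniv, Finset.card_pair (Ne.symm hne)]

end Cfsg.Agent.Lib.helper33.W2P
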