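import Cfsg.Agent.Lib.helper68.W2PDefs

/-!
# S0720 piece T1 (helper33): the Fourier transform `hat` is multiplicative on shift-invariant
matrices.
-/

set_option autoImplicit false

namespace Cfsg.Agent.Lib.helper33.W2P

open Finset
open scoped Classical
open Cfsg.Agent.Lib.helper68.W2P

variable {p : ℕ} [Fact p.Prime]

theorem hat_mul (Z W : ZMod p × Fin 2 → ZMod p × Fin 2 → ℂ)
    (hW : ∀ (x y : ZMod p) (j k : Fin 2), W (x + 1, j) (y + 1, k) = W (x, j) (y, k))
    (ξ : ℂ) (hξ : ξ ^ p = 1) :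
    hat (fun ω ω' => ∑ ω'' : ZMod p × Fin 2, Z ω ω'' * W ω'' ω') ξ = hat Z ξ * hat W ξ := by
  have hWn : ∀ (n : ℕ) (x y : ZMod p) (j k : Fin 2),
      W (x + n, j) (y + n, k) = W (x, j) (y, k) := by
    intro n
    induction n with
    | zero => intro x y j k; simp
    | succ n ih =>
      intro x y j k
      push_cast
      rw [← add_assoc, ← add_assoc, hW, ih]
  have hWs : ∀ (y s : ZMod p) (l k : Fin 2), W (y, l) (s, k) = W (0, l) (s - y, k) := by
    intro y s l k
    have h := hWn y.val 0 (s - y) l k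
    rw [ZMod.natCast_zmod_val] at h
    rw [← h]
    simp
  have hpow : ∀ (y t : ZMod p), ξ ^ (y + t).val = ξ ^ y.val * ξ ^ t.val := by
    intro y t
    rw [← pow_add, ZMod.val_add]
    conv_rhs => rw [← Nat.mod_add_div (y.val + t.val) p]
    rw [pow_add, pow_mul, hξ, one_pow, mul_one]
  ext j k
  rw [Matrix.mul_apply]
  simp only [hat_apply]
  calc (∑ s : ZMod p, (∑ ω'' : ZMod p × Fin 2, Z (0, j) ω'' * W ω'' (s, k)) * ξ ^ s.val)
      = ∑ s : ZMod p, ∑ y : ZMod p, ∑ l : Fin 2,
          Z (0, j) (y, l) * W (0, l) (s - y, k) * ξ ^ s.val := by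
        refine Finset.sum_congr rfl fun s _ => ?_
        rw [Fintype.sum_prod_type, Finset.sum_mul]
        refine Finset.sum_congr rfl fun y _ => ?_
        rw [Finset.sum_mul]
        refine Finset.sum_congr rfl fun l _ => ?_
        rw [hWs]
    _ = ∑ y : ZMod p, ∑ s : ZMod p, ∑ l : Fin 2,
          Z (0, j) (y, l) * W (0, l) (s - y, k) * ξ ^ s.val := Finset.sum_comm
    _ = ∑ y : ZMod p, ∑ t : ZMod p, ∑ l : Fin 2,
          Z (0, j) (y, l) * W (0, l) (t, k) * ξ ^ (y + t).val := by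
        refine Finset.sum_congr rfl fun y _ => ?_
        rw [← Equiv.sum_comp (Equiv.addLeft y)]
        refine Finset.sum_congr rfl fun t _ => ?_
        simp
    _ = ∑ y : ZMod p, ∑ l : Fin 2, ∑ t : ZMod p,
          Z (0, j) (y, l) * W (0, l) (t, k) * ξ ^ (y + t).val := by
        refine Finset.sum_congr rfl fun y _ => ?_
        exact Finset.sum_comm
    _ = ∑ l : Fin 2, ∑ y : ZMod p, ∑ t : ZMod p,
          Z (0, j) (y, l) * W (0, l) (t, k) * ξ ^ (y + t).val := Finset.sum_comm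
    _ = ∑ l : Fin 2, ∑ y : ZMod p, ∑ t : ZMod p,
          (Z (0, j) (y, l) * ξ ^ y.val) * (W (0, l) (t, k) * ξ ^ t.val) := by
        refine Finset.sum_congr rfl fun l _ => ?_
        refine Finset.sum_congr rfl fun y _ => ?_
        refine Finset.sum_congr rfl fun t _ => ?_
        rw [hpow]; ring
    _ = ∑ l : Fin 2, (∑ y : ZMod p, Z (0, j) (y, l) * ξ ^ y.val) *
          (∑ t : ZMod p, W (0, l) (t, k) * ξ ^ t.val) := by
        refine Finset.sum_congr rfl fun l _ => ?_
        rw [Finset.sum_mul_sum]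

end Cfsg.Agent.Lib.helper33.W2P
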