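import Cfsg.Agent.Lib.helper81.WTDefs

/-! S4414 piece E4b (racer copy by helper33), core form: the statement `descend` of the skeleton
with piece E3 (`fix_bc_le`) as an explicit hypothesis `hE3`. -/

set_option autoImplicit false

namespace Cfsg.Agent.Lib.helper81.WT

open scoped TensorProduct

universe u v w

/-- [E4b] descent to E, with E3 as a hypothesis. -/
theorem helper33_descend_core {S : Type u} [Group S] [Finite S] {E : Type v} [AddCommGroup E]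
    [Module (ZMod 2) E] [Finite E]
    (ρ : Representation (ZMod 2) S E)
    (T Q : Subgroup S) (F : Type) [Field F] [Algebra (ZMod 2) F] [Finite F]
    (hE3 : ∀ v ∈ fixT (bc F ρ) T, v ∈ Submodule.span F
      ((fun e : E => (1 : F) ⊗ₜ[ZMod 2] e) '' {e : E | ∀ s ∈ T, ρ s e = e}))
    (hA : ¬ ∃ u : F ⊗[ZMod 2] E, ∀ v ∈ fixT (bc F ρ) T, v ∈ Submodule.span F {u})
    (hB : ∀ w₁ w₂ : F ⊗[ZMod 2] E,
        (∀ v ∈ fixT (bc F ρ) T, v ∈ Submodule.span F {w₁, w₂}) →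
        ∃ x ∈ Q, ∃ v ∈ fixT (bc F ρ) T, bc F ρ x v ∉ fixT (bc F ρ) T) :
    8 ≤ Nat.card {v : E // ∀ s ∈ T, ρ s v = v} ∨
      (Nat.card {v : E // ∀ s ∈ T, ρ s v = v} = 4 ∧
        ∃ x ∈ Q, ∃ v : E, (∀ s ∈ T, ρ s v = v) ∧ ¬ ∀ s ∈ T, ρ s (ρ x v) = ρ x v) := by
  classical
  have hcard : Nat.card {v : E // ∀ s ∈ T, ρ s v = v} =
      2 ^ Module.finrank (ZMod 2) ↥(fixT ρ T) := by
    have h1 : Nat.card ↥(fixT ρ T) = Nat.card (ZMod 2) ^ Module.finrank (ZMod 2) ↥(fixT ρ T) :=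
      Module.natCard_eq_pow_finrank
    rw [Nat.card_zmod] at h1
    exact h1
  have hfix : ∀ e : E, (∀ s ∈ T, ρ s e = e) → (1 : F) ⊗ₜ[ZMod 2] e ∈ fixT (bc F ρ) T := by
    intro e he s hs
    rw [bc_tmul, he s hs]
  have hspan : ∀ (d : ℕ) (b : Module.Basis (Fin d) (ZMod 2) ↥(fixT ρ T)),
      ∀ v ∈ fixT (bc F ρ) T, v ∈ Submodule.span F
        (Set.range fun i : Fin d => (1 : F) ⊗ₜ[ZMod 2] ((b i : ↥(fixT ρ T)) : E)) := by
    intro d b v hv
    have h1 := hE3 v hv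
    refine Submodule.span_le.mpr ?_ h1
    rintro _ ⟨e, he, rfl⟩
    have hsum := b.sum_repr ⟨e, he⟩
    have hsum' : e = ∑ i, (b.repr ⟨e, he⟩ i) • ((b i : ↥(fixT ρ T)) : E) := by
      have h3 := congrArg (fixT ρ T).subtype hsum
      rw [map_sum] at h3
      simp only [map_smul, Submodule.subtype_apply] at h3
      exact h3.symm
    show (1 : F) ⊗ₜ[ZMod 2] e ∈ _
    rw [hsum', TensorProduct.tmul_sum]
    apply Submodule.sum_mem
    intro i _
    rw [TensorProduct.tmul_smul, ← smul_one_smul F (b.repr ⟨e, he⟩ i)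
      ((1 : F) ⊗ₜ[ZMod 2] ((b i : ↥(fixT ρ T)) : E))]
    exact Submodule.smul_mem _ _ (Submodule.subset_span ⟨i, rfl⟩)
  rcases hd : Module.finrank (ZMod 2) ↥(fixT ρ T) with _ | _ | _ | d
  · exfalso; apply hA
    refine ⟨0, fun v hv => ?_⟩
    have h1 := hspan 0 (Module.finBasisOfFinrankEq (ZMod 2) ↥(fixT ρ T) hd) v hv
    rw [Set.range_eq_empty, Submodule.span_empty] at h1
    rw [(Submodule.mem_bot F).mp h1]; exact Submodule.zero_mem _
  · exfalso; apply hA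
    refine ⟨(1 : F) ⊗ₜ[ZMod 2]
      ((Module.finBasisOfFinrankEq (ZMod 2) ↥(fixT ρ T) hd 0 : ↥(fixT ρ T)) : E), fun v hv => ?_⟩
    have h1 := hspan _ (Module.finBasisOfFinrankEq (ZMod 2) ↥(fixT ρ T) hd) v hv
    refine Submodule.span_mono ?_ h1
    rintro _ ⟨i, rfl⟩
    have hi : i = 0 := Fin.ext (by have := i.2; simp only [Fin.val_zero]; omega)
    rw [hi]; exact Set.mem_singleton _
  · right
    refine ⟨by rw [hcard, hd]; norm_num, ?_⟩
    have hsp2 : ∀ v ∈ fixT (bc F ρ) T, v ∈ Submodule.span F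
        {(1 : F) ⊗ₜ[ZMod 2]
          ((Module.finBasisOfFinrankEq (ZMod 2) ↥(fixT ρ T) hd 0 : ↥(fixT ρ T)) : E),
         (1 : F) ⊗ₜ[ZMod 2]
          ((Module.finBasisOfFinrankEq (ZMod 2) ↥(fixT ρ T) hd 1 : ↥(fixT ρ T)) : E)} := by
      intro v hv
      refine Submodule.span_mono ?_ (hspan _ (Module.finBasisOfFinrankEq (ZMod 2) ↥(fixT ρ T) hd) v hv)
      rintro _ ⟨i, rfl⟩
      fin_cases i
      · left; rfl
      · right; rfl
    obtain ⟨x, hxQ, v, hv, hnot⟩ := hB _ _ hsp2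
    refine ⟨x, hxQ, ?_⟩
    by_contra hcon
    push Not at hcon
    apply hnot
    have h1 := hE3 v hv
    have h2 : bc F ρ x v ∈ (Submodule.span F
        ((fun e : E => (1 : F) ⊗ₜ[ZMod 2] e) '' {e : E | ∀ s ∈ T, ρ s e = e})).map (bc F ρ x) :=
      Submodule.mem_map_of_mem h1
    rw [Submodule.map_span] at h2
    refine Submodule.span_le.mpr ?_ h2
    rintro _ ⟨_, ⟨e, he, rfl⟩, rfl⟩
    show bc F ρ x ((1 : F) ⊗ₜ[ZMod 2] e) ∈ fixT (bc F ρ) T
    rw [bc_tmul]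
    exact hfix _ (hcon e he)
  · left
    rw [hcard, hd]
    calc 8 = 2 ^ 3 := by norm_num
      _ ≤ 2 ^ (d + 1 + 1 + 1) := Nat.pow_le_pow_right (by norm_num) (by omega)

end Cfsg.Agent.Lib.helper81.WT
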